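import Mathlib

/-!
# Formally unramified morphisms can be checked on fibres (locally finite type)
-/

set_option autoImplicit false
universe u
open CategoryTheory CategoryTheory.Limits AlgebraicGeometry TensorProduct

namespace Groth.Agent.H49.UnramFibre

attribute [local instance] Algebra.TensorProduct.rightAlgebra in
/-- Ring level: a finite type algebra all of whose fibres are formally unramified is formally
unramified. -/
theorem formallyUnramified_of_fiber {R A : Type u} [CommRing R] [CommRing A] [Algebra R A]
    [Algebra.FiniteType R A]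
    (H : ∀ (p : Ideal R) [p.IsPrime], Algebra.FormallyUnramified p.ResidueField (p.Fiber A)) :
    Algebra.FormallyUnramified R A := by
  rw [Algebra.formallyUnramified_iff, ← Module.support_eq_empty_iff (R := A),
    Set.eq_empty_iff_forall_notMem]
  intro q hq
  rw [Module.mem_support_iff_nontrivial_residueField_tensorProduct] at hq
  let p : Ideal R := q.asIdeal.comap (algebraMap R A)
  have hfib : Subsingleton (p.ResidueField ⊗[R] Ω[A⁄R]) := by
    have h1 := H p
    have h2 : Subsingleton Ω[p.Fiber A⁄p.ResidueField] :=
      (Algebra.formallyUnramified_iff _ _).mp h1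
    exact (KaehlerDifferential.tensorKaehlerEquivBase R p.ResidueField A
      (p.Fiber A)).toEquiv.subsingleton
  let g₀ : p.ResidueField →ₐ[R] q.asIdeal.ResidueField :=
    Ideal.ResidueField.mapₐ p q.asIdeal (Algebra.ofId R A) rfl
  let g : p.ResidueField ⊗[R] Ω[A⁄R] →ₗ[R] q.asIdeal.ResidueField ⊗[A] Ω[A⁄R] :=
    (TensorProduct.mapOfCompatibleSMul A R R q.asIdeal.ResidueField Ω[A⁄R]) ∘ₗ
      TensorProduct.map g₀.toLinearMap LinearMap.id
  have key : ∀ (x : q.asIdeal.ResidueField) (m : Ω[A⁄R]), x ⊗ₜ[A] m = 0 := by
    intro x m
    have h1 : (1 : q.asIdeal.ResidueField) ⊗ₜ[A] m = g (1 ⊗ₜ m) := by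
      simp [g]
    have h2 : (1 : p.ResidueField) ⊗ₜ[R] m = 0 := Subsingleton.elim _ _
    rw [h2, map_zero] at h1
    have h3 : x ⊗ₜ[A] m = x • ((1 : q.asIdeal.ResidueField) ⊗ₜ[A] m) := by
      rw [TensorProduct.smul_tmul', smul_eq_mul, mul_one]
    rw [h3, h1, smul_zero]
  have hsub : Subsingleton (q.asIdeal.ResidueField ⊗[A] Ω[A⁄R]) := by
    refine subsingleton_of_forall_eq 0 fun z => ?_
    induction z using TensorProduct.induction_on with
    | zero => rfl
    | tmul x m => exact key x m
    | add a b ha hb => rw [ha, hb, add_zero]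
  exact not_subsingleton _ hsub

/-- Affine scheme form. -/
theorem formallyUnramified_of_SpecMap_fiber {R A : Type u} [CommRing R] [CommRing A] [Algebra R A]
    [Algebra.FiniteType R A]
    (H : ∀ s : Spec (CommRingCat.of R), FormallyUnramified
      ((Spec.map (CommRingCat.ofHom (algebraMap R A))).fiberToSpecResidueField s)) :
    Algebra.FormallyUnramified R A := by
  apply formallyUnramified_of_fiber
  intro p hp
  have h1 := (MorphismProperty.arrow_mk_iso_iff @FormallyUnramified
    (Spec.fiberToSpecResidueFieldIso R A ⟨p, hp⟩)).mp (H ⟨p, hp⟩)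
  rw [HasRingHomProperty.Spec_iff (P := @FormallyUnramified)] at h1
  exact RingHom.formallyUnramified_algebraMap.mp h1

/-- Open immersions are formally unramified. -/
theorem formallyUnramified_of_isOpenImmersion {X Y : Scheme.{u}} (j : X ⟶ Y) [IsOpenImmersion j] :
    FormallyUnramified j := by
  have h1 : IsIso (pullback.diagonal j) := inferInstance
  have h2 : IsOpenImmersion (pullback.diagonal j) := inferInstance
  infer_instance

/-- A morphism locally of finite type all of whose fibres are formally unramified is formally
unramified. -/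
theorem formallyUnramified_of_fiberToSpecResidueField {X S : Scheme.{u}} (f : X ⟶ S)
    [LocallyOfFiniteType f]
    (H : ∀ s : S, FormallyUnramified (f.fiberToSpecResidueField s)) : FormallyUnramified f := by
  wlog hS : ∃ R, S = Spec R generalizing X S
  · rw [IsZariskiLocalAtTarget.iff_of_openCover (P := @FormallyUnramified) S.affineCover]
    intro i
    refine this (pullback.snd f (S.affineCover.f i)) (fun y => ?_) ⟨_, rfl⟩
    have h1 := isPullback_fiberToSpecResidueField_of_isPullback
      (IsPullback.of_hasPullback f (S.affineCover.f i)) y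
    exact MorphismProperty.of_isPullback (P := @FormallyUnramified) h1 (H _)
  obtain ⟨R, rfl⟩ := hS
  wlog hX : ∃ A, X = Spec A generalizing X
  · rw [IsZariskiLocalAtSource.iff_of_openCover (P := @FormallyUnramified) X.affineCover]
    intro i
    refine this (X.affineCover.f i ≫ f) (fun s => ?_) ⟨_, rfl⟩
    have h1 : (X.affineCover.f i ≫ f).fiberToSpecResidueField s =
        pullback.map (X.affineCover.f i ≫ f) ((Spec R).fromSpecResidueField s) f
          ((Spec R).fromSpecResidueField s) (X.affineCover.f i) (𝟙 _) (𝟙 _) (by simp) (by simp) ≫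
          f.fiberToSpecResidueField s := by
      unfold Scheme.Hom.fiberToSpecResidueField
      exact ((pullback.lift_snd _ _ _).trans (Category.comp_id _)).symm
    rw [h1]
    have hj : IsOpenImmersion (X.affineCover.f i) := inferInstance
    have hm : IsOpenImmersion (pullback.map (X.affineCover.f i ≫ f) ((Spec R).fromSpecResidueField s) f
          ((Spec R).fromSpecResidueField s) (X.affineCover.f i) (𝟙 _) (𝟙 _) (by simp) (by simp)) :=
      Scheme.pullback_map_isOpenImmersion _ _ _ _ _ _ _ _ _
    exact MorphismProperty.comp_mem @FormallyUnramified _ _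
      (@formallyUnramified_of_isOpenImmersion _ _ _ hm) (H s)
  obtain ⟨A, rfl⟩ := hX
  obtain ⟨φ, rfl⟩ := Spec.map_surjective f
  rw [HasRingHomProperty.Spec_iff (P := @FormallyUnramified)]
  have hft : φ.hom.FiniteType := (HasRingHomProperty.Spec_iff (P := @LocallyOfFiniteType)).mp ‹_›
  algebraize [φ.hom]
  have := formallyUnramified_of_SpecMap_fiber (R := R) (A := A) H
  exact RingHom.formallyUnramified_algebraMap.mpr this

end Groth.Agent.H49.UnramFibre
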