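import Mathlib

/-!
Pointwise fibre criterion for smoothness (helper49).

* `Algebra.isSmoothAt_of_flat_of_formallySmooth_fiber'` : ring level, flatness only at the prime.
* `formallySmooth_stalkMap_of_flat_of_smooth_fiber` : scheme level, flat at the point and the whole
  fibre smooth implies smooth at the point.
* `mem_smoothLocus_of_isPullback` : smoothness at a point is stable under base change.
* `mem_smoothLocus_iff_flat_and_fiber` : the fibre criterion at a point.
-/

set_option autoImplicit false
universe u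

open TensorProduct IsLocalRing

namespace Groth.Agent.H49.SmoothFibre

section Ring

open Algebra

local notation "𝓀[" R "]" => ResidueField R

variable {R S : Type*} [CommRing R] [CommRing S] [Algebra R S]

/-- Variant of `Algebra.IsSmoothAt.of_formallySmooth_fiber` which only asks for flatness at `q`. -/
theorem isSmoothAt_of_flat_of_formallySmooth_fiber
    [Algebra.FinitePresentation R S] (p : Ideal R) (q : Ideal S)
    [p.IsPrime] [q.IsPrime] [q.LiesOver p] [FormallySmooth p.ResidueField (p.Fiber S)]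
    (hflat : Module.Flat R (Localization.AtPrime q)) :
    Algebra.IsSmoothAt R q := by
  let Rp := Localization.AtPrime p
  let Sp := Localization (algebraMapSubmonoid S p.primeCompl)
  let Sq := Localization.AtPrime q
  let := Localization.AtPrime.algebraOfLiesOver p q
  let f : Sp →ₐ[S] Sq := IsLocalization.liftAlgHom (M := algebraMapSubmonoid S p.primeCompl)
        (f := Algebra.ofId _ _) (by
      rintro ⟨_, x, hx, rfl⟩
      simpa using! IsLocalization.map_units (M := q.primeCompl) Sq ⟨algebraMap _ _ x,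
        by simp_all [q.over_def p]⟩)
  algebraize [f.toRingHom]
  have : IsScalarTower R Sp Sq := .to₁₃₄ _ S _ _
  have : IsScalarTower Rp Sp Sq := .of_algebraMap_eq' <| by
    apply IsLocalization.ringHom_ext p.primeCompl
    simp only [RingHom.comp_assoc, ← IsScalarTower.algebraMap_eq]
  have : IsLocalization (algebraMapSubmonoid Sp q.primeCompl) Sq :=
    .isLocalization_of_submonoid_le _ _ (algebraMapSubmonoid S p.primeCompl) _
    (by rintro _ ⟨x, hx, rfl⟩; simp_all [q.over_def p])
  have : FinitePresentation Rp Sp := by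
    have : Algebra.IsPushout R Rp S Sp :=
      .symm <| Algebra.isPushout_of_isLocalization p.primeCompl _ _ _
    exact .equiv (Algebra.IsPushout.equiv R Rp S Sp)
  have : FormallySmooth 𝓀[Rp] (𝓀[Rp] ⊗[Rp] Sq) := by
    let : Algebra S (𝓀[Rp] ⊗[R] S) := Algebra.TensorProduct.rightAlgebra
    have : FormallySmooth 𝓀[Rp] ((𝓀[Rp] ⊗[R] S) ⊗[S] Sq) :=
      .comp _ (𝓀[Rp] ⊗[R] S) _
    let e : 𝓀[Rp] ⊗[R] S ≃ₐ[S] S ⊗[R] 𝓀[Rp] :=
      { __ := Algebra.TensorProduct.comm _ _ _, commutes' _ := rfl }
    let e' : (𝓀[Rp] ⊗[R] S) ⊗[S] Sq ≃ₐ[R] 𝓀[Rp] ⊗[Rp] Sq :=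
      ((Algebra.TensorProduct.comm _ _ _).restrictScalars R).trans <|
      ((Algebra.TensorProduct.congr (.refl (R := S)) e).restrictScalars R).trans <|
      ((Algebra.TensorProduct.cancelBaseChange _ _ S _ _).restrictScalars R).trans <|
      (Algebra.TensorProduct.comm _ _ _).trans (Algebra.TensorProduct.equivOfCompatibleSMul ..)
    have : e'.toAlgHom.comp (IsScalarTower.toAlgHom R p.ResidueField _) =
        IsScalarTower.toAlgHom _ _ _ := by ext
    let e'' : (𝓀[Rp] ⊗[R] S) ⊗[S] Sq ≃ₐ[𝓀[Rp]] 𝓀[Rp] ⊗[Rp] Sq :=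
      { __ := e', commutes' r := congr($this r) }
    exact .of_equiv e''
  have : Module.Flat Rp Sq := (Module.flat_iff_of_isLocalization Rp p.primeCompl Sq).mpr hflat
  have := FormallySmooth.of_formallySmooth_residueField_tensor
    (R := Rp) (S := Sq) (P := Sp) (algebraMapSubmonoid _ q.primeCompl)
  exact .comp R Rp Sq

end Ring

section Scheme

open AlgebraicGeometry CategoryTheory Limits

variable {X Y S : Scheme.{u}}

theorem stalkMap_prop_congr_hom
    (P : ∀ {A B : Type u} [CommRing A] [CommRing B], (A →+* B) → Prop)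
    {f g : X ⟶ Y} (e : f = g) (x : X) : P (f.stalkMap x).hom ↔ P (g.stalkMap x).hom := by
  subst e; rfl

theorem stalkMap_prop_congr_point
    (P : ∀ {A B : Type u} [CommRing A] [CommRing B], (A →+* B) → Prop)
    (f : X ⟶ Y) {x y : X} (e : x = y) : P (f.stalkMap x).hom ↔ P (f.stalkMap y).hom := by
  subst e; rfl

theorem stalkMap_prop_comp_left
    {P : ∀ {A B : Type u} [CommRing A] [CommRing B], (A →+* B) → Prop}
    (hP : RingHom.RespectsIso @P) {X₁ : Scheme.{u}} (j : X₁ ⟶ X) [IsOpenImmersion j]
    (f : X ⟶ Y) (x₁ : X₁) :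
    P ((j ≫ f).stalkMap x₁).hom ↔ P (f.stalkMap (j x₁)).hom := by
  rw [Scheme.Hom.stalkMap_comp]
  exact hP.cancel_right_isIso _ (j.stalkMap x₁)

theorem stalkMap_prop_comp_right
    {P : ∀ {A B : Type u} [CommRing A] [CommRing B], (A →+* B) → Prop}
    (hP : RingHom.RespectsIso @P) {S₁ : Scheme.{u}} (f₁ : X ⟶ S₁) (v : S₁ ⟶ S)
    [IsOpenImmersion v] (x : X) :
    P ((f₁ ≫ v).stalkMap x).hom ↔ P (f₁.stalkMap x).hom := by
  rw [Scheme.Hom.stalkMap_comp]
  exact hP.cancel_left_isIso (v.stalkMap (f₁ x)) _

set_option backward.isDefEq.respectTransparency false in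
/-- If `f` is locally of finite presentation, flat at `x`, and the whole fibre through `x` is
smooth, then `f` is smooth at `x`. -/
theorem formallySmooth_stalkMap_of_flat_of_smooth_fiber (f : X ⟶ S)
    [LocallyOfFinitePresentation f] (x : X) (s : S) (hs : f x = s)
    (hflat : (f.stalkMap x).hom.Flat) (hsm : Smooth (f.fiberToSpecResidueField s)) :
    (f.stalkMap x).hom.FormallySmooth := by
  wlog h : ∃ R, S = Spec R generalizing X S
  · obtain ⟨i, s₁, hs₁⟩ := S.affineCover.exists_eq s
    subst hs₁
    obtain ⟨x₁, hx₁, hx₁'⟩ := Scheme.Pullback.exists_preimage_pullback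
      (f := f) (g := S.affineCover.f i) x s₁ hs
    have H := IsPullback.of_hasPullback f (S.affineCover.f i)
    have hfl' : ((pullback.snd f (S.affineCover.f i)).stalkMap x₁).hom.Flat := by
      have e1 := stalkMap_prop_comp_left RingHom.Flat.respectsIso
        (pullback.fst f (S.affineCover.f i)) f x₁
      have e2 := stalkMap_prop_comp_right RingHom.Flat.respectsIso
        (pullback.snd f (S.affineCover.f i)) (S.affineCover.f i) x₁
      have e3 := stalkMap_prop_congr_hom (P := @RingHom.Flat)
        (pullback.condition (f := f) (g := S.affineCover.f i)) x₁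
      have e4 := stalkMap_prop_congr_point (P := @RingHom.Flat) f hx₁
      exact e2.mp (e3.mp (e1.mpr (e4.mpr hflat)))
    have key := this (pullback.snd f (S.affineCover.f i)) x₁ s₁ hx₁' hfl'
      (MorphismProperty.of_isPullback (P := @Smooth)
        (isPullback_fiberToSpecResidueField_of_isPullback H s₁) hsm) ⟨_, rfl⟩
    have e1 := stalkMap_prop_comp_left RingHom.FormallySmooth.respectsIso
      (pullback.fst f (S.affineCover.f i)) f x₁
    have e2 := stalkMap_prop_comp_right RingHom.FormallySmooth.respectsIso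
      (pullback.snd f (S.affineCover.f i)) (S.affineCover.f i) x₁
    have e3 := stalkMap_prop_congr_hom (P := @RingHom.FormallySmooth)
      (pullback.condition (f := f) (g := S.affineCover.f i)) x₁
    have e4 := stalkMap_prop_congr_point (P := @RingHom.FormallySmooth) f hx₁
    exact e4.mp (e1.mp (e3.mpr (e2.mpr key)))
  obtain ⟨R, rfl⟩ := h
  wlog h : ∃ A, X = Spec A generalizing X
  · obtain ⟨i, x₂, hx₂⟩ := X.affineCover.exists_eq x
    subst hx₂
    have hsm' : Smooth ((X.affineCover.f i ≫ f).fiberToSpecResidueField s) := by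
      haveI : Smooth (pullback.snd f ((Spec R).fromSpecResidueField s)) := hsm
      rw [Scheme.Hom.fiberToSpecResidueField, ← pullbackRightPullbackFstIso_inv_snd_snd]
      infer_instance
    have key := this x₂ (X.affineCover.f i ≫ f) hs
      ((stalkMap_prop_comp_left RingHom.Flat.respectsIso (X.affineCover.f i) f x₂).mpr hflat)
      hsm' ⟨_, rfl⟩
    exact (stalkMap_prop_comp_left RingHom.FormallySmooth.respectsIso
      (X.affineCover.f i) f x₂).mp key
  obtain ⟨A, rfl⟩ := h
  obtain ⟨φ, rfl⟩ := Spec.map_surjective f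
  subst hs
  have hfp : φ.hom.FinitePresentation :=
    (HasRingHomProperty.Spec_iff (P := @LocallyOfFinitePresentation)).mp ‹_›
  algebraize [φ.hom]
  let P : PrimeSpectrum R := x.comap φ.hom
  let q : Ideal A := x.asIdeal
  let p : Ideal R := P.asIdeal
  haveI : q.LiesOver p := ⟨rfl⟩
  have hfib : Algebra.FormallySmooth p.ResidueField (p.Fiber A) := by
    rw [← RingHom.formallySmooth_algebraMap]
    refine RingHom.Smooth.formallySmooth ?_
    rw [← CommRingCat.hom_ofHom (algebraMap p.ResidueField (p.Fiber A)),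
      ← HasRingHomProperty.Spec_iff (P := @Smooth),
      ← MorphismProperty.arrow_mk_iso_iff (P := @Smooth) (Spec.fiberToSpecResidueFieldIso R A P)]
    exact hsm
  letI := Localization.AtPrime.algebraOfLiesOver p q
  have hfl : Module.Flat (Localization.AtPrime p) (Localization.AtPrime q) :=
    (RingHom.Flat.respectsIso.arrow_mk_iso_iff (Scheme.arrowStalkMapSpecIso φ x)).mp hflat
  have hfl' : Module.Flat R (Localization.AtPrime q) :=
    Module.Flat.trans R (Localization.AtPrime p) (Localization.AtPrime q)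
  have hsmq : Algebra.FormallySmooth R (Localization.AtPrime q) :=
    isSmoothAt_of_flat_of_formallySmooth_fiber p q hfl'
  have hsmq' : Algebra.FormallySmooth (Localization.AtPrime p) (Localization.AtPrime q) :=
    Algebra.FormallySmooth.of_restrictScalars R _ _
  rw [RingHom.FormallySmooth.respectsIso.arrow_mk_iso_iff (Scheme.arrowStalkMapSpecIso φ x)]
  exact hsmq'

theorem smooth_comp_of_le_smoothLocus {U : Scheme.{u}} (j : U ⟶ X) [IsOpenImmersion j]
    (φ : X ⟶ S) [LocallyOfFinitePresentation φ] (h : ∀ z : U, j z ∈ φ.smoothLocus) :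
    Smooth (j ≫ φ) := by
  rw [← Scheme.Hom.smoothLocus_eq_top_iff, ← Scheme.Hom.preimage_smoothLocus_eq]
  exact top_le_iff.mp fun z _ => h z

/-- Smoothness at a point is stable under base change. -/
theorem mem_smoothLocus_of_isPullback {X S X' S' : Scheme.{u}} {f : X ⟶ S} {g : S' ⟶ S}
    {f' : X' ⟶ S'} {g' : X' ⟶ X} (H : IsPullback g' f' f g) [LocallyOfFinitePresentation f]
    [LocallyOfFinitePresentation f'] (x' : X') (hx : g' x' ∈ f.smoothLocus) :
    x' ∈ f'.smoothLocus := by
  let U := f.smoothLocus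
  haveI : Smooth (U.ι ≫ f) := smooth_comp_of_le_smoothLocus U.ι f (fun z => z.2)
  have H' : IsPullback (g' ∣_ U) ((g' ⁻¹ᵁ U).ι ≫ f') (U.ι ≫ f) g :=
    (isPullback_morphismRestrict g' U).paste_vert H
  haveI : Smooth ((g' ⁻¹ᵁ U).ι ≫ f') :=
    MorphismProperty.of_isPullback (P := @Smooth) H' inferInstance
  have h1 : ((g' ⁻¹ᵁ U).ι ≫ f').smoothLocus = ⊤ := Scheme.Hom.smoothLocus_eq_top _
  rw [← Scheme.Hom.preimage_smoothLocus_eq] at h1
  have h2 : (⟨x', hx⟩ : (g' ⁻¹ᵁ U)) ∈ (g' ⁻¹ᵁ U).ι ⁻¹ᵁ f'.smoothLocus := h1 ▸ trivial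
  exact h2

theorem flat_stalkMap_of_mem_smoothLocus (f : X ⟶ S) [LocallyOfFinitePresentation f] (x : X)
    (hx : x ∈ f.smoothLocus) : (f.stalkMap x).hom.Flat := by
  let U := f.smoothLocus
  haveI : Smooth (U.ι ≫ f) := smooth_comp_of_le_smoothLocus U.ι f (fun z => z.2)
  have h := AlgebraicGeometry.Flat.stalkMap (U.ι ≫ f) ⟨x, hx⟩
  exact (stalkMap_prop_comp_left RingHom.Flat.respectsIso U.ι f ⟨x, hx⟩).mp h

set_option backward.isDefEq.respectTransparency false in
/-- The fibre criterion for smoothness at a point. -/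
theorem mem_smoothLocus_iff_flat_and_fiber (f : X ⟶ S) [LocallyOfFinitePresentation f] (x : X)
    (s : S) (hs : f x = s) [LocallyOfFinitePresentation (f.fiberToSpecResidueField s)]
    (z : f.fiber s) (hz : f.fiberι s z = x) :
    x ∈ f.smoothLocus ↔
      (f.stalkMap x).hom.Flat ∧ z ∈ (f.fiberToSpecResidueField s).smoothLocus := by
  constructor
  · intro hx
    refine ⟨flat_stalkMap_of_mem_smoothLocus f x hx, ?_⟩
    have H : IsPullback (f.fiberι s) (f.fiberToSpecResidueField s) f
        (S.fromSpecResidueField s) := IsPullback.of_hasPullback _ _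
    exact mem_smoothLocus_of_isPullback H z (hz ▸ hx)
  · rintro ⟨hflat, hz'⟩
    obtain ⟨t, ht, hte⟩ := (f.fiberι s).isEmbedding.isInducing.isOpen_iff.mp
      (f.fiberToSpecResidueField s).smoothLocus.2
    let U : X.Opens := ⟨t, ht⟩
    have hxU : x ∈ U := by
      have h1 : z ∈ (f.fiberι s) ⁻¹' t := (Set.ext_iff.mp hte z).mpr hz'
      exact hz ▸ h1
    let x₀ : U := ⟨x, hxU⟩
    have hsm : Smooth ((U.ι ≫ f).fiberToSpecResidueField s) := by
      rw [Scheme.Hom.fiberToSpecResidueField, ← pullbackRightPullbackFstIso_inv_snd_snd]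
      haveI : Smooth (pullback.snd U.ι (pullback.fst f (S.fromSpecResidueField s)) ≫
          pullback.snd f (S.fromSpecResidueField s)) := by
        refine smooth_comp_of_le_smoothLocus _ (f.fiberToSpecResidueField s) (fun w => ?_)
        have e : (f.fiberι s) (pullback.snd U.ι (f.fiberι s) w) =
            U.ι (pullback.fst U.ι (f.fiberι s) w) := by
          rw [← Scheme.Hom.comp_apply, ← Scheme.Hom.comp_apply, pullback.condition]
        have hw : (f.fiberι s) (pullback.snd U.ι (f.fiberι s) w) ∈ t := by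
          rw [e]; exact (pullback.fst U.ι (f.fiberι s) w).2
        exact (Set.ext_iff.mp hte _).mp hw
      infer_instance
    have key := formallySmooth_stalkMap_of_flat_of_smooth_fiber (U.ι ≫ f) x₀ s hs
      ((stalkMap_prop_comp_left RingHom.Flat.respectsIso U.ι f x₀).mpr hflat) hsm
    exact (stalkMap_prop_comp_left RingHom.FormallySmooth.respectsIso U.ι f x₀).mp key

end Scheme

end Groth.Agent.H49.SmoothFibre
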