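import Mathlib
import Groth.Agent.H49.SmoothFibre

/-!
Pointwise descent of smoothness along flat base change (helper49).
-/

set_option autoImplicit false
universe u

open TensorProduct

namespace Groth.Agent.H49.SmoothDescent

section H1BaseChange

open Algebra

variable (R S T : Type u) [CommRing R] [CommRing S] [CommRing T]
  [Algebra R S] [Algebra R T] [Module.Flat R T]

attribute [local instance] Algebra.TensorProduct.rightAlgebra in
/-- Concrete case: `T ⊗[R] H¹(L_{S/R}) → H¹(L_{T ⊗ S/T})`, `t ⊗ x ↦ t • map x` is bijective. -/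
theorem bijective_liftBaseChange_h1Cotangent_map_tensor :
    Function.Bijective
      (((H1Cotangent.map R T S (T ⊗[R] S)).restrictScalars R).liftBaseChange T) := by
  have : (((H1Cotangent.map R T S (T ⊗[R] S)).restrictScalars R).liftBaseChange T) =
      (tensorH1CotangentOfFlat R S T).toLinearMap := by
    refine TensorProduct.AlgebraTensorModule.ext fun t x => ?_
    simp only [LinearMap.liftBaseChange_tmul, LinearMap.coe_restrictScalars, LinearEquiv.coe_coe]
    exact (tensorH1CotangentOfFlat_tmul R S T t x).symm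
  rw [this]
  exact (tensorH1CotangentOfFlat R S T).bijective

variable (S' : Type u) [CommRing S'] [Algebra R S'] [Algebra S S'] [Algebra T S']
  [IsScalarTower R S S'] [IsScalarTower R T S'] [Algebra.IsPushout R T S S']

set_option backward.isDefEq.respectTransparency false in
/-- Abstract pushout: `T ⊗[R] H¹(L_{S/R}) → H¹(L_{S'/T})` is bijective. -/
theorem bijective_liftBaseChange_h1Cotangent_map_restrictScalars :
    Function.Bijective
      (((H1Cotangent.map R T S S').restrictScalars R).liftBaseChange T) := by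
  letI : Algebra S (T ⊗[R] S) := Algebra.TensorProduct.rightAlgebra
  let e : (T ⊗[R] S) ≃ₐ[T] S' := Algebra.IsPushout.equiv R T S S'
  letI : Algebra (T ⊗[R] S) S' := e.toAlgHom.toRingHom.toAlgebra
  letI : Algebra S' (T ⊗[R] S) := e.symm.toAlgHom.toRingHom.toAlgebra
  haveI : IsScalarTower T (T ⊗[R] S) S' := .of_algebraMap_eq' e.toAlgHom.comp_algebraMap.symm
  haveI : IsScalarTower T S' (T ⊗[R] S) :=
    .of_algebraMap_eq' e.symm.toAlgHom.comp_algebraMap.symm
  haveI : IsScalarTower S (T ⊗[R] S) S' := .of_algebraMap_eq fun s => by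
    change algebraMap S S' s = e (1 ⊗ₜ s)
    rw [Algebra.IsPushout.equiv_tmul, map_one, one_mul]
  haveI : IsScalarTower (T ⊗[R] S) S' (T ⊗[R] S) :=
    .of_algebraMap_eq fun _ => (e.symm_apply_apply _).symm
  haveI : IsScalarTower S' (T ⊗[R] S) S' :=
    .of_algebraMap_eq fun _ => (e.apply_symm_apply _).symm
  have hcomp : ∀ x, H1Cotangent.map R T S S' x =
      H1Cotangent.map T T (T ⊗[R] S) S' (H1Cotangent.map R T S (T ⊗[R] S) x) := by
    intro x
    rw [H1Cotangent.map, H1Cotangent.map, H1Cotangent.map,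
      ← Extension.H1Cotangent.map_comp_apply]
    exact congr($(Extension.H1Cotangent.map_eq _ _) x)
  have hf₂ : Function.Bijective (H1Cotangent.map T T (T ⊗[R] S) S') := by
    refine Function.bijective_iff_has_inverse.mpr ⟨H1Cotangent.map T T S' (T ⊗[R] S), ?_, ?_⟩
    · intro x
      change ((H1Cotangent.map T T S' (T ⊗[R] S)).restrictScalars (T ⊗[R] S) ∘ₗ
        H1Cotangent.map T T (T ⊗[R] S) S') x = x
      rw [H1Cotangent.map, H1Cotangent.map, ← Extension.H1Cotangent.map_comp,
        Extension.H1Cotangent.map_eq, Extension.H1Cotangent.map_id, LinearMap.id_apply]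
    · intro x
      change ((H1Cotangent.map T T (T ⊗[R] S) S').restrictScalars S' ∘ₗ
        H1Cotangent.map T T S' (T ⊗[R] S)) x = x
      rw [H1Cotangent.map, H1Cotangent.map, ← Extension.H1Cotangent.map_comp,
        Extension.H1Cotangent.map_eq, Extension.H1Cotangent.map_id, LinearMap.id_apply]
  have key : ⇑(((H1Cotangent.map R T S S').restrictScalars R).liftBaseChange T) =
      ⇑(H1Cotangent.map T T (T ⊗[R] S) S') ∘
        ⇑(((H1Cotangent.map R T S (T ⊗[R] S)).restrictScalars R).liftBaseChange T) := by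
    funext z
    induction z with
    | zero => simp
    | add x y hx hy => simp only [map_add, Function.comp_apply] at hx hy ⊢; rw [hx, hy]
    | tmul t x =>
      simp only [LinearMap.liftBaseChange_tmul, LinearMap.coe_restrictScalars,
        Function.comp_apply]
      rw [hcomp, ← algebraMap_smul (T ⊗[R] S) t
        (H1Cotangent.map R T S (T ⊗[R] S) x), map_smul, algebraMap_smul]
  rw [key]
  exact hf₂.comp (bijective_liftBaseChange_h1Cotangent_map_tensor R S T)

/-- `S'`-linear flat base change of `H¹(L)` for an abstract pushout square. -/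
theorem bijective_liftBaseChange_h1Cotangent_map :
    Function.Bijective ((H1Cotangent.map R T S S').liftBaseChange S') := by
  let c := Algebra.IsPushout.cancelBaseChange R T S S' (H1Cotangent R S)
  have key : ⇑((H1Cotangent.map R T S S').liftBaseChange S') =
      ⇑(((H1Cotangent.map R T S S').restrictScalars R).liftBaseChange T) ∘ ⇑c := by
    funext z
    obtain ⟨w, rfl⟩ := c.symm.surjective z
    rw [Function.comp_apply, LinearEquiv.apply_symm_apply]
    induction w with
    | zero => simp
    | add x y hx hy => simp only [map_add]; rw [hx, hy]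
    | tmul t x =>
      rw [Algebra.IsPushout.cancelBaseChange_symm_tmul]
      simp only [LinearMap.liftBaseChange_tmul, LinearMap.coe_restrictScalars, algebraMap_smul]
  rw [key]
  exact (bijective_liftBaseChange_h1Cotangent_map_restrictScalars R S T S').comp c.bijective

/-- `S' ⊗[S] H¹(L_{S/R}) ≃ₗ[S'] H¹(L_{S'/T})` for a pushout square with `R → T` flat. -/
noncomputable def tensorH1CotangentOfFlatPushout :
    S' ⊗[S] H1Cotangent R S ≃ₗ[S'] H1Cotangent T S' :=
  LinearEquiv.ofBijective _ (bijective_liftBaseChange_h1Cotangent_map R S T S')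

end H1BaseChange

section Chain

variable {S S' S₀ S'' : Type*} [CommRing S] [CommRing S'] [CommRing S₀] [CommRing S'']
  [Algebra S S'] [Algebra S S₀] [Algebra S' S''] [Algebra S₀ S''] [Algebra S S'']
  [IsScalarTower S S' S''] [IsScalarTower S S₀ S'']
  {M N' M₀ N'' : Type*} [AddCommGroup M] [Module S M] [AddCommGroup N'] [Module S' N']
  [AddCommGroup M₀] [Module S₀ M₀] [AddCommGroup N''] [Module S'' N'']

/-- Chain of base-change isomorphisms. -/
noncomputable def chainEquiv (e : S' ⊗[S] M ≃ₗ[S'] N') (e₀ : S₀ ⊗[S] M ≃ₗ[S₀] M₀)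
    (e'' : S'' ⊗[S'] N' ≃ₗ[S''] N'') : S'' ⊗[S₀] M₀ ≃ₗ[S''] N'' :=
  (AlgebraTensorModule.congr (LinearEquiv.refl S'' S'') e₀.symm) ≪≫ₗ
  (AlgebraTensorModule.cancelBaseChange S S₀ S'' S'' M) ≪≫ₗ
  (AlgebraTensorModule.cancelBaseChange S S' S'' S'' M).symm ≪≫ₗ
  (AlgebraTensorModule.congr (LinearEquiv.refl S'' S'') e) ≪≫ₗ e''

end Chain

section Core

open Algebra

variable (R S T S' : Type u) [CommRing R] [CommRing S] [CommRing T] [CommRing S']
  [Algebra R S] [Algebra R T] [Algebra R S'] [Algebra S S'] [Algebra T S']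
  [IsScalarTower R S S'] [IsScalarTower R T S'] [Algebra.IsPushout R T S S'] [Module.Flat R T]
  (S₀ S'' : Type u) [CommRing S₀] [CommRing S'']
  [Algebra S S₀] [Algebra R S₀] [IsScalarTower R S S₀]
  [Algebra S' S''] [Algebra T S''] [IsScalarTower T S' S'']
  [Algebra S₀ S''] [Algebra S S''] [IsScalarTower S S₀ S''] [IsScalarTower S S' S'']
  (M : Submonoid S) [IsLocalization M S₀] (M' : Submonoid S') [IsLocalization M' S'']
  [Module.FaithfullyFlat S₀ S''] [Algebra.FinitePresentation R S]

include M M' in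
/-- Core descent lemma: `S' = T ⊗[R] S` with `R → T` flat, `S''` a localization of `S'`,
`S₀` a localization of `S` with `S₀ → S''` faithfully flat.  If `S''` is formally smooth over `T`
then `S₀` is formally smooth over `R`. -/
theorem formallySmooth_of_formallySmooth_localization_pushout
    [Algebra.FormallySmooth T S''] : Algebra.FormallySmooth R S₀ := by
  have hsm := (Algebra.formallySmooth_iff T S'').mp inferInstance
  obtain ⟨hproj, hsub⟩ := hsm
  rw [Algebra.formallySmooth_iff]
  haveI : FormallyEtale S S₀ := FormallyEtale.of_isLocalization (Rₘ := S₀) M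
  haveI : FormallyEtale S' S'' := FormallyEtale.of_isLocalization (Rₘ := S'') M'
  constructor
  · -- Kähler differentials
    let E : S'' ⊗[S₀] Ω[S₀⁄R] ≃ₗ[S''] Ω[S''⁄T] :=
      chainEquiv (KaehlerDifferential.tensorKaehlerEquiv R T S S')
        (KaehlerDifferential.tensorKaehlerEquivOfFormallyEtale R S S₀)
        (KaehlerDifferential.tensorKaehlerEquivOfFormallyEtale T S' S'')
    haveI : Module.Flat S'' (S'' ⊗[S₀] Ω[S₀⁄R]) := .of_linearEquiv E
    haveI : Module.Flat S₀ Ω[S₀⁄R] := Module.Flat.of_flat_tensorProduct S₀ _ S''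
    haveI : Module.FinitePresentation S₀ Ω[S₀⁄R] :=
      Module.FinitePresentation.of_equiv
        (KaehlerDifferential.tensorKaehlerEquivOfFormallyEtale R S S₀)
    exact Module.Flat.projective_of_finitePresentation
  · -- H¹ of the cotangent complex
    let E : S'' ⊗[S₀] H1Cotangent R S₀ ≃ₗ[S''] H1Cotangent T S'' :=
      chainEquiv (tensorH1CotangentOfFlatPushout R S T S')
        (tensorH1CotangentOfIsLocalization R S₀ M)
        (tensorH1CotangentOfIsLocalization T S'' M')
    haveI : Subsingleton (S'' ⊗[S₀] H1Cotangent R S₀) := E.subsingleton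
    exact Module.FaithfullyFlat.lTensor_reflects_triviality S₀ S'' (H1Cotangent R S₀)

end Core

section AtPrime

set_option backward.isDefEq.respectTransparency false in
/-- Pushout square `A → A'`, `A → B`, `B' = B ⊗_A A'`; `q'` a prime of `B'` over `p'` of `A'` and
over `q` of `B`.  If `A'_{p'}` is flat over `A`, `B` is finitely presented over `A` and `B'_{q'}`
is formally smooth over `A'`, then `B_q` is formally smooth over `A`. -/
theorem formallySmooth_localization_descent (A A' B B' : Type u) [CommRing A] [CommRing A']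
    [CommRing B] [CommRing B']
    [Algebra A A'] [Algebra A B] [Algebra A' B'] [Algebra B B'] [Algebra A B']
    [IsScalarTower A A' B'] [IsScalarTower A B B'] [Algebra.IsPushout A A' B B']
    [Algebra.FinitePresentation A B]
    (p' : Ideal A') [p'.IsPrime] (q' : Ideal B') [q'.IsPrime] [q'.LiesOver p']
    (q : Ideal B) [q.IsPrime] [q'.LiesOver q]
    (hfl : Module.Flat A (Localization.AtPrime p'))
    (hsm : Algebra.FormallySmooth A' (Localization.AtPrime q')) :
    Algebra.FormallySmooth A (Localization.AtPrime q) := by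
  let Rp := Localization.AtPrime p'
  let Sp := Localization (Algebra.algebraMapSubmonoid B' p'.primeCompl)
  let Sq := Localization.AtPrime q'
  let f : Sp →ₐ[B'] Sq := IsLocalization.liftAlgHom
    (M := Algebra.algebraMapSubmonoid B' p'.primeCompl)
      (f := Algebra.ofId _ _) (by
    rintro ⟨_, x, hx, rfl⟩
    simpa using! IsLocalization.map_units (M := q'.primeCompl) Sq ⟨algebraMap _ _ x,
      by simp_all [q'.over_def p']⟩)
  algebraize [f.toRingHom]
  have : IsScalarTower B Sp Sq := .to₁₃₄ _ B' _ _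
  have : IsScalarTower A' Sp Sq := .to₁₃₄ _ B' _ _
  have : IsLocalization (Algebra.algebraMapSubmonoid Sp q'.primeCompl) Sq :=
    .isLocalization_of_submonoid_le _ _ (Algebra.algebraMapSubmonoid B' p'.primeCompl) _
    (by rintro _ ⟨x, hx, rfl⟩; simp_all [q'.over_def p'])
  have : IsScalarTower A A' Sp := .to₁₂₄ A A' B' Sp
  have : IsScalarTower A B Sp := .to₁₂₄ A B B' Sp
  have : IsScalarTower A Rp Sp := .to₁₃₄ A A' Rp Sp
  have hpo1 : Algebra.IsPushout A' Rp B' Sp :=
    .symm <| Algebra.isPushout_of_isLocalization p'.primeCompl _ _ _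
  have h1 : IsBaseChange A' (IsScalarTower.toAlgHom A B B').toLinearMap :=
    (inferInstance : Algebra.IsPushout A A' B B').out
  have h2 : IsBaseChange Rp (IsScalarTower.toAlgHom A' B' Sp).toLinearMap := hpo1.out
  have h3 := IsBaseChange.comp h1 h2
  have hpo2 : Algebra.IsPushout A Rp B Sp := ⟨by
    convert h3 using 1
    · rfl
    · refine LinearMap.ext fun b => ?_
      exact IsScalarTower.algebraMap_apply B B' Sp b⟩
  -- `Sq` as an `Rp`-algebra through `Sp`
  letI : Algebra Rp Sq := ((algebraMap Sp Sq).comp (algebraMap Rp Sp)).toAlgebra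
  haveI : IsScalarTower Rp Sp Sq := .of_algebraMap_eq' rfl
  haveI : IsScalarTower A' Rp Sq := .to₁₂₄ A' Rp Sp Sq
  haveI : Algebra.FormallySmooth A' Sq := hsm
  haveI : Algebra.FormallyEtale A' Rp := Algebra.FormallyEtale.of_isLocalization p'.primeCompl
  haveI : Algebra.FormallySmooth Rp Sq := Algebra.FormallySmooth.of_restrictScalars A' Rp Sq
  -- faithful flatness of `B_q → B'_{q'}`
  letI := Localization.AtPrime.algebraOfLiesOver q q'
  have hB : Module.Flat B Sq := by
    have : Module.Flat Sp Sq :=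
      IsLocalization.flat _ (Algebra.algebraMapSubmonoid Sp q'.primeCompl)
    have hpo3 : Algebra.IsPushout A B Rp Sp := hpo2.symm
    have : Module.Flat B Sp :=
      Module.Flat.isBaseChange (R := A) (S := B) (M := Rp) Sp hpo3.out
    exact Module.Flat.trans B Sp Sq
  have h3 : Module.Flat (Localization.AtPrime q) Sq :=
    (Module.flat_iff_of_isLocalization (Localization.AtPrime q) q.primeCompl _).mpr hB
  have : IsLocalHom (algebraMap (Localization.AtPrime q) Sq) := by
    rw [Localization.AtPrime.IsLiesOverAlgebra.algebraMap_eq]; infer_instance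
  haveI : Module.FaithfullyFlat (Localization.AtPrime q) Sq :=
    Module.FaithfullyFlat.of_flat_of_isLocalHom
  exact formallySmooth_of_formallySmooth_localization_pushout A B Rp Sp
    (Localization.AtPrime q) Sq q.primeCompl (Algebra.algebraMapSubmonoid Sp q'.primeCompl)

end AtPrime

section Schemes

open AlgebraicGeometry CategoryTheory Limits

variable {X Y : Scheme.{u}}

/-- (copy of helper48's lemma) flatness of the stalk map in affine charts. -/
lemma flat_stalkMap_iff {f : X ⟶ Y} {x : X} (U : Y.Opens)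
      (hU : IsAffineOpen U) (V : X.Opens) (hV : IsAffineOpen V) (hVU : V ≤ f ⁻¹ᵁ U)
      (hx : x ∈ V) :
    letI := (f.appLE U V hVU).hom.toAlgebra
    haveI : (hV.primeIdealOf ⟨x, hx⟩).asIdeal.LiesOver (hU.primeIdealOf ⟨f x, hVU hx⟩).asIdeal :=
      ⟨congr($(IsAffineOpen.comap_primeIdealOf_appLE U hU V hV hVU hx).1).symm⟩
    letI := Localization.AtPrime.algebraOfLiesOver (hU.primeIdealOf ⟨f x, hVU hx⟩).asIdeal
      (hV.primeIdealOf ⟨x, hx⟩).asIdeal
    (f.stalkMap x).hom.Flat ↔
      Module.Flat (Localization.AtPrime (hU.primeIdealOf ⟨f x, hVU hx⟩).asIdeal)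
        (Localization.AtPrime (hV.primeIdealOf ⟨x, hx⟩).asIdeal) := by
  let := (f.appLE U V hVU).hom.toAlgebra
  let p := (hU.primeIdealOf ⟨f x, hVU hx⟩).asIdeal
  let q := (hV.primeIdealOf ⟨x, hx⟩).asIdeal
  have : q.LiesOver p :=
    ⟨congr($(IsAffineOpen.comap_primeIdealOf_appLE U hU V hV hVU hx).1).symm⟩
  let := Localization.AtPrime.algebraOfLiesOver p q
  rw [← RingHom.flat_algebraMap_iff]
  exact RingHom.Flat.respectsIso.arrow_mk_iso_iff
    (IsAffineOpen.arrowStalkMapIso f U hU V hV hVU hx)

set_option backward.isDefEq.respectTransparency false in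
/-- Pointwise descent of smoothness along a base change which is flat at the point. -/
theorem mem_smoothLocus_of_isPullback_of_flat {X S X' S' : Scheme.{u}} {f : X ⟶ S} {g : S' ⟶ S}
    {f' : X' ⟶ S'} {g' : X' ⟶ X} (H : IsPullback g' f' f g) [LocallyOfFinitePresentation f]
    [LocallyOfFinitePresentation f'] (x' : X')
    (hg : (g.stalkMap (f'.base x')).hom.Flat)
    (hx' : x' ∈ f'.smoothLocus) : g'.base x' ∈ f.smoothLocus := by
  have hcond : f.base (g'.base x') = g.base (f'.base x') := by
    rw [← Scheme.Hom.comp_apply, ← Scheme.Hom.comp_apply, H.w]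
  obtain ⟨V, hV, hsV, -⟩ := exists_isAffineOpen_mem_and_subset
    (x := f.base (g'.base x')) (U := (⊤ : S.Opens)) trivial
  obtain ⟨W, hW, hxW, hWV⟩ := exists_isAffineOpen_mem_and_subset
    (x := g'.base x') (U := f ⁻¹ᵁ V) hsV
  have hs'V : f'.base x' ∈ g ⁻¹ᵁ V := by
    show g.base _ ∈ V
    rw [← hcond]; exact hsV
  obtain ⟨V', hV', hs'V', hV'V⟩ := exists_isAffineOpen_mem_and_subset
    (x := f'.base x') (U := g ⁻¹ᵁ V) hs'V
  let W' : X'.Opens := g' ⁻¹ᵁ W ⊓ f' ⁻¹ᵁ V'
  have hx'W' : x' ∈ W' := ⟨hxW, hs'V'⟩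
  have hW'W : W' ≤ g' ⁻¹ᵁ W := inf_le_left
  have hW'V' : W' ≤ f' ⁻¹ᵁ V' := inf_le_right
  have hW' : IsAffineOpen W' := by
    have : IsAffine V.toScheme := hV
    have : IsAffine V'.toScheme := hV'
    have : IsAffine W.toScheme := hW
    exact .of_isIso (Scheme.Hom.isPullback_resLE H hV'V hWV (rfl : W' = _)).isoPullback.hom
  have hpo := (isIso_pushoutSection_iff H hV'V hWV (rfl : W' = _)).mp
    (isIso_pushoutSection_of_isAffineOpen H hV'V hWV rfl hV hV' hW)
  rw [flat_stalkMap_iff V hV V' hV' hV'V hs'V'] at hg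
  rw [Scheme.Hom.mem_smoothLocus, formallySmooth_stalkMap_iff V' hV' W' hW' hW'V' hx'W'] at hx'
  rw [Scheme.Hom.mem_smoothLocus, formallySmooth_stalkMap_iff V hV W hW hWV hxW]
  have hfp := f.finitePresentation_appLE hV hW hWV
  letI : Algebra Γ(S, V) Γ(X, W) := (f.appLE V W hWV).hom.toAlgebra
  letI : Algebra Γ(S, V) Γ(S', V') := (g.appLE V V' hV'V).hom.toAlgebra
  letI : Algebra Γ(X, W) Γ(X', W') := (g'.appLE W W' hW'W).hom.toAlgebra
  letI : Algebra Γ(S', V') Γ(X', W') := (f'.appLE V' W' hW'V').hom.toAlgebra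
  letI : Algebra Γ(S, V) Γ(X', W') :=
    ((g'.appLE W W' hW'W).hom.comp (f.appLE V W hWV).hom).toAlgebra
  haveI : IsScalarTower Γ(S, V) Γ(X, W) Γ(X', W') := .of_algebraMap_eq' rfl
  haveI : IsScalarTower Γ(S, V) Γ(S', V') Γ(X', W') := .of_algebraMap_eq' (by
    change (g'.appLE W W' hW'W).hom.comp (f.appLE V W hWV).hom =
      (f'.appLE V' W' hW'V').hom.comp (g.appLE V V' hV'V).hom
    rw [← CommRingCat.hom_comp, ← CommRingCat.hom_comp, hpo.w])
  haveI : Algebra.IsPushout Γ(S, V) Γ(X, W) Γ(S', V') Γ(X', W') :=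
    CommRingCat.isPushout_iff_isPushout.mp hpo
  haveI : Algebra.IsPushout Γ(S, V) Γ(S', V') Γ(X, W) Γ(X', W') :=
    Algebra.IsPushout.symm inferInstance
  haveI : Algebra.FinitePresentation Γ(S, V) Γ(X, W) := hfp
  -- the primes
  let p₂ := (hV.primeIdealOf ⟨g.base (f'.base x'), hV'V hs'V'⟩).asIdeal
  let p' := (hV'.primeIdealOf ⟨f'.base x', hs'V'⟩).asIdeal
  let q' := (hW'.primeIdealOf ⟨x', hx'W'⟩).asIdeal
  let q := (hW.primeIdealOf ⟨g'.base x', hxW⟩).asIdeal
  haveI : p'.LiesOver p₂ :=
    ⟨congr($(IsAffineOpen.comap_primeIdealOf_appLE V hV V' hV' hV'V hs'V').1).symm⟩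
  haveI : q'.LiesOver p' :=
    ⟨congr($(IsAffineOpen.comap_primeIdealOf_appLE V' hV' W' hW' hW'V' hx'W').1).symm⟩
  haveI : q'.LiesOver q :=
    ⟨congr($(IsAffineOpen.comap_primeIdealOf_appLE W hW W' hW' hW'W hx'W').1).symm⟩
  letI := Localization.AtPrime.algebraOfLiesOver p₂ p'
  have hA : Module.Flat Γ(S, V) (Localization.AtPrime p') :=
    (Module.flat_iff_of_isLocalization (Localization.AtPrime p₂) p₂.primeCompl _).mp hg
  exact formallySmooth_localization_descent Γ(S, V) Γ(S', V') Γ(X, W) Γ(X', W') p' q' q hA hx'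

set_option backward.isDefEq.respectTransparency false in
theorem lfp_fiberToSpecResidueField {X S : Scheme.{u}} (f : X ⟶ S)
    [LocallyOfFinitePresentation f] (s : S) :
    LocallyOfFinitePresentation (f.fiberToSpecResidueField s) := by
  unfold Scheme.Hom.fiberToSpecResidueField; infer_instance

set_option backward.isDefEq.respectTransparency false in
/-- Pointwise descent of smoothness along an arbitrary base change when `f` is flat. -/
theorem mem_smoothLocus_of_isPullback_of_flat_left {X S X' S' : Scheme.{u}} {f : X ⟶ S}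
    {g : S' ⟶ S} {f' : X' ⟶ S'} {g' : X' ⟶ X} (h : IsPullback g' f' f g)
    [LocallyOfFinitePresentation f] [LocallyOfFinitePresentation f'] [Flat f] (x' : X')
    (hx' : x' ∈ f'.smoothLocus) : g' x' ∈ f.smoothLocus := by
  have hcond : f (g' x') = g (f' x') := by
    rw [← Scheme.Hom.comp_apply, ← Scheme.Hom.comp_apply, h.w]
  haveI : LocallyOfFinitePresentation (f'.fiberToSpecResidueField (f' x')) :=
    lfp_fiberToSpecResidueField f' _
  haveI : LocallyOfFinitePresentation (f.fiberToSpecResidueField (g (f' x'))) :=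
    lfp_fiberToSpecResidueField f _
  have h1 := (Groth.Agent.H49.SmoothFibre.mem_smoothLocus_iff_flat_and_fiber f' x'
    (f' x') rfl (f'.asFiber x') (f'.fiberι_asFiber x')).mp hx'
  have HP := isPullback_fiberToSpecResidueField_of_isPullback h (f' x')
  haveI : Flat (Spec.map (g.residueFieldMap (f' x'))) := by
    rw [HasRingHomProperty.Spec_iff (P := @Flat)]
    algebraize [(g.residueFieldMap (f' x')).hom]
    exact inferInstanceAs (Module.Flat _ _)
  have hflatκ := AlgebraicGeometry.Flat.stalkMap (Spec.map (g.residueFieldMap (f' x')))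
    ((f'.fiberToSpecResidueField (f' x')) (f'.asFiber x'))
  have h2 := mem_smoothLocus_of_isPullback_of_flat HP (f'.asFiber x') hflatκ h1.2
  refine (Groth.Agent.H49.SmoothFibre.mem_smoothLocus_iff_flat_and_fiber f (g' x')
    (g (f' x')) hcond _ ?_).mpr ⟨AlgebraicGeometry.Flat.stalkMap f _, h2⟩
  have e : Limits.pullback.map _ _ _ _ g' (Spec.map (g.residueFieldMap (f' x'))) g
      h.w.symm (by simp) ≫ f.fiberι (g (f' x')) =
      f'.fiberι (f' x') ≫ g' := by
    exact Limits.pullback.lift_fst _ _ _
  exact (congrArg (fun φ : f'.fiber (f' x') ⟶ X => φ (f'.asFiber x')) e).trans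
    (congrArg g' (f'.fiberι_asFiber x'))

end Schemes

end Groth.Agent.H49.SmoothDescent
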