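import Mathlib
import Groth.Agent.H48.StalkLocal2
import Groth.Agent.H49.SmoothFibre
import Groth.Agent.H48.StalkLocal
import Groth.Agent.H48.UnramBC

/-!
Smoothness of a morphism `X ⟶ Y` of `S`-schemes can be tested on the fibres over `S` when `X` is
flat over `S` (helper49).  Ring-level core: a generalisation of Mathlib's
`Algebra.FormallySmooth.of_formallySmooth_residueField_tensor` where the base of the differentials
(`A`) differs from the base of the flatness/tensoring (`R`).
-/

set_option autoImplicit false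
universe u

open TensorProduct IsLocalRing

namespace Groth.Agent.H49.SmoothFibreMap

section Ring

open Algebra

local notation "𝓀[" R "]" => ResidueField R
local notation "𝓂[" R "]" => maximalIdeal R

variable {R K A P S : Type u} [CommRing R] [Field K] [Algebra R K]
  [CommRing A] [Algebra R A] [CommRing P] [Algebra R P] [Algebra A P] [IsScalarTower R A P]
  [CommRing S] [IsLocalRing S] [Algebra R S] [Algebra A S] [Algebra P S]
  [IsScalarTower R A S] [IsScalarTower A P S] [IsScalarTower R P S]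
  [Module.Flat R S] [Algebra K 𝓀[S]] [IsScalarTower R K 𝓀[S]]

set_option backward.defeqAttrib.useBackward true in
set_option backward.isDefEq.respectTransparency false in
attribute [local instance] TensorProduct.rightAlgebra in
theorem formallySmooth_of_fiber_aux
    (hsurj : Function.Surjective (Algebra.TensorProduct.includeRight : S →ₐ[R] K ⊗[R] S))
    [FormallySmooth A P] [Module.Free P Ω[P⁄A]] [Module.Finite P Ω[P⁄A]]
    (h₁ : Function.Surjective (algebraMap P S)) (h₂ : (RingHom.ker (algebraMap P S)).FG)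
    (hfs : (Algebra.TensorProduct.map (AlgHom.id K K)
      (IsScalarTower.toAlgHom R A S)).toRingHom.FormallySmooth) :
    Algebra.FormallySmooth A S := by
  let Sp := K ⊗[R] S
  let Pp := K ⊗[R] P
  let Ap := K ⊗[R] A
  let φ : Pp →ₐ[K] Sp := Algebra.TensorProduct.map (.id _ _) (IsScalarTower.toAlgHom _ _ _)
  let α : Ap →ₐ[K] Pp := Algebra.TensorProduct.map (.id _ _) (IsScalarTower.toAlgHom R A P)
  let β : Ap →ₐ[K] Sp := Algebra.TensorProduct.map (.id _ _) (IsScalarTower.toAlgHom R A S)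
  let ψ : Sp →ₐ[R] 𝓀[S] := Algebra.TensorProduct.lift (IsScalarTower.toAlgHom _ _ _)
    (IsScalarTower.toAlgHom _ _ _) fun _ _ ↦ .all _ _
  algebraize [φ.toRingHom, (φ.toRingHom.comp (algebraMap P Pp)), ψ.toRingHom,
    ψ.toRingHom.comp φ.toRingHom, α.toRingHom, β.toRingHom,
    (algebraMap P Pp).comp (algebraMap A P)]
  have := IsScalarTower.of_algebraMap_eq' φ.comp_algebraMap.symm
  have := IsScalarTower.of_algebraMap_eq' ψ.comp_algebraMap.symm
  have : IsScalarTower P S Sp := .of_algebraMap_eq' rfl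
  have : IsScalarTower S Sp 𝓀[S] := .of_algebraMap_eq fun r ↦ by
    simp [RingHom.algebraMap_toAlgebra, ψ, Sp]
  have : IsScalarTower P Sp 𝓀[S] := .to₁₃₄ _ S _ _
  have : IsScalarTower P Pp 𝓀[S] := .to₁₂₄ _ _ Sp _
  have : IsScalarTower K Ap Pp := IsScalarTower.of_algebraMap_eq' α.comp_algebraMap.symm
  have : IsScalarTower A P Pp := .of_algebraMap_eq' rfl
  have : IsScalarTower A Ap Pp := .of_algebraMap_eq' rfl
  have : IsScalarTower R Ap Pp := .of_algebraMap_eq' (α.restrictScalars R).comp_algebraMap.symm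
  have hβ : β = φ.comp α := by
    apply Algebra.TensorProduct.ext'
    intro a b
    change (AlgHom.id K K a) ⊗ₜ[R] (IsScalarTower.toAlgHom R A S b) =
      (AlgHom.id K K (AlgHom.id K K a)) ⊗ₜ[R]
        (IsScalarTower.toAlgHom R P S (IsScalarTower.toAlgHom R A P b))
    simp [IsScalarTower.algebraMap_apply A P S]
  have : IsScalarTower Ap Pp Sp := .of_algebraMap_eq' congr(($hβ).toRingHom)
  have : Algebra.IsPushout R A K Ap := inferInstance
  have : Algebra.IsPushout R P K Pp := inferInstance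
  have hpo : Algebra.IsPushout A P Ap Pp :=
    (Algebra.IsPushout.comp_iff R A K (S' := Ap) (T := P) (T' := Pp)).mp inferInstance
  have : Algebra.IsPushout A Ap P Pp := hpo.symm
  have : FormallySmooth Ap Pp := .of_equiv (Algebra.IsPushout.equiv A Ap P Pp)
  let e₀ : Ω[Pp⁄Ap] ≃ₗ[Pp] Pp ⊗[P] Ω[P⁄A] :=
    (KaehlerDifferential.tensorKaehlerEquiv A Ap P Pp).symm
  have : Module.Free Pp Ω[Pp⁄Ap] := .of_equiv e₀.symm
  have : Module.Finite Pp Ω[Pp⁄Ap] := .of_surjective e₀.symm.toLinearMap e₀.symm.surjective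
  let e₁ : RingHom.ker φ ≃ₗ[Pp] Pp ⊗[P] RingHom.ker (algebraMap P S) :=
    kerTensorProductMapIdToAlgHomEquiv _ _ _ _ h₁
  have h₁' : Function.Surjective φ := LinearMap.lTensor_surjective _ h₁
  have h₂' : (RingHom.ker φ).FG := by
    suffices Module.Finite Pp (RingHom.ker φ) from (Submodule.fg_top _).mp this.1
    have : Module.Finite P (RingHom.ker (algebraMap P S)) := ⟨(Submodule.fg_top _).mpr h₂⟩
    exact .equiv e₁.symm
  have : Nontrivial Sp := ψ.toRingHom.domain_nontrivial
  have : IsLocalRing Sp :=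
    .of_surjective' (Algebra.TensorProduct.includeRight : S →ₐ[R] Sp).toRingHom hsurj
  have h₃ : 𝓂[Sp] ≤ RingHom.ker ψ := by
    intro x hx
    obtain ⟨x, rfl⟩ := hsurj x
    have : ¬IsUnit x := fun h ↦ hx <| h.map TensorProduct.includeRight
    simpa [ψ, Sp]
  rw [Algebra.FormallySmooth.iff_injective_cotangentComplexBaseChange_residueField (P := P) h₁ h₂]
  have := (Algebra.FormallySmooth.iff_injective_cotangentComplexBaseChange
    (R := Ap) _ _ h₁' h₂' h₃).mp inferInstance
  let eᵣ : 𝓀[S] ⊗[Pp] Ω[Pp⁄Ap] ≃ₗ[S] 𝓀[S] ⊗[P] Ω[P⁄A] :=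
    (AlgebraTensorModule.congr (.refl 𝓀[S] _) e₀).restrictScalars S ≪≫ₗ
      (AlgebraTensorModule.cancelBaseChange P Pp Sp 𝓀[S] Ω[P⁄A]).restrictScalars S
  let eₗ : 𝓀[S] ⊗[Pp] RingHom.ker φ ≃ₗ[S] 𝓀[S] ⊗[P] RingHom.ker (algebraMap P S) :=
    (AlgebraTensorModule.congr (.refl 𝓀[S] 𝓀[S]) e₁).restrictScalars S ≪≫ₗ
      (AlgebraTensorModule.cancelBaseChange P Pp Sp 𝓀[S] _).restrictScalars S
  convert! (eᵣ.injective.comp this).comp eₗ.symm.injective
  ext x
  dsimp
  induction x with
  | zero => simp only [LinearEquiv.map_zero, LinearMap.map_zero]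
  | add x y _ _ => simp only [LinearEquiv.map_add, LinearMap.map_add, *]
  | tmul x y =>
  dsimp [eₗ, eᵣ, e₁, KaehlerDifferential.cotangentComplexBaseChange,
    TensorProduct.one_def, Pp, smul_tmul']
  rw [kerTensorProductMapIdToAlgHomEquiv_symm_apply]
  have key : (KaehlerDifferential.tensorKaehlerEquiv A Ap P Pp).symm
      (KaehlerDifferential.D Ap Pp (((1 : K) ⊗ₜ[R] (y : P)) : Pp)) =
        (1 : Pp) ⊗ₜ[P] KaehlerDifferential.D A P (y : P) := by
    rw [LinearEquiv.symm_apply_eq, KaehlerDifferential.tensorKaehlerEquiv_tmul_D, one_smul]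
    rfl
  simp only [mul_one, one_mul]
  change x ⊗ₜ[P] (KaehlerDifferential.D A P) ↑y =
    (AlgebraTensorModule.cancelBaseChange P Pp Sp 𝓀[S] Ω[P⁄A])
      (x ⊗ₜ[Pp] (KaehlerDifferential.tensorKaehlerEquiv A Ap P Pp).symm
        ((KaehlerDifferential.D Ap Pp) (((1 : K) ⊗ₜ[R] (y : P)) : Pp)))
  rw [key, AlgebraTensorModule.cancelBaseChange_tmul, one_smul]


omit [Algebra R P] [IsScalarTower R A P] [IsScalarTower R P S] in
set_option backward.isDefEq.respectTransparency false in
/-- Generalisation of `Algebra.FormallySmooth.of_formallySmooth_residueField_tensor`: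
`S` a local ring, flat over `R`, which is a localization of a finitely presented `A`-algebra `P`
(`A` an `R`-algebra). If `K ⊗[R] S` is formally smooth over `K ⊗[R] A` (where `K` is a field over
`R` such that `S → K ⊗[R] S` is surjective and `K` maps to the residue field of `S`), then `S`
is formally smooth over `A`. -/
theorem formallySmooth_of_fiber
    (hsurj : Function.Surjective (Algebra.TensorProduct.includeRight : S →ₐ[R] K ⊗[R] S))
    (M : Submonoid P) [IsLocalization M S] [Algebra.FinitePresentation A P]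
    (hfs : (Algebra.TensorProduct.map (AlgHom.id K K)
      (IsScalarTower.toAlgHom R A S)).toRingHom.FormallySmooth) :
    Algebra.FormallySmooth A S := by
  obtain ⟨n, f₀, hf₀⟩ := Algebra.FiniteType.iff_quotient_mvPolynomial''.mp
    (inferInstance : Algebra.FiniteType A P)
  let M' := M.comap f₀
  let P' := Localization M'
  let fP : P' →ₐ[A] S := IsLocalization.liftAlgHom (M := M')
      (f := (IsScalarTower.toAlgHom A P S).comp f₀) fun x ↦ by
    simpa using IsLocalization.map_units (M := M) _ ⟨f₀ x.1, x.2⟩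
  have hf₁ : Function.Surjective fP := by
    intro x
    obtain ⟨x, ⟨s, hs⟩, rfl⟩ := IsLocalization.exists_mk'_eq M x
    obtain ⟨x, rfl⟩ := hf₀ x
    obtain ⟨s, rfl⟩ := hf₀ s
    refine ⟨IsLocalization.mk' (M := M') _ x ⟨s, hs⟩, ?_⟩
    simp [fP, IsLocalization.lift_mk', Units.mul_inv_eq_iff_eq_mul, IsUnit.liftRight]
  have hfP : (RingHom.ker fP).FG := by
    have := Algebra.FinitePresentation.ker_fG_of_surjective _ hf₀
    convert! this.map (algebraMap _ P')
    refine le_antisymm ?_ (Ideal.map_le_iff_le_comap.mpr fun x hx ↦ by simp_all [fP])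
    intro x hx
    obtain ⟨x, s, rfl⟩ := IsLocalization.exists_mk'_eq M' x
    obtain ⟨a, ha, e⟩ : ∃ a ∈ M, a * f₀ x = 0 := by
      simpa [fP, IsLocalization.lift_mk', IsLocalization.map_eq_zero_iff M] using hx
    obtain ⟨a, rfl⟩ := hf₀ a
    rw [IsLocalization.mk'_mem_map_algebraMap_iff]
    exact ⟨a, ha, by simpa⟩
  algebraize [fP.toRingHom]
  have : IsScalarTower A P' S := IsScalarTower.of_algebraMap_eq' fP.comp_algebraMap.symm
  have : IsScalarTower R A P' := .to₁₂₄ R A (MvPolynomial (Fin n) A) P'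
  have : IsScalarTower R P' S := .to₁₃₄ R A P' S
  have : FormallyEtale (MvPolynomial (Fin n) A) P' := .of_isLocalization M'
  have : FormallySmooth A P' := .comp _ (MvPolynomial (Fin n) A) _
  have : Module.Free P' Ω[P'⁄A] :=
    .of_equiv (KaehlerDifferential.tensorKaehlerEquivOfFormallyEtale A (MvPolynomial (Fin n) A) P')
  exact formallySmooth_of_fiber_aux (R := R) (K := K) (A := A) (P := P') (S := S) hsurj hf₁ hfP hfs

end Ring


section Chart

open Algebra

attribute [local instance] Algebra.TensorProduct.rightAlgebra in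
/-- Chart-level version: `R → A → B` with `B` finitely presented over `A`, `q` a prime of `B` over
the prime `p` of `R`, `B_q` flat over `R`, and `κ(p) ⊗ A → κ(p) ⊗ B` formally smooth. Then `B` is
smooth over `A` at `q`. -/
theorem isSmoothAt_of_flat_of_formallySmooth_fiberMap
    {R A B : Type u} [CommRing R] [CommRing A] [CommRing B] [Algebra R A] [Algebra A B]
    [Algebra R B] [IsScalarTower R A B] [Algebra.FinitePresentation A B]
    (p : Ideal R) [p.IsPrime] (q : Ideal B) [q.IsPrime] [q.LiesOver p]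
    (hflat : Module.Flat R (Localization.AtPrime q))
    (hsm : (Algebra.TensorProduct.map (AlgHom.id p.ResidueField p.ResidueField)
      (IsScalarTower.toAlgHom R A B)).toRingHom.FormallySmooth) :
    Algebra.IsSmoothAt A q := by
  let K := p.ResidueField
  let Sq := Localization.AtPrime q
  let := Localization.AtPrime.algebraOfLiesOver p q
  have : IsScalarTower R A Sq := .to₁₂₄ R A B Sq
  have hunit : ∀ r : R, r ∉ p → IsUnit (algebraMap R Sq r) := by
    intro r hr
    rw [IsScalarTower.algebraMap_apply R B Sq]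
    refine IsLocalization.map_units Sq (⟨algebraMap R B r, ?_⟩ : q.primeCompl)
    intro h
    exact hr ((q.over_def p) ▸ h)
  have hsurj : Function.Surjective
      (Algebra.TensorProduct.includeRight : Sq →ₐ[R] K ⊗[R] Sq) := by
    intro x
    obtain ⟨r, hr, s, e⟩ := Ideal.Fiber.exists_smul_eq_one_tmul p x
    obtain ⟨u, hu⟩ := hunit r hr
    refine ⟨↑u⁻¹ * s, ?_⟩
    have hrK : algebraMap R K r ≠ 0 := by
      rw [Ne, Ideal.algebraMap_residueField_eq_zero]; exact hr
    have hinj : Function.Injective (fun y : K ⊗[R] Sq => r • y) := by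
      intro y z h
      have h' : algebraMap R K r • y = algebraMap R K r • z := by
        simpa only [algebraMap_smul] using h
      exact smul_right_injective _ hrK h'
    apply hinj
    change r • ((1 : K) ⊗ₜ[R] (↑u⁻¹ * s : Sq)) = r • x
    rw [e, ← TensorProduct.tmul_smul, Algebra.smul_def, ← hu, ← mul_assoc, Units.mul_inv, one_mul]
  let γ : K ⊗[R] B →ₐ[K] K ⊗[R] Sq :=
    Algebra.TensorProduct.map (.id K K) (IsScalarTower.toAlgHom R B Sq)
  let δ : K ⊗[R] A →ₐ[K] K ⊗[R] B :=
    Algebra.TensorProduct.map (.id K K) (IsScalarTower.toAlgHom R A B)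
  have hγ : γ.toRingHom.FormallySmooth := by
    algebraize [γ.toRingHom]
    have : IsScalarTower K (K ⊗[R] B) (K ⊗[R] Sq) :=
      .of_algebraMap_eq' γ.comp_algebraMap.symm
    have hloc : IsLocalization (q.primeCompl.map
        (Algebra.TensorProduct.includeRight (R := R) (A := K))) (K ⊗[R] Sq) :=
      IsLocalization.tensorProduct_tensorProduct_right R K q.primeCompl Sq (by
        ext b
        rfl)
    have : FormallyEtale (K ⊗[R] B) (K ⊗[R] Sq) :=
      .of_isLocalization (q.primeCompl.map (Algebra.TensorProduct.includeRight (R := R) (A := K)))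
    exact RingHom.formallySmooth_algebraMap.mpr inferInstance
  have hcomp : (Algebra.TensorProduct.map (AlgHom.id K K)
      (IsScalarTower.toAlgHom R A Sq)) = γ.comp δ := by
    apply Algebra.TensorProduct.ext'
    intro a b
    change (AlgHom.id K K a) ⊗ₜ[R] (IsScalarTower.toAlgHom R A Sq b) =
      (AlgHom.id K K (AlgHom.id K K a)) ⊗ₜ[R]
        (IsScalarTower.toAlgHom R B Sq (IsScalarTower.toAlgHom R A B b))
    simp [IsScalarTower.algebraMap_apply A B Sq]
  have hfs : (Algebra.TensorProduct.map (AlgHom.id K K)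
      (IsScalarTower.toAlgHom R A Sq)).toRingHom.FormallySmooth := by
    rw [hcomp]
    exact RingHom.FormallySmooth.comp hsm hγ
  exact formallySmooth_of_fiber (R := R) (K := K) (A := A) (P := B) (S := Sq) hsurj
    q.primeCompl hfs

end Chart


section Scheme

open AlgebraicGeometry CategoryTheory Limits

variable {X Y S : Scheme.{u}}

set_option backward.isDefEq.respectTransparency.types false in
/-- If `f ≫ g` is locally of finite presentation and `g` is locally of finite type, then `f` is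
locally of finite presentation (copied from `Groth.Agent.H50.lfp_of_comp_of_lft`). -/
theorem lfp_of_comp_of_lft {X Y Z : Scheme.{u}} (f : X ⟶ Y) (g : Y ⟶ Z)
    (h : LocallyOfFinitePresentation (f ≫ g)) (hg : LocallyOfFiniteType g) :
    LocallyOfFinitePresentation f := by
  wlog hZ : IsAffine Z generalizing X Y Z
  · rw [IsZariskiLocalAtTarget.iff_of_iSup_eq_top (P := @LocallyOfFinitePresentation) _
      (g.iSup_preimage_eq_top (iSup_affineOpens_eq_top Z))]
    intro U
    have H := IsZariskiLocalAtTarget.restrict h U.1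
    rw [morphismRestrict_comp] at H
    exact this _ _ H (IsZariskiLocalAtTarget.restrict hg U.1) inferInstance
  wlog hY : IsAffine Y generalizing X Y
  · rw [IsZariskiLocalAtTarget.iff_of_iSup_eq_top (P := @LocallyOfFinitePresentation) _
      (iSup_affineOpens_eq_top Y)]
    intro U
    have H := HasRingHomProperty.comp_of_isOpenImmersion @LocallyOfFinitePresentation
      (f ⁻¹ᵁ U.1).ι (f ≫ g) h
    rw [← morphismRestrict_ι_assoc] at H
    exact this _ _ H (inferInstance : LocallyOfFiniteType (U.1.ι ≫ g)) inferInstance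
  wlog hX : IsAffine X generalizing X
  · rw [IsZariskiLocalAtSource.iff_of_iSup_eq_top (P := @LocallyOfFinitePresentation) _
      (iSup_affineOpens_eq_top X)]
    intro U
    have H := HasRingHomProperty.comp_of_isOpenImmersion @LocallyOfFinitePresentation
      U.1.ι (f ≫ g) h
    rw [← Category.assoc] at H
    exact this _ H inferInstance
  rw [HasRingHomProperty.iff_of_isAffine (P := @LocallyOfFinitePresentation)] at h ⊢
  rw [HasRingHomProperty.iff_of_isAffine (P := @LocallyOfFiniteType)] at hg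
  rw [Scheme.Hom.comp_appTop, CommRingCat.hom_comp] at h
  exact RingHom.FinitePresentation.of_comp_finiteType _ h hg

theorem smooth_snd_of_fac (f : X ⟶ Y) {Y' Z : Scheme.{u}} (j : Y' ⟶ Y) (c : Z ⟶ Y')
    (h : Smooth (pullback.snd f j)) : Smooth (pullback.snd f (c ≫ j)) := by
  rw [← pullbackLeftPullbackSndIso_inv_snd_snd f j c]
  infer_instance

theorem formallySmooth_of_isPushout_of_iso {A B A' A'' B' B'' : CommRingCat.{u}}
    {φ : A ⟶ B} {a' : A ⟶ A'} {β₁ : B ⟶ B'} {β₂ : A' ⟶ B'} (h1 : IsPushout φ a' β₁ β₂)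
    {a'' : A ⟶ A''} {γ₁ : B ⟶ B''} {γ₂ : A'' ⟶ B''} (h2 : IsPushout φ a'' γ₁ γ₂)
    (e : A' ≅ A'') (he : a' ≫ e.hom = a'')
    (hs : β₂.hom.FormallySmooth) : γ₂.hom.FormallySmooth := by
  have h1' : IsPushout φ a'' β₁ (e.inv ≫ β₂) :=
    h1.of_iso (Iso.refl _) (Iso.refl _) e (Iso.refl _) (by simp) (by simpa using he)
      (by simp) (by simp)
  have hγ : γ₂ = e.inv ≫ β₂ ≫ (h1'.isoIsPushout _ _ h2).hom := by
    rw [← Category.assoc, IsPushout.inr_isoIsPushout_hom]
  rw [hγ]
  exact (RingHom.FormallySmooth.respectsIso.cancel_left_isIso e.inv _).mpr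
    ((RingHom.FormallySmooth.respectsIso.cancel_right_isIso β₂ _).mpr hs)

set_option backward.defeqAttrib.useBackward true in
set_option backward.isDefEq.respectTransparency false in
attribute [local instance] Algebra.TensorProduct.rightAlgebra in
theorem isPushout_tensor_map (R K A B : Type u) [CommRing R] [CommRing K] [Algebra R K]
    [CommRing A] [Algebra R A] [CommRing B] [Algebra R B] [Algebra A B] [IsScalarTower R A B] :
    IsPushout (CommRingCat.ofHom (algebraMap A B))
      (CommRingCat.ofHom (Algebra.TensorProduct.includeRight : A →ₐ[R] K ⊗[R] A).toRingHom)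
      (CommRingCat.ofHom (Algebra.TensorProduct.includeRight : B →ₐ[R] K ⊗[R] B).toRingHom)
      (CommRingCat.ofHom (Algebra.TensorProduct.map (AlgHom.id K K)
        (IsScalarTower.toAlgHom R A B)).toRingHom) := by
  let Ap := K ⊗[R] A
  let Bp := K ⊗[R] B
  let α : Ap →ₐ[K] Bp := Algebra.TensorProduct.map (.id _ _) (IsScalarTower.toAlgHom R A B)
  algebraize [α.toRingHom, (algebraMap B Bp).comp (algebraMap A B)]
  have : IsScalarTower K Ap Bp := IsScalarTower.of_algebraMap_eq' α.comp_algebraMap.symm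
  have : IsScalarTower A B Bp := .of_algebraMap_eq' rfl
  have : IsScalarTower A Ap Bp := .of_algebraMap_eq' rfl
  have : IsScalarTower R Ap Bp := .of_algebraMap_eq' (α.restrictScalars R).comp_algebraMap.symm
  have : Algebra.IsPushout R A K Ap := inferInstance
  have : Algebra.IsPushout R B K Bp := inferInstance
  have hpo : Algebra.IsPushout A B Ap Bp :=
    (Algebra.IsPushout.comp_iff R A K (S' := Ap) (T := B) (T' := Bp)).mp inferInstance
  exact CommRingCat.isPushout_iff_isPushout.mpr hpo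

set_option backward.isDefEq.respectTransparency false in
/-- Let `f : X ⟶ Y` be locally of finite presentation and `g : Y ⟶ S`. If `f ≫ g` is flat at `x`
and the base change of `f` to the fibre `Y_s` (`s = g (f x)`) is smooth, then `f` is smooth at `x`.
-/
theorem formallySmooth_stalkMap_of_flat_of_smooth_fiberMap (f : X ⟶ Y) (g : Y ⟶ S)
    [LocallyOfFinitePresentation f] (x : X) (s : S) (hs : g (f x) = s)
    (hflat : ((f ≫ g).stalkMap x).hom.Flat)
    (hsm : Smooth (pullback.snd f (g.fiberι s))) :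
    (f.stalkMap x).hom.FormallySmooth := by
  subst hs
  obtain ⟨W, hW, hsW, -⟩ := exists_isAffineOpen_mem_and_subset
    (x := g (f x)) (U := (⊤ : S.Opens)) trivial
  obtain ⟨V, hV, hyV, hVW⟩ := exists_isAffineOpen_mem_and_subset
    (x := f x) (U := g ⁻¹ᵁ W) hsW
  obtain ⟨U, hU, hxU, hUV⟩ := exists_isAffineOpen_mem_and_subset
    (x := x) (U := f ⁻¹ᵁ V) hyV
  have hUW : U ≤ (f ≫ g) ⁻¹ᵁ W := fun z hz => hVW (hUV hz)
  letI : Algebra Γ(S, W) Γ(Y, V) := (g.appLE W V hVW).hom.toAlgebra
  letI : Algebra Γ(Y, V) Γ(X, U) := (f.appLE V U hUV).hom.toAlgebra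
  letI : Algebra Γ(S, W) Γ(X, U) := ((f ≫ g).appLE W U hUW).hom.toAlgebra
  haveI : IsScalarTower Γ(S, W) Γ(Y, V) Γ(X, U) := .of_algebraMap_eq' (by
    change ((f ≫ g).appLE W U hUW).hom = (f.appLE V U hUV).hom.comp (g.appLE W V hVW).hom
    rw [← CommRingCat.hom_comp, Scheme.Hom.appLE_comp_appLE])
  haveI : Algebra.FinitePresentation Γ(Y, V) Γ(X, U) := f.finitePresentation_appLE hV hU hUV
  let p : Ideal Γ(S, W) := (hW.primeIdealOf ⟨g (f x), hsW⟩).asIdeal
  let q : Ideal Γ(X, U) := (hU.primeIdealOf ⟨x, hxU⟩).asIdeal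
  haveI : q.LiesOver p :=
    ⟨congr($(IsAffineOpen.comap_primeIdealOf_appLE (f := f ≫ g) W hW U hU hUW hxU).1).symm⟩
  have hfl : Module.Flat Γ(S, W) (Localization.AtPrime q) := by
    letI := Localization.AtPrime.algebraOfLiesOver p q
    have h1 : Module.Flat (Localization.AtPrime p) (Localization.AtPrime q) :=
      (Groth.Agent.H48.flat_stalkMap_iff (f := f ≫ g) W hW U hU hUW hxU).mp hflat
    exact Module.Flat.trans Γ(S, W) (Localization.AtPrime p) (Localization.AtPrime q)
  rw [formallySmooth_stalkMap_iff V hV U hU hUV hxU]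
  change Algebra.IsSmoothAt Γ(Y, V) q
  refine isSmoothAt_of_flat_of_formallySmooth_fiberMap p q hfl ?_
  let κ := p.ResidueField
  let Ā : CommRingCat.{u} := .of (κ ⊗[Γ(S, W)] Γ(Y, V))
  let Z := Spec Ā
  let a : Γ(Y, V) ⟶ Ā := CommRingCat.ofHom
    (Algebra.TensorProduct.includeRight : Γ(Y, V) →ₐ[Γ(S, W)] κ ⊗[Γ(S, W)] Γ(Y, V)).toRingHom
  let b : Z ⟶ Y := Spec.map a ≫ hV.fromSpec
  let t₂ : Spec (.of κ) ⟶ S :=
    Spec.map (CommRingCat.ofHom (algebraMap Γ(S, W) κ)) ≫ hW.fromSpec
  let z₂ : Z ⟶ Spec (.of κ) :=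
    Spec.map (CommRingCat.ofHom (algebraMap κ (κ ⊗[Γ(S, W)] Γ(Y, V))))
  have fact1 : b ≫ g = z₂ ≫ t₂ := by
    simp only [b, t₂, z₂, Category.assoc]
    rw [← IsAffineOpen.SpecMap_appLE_fromSpec g hW hV hVW, ← Spec.map_comp_assoc,
      ← Spec.map_comp_assoc]
    congr 2
    ext r
    change (Algebra.TensorProduct.includeRight : Γ(Y, V) →ₐ[Γ(S, W)] κ ⊗[Γ(S, W)] Γ(Y, V))
      (algebraMap Γ(S, W) Γ(Y, V) r) = algebraMap κ (κ ⊗[Γ(S, W)] Γ(Y, V)) (algebraMap Γ(S, W) κ r)
    rw [AlgHom.commutes, ← IsScalarTower.algebraMap_apply]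
  have hpt : t₂ (IsLocalRing.closedPoint κ) = g (f x) := by
    have h1 : (Spec.map (CommRingCat.ofHom (algebraMap Γ(S, W) κ))) (IsLocalRing.closedPoint κ) =
        hW.primeIdealOf ⟨g (f x), hsW⟩ := by
      apply PrimeSpectrum.ext
      ext r
      change algebraMap Γ(S, W) κ r ∈ IsLocalRing.maximalIdeal κ ↔ r ∈ p
      rw [IsLocalRing.maximalIdeal_eq_bot, Ideal.mem_bot, Ideal.algebraMap_residueField_eq_zero]
    change hW.fromSpec ((Spec.map (CommRingCat.ofHom (algebraMap Γ(S, W) κ)))
      (IsLocalRing.closedPoint κ)) = g (f x)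
    rw [h1, IsAffineOpen.fromSpec_primeIdealOf]
  obtain ⟨c₀, hc₀⟩ : ∃ c₀ : Spec (.of κ) ⟶ Spec (S.residueField (g (f x))),
      c₀ ≫ S.fromSpecResidueField (g (f x)) = t₂ := by
    refine ⟨Spec.map (S.descResidueField (S.stalkClosedPointTo t₂)) ≫
      Spec.map (S.residueFieldCongr hpt.symm).hom, ?_⟩
    rw [Category.assoc, Scheme.residueFieldCongr_fromSpecResidueField]
    exact Scheme.descResidueField_stalkClosedPointTo_fromSpecResidueField κ S t₂
  let c : Z ⟶ g.fiber (g (f x)) :=
    pullback.lift b (z₂ ≫ c₀) (by rw [fact1, Category.assoc, hc₀])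
  have hcb : c ≫ g.fiberι (g (f x)) = b := pullback.lift_fst _ _ _
  haveI : Smooth (pullback.snd f b) := by
    have := smooth_snd_of_fac f (g.fiberι (g (f x))) c hsm
    rwa [hcb] at this
  have hZV : (⊤ : Z.Opens) ≤ b ⁻¹ᵁ V := by
    intro z _
    have h1 : (Spec.map a) z ∈ hV.fromSpec ⁻¹ᵁ V := by
      rw [hV.fromSpec_preimage_self]; trivial
    exact h1
  have hZaff : IsAffineOpen (⊤ : Z.Opens) := isAffineOpen_top Z
  have H := IsPullback.of_hasPullback f b
  let U' : (pullback f b).Opens := pullback.fst f b ⁻¹ᵁ U ⊓ pullback.snd f b ⁻¹ᵁ ⊤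
  have hU'U : U' ≤ pullback.fst f b ⁻¹ᵁ U := inf_le_left
  have hU'Z : U' ≤ pullback.snd f b ⁻¹ᵁ ⊤ := inf_le_right
  have hU' : IsAffineOpen U' := by
    have : IsAffine V.toScheme := hV
    have : IsAffine (⊤ : Z.Opens).toScheme := hZaff
    have : IsAffine U.toScheme := hU
    exact .of_isIso (Scheme.Hom.isPullback_resLE H hZV hUV (rfl : U' = _)).isoPullback.hom
  have hpo := (isIso_pushoutSection_iff H hZV hUV (rfl : U' = _)).mp
    (isIso_pushoutSection_of_isAffineOpen H hZV hUV rfl hV hZaff hU)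
  have hsm' : ((pullback.snd f b).appLE ⊤ U' hU'Z).hom.FormallySmooth :=
    ((pullback.snd f b).smooth_appLE hZaff hU' hU'Z).formallySmooth
  have he : b.appLE V ⊤ hZV ≫ (Scheme.ΓSpecIso Ā).hom = a := by
    have h1 := IsAffineOpen.SpecMap_appLE_fromSpec b hV hZaff hZV
    rw [IsAffineOpen.fromSpec_top, Scheme.isoSpec_Spec_inv] at h1
    have h2 : Spec.map (b.appLE V ⊤ hZV) = Spec.map (Scheme.ΓSpecIso Ā).inv ≫ Spec.map a := by
      rw [← cancel_mono hV.fromSpec, h1]
      simp only [b, Category.assoc]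
    rw [← Spec.map_comp] at h2
    have h3 := Spec.map_injective h2
    rw [h3, Category.assoc, Iso.inv_hom_id, Category.comp_id]
  have hlit := isPushout_tensor_map Γ(S, W) κ Γ(Y, V) Γ(X, U)
  exact formallySmooth_of_isPushout_of_iso hpo hlit (Scheme.ΓSpecIso Ā) he hsm'


open Groth.Agent.H49.SmoothFibre in
/-- Pointwise version: `f : X ⟶ Y`, `g : Y ⟶ S`, `f'` a base change of `f` to the fibre `Y_s`.
If `f ≫ g` is flat at the image `x` of `x'` and `f'` is smooth at `x'`, then `f` is smooth at `x`. -/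
theorem mem_smoothLocus_of_flat_of_fiberMap (f : X ⟶ Y) (g : Y ⟶ S)
    [LocallyOfFinitePresentation f] (s : S) {X' : Scheme.{u}} (i : X' ⟶ X)
    (f' : X' ⟶ g.fiber s) (H : IsPullback i f' f (g.fiberι s))
    [LocallyOfFinitePresentation f'] (x' : X') (hs : g (f (i x')) = s)
    (hflat : ((f ≫ g).stalkMap (i x')).hom.Flat) (hx' : x' ∈ f'.smoothLocus) :
    i x' ∈ f.smoothLocus := by
  haveI : IsPreimmersion i :=
    MorphismProperty.of_isPullback (P := @IsPreimmersion) H.flip inferInstance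
  obtain ⟨t, ht, hte⟩ := i.isEmbedding.isInducing.isOpen_iff.mp f'.smoothLocus.2
  let U₀ : X.Opens := ⟨t, ht⟩
  have hxU : i x' ∈ U₀ := (Set.ext_iff.mp hte x').mpr hx'
  have hpre : i ⁻¹ᵁ U₀ = f'.smoothLocus := TopologicalSpace.Opens.ext hte
  let x₀ : U₀ := ⟨i x', hxU⟩
  have H' : IsPullback (i ∣_ U₀) ((i ⁻¹ᵁ U₀).ι ≫ f') (U₀.ι ≫ f) (g.fiberι s) :=
    (isPullback_morphismRestrict i U₀).paste_vert H
  haveI : Smooth ((i ⁻¹ᵁ U₀).ι ≫ f') :=
    smooth_comp_of_le_smoothLocus _ f' (fun z => hpre ▸ z.2)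
  have hsm : Smooth (pullback.snd (U₀.ι ≫ f) (g.fiberι s)) := by
    rw [← H'.isoPullback_inv_snd]
    infer_instance
  have hflat' : (((U₀.ι ≫ f) ≫ g).stalkMap x₀).hom.Flat := by
    have e1 := stalkMap_prop_comp_left RingHom.Flat.respectsIso U₀.ι (f ≫ g) x₀
    have e2 := stalkMap_prop_congr_hom (P := @RingHom.Flat)
      (Category.assoc U₀.ι f g) x₀
    exact e2.mpr (e1.mpr hflat)
  have key := formallySmooth_stalkMap_of_flat_of_smooth_fiberMap (U₀.ι ≫ f) g x₀ s hs hflat' hsm
  exact (stalkMap_prop_comp_left RingHom.FormallySmooth.respectsIso U₀.ι f x₀).mp key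

open Groth.Agent.H49.SmoothFibre in
theorem smooth_nhd_iff_mem_smoothLocus {A B : Scheme.{u}} (φ : A ⟶ B)
    [LocallyOfFinitePresentation φ] (a : A) :
    (∃ U : A.Opens, a ∈ U ∧ Smooth (U.ι ≫ φ)) ↔ a ∈ φ.smoothLocus := by
  constructor
  · rintro ⟨U, haU, hU⟩
    have h1 : (U.ι ≫ φ).smoothLocus = ⊤ := Scheme.Hom.smoothLocus_eq_top _
    rw [← Scheme.Hom.preimage_smoothLocus_eq] at h1
    have h2 : (⟨a, haU⟩ : U) ∈ U.ι ⁻¹ᵁ φ.smoothLocus := h1 ▸ trivial
    exact h2
  · intro ha
    exact ⟨φ.smoothLocus, ha, smooth_comp_of_le_smoothLocus _ φ (fun z => z.2)⟩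

/-- Global version: if `f ≫ g` is flat and all the fibre maps are smooth, then `f` is smooth. -/
theorem smooth_of_flat_of_smooth_fiberMaps (f : X ⟶ Y) (g : Y ⟶ S)
    [LocallyOfFinitePresentation f] [Flat (f ≫ g)]
    (hsm : ∀ s : S, Smooth (pullback.snd f (g.fiberι s))) : Smooth f := by
  rw [← Scheme.Hom.smoothLocus_eq_top_iff, ← top_le_iff]
  intro x _
  exact formallySmooth_stalkMap_of_flat_of_smooth_fiberMap f g x _ rfl
    (AlgebraicGeometry.Flat.stalkMap (f ≫ g) x) (hsm _)


theorem formallyUnramified_of_forall_stalkMap {A B : Scheme.{u}} (φ : A ⟶ B)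
    [LocallyOfFiniteType φ] (h : ∀ a : A, (φ.stalkMap a).hom.FormallyUnramified) :
    FormallyUnramified φ := by
  choose U hU hUφ using fun a => (Groth.Agent.H48.unramified_nhd_iff φ a).mpr (h a)
  have hsup : iSup U = ⊤ := by
    rw [eq_top_iff]
    intro a _
    exact TopologicalSpace.Opens.mem_iSup.mpr ⟨a, hU a⟩
  exact (IsZariskiLocalAtSource.iff_of_iSup_eq_top (P := @FormallyUnramified) _ hsup).mpr hUφ

open Groth.Agent.H49.SmoothFibre in
/-- If all the fibre maps of `f` (over the points of `S`) are unramified then so is `f`. -/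
theorem formallyUnramified_of_fiberMaps (f : X ⟶ Y) (g : Y ⟶ S) [LocallyOfFiniteType f]
    (h : ∀ s : S, FormallyUnramified (pullback.snd f (g.fiberι s))) : FormallyUnramified f := by
  refine formallyUnramified_of_forall_stalkMap f (fun x => ?_)
  obtain ⟨y', hy'⟩ : f x ∈ Set.range (g.fiberι (g (f x))) := by
    rw [Scheme.Hom.range_fiberι]; rfl
  obtain ⟨z, hz, -⟩ := Scheme.Pullback.exists_preimage_pullback (f := f)
    (g := g.fiberι (g (f x))) x y' hy'.symm
  haveI := h (g (f x))
  have h1 := (Groth.Agent.H48.unramified_stalk_baseChange_iff f (g.fiberι (g (f x))) z).mp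
    (AlgebraicGeometry.FormallyUnramified.stalkMap _ z)
  exact (stalkMap_prop_congr_point (P := @RingHom.FormallyUnramified) f hz).mp h1

open Groth.Agent.H49.SmoothFibre in
/-- Global étale version. -/
theorem etale_of_flat_of_etale_fiberMaps (f : X ⟶ Y) (g : Y ⟶ S)
    [LocallyOfFinitePresentation f] [Flat (f ≫ g)]
    (het : ∀ s : S, Etale (pullback.snd f (g.fiberι s))) : Etale f := by
  haveI : Smooth f := smooth_of_flat_of_smooth_fiberMaps f g
    (fun s => by haveI := het s; infer_instance)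
  haveI : FormallyUnramified f := formallyUnramified_of_fiberMaps f g
    (fun s => by haveI := het s; infer_instance)
  exact Etale.of_formallyUnramified_of_flat f

end Scheme

end Groth.Agent.H49.SmoothFibreMap
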