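import Mathlib
import Groth.Agent.H49.SmoothDescent
import Groth.Agent.H49.SmoothFibreMap
import Groth.Agent.H8.FlatBaseChange
import Groth.Agent.S0565
import Groth.Agent.S1535
import Groth.Agent.S9442

/-!
# Smoothness descends along morphisms which are flat at a point (helper49)

`g : X ⟶ Y`, `f : Y ⟶ S` locally of finite presentation, `g ≫ f` smooth at `x`, `g` flat at `x`
⟹ `f` smooth at `g x`.
-/

set_option autoImplicit false
universe u

open TensorProduct AlgebraicGeometry CategoryTheory Limits

namespace Groth.Agent.H49.SmoothFppf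

section Ring

/-- Over an algebraically closed field every field extension is geometrically reduced. -/
theorem isGeometricallyReduced_of_isAlgClosed (K F : Type u) [Field K] [IsAlgClosed K] [Field F]
    [Algebra K F] : Algebra.IsGeometricallyReduced K F := by
  rw [Algebra.isGeometricallyReduced_field_iff]
  have hb : Function.Bijective (algebraMap K (AlgebraicClosure K)) :=
    IsAlgClosed.algebraMap_bijective_of_isIntegral
  let e : K ≃ₐ[K] AlgebraicClosure K := AlgEquiv.ofBijective (Algebra.ofId K _) hb
  let e' : AlgebraicClosure K ⊗[K] F ≃ₐ[K] F :=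
    (Algebra.TensorProduct.congr e.symm AlgEquiv.refl).trans (Algebra.TensorProduct.lid K F)
  exact isReduced_of_injective e'.toAlgHom.toRingHom e'.injective

end Ring

section Scheme

open Groth.Agent.H49.SmoothFibre Groth.Agent.H49.SmoothDescent

set_option backward.isDefEq.respectTransparency false in
/-- Pointwise descent of smoothness along an arbitrary base change when `f` is flat at the
point. -/
theorem mem_smoothLocus_of_isPullback_of_flatAt {X S X' S' : Scheme.{u}} {f : X ⟶ S}
    {g : S' ⟶ S} {f' : X' ⟶ S'} {g' : X' ⟶ X} (h : IsPullback g' f' f g)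
    [LocallyOfFinitePresentation f] [LocallyOfFinitePresentation f'] (x' : X')
    (hfl : (f.stalkMap (g' x')).hom.Flat)
    (hx' : x' ∈ f'.smoothLocus) : g' x' ∈ f.smoothLocus := by
  have hcond : f (g' x') = g (f' x') := by
    rw [← Scheme.Hom.comp_apply, ← Scheme.Hom.comp_apply, h.w]
  haveI : LocallyOfFinitePresentation (f'.fiberToSpecResidueField (f' x')) :=
    lfp_fiberToSpecResidueField f' _
  haveI : LocallyOfFinitePresentation (f.fiberToSpecResidueField (g (f' x'))) :=
    lfp_fiberToSpecResidueField f _
  have h1 := (Groth.Agent.H49.SmoothFibre.mem_smoothLocus_iff_flat_and_fiber f' x'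
    (f' x') rfl (f'.asFiber x') (f'.fiberι_asFiber x')).mp hx'
  have HP := isPullback_fiberToSpecResidueField_of_isPullback h (f' x')
  haveI : Flat (Spec.map (g.residueFieldMap (f' x'))) := by
    rw [HasRingHomProperty.Spec_iff (P := @Flat)]
    algebraize [(g.residueFieldMap (f' x')).hom]
    exact inferInstanceAs (Module.Flat _ _)
  have hflatκ := AlgebraicGeometry.Flat.stalkMap (Spec.map (g.residueFieldMap (f' x')))
    ((f'.fiberToSpecResidueField (f' x')) (f'.asFiber x'))
  have h2 := mem_smoothLocus_of_isPullback_of_flat HP (f'.asFiber x') hflatκ h1.2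
  refine (Groth.Agent.H49.SmoothFibre.mem_smoothLocus_iff_flat_and_fiber f (g' x')
    (g (f' x')) hcond _ ?_).mpr ⟨hfl, h2⟩
  have e : Limits.pullback.map _ _ _ _ g' (Spec.map (g.residueFieldMap (f' x'))) g
      h.w.symm (by simp) ≫ f.fiberι (g (f' x')) =
      f'.fiberι (f' x') ≫ g' := by
    exact Limits.pullback.lift_fst _ _ _
  exact (congrArg (fun φ : f'.fiber (f' x') ⟶ X => φ (f'.asFiber x')) e).trans
    (congrArg g' (f'.fiberι_asFiber x'))

set_option backward.isDefEq.respectTransparency false in
/-- Over an algebraically closed field, a scheme locally of finite presentation is smooth at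
every point whose local ring is regular. -/
theorem mem_smoothLocus_of_isRegularLocalRing_of_isAlgClosed (K : Type u) [Field K]
    [IsAlgClosed K] {Y : Scheme.{u}} (f : Y ⟶ Spec (CommRingCat.of K))
    [LocallyOfFinitePresentation f] (y : Y)
    (hreg : IsRegularLocalRing (Y.presheaf.stalk y)) : y ∈ f.smoothLocus := by
  wlog h : ∃ A, Y = Spec A generalizing Y
  · obtain ⟨i, y₂, hy₂⟩ := Y.affineCover.exists_eq y
    subst hy₂
    have hreg' : IsRegularLocalRing ((Y.affineCover.X i).presheaf.stalk y₂) :=
      IsRegularLocalRing.of_ringEquiv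
        (asIso ((Y.affineCover.f i).stalkMap y₂)).commRingCatIsoToRingEquiv
    have key := this (Y.affineCover.f i ≫ f) y₂ hreg' ⟨_, rfl⟩
    exact (stalkMap_prop_comp_left RingHom.FormallySmooth.respectsIso
      (Y.affineCover.f i) f y₂).mp key
  obtain ⟨A, rfl⟩ := h
  obtain ⟨φ, rfl⟩ := Spec.map_surjective f
  have hfp : φ.hom.FinitePresentation :=
    (HasRingHomProperty.Spec_iff (P := @LocallyOfFinitePresentation)).mp ‹_›
  algebraize [φ.hom]
  haveI : Algebra.FiniteType K A := inferInstance
  let q : Ideal A := y.asIdeal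
  let p : Ideal K := q.comap φ.hom
  haveI : q.LiesOver p := ⟨rfl⟩
  haveI : Algebra.IsGeometricallyReduced K q.ResidueField :=
    isGeometricallyReduced_of_isAlgClosed K q.ResidueField
  have hregq : IsRegularLocalRing (Localization.AtPrime q) :=
    IsRegularLocalRing.of_ringEquiv (AlgebraicGeometry.Spec.stalkIso A y).commRingCatIsoToRingEquiv
  have hsm : Algebra.FormallySmooth K (Localization.AtPrime q) :=
    (Groth.Agent.S9442.result K A q).mpr hregq
  letI := Localization.AtPrime.algebraOfLiesOver p q
  have hsmq' : Algebra.FormallySmooth (Localization.AtPrime p) (Localization.AtPrime q) :=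
    Algebra.FormallySmooth.of_restrictScalars K _ _
  show ((Spec.map φ).stalkMap y).hom.FormallySmooth
  rw [RingHom.FormallySmooth.respectsIso.arrow_mk_iso_iff (Scheme.arrowStalkMapSpecIso φ y)]
  exact hsmq'

set_option backward.isDefEq.respectTransparency false in
/-- **Smoothness descends along a morphism flat at a point.** -/
theorem mem_smoothLocus_of_flat_of_comp {X Y S : Scheme.{u}} (f : Y ⟶ S) (g : X ⟶ Y)
    [LocallyOfFinitePresentation f] [LocallyOfFinitePresentation (g ≫ f)] (x : X)
    (hg : (g.stalkMap x).hom.Flat) (hx : x ∈ (g ≫ f).smoothLocus) : g x ∈ f.smoothLocus := by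
  -- `f` is flat at `g x`
  have hflf : (f.stalkMap (g x)).hom.Flat := by
    have h1 := flat_stalkMap_of_mem_smoothLocus (g ≫ f) x hx
    rw [Scheme.Hom.stalkMap_comp] at h1
    exact Groth.Agent.H48.ringHom_flat_of_comp_flat_local _ _ hg h1
  let s : S := f (g x)
  let K := S.residueField s
  let L := AlgebraicClosure K
  let T : Scheme.{u} := Spec (CommRingCat.of L)
  let t : T ⟶ S := Spec.map (CommRingCat.ofHom (algebraMap K L)) ≫ S.fromSpecResidueField s
  have H1 : IsPullback (pullback.fst f t) (pullback.snd f t) f t := IsPullback.of_hasPullback _ _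
  have H2 : IsPullback (pullback.fst g (pullback.fst f t)) (pullback.snd g (pullback.fst f t)) g
      (pullback.fst f t) := IsPullback.of_hasPullback _ _
  have H3 := H2.paste_vert H1
  have hpt : ∀ p : T, t p = s := fun p => by
    rw [Scheme.Hom.comp_apply]; exact Scheme.fromSpecResidueField_apply _ _
  let pt : T := IsLocalRing.closedPoint L
  obtain ⟨yb, hyb1, hyb2⟩ := Scheme.Pullback.exists_preimage_pullback (f := f) (g := t) (g x) pt
    (hpt pt).symm
  obtain ⟨xb, hxb1, hxb2⟩ := Scheme.Pullback.exists_preimage_pullback (f := g)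
    (g := pullback.fst f t) x yb hyb1.symm
  haveI : LocallyOfFinitePresentation (pullback.snd f t) := inferInstance
  haveI : LocallyOfFinitePresentation
      (pullback.snd g (pullback.fst f t) ≫ pullback.snd f t) :=
    MorphismProperty.of_isPullback (P := @LocallyOfFinitePresentation) H3 inferInstance
  -- `X̄` is smooth over `L` at `xb`
  have hxbsm : xb ∈ (pullback.snd g (pullback.fst f t) ≫ pullback.snd f t).smoothLocus :=
    mem_smoothLocus_of_isPullback H3 xb (by rw [hxb1]; exact hx)
  -- `X̄ ⟶ Ȳ` is flat at `xb`
  have hgbfl : ((pullback.snd g (pullback.fst f t)).stalkMap xb).hom.Flat :=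
    Groth.Agent.H8.flat_stalkMap_baseChange H2.flip xb (by rw [hxb1]; exact hg)
  -- the local ring of `X̄` at `xb` is regular
  have hregX : IsRegularLocalRing ((pullback g (pullback.fst f t)).presheaf.stalk xb) := by
    let U := (pullback.snd g (pullback.fst f t) ≫ pullback.snd f t).smoothLocus
    haveI hU : Smooth (U.ι ≫ (pullback.snd g (pullback.fst f t) ≫ pullback.snd f t)) :=
      smooth_comp_of_le_smoothLocus U.ι _ (fun z => z.2)
    letI : (U : Scheme.{u}).Over (Spec (CommRingCat.of L)) :=
      ⟨U.ι ≫ (pullback.snd g (pullback.fst f t) ≫ pullback.snd f t)⟩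
    haveI : Smooth ((U : Scheme.{u}) ↘ Spec (CommRingCat.of L)) := hU
    have hr := Groth.Agent.S1535.result L (U : Scheme.{u}) ⟨xb, hxbsm⟩
    exact IsRegularLocalRing.of_ringEquiv
      (asIso (U.ι.stalkMap ⟨xb, hxbsm⟩)).commRingCatIsoToRingEquiv.symm
  -- the local ring of `Ȳ` at `yb` is regular
  haveI : IsLocallyNoetherian (pullback f t) :=
    LocallyOfFiniteType.isLocallyNoetherian (pullback.snd f t)
  have hregY : IsRegularLocalRing ((pullback f t).presheaf.stalk yb) := by
    rw [← hxb2]
    algebraize [((pullback.snd g (pullback.fst f t)).stalkMap xb).hom]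
    haveI : Module.Flat ((pullback f t).presheaf.stalk (pullback.snd g (pullback.fst f t) xb))
        ((pullback g (pullback.fst f t)).presheaf.stalk xb) := hgbfl
    haveI : IsLocalHom (algebraMap
        ((pullback f t).presheaf.stalk (pullback.snd g (pullback.fst f t) xb))
        ((pullback g (pullback.fst f t)).presheaf.stalk xb)) :=
      inferInstanceAs (IsLocalHom ((pullback.snd g (pullback.fst f t)).stalkMap xb).hom)
    exact Groth.Agent.S0565.result _ ((pullback g (pullback.fst f t)).presheaf.stalk xb)
  -- `Ȳ` is smooth over `L` at `yb`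
  have hybsm : yb ∈ (pullback.snd f t).smoothLocus :=
    mem_smoothLocus_of_isRegularLocalRing_of_isAlgClosed L (pullback.snd f t) yb hregY
  have key := mem_smoothLocus_of_isPullback_of_flatAt H1 yb (by rw [hyb1]; exact hflf) hybsm
  rw [hyb1] at key
  exact key

end Scheme

end Groth.Agent.H49.SmoothFppf
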