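import Mathlib.AlgebraicGeometry.Geometrically.Basic
import Mathlib.AlgebraicGeometry.Fiber
import Mathlib.AlgebraicGeometry.Morphisms.Flat
import Mathlib.AlgebraicGeometry.Morphisms.UnderlyingMap
import Mathlib.RingTheory.TensorProduct.Nontrivial

set_option autoImplicit false
universe u

namespace Groth.Agent.H49

open AlgebraicGeometry CategoryTheory Limits

/-- Two field extensions of a field have a common field extension. -/
theorem exists_common_field_ext {k K k' : Type u} [Field k] [Field K] [Field k']
    (a : k →+* K) (b : k →+* k') :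
    ∃ (L : Type u) (_ : Field L) (c : K →+* L) (d : k' →+* L), c.comp a = d.comp b := by
  algebraize [a, b]
  have : Nontrivial (TensorProduct k K k') :=
    Algebra.TensorProduct.nontrivial_of_algebraMap_injective_of_isDomain k K k'
      (algebraMap k K).injective (algebraMap k k').injective
  obtain ⟨m, hm⟩ := Ideal.exists_maximal (TensorProduct k K k')
  let _ := Ideal.Quotient.field m
  refine ⟨_ ⧸ m, inferInstance,
    (Ideal.Quotient.mk m).comp Algebra.TensorProduct.includeLeftRingHom,
    (Ideal.Quotient.mk m).comp (Algebra.TensorProduct.includeRight (R := k) (A := K) (B := k')).toRingHom, ?_⟩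
  ext x
  simp only [RingHom.comp_apply]
  congr 1
  change (algebraMap k K x) ⊗ₜ[k] (1 : k') = (1 : K) ⊗ₜ[k] (algebraMap k k' x)
  rw [Algebra.algebraMap_eq_smul_one, Algebra.algebraMap_eq_smul_one, TensorProduct.smul_tmul]

/-- Descent of `geometrically P` along a field extension of the base, when `P` descends along
flat surjective morphisms. -/
theorem geometrically_of_isPullback_field {P : ObjectProperty Scheme.{u}}
    (hP : ∀ {W W' : Scheme.{u}} (h : W' ⟶ W), Flat h → Surjective h → P W' → P W)
    {k k' : Type u} [Field k] [Field k'] (ψ : CommRingCat.of k ⟶ CommRingCat.of k')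
    {Z Z' : Scheme.{u}} {φ : Z ⟶ Spec (.of k)} {φ' : Z' ⟶ Spec (.of k')} {p : Z' ⟶ Z}
    (sq : IsPullback p φ' φ (Spec.map ψ))
    (h : geometrically P φ') : geometrically P φ := by
  intro K _ y W fst snd hW
  obtain ⟨a, rfl⟩ := Spec.map_surjective y
  obtain ⟨L, _, c, d, hcd⟩ := exists_common_field_ext a.hom ψ.hom
  have hflat : Flat (Spec.map (CommRingCat.ofHom c)) := by
    rw [HasRingHomProperty.Spec_iff (P := @Flat)]
    algebraize [c]
    change (algebraMap K L).Flat
    rw [RingHom.flat_algebraMap_iff]
    infer_instance
  have hsurj : Surjective (Spec.map (CommRingCat.ofHom c)) := by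
    constructor
    intro x
    have : Nonempty (Spec (CommRingCat.of L)) := inferInstanceAs (Nonempty (PrimeSpectrum L))
    obtain ⟨z⟩ := this
    exact ⟨z, Subsingleton.elim (α := PrimeSpectrum K) _ _⟩
  have hflat' : Flat (pullback.fst snd (Spec.map (CommRingCat.ofHom c))) :=
    MorphismProperty.pullback_fst _ _ hflat
  have hsurj' : Surjective (pullback.fst snd (Spec.map (CommRingCat.ofHom c))) :=
    MorphismProperty.pullback_fst _ _ hsurj
  refine hP (pullback.fst snd (Spec.map (CommRingCat.ofHom c))) hflat' hsurj' ?_
  have hcomp : Spec.map (CommRingCat.ofHom c) ≫ Spec.map a =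
      Spec.map (CommRingCat.ofHom d) ≫ Spec.map ψ := by
    rw [← Spec.map_comp, ← Spec.map_comp]
    congr 1
    ext x
    exact RingHom.congr_fun hcd x
  have big : IsPullback (pullback.fst snd (Spec.map (CommRingCat.ofHom c)) ≫ fst)
      (pullback.snd snd (Spec.map (CommRingCat.ofHom c))) φ
      (Spec.map (CommRingCat.ofHom c) ≫ Spec.map a) :=
    (IsPullback.of_hasPullback snd (Spec.map (CommRingCat.ofHom c))).paste_horiz hW
  have hq : (pullback.fst snd (Spec.map (CommRingCat.ofHom c)) ≫ fst) ≫ φ =
      (pullback.snd snd (Spec.map (CommRingCat.ofHom c)) ≫ Spec.map (CommRingCat.ofHom d)) ≫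
        Spec.map ψ := by
    have hw := big.w
    simp only [Category.assoc] at hw ⊢
    rw [← hcomp]
    exact hw
  have left : IsPullback (sq.lift _ _ hq) (pullback.snd snd (Spec.map (CommRingCat.ofHom c))) φ'
      (Spec.map (CommRingCat.ofHom d)) := by
    refine IsPullback.of_right ?_ (sq.lift_snd _ _ hq) sq
    rw [sq.lift_fst, ← hcomp]
    exact big
  exact h _ _ _ left

/-- The geometric property of the fibre is insensitive to base change. -/
theorem geometrically_fibre_baseChange_iff {P : ObjectProperty Scheme.{u}}
    (hP : ∀ {W W' : Scheme.{u}} (h : W' ⟶ W), Flat h → Surjective h → P W' → P W)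
    {X Y X' Y' : Scheme.{u}} (f : X ⟶ Y) (g : Y' ⟶ Y) (f' : X' ⟶ Y') (g' : X' ⟶ X)
    (hc : IsPullback g' f' f g) (y' : Y') :
    geometrically P (f'.fiberToSpecResidueField y') ↔
      geometrically P (f.fiberToSpecResidueField (g y')) := by
  have sq := isPullback_fiberToSpecResidueField_of_isPullback hc y'
  constructor
  · intro h
    exact geometrically_of_isPullback_field (k := Y.residueField (g y')) (k' := Y'.residueField y')
      hP (g.residueFieldMap y') sq h
  · intro h
    exact MorphismProperty.of_isPullback sq h

end Groth.Agent.H49
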