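import Mathlib
import Groth.Agent.H57.FPKer

/-!
# Finite generation of the kernel of a map with flat cokernel

`A → B` of finite presentation, `u : M' → M` a map from a finite `B`-module to a finitely presented
one whose cokernel is flat over `A`: then `ker u` is a finitely generated `B`-module
(EGA IV 11.3.7, key step).
-/

set_option autoImplicit false
set_option linter.style.haveILetI false

universe u

namespace Groth.Agent.H49.KerFG

/-- If `M' --u--> M --p--> C --> 0` is exact, `M'` finite, `M` finitely presented over the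
finitely presented `A`-algebra `B`, and `C` is flat over `A`, then `ker u` is finitely generated. -/
theorem ker_fg_of_flat_coker {A B : Type u} [CommRing A] [CommRing B] [Algebra A B]
    [Algebra.FinitePresentation A B]
    {M' M C : Type u} [AddCommGroup M'] [Module B M'] [AddCommGroup M] [Module B M]
    [AddCommGroup C] [Module B C] [Module A C] [IsScalarTower A B C]
    [Module.Finite B M'] [Module.FinitePresentation B M] [Module.Flat A C]
    (u : M' →ₗ[B] M) (p : M →ₗ[B] C) (hp : Function.Surjective p)
    (hex : Function.Exact u p) : (LinearMap.ker u).FG := by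
  classical
  -- `C` is finitely presented
  have hkerp : (LinearMap.ker p).FG := by
    rw [hex.linearMap_ker_eq, LinearMap.range_eq_map]
    exact Module.Finite.fg_top.map u
  haveI : Module.FinitePresentation B C := Module.finitePresentation_of_surjective p hp hkerp
  obtain ⟨n, π, hπ, hkerπ⟩ := Groth.Agent.H57.FPKer.exists_surjective_ker_fp A B C
  haveI := hkerπ
  -- lift `π` through `p`
  obtain ⟨σ, hσ⟩ := Module.projective_lifting_property p π hp
  have hσ' : ∀ x, p (σ x) = π x := fun x => LinearMap.congr_fun hσ x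
  have hpu : ∀ m', p (u m') = 0 := fun m' => hex.apply_apply_eq_zero m'
  let Φ : ((Fin n → B) × M') →ₗ[B] M := σ.coprod u
  have hΦapply : ∀ z : (Fin n → B) × M', Φ z = σ z.1 + u z.2 := fun z =>
    LinearMap.coprod_apply σ u z
  have hΦ : Function.Surjective Φ := by
    intro m
    obtain ⟨x, hx⟩ := hπ (p m)
    have h1 : p (m - σ x) = 0 := by rw [map_sub, hσ', hx, sub_self]
    obtain ⟨m', hm'⟩ := (hex (m - σ x)).mp h1
    refine ⟨(x, m'), ?_⟩
    rw [hΦapply, hm']
    abel
  have hkerΦ : (LinearMap.ker Φ).FG := Module.FinitePresentation.fg_ker Φ hΦ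
  haveI : Module.Finite B (LinearMap.ker Φ) := Module.Finite.iff_fg.mpr hkerΦ
  -- the projection `ker Φ → ker π`
  have hρmem : ∀ z : LinearMap.ker Φ, (z : (Fin n → B) × M').1 ∈ LinearMap.ker π := by
    intro z
    rw [LinearMap.mem_ker, ← hσ']
    have hz : σ (z : (Fin n → B) × M').1 + u (z : (Fin n → B) × M').2 = 0 := by
      rw [← hΦapply]
      exact z.2
    have : σ (z : (Fin n → B) × M').1 = - u (z : (Fin n → B) × M').2 :=
      eq_neg_of_add_eq_zero_left hz
    rw [this, map_neg, hpu, neg_zero]
  let ρ : LinearMap.ker Φ →ₗ[B] LinearMap.ker π :=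
    LinearMap.codRestrict (LinearMap.ker π)
      ((LinearMap.fst B (Fin n → B) M').comp (LinearMap.ker Φ).subtype) hρmem
  have hρapply : ∀ z : LinearMap.ker Φ, ((ρ z : LinearMap.ker π) : Fin n → B) =
      (z : (Fin n → B) × M').1 := fun z => rfl
  have hρ : Function.Surjective ρ := by
    rintro ⟨x, hx⟩
    rw [LinearMap.mem_ker] at hx
    have h1 : p (σ x) = 0 := by rw [hσ', hx]
    obtain ⟨m', hm'⟩ := (hex (σ x)).mp h1
    have hmem : ((x, -m') : (Fin n → B) × M') ∈ LinearMap.ker Φ := by
      rw [LinearMap.mem_ker, hΦapply]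
      change σ x + u (-m') = 0
      rw [map_neg, hm', add_neg_cancel]
    refine ⟨⟨(x, -m'), hmem⟩, ?_⟩
    apply Subtype.ext
    rfl
  have hkerρ : (LinearMap.ker ρ).FG := Module.FinitePresentation.fg_ker ρ hρ
  -- `ker u` is the image of `ker ρ`
  let ψ : LinearMap.ker Φ →ₗ[B] M' :=
    (LinearMap.snd B (Fin n → B) M').comp (LinearMap.ker Φ).subtype
  have hψapply : ∀ z : LinearMap.ker Φ, ψ z = (z : (Fin n → B) × M').2 := fun z => rfl
  have heq : LinearMap.ker u = (LinearMap.ker ρ).map ψ := by
    apply le_antisymm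
    · intro m' hm'
      rw [LinearMap.mem_ker] at hm'
      have hmem : ((0, m') : (Fin n → B) × M') ∈ LinearMap.ker Φ := by
        rw [LinearMap.mem_ker, hΦapply]
        change σ 0 + u m' = 0
        rw [map_zero, hm', add_zero]
      refine ⟨⟨(0, m'), hmem⟩, ?_, rfl⟩
      rw [SetLike.mem_coe, LinearMap.mem_ker]
      apply Subtype.ext
      rfl
    · rintro _ ⟨z, hz, rfl⟩
      rw [SetLike.mem_coe, LinearMap.mem_ker] at hz
      have h1 : (z : (Fin n → B) × M').1 = 0 := by
        rw [← hρapply, hz]
        rfl
      have h2 : σ (z : (Fin n → B) × M').1 + u (z : (Fin n → B) × M').2 = 0 := by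
        rw [← hΦapply]
        exact z.2
      rw [LinearMap.mem_ker, hψapply]
      rw [h1, map_zero, zero_add] at h2
      exact h2
  rw [heq]
  exact hkerρ.map ψ

/-- A finitely generated module whose localization at a prime vanishes is killed by an element
outside the prime. -/
theorem exists_notMem_forall_smul_eq_zero {B N : Type u} [CommRing B] [AddCommGroup N] [Module B N]
    [Module.Finite B N] (q : Ideal B) [hq : q.IsPrime]
    (h : ∀ m : N, ∃ r ∉ q, r • m = 0) : ∃ a ∉ q, ∀ m : N, a • m = 0 := by
  have h1 : (⟨q, hq⟩ : PrimeSpectrum B) ∉ Module.support B N :=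
    Module.notMem_support_iff'.mpr h
  rw [Module.mem_support_iff_of_finite] at h1
  obtain ⟨a, ha, haq⟩ := SetLike.not_le_iff_exists.mp h1
  exact ⟨a, haq, fun m => Module.mem_annihilator.mp ha m⟩

end Groth.Agent.H49.KerFG
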