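import Mathlib
import Groth.Agent.H49.KerFG
import Groth.Agent.H22.QCohH1
import Groth.Agent.H8.CohKerCoker
import Groth.Agent.H8.StalkExact
import Groth.Agent.H8.FlatAffine
import Groth.Agent.H8.FinType
import Groth.Agent.H8.FPAffine
import Groth.Agent.S4863

/-!
# Openness of the locus where a map of finitely presented modules is injective with flat cokernel
(EGA IV 11.3.7, statement of S4851)
-/

set_option autoImplicit false
set_option linter.style.haveILetI false

universe u

open CategoryTheory CategoryTheory.Limits AlgebraicGeometry TopologicalSpace Opposite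

namespace Groth.Agent.H49.InjCoker

variable {X : Scheme.{u}} {F' F : X.Modules} (u : F' ⟶ F)

/-- The short complex `im u → F → coker u`. -/
noncomputable def S1 : ShortComplex X.Modules :=
  ShortComplex.mk (Abelian.image.ι u) (cokernel.π u) (kernel.condition (cokernel.π u))

theorem S1_shortExact : (S1 u).ShortExact where
  exact := ShortComplex.exact_of_f_is_kernel _ (kernelIsKernel (cokernel.π u))
  mono_f := inferInstanceAs (Mono (Abelian.image.ι u))
  epi_g := inferInstanceAs (Epi (cokernel.π u))

theorem S2_zero : kernel.ι u ≫ Abelian.factorThruImage u = 0 := by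
  rw [← cancel_mono (Abelian.image.ι u), Category.assoc, Abelian.image.fac, kernel.condition,
    zero_comp]

/-- The short complex `ker u → F' → im u`. -/
noncomputable def S2 : ShortComplex X.Modules :=
  ShortComplex.mk (kernel.ι u) (Abelian.factorThruImage u) (S2_zero u)

theorem S2_shortExact : (S2 u).ShortExact where
  exact := ShortComplex.exact_of_f_is_kernel _
    (isKernelOfComp (Abelian.image.ι u) u (kernelIsKernel u) (S2_zero u) (Abelian.image.fac u))
  mono_f := inferInstanceAs (Mono (kernel.ι u))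
  epi_g := inferInstanceAs (Epi (Abelian.factorThruImage u))

/-- The short complex `ker u → F' → F`. -/
noncomputable def S0 : ShortComplex X.Modules :=
  ShortComplex.mk (kernel.ι u) u (kernel.condition u)

theorem S0_exact : (S0 u).Exact :=
  ShortComplex.exact_of_f_is_kernel _ (kernelIsKernel u)

variable [F'.IsQuasicoherent] [F.IsQuasicoherent]

instance : (kernel u).IsQuasicoherent := Groth.Agent.H22.QCohLimits.isQuasicoherent_kernel u

instance : (cokernel u).IsQuasicoherent := Groth.Agent.H8.isQuasicoherent_cokernel u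

instance : (Abelian.image u).IsQuasicoherent :=
  Groth.Agent.H22.QCohLimits.isQuasicoherent_kernel (cokernel.π u)

variable {U : X.Opens} (hU : IsAffineOpen U)

include hU in
theorem app_π_surjective : Function.Surjective ((cokernel.π u).app U) := by
  haveI : (S1 u).X₁.IsQuasicoherent := inferInstanceAs (Abelian.image u).IsQuasicoherent
  exact Groth.Agent.H22.QCohH1.app_surjective (S1 u) (S1_shortExact u) hU

include hU in
theorem exists_app_eq_of_app_π_eq_zero (y : Γ(F, U)) (hy : (cokernel.π u).app U y = 0) :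
    ∃ m' : Γ(F', U), u.app U m' = y := by
  haveI : Mono (S1 u).f := (S1_shortExact u).mono_f
  obtain ⟨k, hk⟩ := Groth.Agent.H8.exists_app_eq_of_exact (S1 u) (S1_shortExact u).exact U y hy
  haveI : (S2 u).X₁.IsQuasicoherent := inferInstanceAs (kernel u).IsQuasicoherent
  obtain ⟨m', hm'⟩ := Groth.Agent.H22.QCohH1.app_surjective (S2 u) (S2_shortExact u) hU k
  refine ⟨m', ?_⟩
  have hk' : (Abelian.image.ι u).app U k = y := hk
  have hm'' : (Abelian.factorThruImage u).app U m' = k := hm'
  rw [← hk', ← hm'']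
  have hfac : Abelian.factorThruImage u ≫ Abelian.image.ι u = u := Abelian.image.fac u
  conv_lhs => rw [← hfac]
  rfl

omit [F'.IsQuasicoherent] [F.IsQuasicoherent] in
theorem app_π_app (m' : Γ(F', U)) : (cokernel.π u).app U (u.app U m') = 0 := by
  have h0 : (u ≫ cokernel.π u).app U = 0 := by rw [cokernel.condition]; rfl
  exact congr($h0 m')

omit [F'.IsQuasicoherent] [F.IsQuasicoherent] in
theorem exists_kernel_app_eq (m' : Γ(F', U)) (hm' : u.app U m' = 0) :
    ∃ k : Γ(kernel u, U), (kernel.ι u).app U k = m' := by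
  haveI : Mono (S0 u).f := inferInstanceAs (Mono (kernel.ι u))
  exact Groth.Agent.H8.exists_app_eq_of_exact (S0 u) (S0_exact u) U m' hm'

omit [F'.IsQuasicoherent] [F.IsQuasicoherent] in
theorem app_app_kernel (k : Γ(kernel u, U)) : u.app U ((kernel.ι u).app U k) = 0 :=
  Groth.Agent.H8.app_comp_eq_zero (S0 u) U k

omit [F'.IsQuasicoherent] [F.IsQuasicoherent] in
theorem kernel_app_injective : Function.Injective ((kernel.ι u).app U) :=
  Groth.Agent.H8.app_injective_of_mono (kernel.ι u) U

include hU in
/-- Exactness of `Γ(F', U) → Γ(F, U) → Γ(coker u, U)` on an affine open. -/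
theorem exact_appₗ : Function.Exact (Groth.Agent.H8.appₗ u U)
    (Groth.Agent.H8.appₗ (cokernel.π u) U) := by
  intro y
  constructor
  · intro hy
    obtain ⟨m', hm'⟩ := exists_app_eq_of_app_π_eq_zero u hU y hy
    exact ⟨m', hm'⟩
  · rintro ⟨m', rfl⟩
    exact app_π_app u m'

include hU in
/-- The cokernel of a map of finitely presented quasi-coherent modules has finitely presented
sections over affine opens. -/
theorem finitePresentation_sections_cokernel
    [Module.Finite Γ(X, U) Γ(F', U)] [Module.FinitePresentation Γ(X, U) Γ(F, U)] :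
    Module.FinitePresentation Γ(X, U) Γ(cokernel u, U) := by
  refine Module.finitePresentation_of_surjective (Groth.Agent.H8.appₗ (cokernel.π u) U)
    (app_π_surjective u hU) ?_
  rw [(exact_appₗ u hU).linearMap_ker_eq, LinearMap.range_eq_map]
  exact Module.Finite.fg_top.map _

/-- The cokernel of a map of finitely presented quasi-coherent modules is finitely presented. -/
theorem isFP_cokernel (hF : CohB1.IsFP F) (hF' : CohB1.IsFP F') : CohB1.IsFP (cokernel u) := by
  haveI : SheafOfModules.IsFinitePresentation (R := X.ringCatSheaf) F := hF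
  haveI : SheafOfModules.IsFinitePresentation (R := X.ringCatSheaf) F' := hF'
  refine Groth.Agent.H8.isFinitePresentation_of_forall_affine_finitePresentation (cokernel u) ?_
  intro W
  haveI : Module.FinitePresentation Γ(X, (W : X.Opens)) Γ(F, (W : X.Opens)) :=
    Groth.Agent.H8.finitePresentation_sections_of_isAffineOpen F W.2
  haveI : Module.FinitePresentation Γ(X, (W : X.Opens)) Γ(F', (W : X.Opens)) :=
    Groth.Agent.H8.finitePresentation_sections_of_isAffineOpen F' W.2
  exact finitePresentation_sections_cokernel u W.2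

variable {Y : Scheme.{u}}

set_option maxHeartbeats 800000 in
/-- **EGA IV 11.3.7**: the locus where `u_x` is injective and `Coker u` is `f`-flat is open
(statement of S4851). -/
theorem isOpen_setOf_injective_and_coker_flat (f : X ⟶ Y) [LocallyOfFinitePresentation f]
    (hF : CohB1.IsFP F) (hF' : CohB1.IsFP F') :
    IsOpen {x : X | Function.Injective ((TopCat.Presheaf.stalkFunctor Ab x).map
        (Scheme.Modules.Hom.mapPresheaf u)) ∧ FlatMod.IsFlatOverAt f (cokernel u) x} := by
  have hCfp : CohB1.IsFP (cokernel u) := isFP_cokernel u hF hF'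
  haveI : Coh.IsQCoh (cokernel u) := inferInstanceAs (cokernel u).IsQuasicoherent
  have hWopen : IsOpen {x : X | FlatMod.IsFlatOverAt f (cokernel u) x} :=
    Groth.Agent.S4863.result f (cokernel u) hCfp
  rw [isOpen_iff_forall_mem_open]
  rintro x₀ ⟨hinj, hfl⟩
  let W : X.Opens := ⟨_, hWopen⟩
  obtain ⟨V, hV, hx₀V, -⟩ :=
    exists_isAffineOpen_mem_and_subset (x := f x₀) (U := (⊤ : Y.Opens)) trivial
  obtain ⟨U, hU, hx₀U, hUle⟩ :=
    exists_isAffineOpen_mem_and_subset (x := x₀) (U := f ⁻¹ᵁ V ⊓ W) ⟨hx₀V, hfl⟩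
  have hUV : U ≤ f ⁻¹ᵁ V := hUle.trans inf_le_left
  have hUW : ∀ x ∈ U, FlatMod.IsFlatOverAt f (cokernel u) x := fun x hx => (hUle hx).2
  letI : Algebra Γ(Y, V) Γ(X, U) := (f.appLE V U hUV).hom.toAlgebra
  haveI : Algebra.FinitePresentation Γ(Y, V) Γ(X, U) := f.finitePresentation_appLE hV hU hUV
  letI : Module Γ(Y, V) Γ(cokernel u, U) := Module.compHom _ (f.appLE V U hUV).hom
  haveI : IsScalarTower Γ(Y, V) Γ(X, U) Γ(cokernel u, U) :=
    IsScalarTower.of_algebraMap_smul fun r m => rfl
  haveI : Module.Flat Γ(Y, V) Γ(cokernel u, U) :=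
    Groth.Agent.H8.flat_sections_of_isFlatOverAt f (cokernel u) hU hV hUV hUW
  haveI : SheafOfModules.IsFinitePresentation (R := X.ringCatSheaf) F := hF
  haveI : SheafOfModules.IsFinitePresentation (R := X.ringCatSheaf) F' := hF'
  haveI : Module.FinitePresentation Γ(X, U) Γ(F, U) :=
    Groth.Agent.H8.finitePresentation_sections_of_isAffineOpen F hU
  haveI : Module.FinitePresentation Γ(X, U) Γ(F', U) :=
    Groth.Agent.H8.finitePresentation_sections_of_isAffineOpen F' hU
  have hfg : (LinearMap.ker (Groth.Agent.H8.appₗ u U)).FG :=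
    Groth.Agent.H49.KerFG.ker_fg_of_flat_coker (A := Γ(Y, V)) (Groth.Agent.H8.appₗ u U)
      (Groth.Agent.H8.appₗ (cokernel.π u) U) (app_π_surjective u hU) (exact_appₗ u hU)
  haveI : Module.Finite Γ(X, U) (LinearMap.ker (Groth.Agent.H8.appₗ u U)) :=
    Module.Finite.iff_fg.mpr hfg
  have hK₀ : Subsingleton ((kernel u).presheaf.stalk x₀) :=
    (Groth.Agent.H8.stalkMap_injective_iff u x₀).mp hinj
  have hkill : ∀ m : LinearMap.ker (Groth.Agent.H8.appₗ u U),
      ∃ r ∉ (hU.primeIdealOf ⟨x₀, hx₀U⟩).asIdeal, r • m = 0 := by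
    rintro ⟨m', hm'⟩
    obtain ⟨k, hk⟩ := exists_kernel_app_eq u m' hm'
    have hgerm : (kernel u).presheaf.germ U x₀ hx₀U k = 0 := Subsingleton.elim _ _
    obtain ⟨a, hxa, hak⟩ :=
      Groth.Agent.H8.exists_smul_eq_zero_of_germ_eq_zero (kernel u) hU x₀ hx₀U k hgerm
    refine ⟨a, (Groth.Agent.H8.mem_basicOpen_iff_notMem_primeIdealOf hU x₀ hx₀U a).mp hxa, ?_⟩
    apply Subtype.ext
    change a • m' = 0
    rw [← hk, ← Scheme.Modules.Hom.app_smul, hak, map_zero]
  obtain ⟨a, haq, ha⟩ := Groth.Agent.H49.KerFG.exists_notMem_forall_smul_eq_zero _ hkill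
  have hx₀a : x₀ ∈ X.basicOpen a :=
    (Groth.Agent.H8.mem_basicOpen_iff_notMem_primeIdealOf hU x₀ hx₀U a).mpr haq
  refine ⟨X.basicOpen a, ?_, (X.basicOpen a).2, hx₀a⟩
  intro x hxa
  have hxU : x ∈ U := X.basicOpen_le a hxa
  refine ⟨?_, hUW x hxU⟩
  change Function.Injective (Groth.Agent.H8.stalkMap u x)
  rw [Groth.Agent.H8.stalkMap_injective_iff, Groth.Agent.H8.subsingleton_stalk_iff]
  intro t
  obtain ⟨b, hxb, k, hk⟩ := Groth.Agent.H8.exists_germ_smul_eq_germ (kernel u) hU x hxU t
  have hak : a • k = 0 := by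
    apply kernel_app_injective u
    rw [Scheme.Modules.Hom.app_smul, map_zero]
    have := ha ⟨(kernel.ι u).app U k, app_app_kernel u k⟩
    exact congrArg Subtype.val this
  have hgk : (kernel u).presheaf.germ U x hxU k = 0 := by
    have h1 := congrArg ((kernel u).presheaf.germ U x hxU) hak
    rw [Groth.Agent.H8.germ_smul, map_zero] at h1
    have hunit : IsUnit (X.presheaf.germ U x hxU a) := (Scheme.mem_basicOpen _ _ _ hxU).mp hxa
    exact hunit.smul_eq_zero.mp h1
  rw [hgk] at hk
  have hunit : IsUnit (X.presheaf.germ U x hxU b) := (Scheme.mem_basicOpen _ _ _ hxU).mp hxb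
  exact hunit.smul_eq_zero.mp hk

end Groth.Agent.H49.InjCoker
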