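import Mathlib
import Groth.Prelude.Def_CAlgX

/-!
# Fibrewise flatness criterion: from "essentially of finite presentation" to
"essentially of finite type" (Stacks 00R8), on top of the local criterion S2106 (`Core`).
-/

set_option autoImplicit false
set_option linter.style.haveILetI false

universe u

open TensorProduct

namespace Groth.Agent.H49.FibreCrit

/-- The statement of S2106 (local fibre criterion, both algebras ess. of finite presentation). -/
def Core : Prop :=
  ∀ {R S S' M : Type u} [CommRing R] [CommRing S] [CommRing S']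
    [IsLocalRing R] [IsLocalRing S] [IsLocalRing S'] [Algebra R S] [Algebra S S'] [Algebra R S']
    [IsScalarTower R S S'] [IsLocalHom (algebraMap R S)] [IsLocalHom (algebraMap S S')]
    (_ : CAlgX.IsEssFinitePresentation R S) (_ : CAlgX.IsEssFinitePresentation R S')
    [AddCommGroup M] [Module S' M] [Module S M] [Module R M] [IsScalarTower S S' M]
    [IsScalarTower R S' M] [IsScalarTower R S M] [Module.FinitePresentation S' M] [Nontrivial M]
    [Module.Flat R M]
    (_ : Module.Flat (S ⧸ (IsLocalRing.maximalIdeal R).map (algebraMap R S))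
      (M ⧸ (IsLocalRing.maximalIdeal R).map (algebraMap R S) • (⊤ : Submodule S M))),
    Module.Flat R S ∧ Module.Flat S M

/-- Flatness is insensitive to bijective algebra maps. -/
theorem flat_iff_of_bijective {A₁ A₂ N : Type*} [CommRing A₁] [CommRing A₂] [Algebra A₁ A₂]
    [AddCommGroup N] [Module A₁ N] [Module A₂ N] [IsScalarTower A₁ A₂ N]
    (h : Function.Bijective (algebraMap A₁ A₂)) : Module.Flat A₂ N ↔ Module.Flat A₁ N := by
  haveI : IsLocalization.Away (1 : A₁) A₂ :=
    IsLocalization.away_of_isUnit_of_bijective A₂ isUnit_one h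
  exact Module.flat_iff_of_isLocalization A₂ (Submonoid.powers (1 : A₁)) N

/-- A faithfully flat module is faithful. -/
theorem eq_zero_of_forall_smul_eq_zero {A N : Type*} [CommRing A] [AddCommGroup N] [Module A N]
    [Module.FaithfullyFlat A N] (x : A) (hx : ∀ n : N, x • n = 0) : x = 0 := by
  have h0 : (x • (LinearMap.id : A →ₗ[A] A)) = 0 := by
    refine (Module.FaithfullyFlat.zero_iff_lTensor_zero A N (x • (LinearMap.id : A →ₗ[A] A))).mpr ?_
    rw [LinearMap.lTensor_smul, LinearMap.lTensor_id]
    refine TensorProduct.ext' fun m s => ?_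
    rw [LinearMap.smul_apply, LinearMap.id_apply, LinearMap.zero_apply,
      TensorProduct.smul_tmul', hx, TensorProduct.zero_tmul]
  have := LinearMap.congr_fun h0 1
  simpa using this

/-- Transfer of the fibre flatness hypothesis along a surjection `S₁ → S` whose kernel lies in
`I₁`. -/
theorem flat_quot_of_surjective {S₁ S M : Type u} [CommRing S₁] [CommRing S] [Algebra S₁ S]
    [AddCommGroup M] [Module S M] [Module S₁ M] [IsScalarTower S₁ S M]
    (hψ : Function.Surjective (algebraMap S₁ S)) (I₁ : Ideal S₁)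
    (hker : RingHom.ker (algebraMap S₁ S) ≤ I₁) (I : Ideal S)
    (hI : I₁.map (algebraMap S₁ S) = I)
    (h : Module.Flat (S ⧸ I) (M ⧸ I • (⊤ : Submodule S M))) :
    Module.Flat (S₁ ⧸ I₁) (M ⧸ I₁ • (⊤ : Submodule S₁ M)) := by
  subst hI
  set I := I₁.map (algebraMap S₁ S) with hIdef
  -- the two submodules have the same elements
  have hmem : ∀ m : M, m ∈ I₁ • (⊤ : Submodule S₁ M) ↔ m ∈ I • (⊤ : Submodule S M) := by
    intro m
    constructor
    · intro hm
      refine Submodule.smul_induction_on hm ?_ ?_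
      · intro r hr n _
        rw [← algebraMap_smul S r n]
        exact Submodule.smul_mem_smul (Ideal.mem_map_of_mem _ hr) trivial
      · intro x y hx hy
        exact add_mem hx hy
    · intro hm
      refine Submodule.smul_induction_on hm ?_ ?_
      · intro r hr n _
        obtain ⟨r₁, hr₁, rfl⟩ := (Ideal.mem_map_iff_of_surjective _ hψ).mp hr
        rw [algebraMap_smul S r₁ n]
        exact Submodule.smul_mem_smul hr₁ trivial
      · intro x y hx hy
        exact add_mem hx hy
  -- the quotient rings are isomorphic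
  let ψbar : S₁ ⧸ I₁ →+* S ⧸ I := Ideal.quotientMap I (algebraMap S₁ S) Ideal.le_comap_map
  have hψbar : Function.Bijective ψbar := by
    constructor
    · refine Ideal.quotientMap_injective' ?_
      rw [hIdef, Ideal.comap_map_of_surjective _ hψ]
      exact sup_le le_rfl hker
    · exact Ideal.quotientMap_surjective hψ
  letI : Algebra (S₁ ⧸ I₁) (S ⧸ I) := ψbar.toAlgebra
  haveI : IsScalarTower S (S ⧸ I) (M ⧸ I • (⊤ : Submodule S M)) :=
    (Module.isTorsionBySet_quotient_ideal_smul M I).isScalarTower
  haveI : IsScalarTower S₁ (S₁ ⧸ I₁) (M ⧸ I₁ • (⊤ : Submodule S₁ M)) :=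
    (Module.isTorsionBySet_quotient_ideal_smul M I₁).isScalarTower
  letI : Module (S₁ ⧸ I₁) (M ⧸ I • (⊤ : Submodule S M)) :=
    Module.compHom _ (algebraMap (S₁ ⧸ I₁) (S ⧸ I))
  haveI : IsScalarTower (S₁ ⧸ I₁) (S ⧸ I) (M ⧸ I • (⊤ : Submodule S M)) :=
    IsScalarTower.of_algebraMap_smul fun r m => rfl
  haveI : IsScalarTower S₁ (S₁ ⧸ I₁) (M ⧸ I • (⊤ : Submodule S M)) := by
    refine IsScalarTower.of_algebraMap_smul fun r m => ?_
    change ψbar (Ideal.Quotient.mk I₁ r) • m = r • m
    rw [Ideal.quotientMap_mk]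
    change algebraMap S (S ⧸ I) (algebraMap S₁ S r) • m = r • m
    rw [algebraMap_smul, algebraMap_smul]
  have h1 : Module.Flat (S₁ ⧸ I₁) (M ⧸ I • (⊤ : Submodule S M)) :=
    (flat_iff_of_bijective hψbar).mp h
  -- the `S₁`-linear comparison map
  let Φ₀ : (M ⧸ I₁ • (⊤ : Submodule S₁ M)) →ₗ[S₁] (M ⧸ I • (⊤ : Submodule S M)) :=
    Submodule.liftQ _ ((Submodule.mkQ (I • (⊤ : Submodule S M))).restrictScalars S₁) (by
      intro m hm
      rw [LinearMap.mem_ker]
      change Submodule.Quotient.mk m = 0
      rw [Submodule.Quotient.mk_eq_zero]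
      exact (hmem m).mp hm)
  have hΦ₀ : Function.Bijective Φ₀ := by
    constructor
    · rw [← LinearMap.ker_eq_bot, Submodule.ker_liftQ_eq_bot']
      apply le_antisymm
      · intro m hm
        rw [LinearMap.mem_ker]
        change Submodule.Quotient.mk m = 0
        rw [Submodule.Quotient.mk_eq_zero]
        exact (hmem m).mp hm
      · intro m hm
        rw [LinearMap.mem_ker] at hm
        change Submodule.Quotient.mk m = 0 at hm
        rw [Submodule.Quotient.mk_eq_zero] at hm
        exact (hmem m).mpr hm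
    · intro y
      obtain ⟨m, rfl⟩ := Submodule.Quotient.mk_surjective _ y
      exact ⟨Submodule.Quotient.mk m, rfl⟩
  let Φ : (M ⧸ I₁ • (⊤ : Submodule S₁ M)) ≃ₗ[S₁ ⧸ I₁] (M ⧸ I • (⊤ : Submodule S M)) :=
    (LinearEquiv.ofBijective Φ₀ hΦ₀).extendScalarsOfSurjective Ideal.Quotient.mk_surjective
  exact Module.Flat.of_linearEquiv Φ


set_option maxHeartbeats 1600000 in
/-- **Fibre criterion with `S` only essentially of finite type over `R`** (Stacks 00R8),
deduced from the essentially-finitely-presented case `Core`. -/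
theorem eft (H : Core.{u}) {R S S' M : Type u} [CommRing R] [CommRing S] [CommRing S']
    [IsLocalRing R] [IsLocalRing S] [IsLocalRing S'] [Algebra R S] [Algebra S S'] [Algebra R S']
    [IsScalarTower R S S'] [IsLocalHom (algebraMap R S)] [IsLocalHom (algebraMap S S')]
    (S₀ : Type u) [CommRing S₀] [Algebra R S₀] [Algebra S₀ S] [IsScalarTower R S₀ S]
    [Algebra.FiniteType R S₀] (T : Submonoid S₀) [IsLocalization T S]
    (hS' : CAlgX.IsEssFinitePresentation R S')
    [AddCommGroup M] [Module S' M] [Module S M] [Module R M] [IsScalarTower S S' M]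
    [IsScalarTower R S' M] [IsScalarTower R S M] [Module.FinitePresentation S' M] [Nontrivial M]
    [Module.Flat R M]
    (hfib : Module.Flat (S ⧸ (IsLocalRing.maximalIdeal R).map (algebraMap R S))
      (M ⧸ (IsLocalRing.maximalIdeal R).map (algebraMap R S) • (⊤ : Submodule S M))) :
    Module.Flat R S ∧ Module.Flat S M := by
  classical
  -- Step 1: `S` is the localization of `S₀` at the prime `q₀`.
  let q₀ : Ideal S₀ := (IsLocalRing.maximalIdeal S).comap (algebraMap S₀ S)
  haveI hq₀ : q₀.IsPrime := Ideal.comap_isPrime _ _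
  have hloc : IsLocalization q₀.primeCompl S := by
    refine IsLocalization.of_le (M := T) (S := S) q₀.primeCompl ?_ ?_
    · intro t ht hq
      exact (IsLocalRing.mem_maximalIdeal _).mp hq (IsLocalization.map_units S ⟨t, ht⟩)
    · intro r hr
      by_contra h
      exact hr ((IsLocalRing.mem_maximalIdeal _).mpr h)
  -- Step 2: a presentation of `S₀` and a finitely generated subideal with the same fibre.
  obtain ⟨n, f, hf⟩ := Algebra.FiniteType.iff_quotient_mvPolynomial''.mp
    (inferInstance : Algebra.FiniteType R S₀)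
  set 𝔪 := IsLocalRing.maximalIdeal R with h𝔪
  let 𝔪P : Ideal (MvPolynomial (Fin n) R) := Ideal.map MvPolynomial.C 𝔪
  haveI : 𝔪.IsMaximal := IsLocalRing.maximalIdeal.isMaximal R
  letI : Field (R ⧸ 𝔪) := Ideal.Quotient.field 𝔪
  haveI : IsNoetherianRing (MvPolynomial (Fin n) R ⧸ 𝔪P) :=
    isNoetherianRing_of_ringEquiv _
      (MvPolynomial.quotientEquivQuotientMvPolynomial (σ := Fin n) 𝔪).toRingEquiv
  let J : Ideal (MvPolynomial (Fin n) R) := RingHom.ker f.toRingHom
  let mkP := Ideal.Quotient.mk 𝔪P
  have hJfg : (Submodule.span (MvPolynomial (Fin n) R ⧸ 𝔪P) (mkP '' (J : Set _))).FG :=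
    IsNoetherian.noetherian _
  obtain ⟨s', hs'sub, hs'eq⟩ := (Submodule.fg_span_iff_fg_span_finset_subset _).mp hJfg
  obtain ⟨t, htJ, hts'⟩ := Finset.subset_set_image_iff.mp hs'sub
  let J₁ : Ideal (MvPolynomial (Fin n) R) := Ideal.span (t : Set _)
  have hJ₁J : J₁ ≤ J := Ideal.span_le.mpr htJ
  have hJ₁fg : J₁.FG := ⟨t, rfl⟩
  have hmap : J.map mkP = J₁.map mkP := by
    rw [Ideal.map_span]
    change Ideal.span (mkP '' (J : Set _)) = _
    change Submodule.span _ (mkP '' (J : Set _)) = _
    rw [hs'eq, ← hts', Finset.coe_image]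
  have hJle : J ≤ J₁ ⊔ 𝔪P := by
    intro j hj
    have h1 : mkP j ∈ J₁.map mkP := hmap ▸ Ideal.mem_map_of_mem mkP hj
    obtain ⟨j₁, hj₁, hj₁eq⟩ :=
      (Ideal.mem_map_iff_of_surjective mkP Ideal.Quotient.mk_surjective).mp h1
    have h2 : j - j₁ ∈ 𝔪P := by
      rw [← Ideal.Quotient.eq]; exact hj₁eq.symm
    have hj' : j = j₁ + (j - j₁) := by ring
    rw [hj']
    exact Ideal.add_mem _ (Ideal.mem_sup_left hj₁) (Ideal.mem_sup_right h2)
  -- Step 3: the finitely presented algebra `P ⧸ J₁` and its local ring `S₁`.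
  haveI : Algebra.FinitePresentation R (MvPolynomial (Fin n) R ⧸ J₁) :=
    Algebra.FinitePresentation.quotient hJ₁fg
  let π : (MvPolynomial (Fin n) R ⧸ J₁) →ₐ[R] S₀ :=
    Ideal.Quotient.liftₐ J₁ f (fun a ha => hJ₁J ha)
  have hπ : Function.Surjective π := fun s => by
    obtain ⟨p, hp⟩ := hf s
    exact ⟨Ideal.Quotient.mk J₁ p, hp⟩
  have hkerπ : RingHom.ker π.toRingHom ≤ 𝔪.map (algebraMap R (MvPolynomial (Fin n) R ⧸ J₁)) := by
    intro x hx
    obtain ⟨p, rfl⟩ := Ideal.Quotient.mk_surjective x
    have hpJ : p ∈ J := hx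
    obtain ⟨j₁, hj₁, m, hm, rfl⟩ := Submodule.mem_sup.mp (hJle hpJ)
    rw [map_add, Ideal.Quotient.eq_zero_iff_mem.mpr hj₁, zero_add]
    have h3 : 𝔪.map (algebraMap R (MvPolynomial (Fin n) R ⧸ J₁)) =
        𝔪P.map (Ideal.Quotient.mk J₁) := by
      rw [Ideal.map_map]; rfl
    rw [h3]
    exact Ideal.mem_map_of_mem _ hm
  let q₁ : Ideal (MvPolynomial (Fin n) R ⧸ J₁) := q₀.comap π.toRingHom
  haveI hq₁ : q₁.IsPrime := Ideal.comap_isPrime _ _
  have hT : Submonoid.map π.toRingHom q₁.primeCompl = q₀.primeCompl := by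
    ext x
    constructor
    · rintro ⟨y, hy, rfl⟩
      exact hy
    · intro hx
      obtain ⟨y, rfl⟩ := hπ x
      exact ⟨y, hx, rfl⟩
  haveI hloc' : IsLocalization (Submonoid.map π.toRingHom q₁.primeCompl) S := hT ▸ hloc
  let ψ : Localization.AtPrime q₁ →+* S :=
    IsLocalization.map S π.toRingHom q₁.primeCompl.le_comap_map
  have hψsurj : Function.Surjective ψ :=
    IsLocalization.map_surjective_of_surjective (S := Localization.AtPrime q₁) (Q := S)
      (M := q₁.primeCompl) (g := π.toRingHom) hπ
  have hψker : RingHom.ker ψ = (RingHom.ker π.toRingHom).map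
      (algebraMap (MvPolynomial (Fin n) R ⧸ J₁) (Localization.AtPrime q₁)) :=
    IsLocalization.ker_map (S := Localization.AtPrime q₁) S π.toRingHom rfl
  have hψalg : ∀ r : R, ψ (algebraMap R (Localization.AtPrime q₁) r) = algebraMap R S r := by
    intro r
    rw [IsScalarTower.algebraMap_apply R (MvPolynomial (Fin n) R ⧸ J₁) (Localization.AtPrime q₁)]
    change IsLocalization.map S π.toRingHom _ _ = _
    rw [IsLocalization.map_eq]
    change algebraMap S₀ S (π (algebraMap R _ r)) = _
    rw [π.commutes, ← IsScalarTower.algebraMap_apply]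
  -- algebra / module structures over `S₁`
  letI : Algebra (Localization.AtPrime q₁) S := ψ.toAlgebra
  letI : Algebra (Localization.AtPrime q₁) S' := ((algebraMap S S').comp ψ).toAlgebra
  haveI : IsScalarTower (Localization.AtPrime q₁) S S' := .of_algebraMap_eq fun _ => rfl
  haveI : IsScalarTower R (Localization.AtPrime q₁) S := .of_algebraMap_eq fun r => (hψalg r).symm
  haveI : IsScalarTower R (Localization.AtPrime q₁) S' := .of_algebraMap_eq fun r => by
    change algebraMap R S' r = algebraMap S S' (ψ (algebraMap R _ r))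
    rw [hψalg, ← IsScalarTower.algebraMap_apply]
  letI : Module (Localization.AtPrime q₁) M := Module.compHom M ψ
  haveI : IsScalarTower (Localization.AtPrime q₁) S M := .of_algebraMap_smul fun _ _ => rfl
  haveI : IsScalarTower (Localization.AtPrime q₁) S' M := .of_algebraMap_smul fun r m => by
    change algebraMap S S' (ψ r) • m = ψ r • m
    rw [algebraMap_smul]
  haveI : IsScalarTower R (Localization.AtPrime q₁) M := .of_algebraMap_smul fun r m => by
    change ψ (algebraMap R _ r) • m = r • m
    rw [hψalg, algebraMap_smul]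
  haveI hψloc : IsLocalHom ψ := by
    refine ((IsLocalRing.local_hom_TFAE ψ).out 0 2).mpr ?_
    rw [← Localization.AtPrime.map_eq_maximalIdeal, Ideal.map_map, Ideal.map_le_iff_le_comap]
    intro x hx
    change ψ (algebraMap _ _ x) ∈ IsLocalRing.maximalIdeal S
    change IsLocalization.map S π.toRingHom _ _ ∈ _
    rw [IsLocalization.map_eq]
    exact hx
  haveI : IsLocalHom (algebraMap (Localization.AtPrime q₁) S) := hψloc
  haveI : IsLocalHom (algebraMap R (Localization.AtPrime q₁)) := by
    refine ⟨fun r hr => ?_⟩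
    have h1 : IsUnit (algebraMap R S r) := by
      rw [← hψalg]; exact hr.map ψ
    exact isUnit_of_map_unit (algebraMap R S) r h1
  haveI : IsLocalHom (algebraMap (Localization.AtPrime q₁) S') := by
    refine ⟨fun x hx => ?_⟩
    have h1 : IsUnit (ψ x) := isUnit_of_map_unit (algebraMap S S') (ψ x) hx
    exact isUnit_of_map_unit ψ x h1
  have hS₁ : CAlgX.IsEssFinitePresentation R (Localization.AtPrime q₁) :=
    ⟨MvPolynomial (Fin n) R ⧸ J₁, inferInstance, inferInstance, inferInstance, inferInstance,
      q₁.primeCompl, inferInstance, inferInstance⟩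
  -- Step 4: the fibre hypothesis over `S₁`
  have hker : RingHom.ker (algebraMap (Localization.AtPrime q₁) S) ≤
      𝔪.map (algebraMap R (Localization.AtPrime q₁)) := by
    change RingHom.ker ψ ≤ _
    rw [hψker, IsScalarTower.algebraMap_eq R (MvPolynomial (Fin n) R ⧸ J₁)
      (Localization.AtPrime q₁), ← Ideal.map_map]
    exact Ideal.map_mono hkerπ
  have hI : (𝔪.map (algebraMap R (Localization.AtPrime q₁))).map
      (algebraMap (Localization.AtPrime q₁) S) = 𝔪.map (algebraMap R S) := by
    rw [Ideal.map_map, ← IsScalarTower.algebraMap_eq]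
  have hfib₁ := flat_quot_of_surjective (S₁ := Localization.AtPrime q₁) (S := S) (M := M)
    hψsurj _ hker _ hI hfib
  obtain ⟨hfl₁, hfl₂⟩ := H hS₁ hS' hfib₁
  -- Step 5: `M` is faithfully flat over `S₁`, hence `ψ` is injective
  haveI : Module.Flat (Localization.AtPrime q₁) M := hfl₂
  haveI : Module.Finite S' M := inferInstance
  haveI hff : Module.FaithfullyFlat (Localization.AtPrime q₁) M := by
    refine ⟨fun 𝔫 h𝔫 htop => ?_⟩
    have h𝔫eq : 𝔫 = IsLocalRing.maximalIdeal (Localization.AtPrime q₁) :=
      IsLocalRing.eq_maximalIdeal h𝔫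
    have hle : (⊤ : Submodule S' M) ≤ IsLocalRing.maximalIdeal S' • (⊤ : Submodule S' M) := by
      intro m _
      have hm : m ∈ 𝔫 • (⊤ : Submodule (Localization.AtPrime q₁) M) := by
        rw [htop]; trivial
      refine Submodule.smul_induction_on hm ?_ ?_
      · intro r hr x _
        rw [← algebraMap_smul S' r x]
        refine Submodule.smul_mem_smul ?_ trivial
        rw [h𝔫eq] at hr
        have h3 := ((IsLocalRing.local_hom_TFAE (algebraMap (Localization.AtPrime q₁) S')).out
          0 3).mp ‹_›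
        exact h3 hr
      · intro x y hx hy
        exact add_mem hx hy
    have hbot := Submodule.eq_bot_of_le_smul_of_le_jacobson_bot
      (IsLocalRing.maximalIdeal S') (⊤ : Submodule S' M) Module.Finite.fg_top hle
      (by rw [IsLocalRing.jacobson_eq_maximalIdeal ⊥ bot_ne_top])
    have : Subsingleton M := by
      rw [← Submodule.subsingleton_iff S']
      exact subsingleton_of_bot_eq_top hbot.symm
    exact not_subsingleton M this
  have hψinj : Function.Injective ψ := by
    rw [injective_iff_map_eq_zero]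
    intro x hx
    refine eq_zero_of_forall_smul_eq_zero (N := M) x fun m => ?_
    change ψ x • m = 0
    rw [hx, zero_smul]
  have hψbij : Function.Bijective (algebraMap (Localization.AtPrime q₁) S) := ⟨hψinj, hψsurj⟩
  refine ⟨?_, (flat_iff_of_bijective (A₁ := Localization.AtPrime q₁) (A₂ := S) (N := M)
    hψbij).mpr hfl₂⟩
  let e : Localization.AtPrime q₁ ≃ₗ[R] S :=
    LinearEquiv.ofBijective (IsScalarTower.toAlgHom R (Localization.AtPrime q₁) S).toLinearMap
      hψbij
  exact Module.Flat.of_linearEquiv e.symm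

end Groth.Agent.H49.FibreCrit
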