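import Mathlib
import Groth.Agent.H49.FibreCritEFT

/-!
# Fibrewise flatness criterion, ring-level packaging (towards S1483/S1386)
-/

set_option autoImplicit false
set_option linter.style.haveILetI false

universe u

open TensorProduct

namespace Groth.Agent.H49.FibreCrit

/-- `S` is a localization of a finite type `R`-algebra. -/
def IsEssFiniteType (R S : Type u) [CommRing R] [CommRing S] [Algebra R S] : Prop :=
  ∃ (S₀ : Type u) (_ : CommRing S₀) (_ : Algebra R S₀) (_ : Algebra S₀ S)
    (_ : IsScalarTower R S₀ S) (M : Submonoid S₀), Algebra.FiniteType R S₀ ∧ IsLocalization M S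

attribute [local instance] Algebra.TensorProduct.rightAlgebra in
/-- If `Rl = A_p` and `Bq = B_q` with `q` over `p`, then `Bq` is a localization of `Rl ⊗[A] B`. -/
theorem exists_tensor_localization (A B Rl Bq : Type u) [CommRing A] [CommRing B] [CommRing Rl]
    [CommRing Bq] [Algebra A B] [Algebra A Rl] [Algebra B Bq] [Algebra Rl Bq] [Algebra A Bq]
    [IsScalarTower A Rl Bq] [IsScalarTower A B Bq]
    (p : Ideal A) [p.IsPrime] (q : Ideal B) [q.IsPrime] (hpq : p = q.comap (algebraMap A B))
    [IsLocalization.AtPrime Rl p] [IsLocalization.AtPrime Bq q] :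
    ∃ (_ : Algebra (Rl ⊗[A] B) Bq) (_ : IsScalarTower Rl (Rl ⊗[A] B) Bq)
      (T : Submonoid (Rl ⊗[A] B)), IsLocalization T Bq := by
  let φ : Rl ⊗[A] B →ₐ[Rl] Bq := Algebra.TensorProduct.lift (Algebra.ofId Rl Bq)
    (IsScalarTower.toAlgHom A B Bq) (fun _ _ => Commute.all _ _)
  letI alg : Algebra (Rl ⊗[A] B) Bq := φ.toRingHom.toAlgebra
  haveI tower : IsScalarTower Rl (Rl ⊗[A] B) Bq := .of_algebraMap_eq fun r => (φ.commutes r).symm
  haveI : IsScalarTower B (Rl ⊗[A] B) Bq := .of_algebraMap_eq fun b => by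
    change algebraMap B Bq b = φ ((1 : Rl) ⊗ₜ[A] b)
    simp [φ]
  haveI : IsLocalization (Algebra.algebraMapSubmonoid B p.primeCompl) (Rl ⊗[A] B) :=
    IsLocalization.tensorRight (R := A) (S := B) Rl p.primeCompl
  have hle : Algebra.algebraMapSubmonoid B p.primeCompl ≤ q.primeCompl := by
    rintro _ ⟨a, ha, rfl⟩ hq
    exact ha (hpq ▸ hq)
  exact ⟨alg, tower, _, IsLocalization.isLocalization_of_submonoid_le (Rl ⊗[A] B) Bq
    (Algebra.algebraMapSubmonoid B p.primeCompl) q.primeCompl hle⟩

theorem isEssFiniteType_of_charts (A B Rl Bq : Type u) [CommRing A] [CommRing B] [CommRing Rl]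
    [CommRing Bq] [Algebra A B] [Algebra A Rl] [Algebra B Bq] [Algebra Rl Bq] [Algebra A Bq]
    [IsScalarTower A Rl Bq] [IsScalarTower A B Bq] [Algebra.FiniteType A B]
    (p : Ideal A) [p.IsPrime] (q : Ideal B) [q.IsPrime] (hpq : p = q.comap (algebraMap A B))
    [IsLocalization.AtPrime Rl p] [IsLocalization.AtPrime Bq q] : IsEssFiniteType Rl Bq := by
  obtain ⟨alg, tower, T, hT⟩ := exists_tensor_localization A B Rl Bq p q hpq
  exact ⟨Rl ⊗[A] B, inferInstance, inferInstance, alg, tower, T, inferInstance, hT⟩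

theorem isEssFinitePresentation_of_charts (A B Rl Bq : Type u) [CommRing A] [CommRing B]
    [CommRing Rl] [CommRing Bq] [Algebra A B] [Algebra A Rl] [Algebra B Bq] [Algebra Rl Bq]
    [Algebra A Bq] [IsScalarTower A Rl Bq] [IsScalarTower A B Bq] [Algebra.FinitePresentation A B]
    (p : Ideal A) [p.IsPrime] (q : Ideal B) [q.IsPrime] (hpq : p = q.comap (algebraMap A B))
    [IsLocalization.AtPrime Rl p] [IsLocalization.AtPrime Bq q] :
    CAlgX.IsEssFinitePresentation Rl Bq := by
  obtain ⟨alg, tower, T, hT⟩ := exists_tensor_localization A B Rl Bq p q hpq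
  exact ⟨Rl ⊗[A] B, inferInstance, inferInstance, alg, tower, T, inferInstance, hT⟩

/-- The `A ⧸ J`-linear identification `(A ⧸ J) ⊗ M ≃ M ⧸ J M`. -/
noncomputable def quotEquiv {A : Type u} [CommRing A] (M : Type u) [AddCommGroup M] [Module A M]
    (J : Ideal A) : ((A ⧸ J) ⊗[A] M) ≃ₗ[A ⧸ J] (M ⧸ (J • (⊤ : Submodule A M))) :=
  haveI : IsScalarTower A (A ⧸ J) (M ⧸ (J • (⊤ : Submodule A M))) :=
    (Module.isTorsionBySet_quotient_ideal_smul M J).isScalarTower
  (TensorProduct.quotTensorEquivQuotSMul M J).extendScalarsOfSurjective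
    Ideal.Quotient.mk_surjective

/-- Ring-level form of the fibrewise flatness criterion for local homomorphisms `A → B → C` with
`B` essentially of finite type and `C` essentially of finite presentation over `A`. -/
theorem ring_iff (H : Core.{u}) {A B C M : Type u} [CommRing A] [CommRing B] [CommRing C]
    [IsLocalRing A] [IsLocalRing B] [IsLocalRing C]
    (φ : A →+* B) (ψ : B →+* C) (χ : A →+* C) (hχ : χ = ψ.comp φ)
    [IsLocalHom φ] [IsLocalHom ψ]
    (hB : letI := φ.toAlgebra; IsEssFiniteType A B)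
    (hC : letI := χ.toAlgebra; CAlgX.IsEssFinitePresentation A C)
    [AddCommGroup M] [instCM : Module C M] [Module.FinitePresentation C M] [Nontrivial M] :
    letI : Module B M := Module.compHom M ψ
    ((letI : Module A M := Module.compHom M χ; Module.Flat A M) ∧
      Module.Flat (B ⧸ Ideal.map φ (IsLocalRing.maximalIdeal A))
        (M ⧸ (Ideal.map φ (IsLocalRing.maximalIdeal A) • (⊤ : Submodule B M)))) ↔
    (φ.Flat ∧ Module.Flat B M) := by
  letI : Algebra A B := φ.toAlgebra
  letI : Algebra B C := ψ.toAlgebra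
  letI : Algebra A C := χ.toAlgebra
  haveI : IsScalarTower A B C := IsScalarTower.of_algebraMap_eq (fun a => by
    change χ a = ψ (φ a)
    rw [hχ]; rfl)
  haveI : IsLocalHom (algebraMap A B) := ‹IsLocalHom φ›
  haveI : IsLocalHom (algebraMap B C) := ‹IsLocalHom ψ›
  letI : Module B M := Module.compHom M ψ
  letI : Module A M := Module.compHom M χ
  haveI : IsScalarTower B C M := ⟨fun b c m => by
    change (ψ b * c) • m = ψ b • (c • m)
    rw [mul_smul]⟩
  haveI : IsScalarTower A C M := ⟨fun a c m => by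
    change (χ a * c) • m = χ a • (c • m)
    rw [mul_smul]⟩
  haveI : IsScalarTower A B M := ⟨fun a b m => by
    change ψ (φ a * b) • m = χ a • (ψ b • m)
    rw [map_mul, mul_smul, hχ]; rfl⟩
  have hI : Ideal.map φ (IsLocalRing.maximalIdeal A) =
      (IsLocalRing.maximalIdeal A).map (algebraMap A B) := rfl
  constructor
  · rintro ⟨h1, h2⟩
    haveI : Module.Flat A M := h1
    obtain ⟨S₀, _, _, _, _, T, hft, hloc⟩ := hB
    haveI := hft
    haveI := hloc
    exact eft H (R := A) (S := B) (S' := C) (M := M) S₀ T hC h2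
  · rintro ⟨h1, h2⟩
    haveI : Module.Flat A B := h1
    haveI : Module.Flat B M := h2
    refine ⟨Module.Flat.trans A B M, ?_⟩
    haveI : Module.Flat (B ⧸ ((IsLocalRing.maximalIdeal A).map (algebraMap A B)))
        ((B ⧸ ((IsLocalRing.maximalIdeal A).map (algebraMap A B))) ⊗[B] M) := inferInstance
    exact Module.Flat.of_linearEquiv
      (quotEquiv (A := B) M ((IsLocalRing.maximalIdeal A).map (algebraMap A B))).symm

end Groth.Agent.H49.FibreCrit
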