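import Mathlib
import Groth.Agent.H49.FibreCritRing
import Groth.Agent.H57.GenFlatSch
import Groth.Agent.H8.FPAffine
import Groth.Agent.H8.QCohStalk
import Groth.Prelude.Def_FlatMod2

/-!
# Fibrewise flatness criterion, scheme-level (S1483)
-/

set_option autoImplicit false
set_option linter.style.haveILetI false

universe u

open AlgebraicGeometry CategoryTheory Limits TensorProduct

namespace Groth.Agent.H49.FibreCrit

variable {X Y S : Scheme.{u}}

/-- The local ring of the source of a morphism locally of finite type is essentially of finite type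
over the local ring of the target. -/
theorem isEssFiniteType_stalk (h : X ⟶ Y) [LocallyOfFiniteType h] (x : X) :
    letI := (h.stalkMap x).hom.toAlgebra
    IsEssFiniteType (Y.presheaf.stalk (h x)) (X.presheaf.stalk x) := by
  obtain ⟨V, hV, hyV, -⟩ :=
    exists_isAffineOpen_mem_and_subset (x := h x) (U := (⊤ : Y.Opens)) trivial
  obtain ⟨U, hU, hxU, hUV⟩ :=
    exists_isAffineOpen_mem_and_subset (x := x) (U := h ⁻¹ᵁ V) hyV
  letI : Algebra Γ(Y, V) Γ(X, U) := (h.appLE V U hUV).hom.toAlgebra
  haveI : Algebra.FiniteType Γ(Y, V) Γ(X, U) := h.finiteType_appLE hV hU hUV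
  letI : Algebra (Y.presheaf.stalk (h x)) (X.presheaf.stalk x) := (h.stalkMap x).hom.toAlgebra
  letI : Algebra Γ(Y, V) (Y.presheaf.stalk (h x)) := Y.presheaf.algebra_section_stalk ⟨h x, hyV⟩
  letI : Algebra Γ(X, U) (X.presheaf.stalk x) := X.presheaf.algebra_section_stalk ⟨x, hxU⟩
  letI : Algebra Γ(Y, V) (X.presheaf.stalk x) :=
    ((algebraMap (Y.presheaf.stalk (h x)) (X.presheaf.stalk x)).comp
      (algebraMap Γ(Y, V) (Y.presheaf.stalk (h x)))).toAlgebra
  haveI : IsScalarTower Γ(Y, V) (Y.presheaf.stalk (h x)) (X.presheaf.stalk x) :=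
    .of_algebraMap_eq fun _ => rfl
  haveI : IsScalarTower Γ(Y, V) Γ(X, U) (X.presheaf.stalk x) := .of_algebraMap_eq fun a => by
    change (h.stalkMap x).hom (Y.presheaf.germ V (h x) hyV a) =
      X.presheaf.germ U x hxU ((h.appLE V U hUV).hom a)
    exact Groth.Agent.H57.stalkMap_germ_appLE h hUV x hxU a
  haveI := hV.isLocalization_stalk ⟨h x, hyV⟩
  haveI := hU.isLocalization_stalk ⟨x, hxU⟩
  exact isEssFiniteType_of_charts Γ(Y, V) Γ(X, U) _ _ (hV.primeIdealOf ⟨h x, hyV⟩).asIdeal
    (hU.primeIdealOf ⟨x, hxU⟩).asIdeal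
    congr($(IsAffineOpen.comap_primeIdealOf_appLE V hV U hU hUV hxU).1).symm

/-- The local ring of the source of a morphism locally of finite presentation is essentially of
finite presentation over the local ring of the target. -/
theorem isEssFinitePresentation_stalk (h : X ⟶ Y) [LocallyOfFinitePresentation h] (x : X) :
    letI := (h.stalkMap x).hom.toAlgebra
    CAlgX.IsEssFinitePresentation (Y.presheaf.stalk (h x)) (X.presheaf.stalk x) := by
  obtain ⟨V, hV, hyV, -⟩ :=
    exists_isAffineOpen_mem_and_subset (x := h x) (U := (⊤ : Y.Opens)) trivial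
  obtain ⟨U, hU, hxU, hUV⟩ :=
    exists_isAffineOpen_mem_and_subset (x := x) (U := h ⁻¹ᵁ V) hyV
  letI : Algebra Γ(Y, V) Γ(X, U) := (h.appLE V U hUV).hom.toAlgebra
  haveI : Algebra.FinitePresentation Γ(Y, V) Γ(X, U) := h.finitePresentation_appLE hV hU hUV
  letI : Algebra (Y.presheaf.stalk (h x)) (X.presheaf.stalk x) := (h.stalkMap x).hom.toAlgebra
  letI : Algebra Γ(Y, V) (Y.presheaf.stalk (h x)) := Y.presheaf.algebra_section_stalk ⟨h x, hyV⟩
  letI : Algebra Γ(X, U) (X.presheaf.stalk x) := X.presheaf.algebra_section_stalk ⟨x, hxU⟩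
  letI : Algebra Γ(Y, V) (X.presheaf.stalk x) :=
    ((algebraMap (Y.presheaf.stalk (h x)) (X.presheaf.stalk x)).comp
      (algebraMap Γ(Y, V) (Y.presheaf.stalk (h x)))).toAlgebra
  haveI : IsScalarTower Γ(Y, V) (Y.presheaf.stalk (h x)) (X.presheaf.stalk x) :=
    .of_algebraMap_eq fun _ => rfl
  haveI : IsScalarTower Γ(Y, V) Γ(X, U) (X.presheaf.stalk x) := .of_algebraMap_eq fun a => by
    change (h.stalkMap x).hom (Y.presheaf.germ V (h x) hyV a) =
      X.presheaf.germ U x hxU ((h.appLE V U hUV).hom a)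
    exact Groth.Agent.H57.stalkMap_germ_appLE h hUV x hxU a
  haveI := hV.isLocalization_stalk ⟨h x, hyV⟩
  haveI := hU.isLocalization_stalk ⟨x, hxU⟩
  exact isEssFinitePresentation_of_charts Γ(Y, V) Γ(X, U) _ _
    (hV.primeIdealOf ⟨h x, hyV⟩).asIdeal (hU.primeIdealOf ⟨x, hxU⟩).asIdeal
    congr($(IsAffineOpen.comap_primeIdealOf_appLE V hV U hU hUV hxU).1).symm

/-- The stalk of a finitely presented quasi-coherent module is a finitely presented module over the
local ring. -/
theorem finitePresentation_stalk (F : X.Modules) (hq : Coh.IsQCoh F) (hfp : CohB1.IsFP F) (x : X) :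
    Module.FinitePresentation (X.presheaf.stalk x) (F.presheaf.stalk x) := by
  obtain ⟨U, hU, hxU, -⟩ :=
    exists_isAffineOpen_mem_and_subset (x := x) (U := (⊤ : X.Opens)) trivial
  haveI : F.IsQuasicoherent := hq
  haveI : SheafOfModules.IsFinitePresentation (R := X.ringCatSheaf) F := hfp
  haveI : Module.FinitePresentation Γ(X, U) Γ(F, U) :=
    Groth.Agent.H8.finitePresentation_sections_of_isAffineOpen F hU
  letI : Algebra Γ(X, U) (X.presheaf.stalk x) := X.presheaf.algebra_section_stalk ⟨x, hxU⟩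
  haveI := hU.isLocalization_stalk ⟨x, hxU⟩
  letI : Module Γ(X, U) (F.presheaf.stalk x) := Groth.Agent.H8.moduleSectionStalk F x hxU
  haveI : IsScalarTower Γ(X, U) (X.presheaf.stalk x) (F.presheaf.stalk x) :=
    Groth.Agent.H8.isScalarTower_sectionStalk F x hxU
  haveI := Groth.Agent.H8.isLocalizedModule_germₗ F hU x hxU
  exact _root_.FinitePresentation.of_isBaseChange (Groth.Agent.H8.germₗ F x hxU)
    ((isLocalizedModule_iff_isBaseChange (hU.primeIdealOf ⟨x, hxU⟩).asIdeal.primeCompl
      (X.presheaf.stalk x) _).mp inferInstance)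

/-- **Critère de platitude par fibres** for a finitely presented quasi-coherent module
(statement of S1483), assuming the local criterion `Core` (S2106). -/
theorem critere_module (H : Core.{u}) (f : X ⟶ Y) (g : Y ⟶ S)
    [LocallyOfFinitePresentation (f ≫ g)] [LocallyOfFiniteType g]
    (F : X.Modules) (hq : Coh.IsQCoh F) (hfp : CohB1.IsFP F) (x : X)
    (hx : Nontrivial ↑(F.presheaf.stalk x)) :
    letI := FlatMod.moduleStalkOver f F x
    (FlatMod.IsFlatOverAt (f ≫ g) F x ∧
      Module.Flat (↑(Y.presheaf.stalk (f x)) ⧸ Ideal.map (g.stalkMap (f x)).hom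
          (IsLocalRing.maximalIdeal ↑(S.presheaf.stalk (g (f x)))))
        (↑(F.presheaf.stalk x) ⧸ (Ideal.map (g.stalkMap (f x)).hom
          (IsLocalRing.maximalIdeal ↑(S.presheaf.stalk (g (f x)))) •
          (⊤ : Submodule ↑(Y.presheaf.stalk (f x)) ↑(F.presheaf.stalk x))))) ↔
    ((g.stalkMap (f x)).hom.Flat ∧ FlatMod.IsFlatOverAt f F x) := by
  haveI := finitePresentation_stalk F hq hfp x
  have hB := isEssFiniteType_stalk g (f x)
  have hC := isEssFinitePresentation_stalk (f ≫ g) x
  have key := ring_iff H (M := ↑(F.presheaf.stalk x)) (g.stalkMap (f x)).hom (f.stalkMap x).hom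
    ((f ≫ g).stalkMap x).hom
    ((congrArg CommRingCat.Hom.hom (Scheme.Hom.stalkMap_comp f g x)).trans rfl) hB hC
  exact key

end Groth.Agent.H49.FibreCrit
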