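import Mathlib
import Groth.Agent.H49.FibreCritSch
import Groth.Agent.H9.FiberStalk
import Groth.Agent.S0386
import Groth.Agent.H49.SmoothFibreMap
import Groth.Prelude.Def_MoreMor

/-!
# Fibrewise flatness criterion for the structure sheaf, via the morphism of fibres (S1386)
-/

set_option autoImplicit false
set_option linter.style.haveILetI false

universe u

open AlgebraicGeometry CategoryTheory Limits TensorProduct

namespace Groth.Agent.H49.FibreCrit

/-- A ring map between quotients `D = B/I`, `E = C/IC` presented by surjections is flat iff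
`C/IC` is flat over `B/I`. -/
theorem flat_iff_quot_flat {B C D E : Type u} [CommRing B] [CommRing C] [CommRing D] [CommRing E]
    (β : B →+* C) (πB : B →+* D) (πC : C →+* E) (φ : D →+* E)
    (hπB : Function.Surjective πB) (hπC : Function.Surjective πC)
    (hcomm : φ.comp πB = πC.comp β) (I : Ideal B) (hI : RingHom.ker πB = I)
    (hker : RingHom.ker πC = I.map β) :
    φ.Flat ↔ (letI : Module B C := Module.compHom C β;
      Module.Flat (B ⧸ I) (C ⧸ I • (⊤ : Submodule B C))) := by
  subst hI
  letI : Module B C := Module.compHom C β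
  set I := RingHom.ker πB with hIdef
  -- membership in `I • ⊤`
  have hmul : ∀ (c : C) (m : C), m ∈ I • (⊤ : Submodule B C) → c * m ∈ I • (⊤ : Submodule B C) := by
    intro c m hm
    refine Submodule.smul_induction_on hm ?_ ?_
    · intro r hr n _
      have : c * (r • n) = r • (c * n) := by
        change c * (β r * n) = β r * (c * n)
        ring
      rw [this]
      exact Submodule.smul_mem_smul hr trivial
    · intro x y hx hy
      rw [mul_add]
      exact add_mem hx hy
  have hmem : ∀ m : C, m ∈ I • (⊤ : Submodule B C) ↔ m ∈ I.map β := by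
    intro m
    constructor
    · intro hm
      refine Submodule.smul_induction_on hm ?_ ?_
      · intro r hr n _
        change β r * n ∈ I.map β
        exact Ideal.mul_mem_right _ _ (Ideal.mem_map_of_mem β hr)
      · intro x y hx hy
        exact add_mem hx hy
    · intro hm
      refine Submodule.span_induction ?_ ?_ ?_ ?_ hm
      · rintro _ ⟨r, hr, rfl⟩
        have : β r = r • (1 : C) := by
          change β r = β r * 1
          rw [mul_one]
        rw [this]
        exact Submodule.smul_mem_smul hr trivial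
      · exact zero_mem _
      · intro x y _ _ hx hy
        exact add_mem hx hy
      · intro c x _ hx
        exact hmul c x hx
  -- module structures on `E`
  letI : Algebra D E := φ.toAlgebra
  let eD : B ⧸ I ≃+* D := RingHom.quotientKerEquivOfSurjective hπB
  letI : Algebra (B ⧸ I) D := eD.toRingHom.toAlgebra
  have heD : Function.Bijective (algebraMap (B ⧸ I) D) := eD.bijective
  letI : Module (B ⧸ I) E := Module.compHom E (algebraMap (B ⧸ I) D)
  haveI : IsScalarTower (B ⧸ I) D E := IsScalarTower.of_algebraMap_smul fun r m => rfl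
  letI : Module B E := Module.compHom E (πC.comp β)
  haveI : IsScalarTower B (B ⧸ I) E := by
    refine IsScalarTower.of_algebraMap_smul fun r m => ?_
    change φ (eD (Ideal.Quotient.mk I r)) * m = πC (β r) * m
    have h1 : eD (Ideal.Quotient.mk I r) = πB r := rfl
    rw [h1]
    have h2 : φ (πB r) = πC (β r) := RingHom.congr_fun hcomm r
    rw [h2]
  haveI : IsScalarTower B (B ⧸ I) (C ⧸ I • (⊤ : Submodule B C)) :=
    (Module.isTorsionBySet_quotient_ideal_smul C I).isScalarTower
  -- the comparison map `C ⧸ I • ⊤ → E`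
  let πCl : C →ₗ[B] E :=
    { toFun := πC
      map_add' := map_add πC
      map_smul' := fun r c => by
        change πC (β r * c) = πC (β r) * πC c
        rw [map_mul] }
  let Φ₀ : (C ⧸ I • (⊤ : Submodule B C)) →ₗ[B] E :=
    Submodule.liftQ _ πCl (by
      intro m hm
      rw [LinearMap.mem_ker]
      change πC m = 0
      rw [← RingHom.mem_ker, hker]
      exact (hmem m).mp hm)
  have hΦ₀ : Function.Bijective Φ₀ := by
    constructor
    · rw [← LinearMap.ker_eq_bot, Submodule.ker_liftQ_eq_bot']
      apply le_antisymm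
      · intro m hm
        rw [LinearMap.mem_ker]
        change πC m = 0
        rw [← RingHom.mem_ker, hker]
        exact (hmem m).mp hm
      · intro m hm
        rw [LinearMap.mem_ker] at hm
        change πC m = 0 at hm
        rw [← RingHom.mem_ker, hker] at hm
        exact (hmem m).mpr hm
    · intro y
      obtain ⟨c, rfl⟩ := hπC y
      exact ⟨Submodule.Quotient.mk c, rfl⟩
  let Φ : (C ⧸ I • (⊤ : Submodule B C)) ≃ₗ[B ⧸ I] E :=
    (LinearEquiv.ofBijective Φ₀ hΦ₀).extendScalarsOfSurjective Ideal.Quotient.mk_surjective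
  change Module.Flat D E ↔ _
  rw [flat_iff_of_bijective (A₁ := B ⧸ I) (A₂ := D) (N := E) heD]
  exact ⟨fun h => Module.Flat.of_linearEquiv Φ, fun h => Module.Flat.of_linearEquiv Φ.symm⟩

variable {X Y S : Scheme.{u}}

/-- Transport of the ideal `m_s O_{Y,y}` along equality of points. -/
theorem comap_stalkCongr_map_maximalIdeal (k : Y ⟶ S) {y₁ y₂ : Y} (hy : y₁ = y₂) :
    Ideal.comap (Y.presheaf.stalkCongr (.of_eq hy)).hom.hom
      (Ideal.map (k.stalkMap y₂).hom (IsLocalRing.maximalIdeal (S.presheaf.stalk (k y₂)))) =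
    Ideal.map (k.stalkMap y₁).hom (IsLocalRing.maximalIdeal (S.presheaf.stalk (k y₁))) := by
  subst hy
  have h1 : (Y.presheaf.stalkCongr (Inseparable.of_eq (rfl : y₁ = y₁))).hom = 𝟙 _ := by
    simp [TopCat.Presheaf.stalkCongr]
  rw [h1]
  rfl


theorem stalkMap_comp_hom' (f : X ⟶ Y) (g : Y ⟶ S) (x : X) :
    ((f ≫ g).stalkMap x).hom = (f.stalkMap x).hom.comp (g.stalkMap (f x)).hom :=
  (congrArg CommRingCat.Hom.hom (Scheme.Hom.stalkMap_comp f g x)).trans rfl

set_option maxHeartbeats 1600000 in
/-- The pointwise criterion at a point `y'` of the fibre `X_s` with image `x` in `X`. -/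
theorem critere_at_fibre_point (H : Core.{u}) (f : X ⟶ Y) (g : Y ⟶ S)
    [LocallyOfFinitePresentation (f ≫ g)] [LocallyOfFiniteType g] (s : S)
    (y' : ((f ≫ g).fiber s : Scheme.{u})) (x : X) (hx : ((f ≫ g).fiberι s) y' = x) :
    (((f ≫ g).stalkMap x).hom.Flat ∧ ((MoreMor.fiberMap f g s).stalkMap y').hom.Flat) ↔
      ((g.stalkMap (f x)).hom.Flat ∧ (f.stalkMap x).hom.Flat) := by
  subst hx
  have hsq : MoreMor.fiberMap f g s ≫ g.fiberι s = (f ≫ g).fiberι s ≫ f :=
    pullback.lift_fst _ _ _
  have E1 := Scheme.Hom.stalkMap_comp (MoreMor.fiberMap f g s) (g.fiberι s) y'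
  have E2 := Scheme.Hom.stalkMap_comp ((f ≫ g).fiberι s) f y'
  have E3 := Scheme.Hom.stalkMap_congr_hom ((f ≫ g).fiberι s ≫ f)
    (MoreMor.fiberMap f g s ≫ g.fiberι s) hsq.symm y'
  have hpt : f (((f ≫ g).fiberι s) y') = (g.fiberι s) ((MoreMor.fiberMap f g s) y') := by
    have := congr(($hsq) y')
    exact this.symm
  have hXfib := Groth.Agent.H9.stalkMap_fiberι_surjective_and_ker_eq (f ≫ g) s y'
  have hYfib := Groth.Agent.H9.stalkMap_fiberι_surjective_and_ker_eq g s
    ((MoreMor.fiberMap f g s) y')
  -- the four ring maps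
  let β := (f.stalkMap (((f ≫ g).fiberι s) y')).hom
  let πC := (((f ≫ g).fiberι s).stalkMap y').hom
  let e := Y.presheaf.stalkCongr (Inseparable.of_eq hpt)
  let πB := ((g.fiberι s).stalkMap ((MoreMor.fiberMap f g s) y')).hom.comp e.hom.hom
  let φ := ((MoreMor.fiberMap f g s).stalkMap y').hom
  have hπC : Function.Surjective πC := hXfib.1
  have hπB : Function.Surjective πB :=
    hYfib.1.comp e.commRingCatIsoToRingEquiv.surjective
  have hcomm : φ.comp πB = πC.comp β := by
    have h := E3
    rw [E1, E2] at h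
    refine RingHom.ext fun b => ?_
    have h' := congrArg (fun k => k.hom b) h
    exact h'.symm
  have K1 : RingHom.ker πB = Ideal.map (g.stalkMap (f (((f ≫ g).fiberι s) y'))).hom
      (IsLocalRing.maximalIdeal (S.presheaf.stalk (g (f (((f ≫ g).fiberι s) y'))))) := by
    change RingHom.ker (((g.fiberι s).stalkMap ((MoreMor.fiberMap f g s) y')).hom.comp
      e.hom.hom) = _
    rw [← RingHom.comap_ker, hYfib.2]
    exact comap_stalkCongr_map_maximalIdeal g hpt
  have K2 : RingHom.ker πC = (Ideal.map (g.stalkMap (f (((f ≫ g).fiberι s) y'))).hom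
      (IsLocalRing.maximalIdeal (S.presheaf.stalk (g (f (((f ≫ g).fiberι s) y')))))).map β := by
    rw [Ideal.map_map, hXfib.2, stalkMap_comp_hom']
    rfl
  have hQ := flat_iff_quot_flat β πB πC φ hπB hπC hcomm _ K1 K2
  have hB := isEssFiniteType_stalk g (f (((f ≫ g).fiberι s) y'))
  have hC := isEssFinitePresentation_stalk (f ≫ g) (((f ≫ g).fiberι s) y')
  have hR := ring_iff H (M := ↑(X.presheaf.stalk (((f ≫ g).fiberι s) y')))
    (g.stalkMap (f (((f ≫ g).fiberι s) y'))).hom β
    ((f ≫ g).stalkMap (((f ≫ g).fiberι s) y')).hom (stalkMap_comp_hom' f g _) hB hC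
  change (_ ∧ φ.Flat) ↔ _
  rw [hQ]
  exact hR

/-- **Critère de platitude par fibres** for the structure sheaf (statement of S1386), assuming
the local criterion `Core` (S2106). -/
theorem critere_structure (H : Core.{u}) (f : X ⟶ Y) (g : Y ⟶ S)
    [LocallyOfFinitePresentation (f ≫ g)] [LocallyOfFiniteType g] :
    (∀ x : X, ((f ≫ g).stalkMap x).hom.Flat ∧
        ((MoreMor.fiberMap f g (g (f x))).stalkMap ((f ≫ g).asFiber x)).hom.Flat ↔
        (g.stalkMap (f x)).hom.Flat ∧ (f.stalkMap x).hom.Flat) ∧
      IsOpen {x : ↑X | (g.stalkMap (f x)).hom.Flat ∧ (f.stalkMap x).hom.Flat} := by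
  refine ⟨fun x => critere_at_fibre_point H f g (g (f x)) ((f ≫ g).asFiber x) x
    ((f ≫ g).fiberι_asFiber x), ?_⟩
  haveI : LocallyOfFinitePresentation f :=
    Groth.Agent.H49.SmoothFibreMap.lfp_of_comp_of_lft f g inferInstance inferInstance
  have h1 := Groth.Agent.S0386.result f
  have h2 := Groth.Agent.S0386.result (f ≫ g)
  have heq : {x : X | (g.stalkMap (f x)).hom.Flat ∧ (f.stalkMap x).hom.Flat} =
      {x | (f.stalkMap x).hom.Flat} ∩ {x | ((f ≫ g).stalkMap x).hom.Flat} := by
    ext x
    constructor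
    · rintro ⟨hg, hf⟩
      refine ⟨hf, ?_⟩
      change ((f ≫ g).stalkMap x).hom.Flat
      rw [stalkMap_comp_hom']
      exact RingHom.Flat.comp hg hf
    · rintro ⟨hf, hh⟩
      refine ⟨?_, hf⟩
      change ((f ≫ g).stalkMap x).hom.Flat at hh
      rw [stalkMap_comp_hom'] at hh
      exact Groth.Agent.H48.ringHom_flat_of_comp_flat_local _ _ hf hh
  rw [heq]
  exact h1.inter h2

end Groth.Agent.H49.FibreCrit
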