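import Mathlib
import Groth.Prelude.Def_ega3
import Groth.Agent.H54.FibreImm

/-!
Spreading out a target-local property from a fibre of a closed map (helper49).
-/

set_option autoImplicit false
universe u

open AlgebraicGeometry CategoryTheory Limits

namespace Groth.Agent.H49.NearFibre

variable {X Y S : Scheme.{u}}

/-- If `P` is local at the target and holds on a neighbourhood of every point of `W`,
it holds on `W`. -/
theorem morphismRestrict_of_forall_exists (P : MorphismProperty Scheme.{u})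
    [IsZariskiLocalAtTarget P] (f : X ⟶ Y) (W : Y.Opens)
    (H : ∀ y ∈ W, ∃ V : Y.Opens, y ∈ V ∧ P (f ∣_ V)) : P (f ∣_ W) := by
  refine IsZariskiLocalAtTarget.of_forall_exists_morphismRestrict fun y => ?_
  obtain ⟨V, hyV, hV⟩ := H y.1 y.2
  refine ⟨W.ι ⁻¹ᵁ V, hyV, ?_⟩
  rw [MorphismProperty.arrow_mk_iso_iff P (morphismRestrictRestrict f W _)]
  have e : W.ι ''ᵁ (W.ι ⁻¹ᵁ V) = W ⊓ V := by
    rw [Scheme.Hom.image_preimage_eq_opensRange_inf, Scheme.Opens.opensRange_ι]
  rw [MorphismProperty.arrow_mk_iso_iff P (morphismRestrictEq f e)]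
  exact Groth.Agent.H54.morphismRestrict_of_le P f inf_le_right hV

/-- Spreading out from a fibre of a closed map. -/
theorem exists_nhd_of_forall_fibre (P : MorphismProperty Scheme.{u})
    [IsZariskiLocalAtTarget P] (f : X ⟶ Y) (h : Y ⟶ S) (hcl : IsClosedMap h) (s : S)
    (H : ∀ y : Y, h y = s → ∃ V : Y.Opens, y ∈ V ∧ P (f ∣_ V)) :
    ∃ U : S.Opens, s ∈ U ∧ P (f ∣_ (h ⁻¹ᵁ U)) := by
  let T : Set Y := {y | ∃ V : Y.Opens, y ∈ V ∧ P (f ∣_ V)}
  have hT : IsOpen T := isOpen_iff_forall_mem_open.mpr fun y ⟨V, hyV, hV⟩ =>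
    ⟨V, fun z hz => ⟨V, hz, hV⟩, V.2, hyV⟩
  let U : S.Opens := ⟨(h '' Tᶜ)ᶜ, (hcl _ hT.isClosed_compl).isOpen_compl⟩
  refine ⟨U, ?_, ?_⟩
  · rintro ⟨y, hyT, rfl⟩
    exact hyT (H y rfl)
  · apply morphismRestrict_of_forall_exists
    intro y hy
    by_contra hn
    exact hy ⟨y, hn, rfl⟩

/-- Residue field maps of morphisms surjective on stalks are isomorphisms. -/
theorem isIso_residueFieldMap_of_surjectiveOnStalks (f : X ⟶ Y) [SurjectiveOnStalks f] (x : X) :
    IsIso (f.residueFieldMap x) := by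
  rw [ConcreteCategory.isIso_iff_bijective]
  refine ⟨(f.residueFieldMap x).hom.injective, ?_⟩
  intro z
  obtain ⟨a, rfl⟩ := X.residue_surjective x z
  obtain ⟨b, rfl⟩ := f.stalkMap_surjective x a
  refine ⟨Y.residue (f x) b, ?_⟩
  exact congr($(Scheme.residue_residueFieldMap f x) b)

theorem isPullback_fiberMapOver (f : X ⟶ Y) (g : Y ⟶ S) (s : S) :
    IsPullback ((f ≫ g).fiberι s) (CohIII.fiberMapOver f (f ≫ g) g rfl s) f (g.fiberι s) := by
  have t : IsPullback (pullback.snd g (S.fromSpecResidueField s)) (g.fiberι s)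
      (S.fromSpecResidueField s) g := (IsPullback.of_hasPullback g _).flip
  have o : IsPullback (CohIII.fiberMapOver f (f ≫ g) g rfl s ≫
      pullback.snd g (S.fromSpecResidueField s)) ((f ≫ g).fiberι s)
      (S.fromSpecResidueField s) (f ≫ g) := by
    have h1 : CohIII.fiberMapOver f (f ≫ g) g rfl s ≫ pullback.snd g (S.fromSpecResidueField s) =
        pullback.snd (f ≫ g) (S.fromSpecResidueField s) := by
      unfold CohIII.fiberMapOver
      exact (pullback.lift_snd _ _ _).trans (Category.comp_id _)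
    rw [h1]
    exact (IsPullback.of_hasPullback (f ≫ g) _).flip
  have p : CohIII.fiberMapOver f (f ≫ g) g rfl s ≫ g.fiberι s = (f ≫ g).fiberι s ≫ f := by
    unfold CohIII.fiberMapOver Scheme.Hom.fiberι
    exact pullback.lift_fst _ _ _
  exact (IsPullback.of_right o p t).flip

/-- Points of a pullback square. -/
theorem exists_preimage_of_isPullback {P X Y Z : Scheme.{u}} {fst : P ⟶ X} {snd : P ⟶ Y}
    {f : X ⟶ Z} {g : Y ⟶ Z} (H : IsPullback fst snd f g) (x : X) (y : Y) (e : f x = g y) :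
    ∃ p : P, fst p = x ∧ snd p = y := by
  obtain ⟨z, hz₁, hz₂⟩ := Scheme.Pullback.exists_preimage_pullback x y e
  refine ⟨H.isoPullback.inv z, ?_, ?_⟩
  · rw [← Scheme.Hom.comp_apply, H.isoPullback_inv_fst, hz₁]
  · rw [← Scheme.Hom.comp_apply, H.isoPullback_inv_snd, hz₂]

/-- Finite fibre map over `s` ⟹ `f` finite over a neighbourhood of the fibre `Y_s`. -/
theorem exists_isFinite_near_fibre (f : X ⟶ Y) (h : Y ⟶ S) [IsProper (f ≫ h)] [IsProper h] (s : S)
    (hfin : IsFinite (CohIII.fiberMapOver f (f ≫ h) h rfl s)) :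
    ∃ U : S.Opens, s ∈ U ∧ IsFinite (f ∣_ (h ⁻¹ᵁ U)) := by
  haveI : IsProper f := IsProper.of_comp f h
  refine exists_nhd_of_forall_fibre @IsFinite f h h.isClosedMap s fun y hy => ?_
  have HP := isPullback_fiberMapOver f h s
  obtain ⟨y', rfl⟩ : y ∈ Set.range (h.fiberι s) := by rw [h.range_fiberι]; exact hy
  refine exists_isFinite_morphismRestrict_of_finite_preimage_singleton f _ ?_
  haveI := hfin
  refine (((CohIII.fiberMapOver f (f ≫ h) h rfl s).finite_preimage_singleton y').image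
    ((f ≫ h).fiberι s)).subset ?_
  intro x hx
  obtain ⟨x', hx'₁, hx'₂⟩ := exists_preimage_of_isPullback HP x y' hx
  exact ⟨x', hx'₂, hx'₁⟩

/-- Fibre map over `s` a closed immersion ⟹ `f` a closed immersion over a neighbourhood of the
fibre `Y_s`. -/
theorem exists_isClosedImmersion_near_fibre (f : X ⟶ Y) (h : Y ⟶ S) [IsProper (f ≫ h)]
    [IsProper h] (s : S)
    (hci : IsClosedImmersion (CohIII.fiberMapOver f (f ≫ h) h rfl s)) :
    ∃ U : S.Opens, s ∈ U ∧ IsClosedImmersion (f ∣_ (h ⁻¹ᵁ U)) := by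
  haveI : IsProper f := IsProper.of_comp f h
  refine exists_nhd_of_forall_fibre @IsClosedImmersion f h h.isClosedMap s fun y hy => ?_
  have HP := isPullback_fiberMapOver f h s
  obtain ⟨y', rfl⟩ : y ∈ Set.range (h.fiberι s) := by rw [h.range_fiberι]; exact hy
  haveI := isIso_residueFieldMap_of_surjectiveOnStalks (h.fiberι s) y'
  have hfib : Groth.Agent.H54.FibCond f ((h.fiberι s) y') :=
    (Groth.Agent.H54.fibCond_iff_of_isPullback HP y').mp
      (Groth.Agent.H54.fibCond_of_isClosedImmersion' _ y')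
  exact Groth.Agent.H54.exists_isClosedImmersion_of_fibCond f _ hfib ⊤ trivial

end Groth.Agent.H49.NearFibre
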