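import Groth.Agent.S2106
import Groth.Agent.H49.FibreCritEFT

/-!
# The fibrewise flatness criterion core (`Core`) holds: it is the landed milestone S2106.
-/

set_option autoImplicit false

universe u

namespace Groth.Agent.H49.FibreCrit

/-- `Core` is exactly the statement of S2106. -/
theorem core : Core.{u} := by
  intro R S S' M _ _ _ _ _ _ _ _ _ _ _ _ hS hS' _ _ _ _ _ _ _ _ _ _ hfib
  exact Groth.Agent.S2106.result hS hS' hfib

end Groth.Agent.H49.FibreCrit
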