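import Mathlib.AlgebraicGeometry.Morphisms.Separated
import Mathlib.AlgebraicGeometry.Morphisms.Immersion

set_option autoImplicit false
universe u

namespace Groth.Agent.H49

open AlgebraicGeometry CategoryTheory Limits Scheme Pullback

variable {X Y : Scheme.{u}} (f : X ⟶ Y)
variable (𝒰 : Y.OpenCover) (𝒱 : ∀ i, (pullback f (𝒰.f i)).OpenCover)

set_option backward.defeqAttrib.useBackward true in
set_option backward.isDefEq.respectTransparency false in
theorem mem_diagonalCoverDiagonalRange_of_fst_eq_snd (x : ↥(pullback.diagonalObj f))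
    (H : pullback.fst f f x = pullback.snd f f x) :
    x ∈ diagonalCoverDiagonalRange f 𝒰 𝒱 := by
  simp only [diagonalCoverDiagonalRange, openCoverOfBase_I₀, openCoverOfBase_X,
    openCoverOfLeftRight_I₀, TopologicalSpace.Opens.iSup_mk, TopologicalSpace.Opens.carrier_eq_coe,
    Hom.coe_opensRange, TopologicalSpace.Opens.mem_mk,
    Set.mem_iUnion, Set.mem_range, Sigma.exists]
  let i := 𝒰.idx (f (pullback.fst f f x))
  obtain ⟨y : 𝒰.X i, hy : 𝒰.f i y = f _⟩ :=
    𝒰.covers (f (pullback.fst f f x))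
  obtain ⟨z, hz₁, hz₂⟩ := exists_preimage_pullback _ _ hy.symm
  let j := (𝒱 i).idx z
  obtain ⟨w : (𝒱 i).X j, hy : (𝒱 i).f j w = z⟩ := (𝒱 i).covers z
  refine ⟨i, j, ?_⟩
  simp_rw [diagonalCover_map]
  change x ∈ Set.range _
  simp only [diagonalCover, openCoverOfBase_I₀,
    Precoverage.ZeroHypercover.pullback₁_toPreZeroHypercover, PreZeroHypercover.pullback₁_X,
    Precoverage.ZeroHypercover.bind_toPreZeroHypercover, openCoverOfBase_X,
    PreZeroHypercover.bind_X, openCoverOfLeftRight_I₀, openCoverOfLeftRight_X]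
  rw [range_map]
  simp [← H, ← hz₁, ← hy]

/-- A morphism from a Hausdorff scheme is separated. -/
theorem isSeparated_of_t2Space [T2Space X] : IsSeparated f := by
  constructor
  refine IsClosedImmersion.of_isPreimmersion _ ?_
  let 𝒰 := Y.affineCover
  let 𝒱 (i) := (pullback f (𝒰.f i)).affineCover
  let D := diagonalCoverDiagonalRange f 𝒰 𝒱
  have hci : IsClosedImmersion (pullback.diagonal f ∣_ D) :=
    isClosedImmersion_diagonal_restrict_diagonalCoverDiagonalRange f 𝒰 𝒱
  rw [← isOpen_compl_iff, isOpen_iff_mem_nhds]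
  intro z hz
  by_cases h : pullback.fst f f z = pullback.snd f f z
  · have hzD : z ∈ D := mem_diagonalCoverDiagonalRange_of_fst_eq_snd f 𝒰 𝒱 z h
    have hC : IsClosed (Set.range (pullback.diagonal f ∣_ D).base) :=
      (pullback.diagonal f ∣_ D).isClosedEmbedding.isClosed_range
    have hN : IsOpen (D.ι.base '' (Set.range (pullback.diagonal f ∣_ D).base)ᶜ) :=
      D.ι.isOpenEmbedding.isOpenMap _ hC.isOpen_compl
    refine Filter.mem_of_superset (hN.mem_nhds ⟨⟨z, hzD⟩, ?_, rfl⟩) ?_
    · rintro ⟨w, hw⟩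
      apply hz
      refine ⟨((pullback.diagonal f) ⁻¹ᵁ D).ι.base w, ?_⟩
      rw [← Scheme.Hom.comp_apply, ← morphismRestrict_ι, Scheme.Hom.comp_apply, hw]
      rfl
    · rintro _ ⟨t, ht, rfl⟩ ⟨x, hx⟩
      apply ht
      have hxD : x ∈ (pullback.diagonal f) ⁻¹ᵁ D := by
        change (pullback.diagonal f).base x ∈ D
        rw [hx]
        exact t.2
      refine ⟨⟨x, hxD⟩, ?_⟩
      apply D.ι.isOpenEmbedding.injective
      rw [← Scheme.Hom.comp_apply, morphismRestrict_ι, Scheme.Hom.comp_apply, ← hx]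
      rfl
  · obtain ⟨U, V, hU, hV, hxU, hyV, hUV⟩ := t2_separation h
    have hN : IsOpen ((pullback.fst f f).base ⁻¹' U ∩ (pullback.snd f f).base ⁻¹' V) :=
      (hU.preimage (pullback.fst f f).continuous).inter (hV.preimage (pullback.snd f f).continuous)
    refine Filter.mem_of_superset (hN.mem_nhds ⟨hxU, hyV⟩) ?_
    rintro _ ⟨h₁, h₂⟩ ⟨x, rfl⟩
    have e₁ : (pullback.fst f f).base ((pullback.diagonal f).base x) = x := by
      rw [← Scheme.Hom.comp_apply, pullback.diagonal_fst]; rfl
    have e₂ : (pullback.snd f f).base ((pullback.diagonal f).base x) = x := by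
      rw [← Scheme.Hom.comp_apply, pullback.diagonal_snd]; rfl
    simp only [Set.mem_preimage, e₁, e₂] at h₁ h₂
    exact Set.disjoint_left.mp hUV h₁ h₂

end Groth.Agent.H49
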