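import Mathlib.AlgebraicGeometry.Artinian
import Mathlib.AlgebraicGeometry.Morphisms.QuasiSeparated
import Mathlib.RingTheory.KrullDimension.Zero
import Mathlib.AlgebraicGeometry.Limits
import Groth.Agent.H49.T2Sep

set_option autoImplicit false
universe u

namespace Groth.Agent.H49

open AlgebraicGeometry CategoryTheory Limits

/-- In a zero-dimensional ring, for a prime `p` and `a ∈ p` there is `s ∉ p` and `n` with
`s * a ^ n = 0`. -/
theorem exists_mul_pow_eq_zero {A : Type u} [CommRing A] [Ring.KrullDimLE 0 A]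
    (p : Ideal A) [hp : p.IsPrime] {a : A} (ha : a ∈ p) :
    ∃ s ∉ p, ∃ n : ℕ, s * a ^ n = 0 := by
  by_contra hcon
  push Not at hcon
  let S : Submonoid A := p.primeCompl ⊔ Submonoid.powers a
  have h0 : Disjoint ((⊥ : Ideal A) : Set A) (S : Set A) := by
    rw [Set.disjoint_left]
    intro x hx hxS
    have hx0 : x = 0 := by simpa using hx
    subst hx0
    obtain ⟨s, hs, z, ⟨n, rfl⟩, hsz⟩ := Submonoid.mem_sup.mp hxS
    exact hcon s hs n hsz
  obtain ⟨P, hP, _, hPS⟩ := Ideal.exists_le_prime_disjoint (⊥ : Ideal A) S h0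
  have hPp : P ≤ p := by
    intro x hx
    by_contra hxp
    exact Set.disjoint_left.mp hPS hx (Submonoid.mem_sup_left (show x ∈ p.primeCompl from hxp))
  have hPmax : P.IsMaximal := hP.isMaximal'
  have hPeq : P = p := hPmax.eq_of_le hp.ne_top hPp
  exact Set.disjoint_left.mp hPS (hPeq ▸ ha)
    (Submonoid.mem_sup_right (Submonoid.mem_powers a))

/-- The spectrum of a zero-dimensional ring is Hausdorff. -/
theorem t2Space_primeSpectrum (A : Type u) [CommRing A] [Ring.KrullDimLE 0 A] :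
    T2Space (PrimeSpectrum A) := by
  refine ⟨fun p q hpq => ?_⟩
  have hpmax : p.asIdeal.IsMaximal := p.2.isMaximal'
  have hnle : ¬ p.asIdeal ≤ q.asIdeal := by
    intro hle
    exact hpq (PrimeSpectrum.ext (hpmax.eq_of_le q.2.ne_top hle))
  obtain ⟨a, hap, haq⟩ := Set.not_subset.mp hnle
  obtain ⟨s, hs, n, hsn⟩ := exists_mul_pow_eq_zero p.asIdeal hap
  refine ⟨PrimeSpectrum.basicOpen s, PrimeSpectrum.basicOpen a,
    (PrimeSpectrum.basicOpen s).2, (PrimeSpectrum.basicOpen a).2, hs, haq, ?_⟩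
  rw [Set.disjoint_iff_inter_eq_empty, ← TopologicalSpace.Opens.coe_inf,
    ← PrimeSpectrum.basicOpen_mul]
  have hnil : IsNilpotent (s * a) := by
    refine ⟨n + 1, ?_⟩
    rw [mul_pow, pow_succ s, pow_succ a]
    calc s ^ n * s * (a ^ n * a) = s ^ n * a * (s * a ^ n) := by ring
      _ = 0 := by rw [hsn, mul_zero]
  rw [(PrimeSpectrum.basicOpen_eq_bot_iff _).mpr hnil]
  rfl

theorem krullDimLE_zero_of_isAffineOpen {X : Scheme.{u}} (h : topologicalKrullDim X ≤ 0)
    {U : X.Opens} (hU : IsAffineOpen U) : Ring.KrullDimLE 0 Γ(X, U) := by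
  rw [Ring.KrullDimLE, Order.krullDimLE_iff, ← ringKrullDim, Nat.cast_zero,
    ← PrimeSpectrum.topologicalKrullDim_eq_ringKrullDim Γ(X, U)]
  change topologicalKrullDim (Spec Γ(X, U)) ≤ 0
  rw [← IsHomeomorph.topologicalKrullDim_eq _ hU.isoSpec.hom.homeomorph.isHomeomorph]
  exact (topologicalKrullDim_subspace_le X U).trans h

theorem t2Space_of_isAffineOpen {X : Scheme.{u}} (h : topologicalKrullDim X ≤ 0)
    {U : X.Opens} (hU : IsAffineOpen U) : T2Space (U : Set X) := by
  have := krullDimLE_zero_of_isAffineOpen h hU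
  have : T2Space (Spec Γ(X, U)) := t2Space_primeSpectrum _
  have h2 : T2Space (U : Scheme.{u}) := hU.isoSpec.hom.homeomorph.symm.t2Space
  exact h2

/-- A quasi-separated scheme of dimension at most zero is Hausdorff. -/
theorem t2Space_of_quasiSeparated {X : Scheme.{u}} [QuasiSeparatedSpace X]
    (h : topologicalKrullDim X ≤ 0) : T2Space X := by
  refine ⟨fun x y hxy => ?_⟩
  obtain ⟨_, ⟨U, hU, rfl⟩, hxU, -⟩ :=
    X.isBasis_affineOpens.exists_subset_of_mem_open (Set.mem_univ x) isOpen_univ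
  obtain ⟨_, ⟨V, hV, rfl⟩, hyV, -⟩ :=
    X.isBasis_affineOpens.exists_subset_of_mem_open (Set.mem_univ y) isOpen_univ
  by_cases hyU : y ∈ U
  · have := t2Space_of_isAffineOpen h hU
    have hne : (⟨x, hxU⟩ : (U : Set X)) ≠ ⟨y, hyU⟩ := fun e => hxy (congrArg Subtype.val e)
    obtain ⟨A, B, hA, hB, hxA, hyB, hAB⟩ := t2_separation hne
    refine ⟨Subtype.val '' A, Subtype.val '' B, U.2.isOpenMap_subtype_val _ hA,
      U.2.isOpenMap_subtype_val _ hB, ⟨_, hxA, rfl⟩, ⟨_, hyB, rfl⟩, ?_⟩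
    exact (Set.disjoint_image_iff Subtype.val_injective).mpr hAB
  · have hcomp : IsCompact ((U : Set X) ∩ V) :=
      QuasiSeparatedSpace.inter_isCompact _ _ U.2 hU.isCompact V.2 hV.isCompact
    have := t2Space_of_isAffineOpen h hV
    let K : Set (V : Set X) := Subtype.val ⁻¹' (U : Set X)
    have hK : IsCompact K := by
      rw [Subtype.isCompact_iff, Set.image_preimage_eq_inter_range, Subtype.range_coe]
      exact hcomp
    have hopen : IsOpen (Subtype.val '' Kᶜ) :=
      V.2.isOpenMap_subtype_val _ hK.isClosed.isOpen_compl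
    refine ⟨U, Subtype.val '' Kᶜ, U.2, hopen, hxU, ⟨⟨y, hyV⟩, hyU, rfl⟩, ?_⟩
    rw [Set.disjoint_left]
    rintro _ hzU ⟨z, hz, rfl⟩
    exact hz hzU

theorem isAffineOpen_inf_of_isClopen {X : Scheme.{u}} {W : X.Opens} (hW : IsAffineOpen W)
    (C : X.Opens) (hC : IsClosed (C : Set X)) : IsAffineOpen (W ⊓ C) := by
  have hcl : @IsClopen (PrimeSpectrum Γ(X, W)) _ (hW.fromSpec.base ⁻¹' (C : Set X)) :=
    ⟨hC.preimage hW.fromSpec.continuous, C.2.preimage hW.fromSpec.continuous⟩
  obtain ⟨e, he, hse⟩ := PrimeSpectrum.isClopen_iff.mp hcl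
  have h2 : hW.fromSpec ⁻¹ᵁ C = PrimeSpectrum.basicOpen e := TopologicalSpace.Opens.ext hse
  have h1 : W ⊓ C = hW.fromSpec ''ᵁ (hW.fromSpec ⁻¹ᵁ C) := by
    rw [Scheme.Hom.image_preimage_eq_opensRange_inf, hW.opensRange_fromSpec]
  rw [h1, h2, hW.fromSpec_image_basicOpen]
  exact hW.basicOpen e

/-- In a Hausdorff scheme, every quasi-compact open is affine. -/
theorem isAffineOpen_of_isCompact_of_t2Space {X : Scheme.{u}} [T2Space X] (U : X.Opens)
    (hU : IsCompact (U : Set X)) : IsAffineOpen U := by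
  refine compact_open_induction_on (P := fun S => IsAffineOpen S) U hU (isAffineOpen_bot X) ?_
  intro S hS V hSaff
  have hVclosed : IsClosed ((V : X.Opens) : Set X) := (IsAffineOpen.isCompact V.2).isClosed
  let C : X.Opens := ⟨((V : X.Opens) : Set X)ᶜ, hVclosed.isOpen_compl⟩
  have hCclosed : IsClosed (C : Set X) := (V : X.Opens).2.isClosed_compl
  have h1 : IsAffineOpen (S ⊓ C) := isAffineOpen_inf_of_isClopen hSaff C hCclosed
  have hdisj : Disjoint (V : X.Opens) (S ⊓ C) := by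
    rw [← TopologicalSpace.Opens.coe_disjoint, Set.disjoint_left]
    rintro x hxV ⟨_, hxC⟩
    exact hxC hxV
  have heq : S ⊔ (V : X.Opens) = (V : X.Opens) ⊔ (S ⊓ C) := by
    ext x
    simp only [TopologicalSpace.Opens.coe_sup, TopologicalSpace.Opens.coe_inf, Set.mem_union,
      Set.mem_inter_iff, SetLike.mem_coe]
    constructor
    · rintro (hx | hx)
      · by_cases hxV : x ∈ (V : X.Opens)
        · exact Or.inl hxV
        · exact Or.inr ⟨hx, hxV⟩
      · exact Or.inl hx
    · rintro (hx | ⟨hx, _⟩)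
      · exact Or.inr hx
      · exact Or.inl hx
  change IsAffineOpen (S ⊔ (V : X.Opens))
  rw [heq]
  exact IsAffineOpen.sup_of_disjoint V.2 h1 hdisj

end Groth.Agent.H49
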