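import Groth.Prelude.Def_DescFam

/-!
# helper49: point-wise API for descent data relative to a family (`Desc.SchDDFam`)

* `PtMap D D'` : a family of maps on `T`-points, natural in `T` and compatible with the gluing
  bijections; `PtMap.toHom` is the corresponding morphism of descent data (Yoneda).
* `PtIso D D'` : the same with bijections; `PtIso.toIso : D ≅ D'`.
* `natIsoOfPtIso` : a natural isomorphism of functors into `SchDDFam` from point-wise bijections.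
* `pullLiftsEquiv`, `pullDDFam_map_push` : points of a pulled-back descent datum.
* `pullDDFamIsoOfSameBase`, `pullDDFamIdIso`, `pullDDFamCompIso`.
-/

set_option autoImplicit false
universe w'' w' w u

namespace Groth.Agent.H49

open CategoryTheory CategoryTheory.Limits AlgebraicGeometry Desc

section Basic

variable {S : Scheme.{u}} {ι : Type w} {X : ι → Scheme.{u}} {f : ∀ i, X i ⟶ S}

/-- The universal point of a scheme over `Y`. -/
def univPt {Y : Scheme.{u}} (V : Over Y) : Lifts V V.hom := ⟨𝟙 _, Category.id_comp _⟩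

/-- A family of maps on points, natural in the test scheme and compatible with the gluing. -/
structure PtMap (D D' : SchDDFam f) where
  θ : ∀ ⦃T : Scheme.{u}⦄ ⦃i : ι⦄ (x : T ⟶ X i), Lifts (D.obj i) x → Lifts (D'.obj i) x
  natural : ∀ ⦃T T' : Scheme.{u}⦄ (g : T' ⟶ T) ⦃i : ι⦄ (x : T ⟶ X i) (y : T' ⟶ X i)
    (_ : g ≫ x = y) (v : Lifts (D.obj i) x) (v' : Lifts (D.obj i) y), v'.1 = g ≫ v.1 →
    (θ y v').1 = g ≫ (θ x v).1
  compat : ∀ ⦃T : Scheme.{u}⦄ ⦃i j : ι⦄ (x₀ : T ⟶ X i) (x₁ : T ⟶ X j)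
    (h : x₀ ≫ f i = x₁ ≫ f j) (v : Lifts (D.obj i) x₀),
    D'.φ x₀ x₁ h (θ x₀ v) = θ x₁ (D.φ x₀ x₁ h v)

namespace PtMap

variable {D D' : SchDDFam f} (m : PtMap D D')

theorem comp_univ {T : Scheme.{u}} {i : ι} (x : T ⟶ X i) (v : Lifts (D.obj i) x) :
    v.1 ≫ (m.θ (D.obj i).hom (univPt _)).1 = (m.θ x v).1 :=
  (m.natural v.1 (D.obj i).hom x v.2 (univPt _) v (by simp [univPt])).symm

/-- The morphism of descent data attached to a natural family of maps on points. -/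
def toHom : D ⟶ D' where
  hom i := Over.homMk (m.θ (D.obj i).hom (univPt _)).1 (m.θ (D.obj i).hom (univPt _)).2
  comm T i j x₀ x₁ h v w hw := by
    have hw' : w = m.θ x₀ v := Subtype.ext (hw.trans (m.comp_univ x₀ v))
    rw [hw', m.compat]
    exact (m.comp_univ x₁ _).symm

@[simp] theorem toHom_hom_left (i : ι) :
    (m.toHom.hom i).left = (m.θ (D.obj i).hom (univPt _)).1 := rfl

theorem toHom_push {T : Scheme.{u}} {i : ι} {x : T ⟶ X i} (v : Lifts (D.obj i) x) :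
    m.toHom.push v = m.θ x v :=
  Subtype.ext (m.comp_univ x v)

end PtMap

/-- A family of bijections on points, natural in the test scheme and compatible with the gluing. -/
structure PtIso (D D' : SchDDFam f) where
  e : ∀ ⦃T : Scheme.{u}⦄ ⦃i : ι⦄ (x : T ⟶ X i), Lifts (D.obj i) x ≃ Lifts (D'.obj i) x
  natural : ∀ ⦃T T' : Scheme.{u}⦄ (g : T' ⟶ T) ⦃i : ι⦄ (x : T ⟶ X i) (y : T' ⟶ X i)
    (_ : g ≫ x = y) (v : Lifts (D.obj i) x) (v' : Lifts (D.obj i) y), v'.1 = g ≫ v.1 →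
    (e y v').1 = g ≫ (e x v).1
  compat : ∀ ⦃T : Scheme.{u}⦄ ⦃i j : ι⦄ (x₀ : T ⟶ X i) (x₁ : T ⟶ X j)
    (h : x₀ ≫ f i = x₁ ≫ f j) (v : Lifts (D.obj i) x₀),
    D'.φ x₀ x₁ h (e x₀ v) = e x₁ (D.φ x₀ x₁ h v)

namespace PtIso

variable {D D' : SchDDFam f} (m : PtIso D D')

/-- The underlying family of maps. -/
def toPtMap : PtMap D D' where
  θ _ _ x v := m.e x v
  natural := m.natural
  compat := m.compat

/-- The inverse family of bijections. -/
def symm : PtIso D' D where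
  e _ _ x := (m.e x).symm
  natural T T' g i x y hy v v' hv' := by
    have hu : (g ≫ ((m.e x).symm v).1) ≫ (D.obj i).hom = y := by
      rw [Category.assoc, ((m.e x).symm v).2, hy]
    have h1 : (m.e y ⟨g ≫ ((m.e x).symm v).1, hu⟩).1 = g ≫ (m.e x ((m.e x).symm v)).1 :=
      m.natural g x y hy ((m.e x).symm v) ⟨g ≫ ((m.e x).symm v).1, hu⟩ rfl
    rw [Equiv.apply_symm_apply, ← hv'] at h1
    have h2 : m.e y ⟨g ≫ ((m.e x).symm v).1, hu⟩ = v' := Subtype.ext h1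
    rw [← h2, Equiv.symm_apply_apply]
  compat T i j x₀ x₁ h v := by
    apply (m.e x₁).injective
    rw [Equiv.apply_symm_apply, ← m.compat, Equiv.apply_symm_apply]

/-- The isomorphism of descent data attached to a natural family of bijections on points. -/
def toIso : D ≅ D' where
  hom := m.toPtMap.toHom
  inv := m.symm.toPtMap.toHom
  hom_inv_id := by
    apply SchDDFam.hom_ext
    funext i
    apply Over.OverMorphism.ext
    change (m.toPtMap.θ (D.obj i).hom (univPt _)).1 ≫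
      (m.symm.toPtMap.θ (D'.obj i).hom (univPt _)).1 = 𝟙 _
    rw [m.symm.toPtMap.comp_univ]
    change ((m.e _).symm (m.e _ (univPt _))).1 = 𝟙 _
    rw [Equiv.symm_apply_apply]
    rfl
  inv_hom_id := by
    apply SchDDFam.hom_ext
    funext i
    apply Over.OverMorphism.ext
    change (m.symm.toPtMap.θ (D'.obj i).hom (univPt _)).1 ≫
      (m.toPtMap.θ (D.obj i).hom (univPt _)).1 = 𝟙 _
    rw [m.toPtMap.comp_univ]
    change (m.e _ ((m.e _).symm (univPt _))).1 = 𝟙 _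
    rw [Equiv.apply_symm_apply]
    rfl

theorem toIso_hom_push {T : Scheme.{u}} {i : ι} {x : T ⟶ X i} (v : Lifts (D.obj i) x) :
    m.toIso.hom.push v = m.e x v :=
  m.toPtMap.toHom_push v

end PtIso

/-- Two morphisms of descent data that agree on all points are equal. -/
theorem hom_ext_push {D D' : SchDDFam f} (a b : D ⟶ D')
    (h : ∀ ⦃T : Scheme.{u}⦄ ⦃i : ι⦄ (x : T ⟶ X i) (v : Lifts (D.obj i) x), a.push v = b.push v) :
    a = b := by
  apply SchDDFam.hom_ext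
  funext i
  apply Over.OverMorphism.ext
  have := congrArg Subtype.val (h (D.obj i).hom (univPt _))
  simpa [SchDDFam.Hom.push, univPt] using this

theorem push_comp {D D' D'' : SchDDFam f} (a : D ⟶ D') (b : D' ⟶ D'') {T : Scheme.{u}} {i : ι}
    {x : T ⟶ X i} (v : Lifts (D.obj i) x) : (a ≫ b).push v = b.push (a.push v) :=
  Subtype.ext (by simp [SchDDFam.Hom.push])

/-- A natural isomorphism of functors with values in descent data, from point-wise bijections. -/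
def natIsoOfPtIso {𝒞 : Type*} [Category 𝒞] (F G : 𝒞 ⥤ SchDDFam f)
    (e : ∀ D, PtIso (F.obj D) (G.obj D))
    (hnat : ∀ ⦃D D' : 𝒞⦄ (a : D ⟶ D') ⦃T : Scheme.{u}⦄ ⦃i : ι⦄ (x : T ⟶ X i)
      (v : Lifts ((F.obj D).obj i) x),
      (e D').e x ((F.map a).push v) = (G.map a).push ((e D).e x v)) : F ≅ G :=
  NatIso.ofComponents (fun D => (e D).toIso) (by
    intro D D' a
    apply hom_ext_push
    intro T i x v
    rw [push_comp, push_comp, PtIso.toIso_hom_push, PtIso.toIso_hom_push, hnat])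

theorem comm_push {D D' : SchDDFam f} (a : D ⟶ D') {T : Scheme.{u}} {i j : ι} (x₀ : T ⟶ X i)
    (x₁ : T ⟶ X j) (h : x₀ ≫ f i = x₁ ≫ f j) (v : Lifts (D.obj i) x₀) :
    D'.φ x₀ x₁ h (a.push v) = a.push (D.φ x₀ x₁ h v) :=
  Subtype.ext (a.comm x₀ x₁ h v (a.push v) rfl)

end Basic

section Desc

variable {S : Scheme.{u}} {ι : Type w} {X : ι → Scheme.{u}} {f : ∀ i, X i ⟶ S}
  {S' : Scheme.{u}} {ι' : Type w'} {X' : ι' → Scheme.{u}} {f' : ∀ j, X' j ⟶ S'}

/-- A description of the points of the values of a functor between categories of descent data: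
the points of `(G.obj D).obj j` over `x` are the points of `D.obj (β j)` over `ψ x`, compatibly
with the gluing bijections and with morphisms. -/
structure PtDesc (G : SchDDFam f ⥤ SchDDFam f') where
  β : ι' → ι
  ψ : ∀ ⦃T : Scheme.{u}⦄ ⦃j : ι'⦄, (T ⟶ X' j) → (T ⟶ X (β j))
  ψ_natural : ∀ ⦃T T' : Scheme.{u}⦄ (g : T' ⟶ T) ⦃j : ι'⦄ (x : T ⟶ X' j), ψ (g ≫ x) = g ≫ ψ x
  ψ_compat : ∀ ⦃T : Scheme.{u}⦄ ⦃j₀ j₁ : ι'⦄ (x₀ : T ⟶ X' j₀) (x₁ : T ⟶ X' j₁),
    x₀ ≫ f' j₀ = x₁ ≫ f' j₁ → ψ x₀ ≫ f (β j₀) = ψ x₁ ≫ f (β j₁)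
  e : ∀ (D : SchDDFam f) ⦃T : Scheme.{u}⦄ ⦃j : ι'⦄ (x : T ⟶ X' j),
    Lifts ((G.obj D).obj j) x ≃ Lifts (D.obj (β j)) (ψ x)
  e_natural : ∀ (D : SchDDFam f) ⦃T T' : Scheme.{u}⦄ (g : T' ⟶ T) ⦃j : ι'⦄ (x : T ⟶ X' j)
    (y : T' ⟶ X' j) (_ : g ≫ x = y) (v : Lifts ((G.obj D).obj j) x)
    (v' : Lifts ((G.obj D).obj j) y), v'.1 = g ≫ v.1 → (e D y v').1 = g ≫ (e D x v).1
  e_φ : ∀ (D : SchDDFam f) ⦃T : Scheme.{u}⦄ ⦃j₀ j₁ : ι'⦄ (x₀ : T ⟶ X' j₀) (x₁ : T ⟶ X' j₁)
    (h : x₀ ≫ f' j₀ = x₁ ≫ f' j₁) (v : Lifts ((G.obj D).obj j₀) x₀),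
    e D x₁ ((G.obj D).φ x₀ x₁ h v) = D.φ (ψ x₀) (ψ x₁) (ψ_compat x₀ x₁ h) (e D x₀ v)
  e_map : ∀ ⦃D D' : SchDDFam f⦄ (a : D ⟶ D') ⦃T : Scheme.{u}⦄ ⦃j : ι'⦄ (x : T ⟶ X' j)
    (v : Lifts ((G.obj D).obj j) x), e D' x ((G.map a).push v) = a.push (e D x v)

namespace PtDesc

variable {G : SchDDFam f ⥤ SchDDFam f'} (d : PtDesc G)

theorem e_symm_natural (D : SchDDFam f) ⦃T T' : Scheme.{u}⦄ (g : T' ⟶ T) ⦃j : ι'⦄
    (x : T ⟶ X' j) (y : T' ⟶ X' j) (hy : g ≫ x = y) (u₁ : Lifts (D.obj (d.β j)) (d.ψ x))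
    (u₂ : Lifts (D.obj (d.β j)) (d.ψ y)) (hu : u₂.1 = g ≫ u₁.1) :
    ((d.e D y).symm u₂).1 = g ≫ ((d.e D x).symm u₁).1 := by
  have hv : (g ≫ ((d.e D x).symm u₁).1) ≫ ((G.obj D).obj j).hom = y := by
    rw [Category.assoc, ((d.e D x).symm u₁).2, hy]
  have h1 := d.e_natural D g x y hy ((d.e D x).symm u₁) ⟨g ≫ ((d.e D x).symm u₁).1, hv⟩ rfl
  rw [Equiv.apply_symm_apply, ← hu] at h1
  have h2 : d.e D y ⟨g ≫ ((d.e D x).symm u₁).1, hv⟩ = u₂ := Subtype.ext h1
  rw [← h2, Equiv.symm_apply_apply]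

end PtDesc

/-- Two functors whose points are described by data with the same image in the base are
naturally isomorphic. -/
def natIsoOfPtDesc {G G' : SchDDFam f ⥤ SchDDFam f'} (d : PtDesc G) (d' : PtDesc G')
    (hbase : ∀ ⦃T : Scheme.{u}⦄ ⦃j : ι'⦄ (x : T ⟶ X' j),
      d.ψ x ≫ f (d.β j) = d'.ψ x ≫ f (d'.β j)) : G ≅ G' :=
  natIsoOfPtIso G G'
    (fun D =>
      { e := fun _ _ x => (d.e D x).trans ((D.φ (d.ψ x) (d'.ψ x) (hbase x)).trans (d'.e D x).symm)
        natural := by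
          intro T T' g j x y hy v v' hv'
          simp only [Equiv.trans_apply]
          refine d'.e_symm_natural D g x y hy _ _ ?_
          exact D.φ_natural g (d.ψ x) (d'.ψ x) (hbase x) (d.ψ y) (d'.ψ y)
            (by rw [← hy, d.ψ_natural]) (by rw [← hy, d'.ψ_natural]) (hbase y) _ _
            (d.e_natural D g x y hy v v' hv')
        compat := by
          intro T j₀ j₁ x₀ x₁ h v
          apply (d'.e D x₁).injective
          simp only [Equiv.trans_apply, Equiv.apply_symm_apply, d'.e_φ, d.e_φ, D.φ_comp] })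
    (by
      intro D D' a T j x v
      apply (d'.e D' x).injective
      simp only [Equiv.trans_apply, Equiv.apply_symm_apply, d'.e_map, d.e_map, comm_push])

/-- The identity functor is described by the identity. -/
def PtDesc.id : PtDesc (𝟭 (SchDDFam f)) where
  β := _root_.id
  ψ _ _ x := x
  ψ_natural _ _ _ _ _ := rfl
  ψ_compat _ _ _ _ _ h := h
  e _ _ _ _ := Equiv.refl _
  e_natural _ _ _ _ _ _ _ _ _ _ h := h
  e_φ _ _ _ _ _ _ _ _ := rfl
  e_map _ _ _ _ _ _ _ := rfl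

/-- Composition of described functors. -/
def PtDesc.comp {S'' : Scheme.{u}} {ι'' : Type w''} {X'' : ι'' → Scheme.{u}}
    {f'' : ∀ k, X'' k ⟶ S''} {G : SchDDFam f ⥤ SchDDFam f'} {G' : SchDDFam f' ⥤ SchDDFam f''}
    (d : PtDesc G) (d' : PtDesc G') : PtDesc (G ⋙ G') where
  β := d.β ∘ d'.β
  ψ _ _ x := d.ψ (d'.ψ x)
  ψ_natural T T' g j x := by rw [d'.ψ_natural, d.ψ_natural]
  ψ_compat T j₀ j₁ x₀ x₁ h := d.ψ_compat _ _ (d'.ψ_compat _ _ h)
  e D _ _ x := (d'.e (G.obj D) x).trans (d.e D (d'.ψ x))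
  e_natural D T T' g j x y hy v v' hv' := by
    simp only [Equiv.trans_apply]
    exact d.e_natural D g (d'.ψ x) (d'.ψ y) (by rw [← hy, d'.ψ_natural]) _ _
      (d'.e_natural (G.obj D) g x y hy v v' hv')
  e_φ D T j₀ j₁ x₀ x₁ h v := by
    simp only [Equiv.trans_apply, Functor.comp_obj, d'.e_φ, d.e_φ]
  e_map D D' a T j x v := by
    simp only [Equiv.trans_apply, Functor.comp_map, d'.e_map, d.e_map]

end Desc

section Pull

variable {S : Scheme.{u}} {ι : Type w} {X : ι → Scheme.{u}} {f : ∀ i, X i ⟶ S}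
  {S' : Scheme.{u}} {ι' : Type w'} {X' : ι' → Scheme.{u}} {f' : ∀ j, X' j ⟶ S'}
  {α : ι' → ι} {p : S' ⟶ S} {p' : ∀ j, X' j ⟶ X (α j)} (w : ∀ j, p' j ≫ f (α j) = f' j ≫ p)

theorem liftsPullbackEquiv_val {Y Y' : Scheme.{u}} (V : Over Y) (q : Y' ⟶ Y) {T : Scheme.{u}}
    (x : T ⟶ Y') (v : Lifts (Over.mk (pullback.snd V.hom q)) x) :
    (liftsPullbackEquiv V q x v).1 = v.1 ≫ pullback.fst V.hom q := rfl

theorem pullDDFam_map_hom_left {D D' : SchDDFam f} (a : D ⟶ D') (j : ι') :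
    (((pullDDFam w).map a).hom j).left =
      pullback.map (D.obj (α j)).hom (p' j) (D'.obj (α j)).hom (p' j) (a.hom (α j)).left (𝟙 _)
        (𝟙 _) (by simp [Over.w]) (by simp) := rfl

/-- The pullback functor on descent data is described by composition with the `p' j`. -/
noncomputable def PtDesc.pull : PtDesc (pullDDFam w) where
  β := α
  ψ _ j x := x ≫ p' j
  ψ_natural _ _ _ _ _ := Category.assoc _ _ _
  ψ_compat _ _ _ x₀ x₁ h := pull_compat w x₀ x₁ h
  e D _ j x := liftsPullbackEquiv (D.obj (α j)) (p' j) x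
  e_natural D T T' g j x y hy v v' hv' := by
    change v'.1 ≫ pullback.fst _ _ = g ≫ (v.1 ≫ pullback.fst _ _)
    rw [hv', Category.assoc]
  e_φ D T j₀ j₁ x₀ x₁ h v := by
    change liftsPullbackEquiv _ _ _ ((liftsPullbackEquiv _ _ _).symm _) = _
    rw [Equiv.apply_symm_apply]
    rfl
  e_map D D' a T j x v := by
    apply Subtype.ext
    change (v.1 ≫ (((pullDDFam w).map a).hom j).left) ≫ pullback.fst _ _ =
      (v.1 ≫ pullback.fst _ _) ≫ (a.hom (α j)).left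
    rw [pullDDFam_map_hom_left, Category.assoc, Category.assoc]
    congr 1
    exact pullback.lift_fst _ _ _

end Pull

end Groth.Agent.H49
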