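import Groth.Agent.H49.DescFam
import Mathlib.CategoryTheory.Sites.IsSheafFor

/-!
# helper49: full faithfulness of pullback of descent data along a refinement

`pullDDFam_full_faithful`: let `(α, g)` be a morphism of families from `a i : U i ⟶ S` to
`b j : V j ⟶ S` over the identity of `S`.  If for every `y : T ⟶ V j` the sieve on `T` of those
`c : T' ⟶ T` such that `c ≫ y ≫ b j` factors through some `a i` is one for which all representable
presheaves are sheaves, then the pullback functor on descent data is full and faithful.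
-/

set_option autoImplicit false
universe w' w u

namespace Groth.Agent.H49

open CategoryTheory CategoryTheory.Limits AlgebraicGeometry Desc Opposite

section FF

variable {S : Scheme.{u}} {ι : Type w'} {κ : Type w} {U : ι → Scheme.{u}} {V : κ → Scheme.{u}}
  {a : ∀ i, U i ⟶ S} {b : ∀ j, V j ⟶ S} {α : ι → κ} {g : ∀ i, U i ⟶ V (α i)}

/-- A morphism between pulled-back descent data, in terms of points. -/
structure PullMap (g : ∀ i, U i ⟶ V (α i)) (D D' : SchDDFam b) where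
  θ : ∀ ⦃T : Scheme.{u}⦄ ⦃i : ι⦄ (x : T ⟶ U i),
    Lifts (D.obj (α i)) (x ≫ g i) → Lifts (D'.obj (α i)) (x ≫ g i)
  natural : ∀ ⦃T T' : Scheme.{u}⦄ (c : T' ⟶ T) ⦃i : ι⦄ (x : T ⟶ U i) (y : T' ⟶ U i)
    (_ : c ≫ x = y) (v : Lifts (D.obj (α i)) (x ≫ g i)) (v' : Lifts (D.obj (α i)) (y ≫ g i)),
    v'.1 = c ≫ v.1 → (θ y v').1 = c ≫ (θ x v).1
  compat : ∀ ⦃T : Scheme.{u}⦄ ⦃i₀ i₁ : ι⦄ (x₀ : T ⟶ U i₀) (x₁ : T ⟶ U i₁)
    (h : (x₀ ≫ g i₀) ≫ b (α i₀) = (x₁ ≫ g i₁) ≫ b (α i₁))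
    (v : Lifts (D.obj (α i₀)) (x₀ ≫ g i₀)),
    D'.φ (x₀ ≫ g i₀) (x₁ ≫ g i₁) h (θ x₀ v) = θ x₁ (D.φ (x₀ ≫ g i₀) (x₁ ≫ g i₁) h v)

namespace PullMap

variable {D D' : SchDDFam b} (m : PullMap g D D')

/-- The core formula: transport a point over `z` to a point over `x ≫ g i`, apply `θ`, and
transport back. -/
def core {T : Scheme.{u}} {j : κ} (z : T ⟶ V j) (vz : Lifts (D.obj j) z) {i : ι} (x : T ⟶ U i)
    (hx : (x ≫ g i) ≫ b (α i) = z ≫ b j) : Lifts (D'.obj j) z :=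
  D'.φ (x ≫ g i) z hx (m.θ x (D.φ z (x ≫ g i) hx.symm vz))

theorem core_indep {T : Scheme.{u}} {j : κ} (z : T ⟶ V j) (vz : Lifts (D.obj j) z) {i i' : ι}
    (x : T ⟶ U i) (hx : (x ≫ g i) ≫ b (α i) = z ≫ b j) (x' : T ⟶ U i')
    (hx' : (x' ≫ g i') ≫ b (α i') = z ≫ b j) : m.core z vz x hx = m.core z vz x' hx' := by
  unfold core
  rw [← D.φ_comp z (x ≫ g i) (x' ≫ g i') hx.symm (hx.trans hx'.symm) vz, ← m.compat, D'.φ_comp]

theorem core_natural {T T' : Scheme.{u}} (c : T' ⟶ T) {j : κ} (z : T ⟶ V j) (z' : T' ⟶ V j)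
    (hz : c ≫ z = z') (vz : Lifts (D.obj j) z) (vz' : Lifts (D.obj j) z') (hv : vz'.1 = c ≫ vz.1)
    {i : ι} (x : T ⟶ U i) (x' : T' ⟶ U i) (hxx : c ≫ x = x')
    (hx : (x ≫ g i) ≫ b (α i) = z ≫ b j) (hx' : (x' ≫ g i) ≫ b (α i) = z' ≫ b j) :
    (m.core z' vz' x' hx').1 = c ≫ (m.core z vz x hx).1 := by
  have h1 : c ≫ x ≫ g i = x' ≫ g i := by rw [← hxx, Category.assoc]
  unfold core
  refine D'.φ_natural c (x ≫ g i) z hx (x' ≫ g i) z' h1 hz hx' _ _ ?_
  refine m.natural c x x' hxx _ _ ?_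
  exact D.φ_natural c z (x ≫ g i) hx.symm z' (x' ≫ g i) hz h1 hx'.symm vz vz' hv

theorem core_φ {T : Scheme.{u}} {j₀ j₁ : κ} (z₀ : T ⟶ V j₀) (z₁ : T ⟶ V j₁)
    (h : z₀ ≫ b j₀ = z₁ ≫ b j₁) (vz : Lifts (D.obj j₀) z₀) {i : ι} (x : T ⟶ U i)
    (hx : (x ≫ g i) ≫ b (α i) = z₀ ≫ b j₀) :
    D'.φ z₀ z₁ h (m.core z₀ vz x hx) = m.core z₁ (D.φ z₀ z₁ h vz) x (hx.trans h) := by
  unfold core
  rw [D'.φ_comp, D.φ_comp]

theorem core_self {T : Scheme.{u}} {i : ι} (x : T ⟶ U i) (vz : Lifts (D.obj (α i)) (x ≫ g i)) :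
    m.core (x ≫ g i) vz x rfl = m.θ x vz := by
  unfold core
  rw [D'.φ_self, D.φ_self]

theorem core_congr {T : Scheme.{u}} {j : κ} (z z' : T ⟶ V j) (hz : z = z')
    (vz : Lifts (D.obj j) z) (vz' : Lifts (D.obj j) z') (hv : vz.1 = vz'.1) {i : ι} (x : T ⟶ U i)
    (hx : (x ≫ g i) ≫ b (α i) = z ≫ b j) (hx' : (x ≫ g i) ≫ b (α i) = z' ≫ b j) :
    (m.core z vz x hx).1 = (m.core z' vz' x hx').1 := by
  subst hz
  have : vz = vz' := Subtype.ext hv
  subst this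
  rfl

end PullMap

section Amalg

variable (hw : ∀ i, g i ≫ b (α i) = a i ≫ 𝟙 S)
  (hsh : ∀ ⦃T : Scheme.{u}⦄ ⦃j : κ⦄ (y : T ⟶ V j) (Z : Scheme.{u}),
      Presieve.IsSheafFor (yoneda.obj Z) ((Sieve.ofArrows U a).pullback (y ≫ b j)).arrows)

include hw in
theorem mem_sieve_iff {T T' : Scheme.{u}} {j : κ} (y : T ⟶ V j) (c : T' ⟶ T) :
    ((Sieve.ofArrows U a).pullback (y ≫ b j)) c ↔
      ∃ (i : ι) (x : T' ⟶ U i), (x ≫ g i) ≫ b (α i) = (c ≫ y) ≫ b j := by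
  rw [Sieve.pullback_apply, Sieve.mem_ofArrows_iff]
  constructor
  · rintro ⟨i, x, hx⟩
    refine ⟨i, x, ?_⟩
    rw [Category.assoc, hw, Category.comp_id, ← hx, Category.assoc]
  · rintro ⟨i, x, hx⟩
    refine ⟨i, x, ?_⟩
    rw [Category.assoc, hw, Category.comp_id] at hx
    rw [hx, Category.assoc]

include hw hsh in
theorem sep {T : Scheme.{u}} {j : κ} (y : T ⟶ V j) {Z : Scheme.{u}} (t₁ t₂ : T ⟶ Z)
    (h : ∀ ⦃T' : Scheme.{u}⦄ (c : T' ⟶ T) (i : ι) (x : T' ⟶ U i),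
      (x ≫ g i) ≫ b (α i) = (c ≫ y) ≫ b j → c ≫ t₁ = c ≫ t₂) : t₁ = t₂ := by
  refine (hsh y Z).isSeparatedFor.ext (t₁ := t₁) (t₂ := t₂) fun T' c hc => ?_
  obtain ⟨i, x, hx⟩ := (mem_sieve_iff hw y c).mp hc
  exact h c i x hx

variable {D D' : SchDDFam b}

include hw hsh in
theorem exists_amalg (m : PullMap g D D') {T : Scheme.{u}} {j : κ} (y : T ⟶ V j)
    (vy : Lifts (D.obj j) y) :
    ∃ t : Lifts (D'.obj j) y, ∀ ⦃T' : Scheme.{u}⦄ (c : T' ⟶ T) (i : ι) (x : T' ⟶ U i)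
      (hx : (x ≫ g i) ≫ b (α i) = (c ≫ y) ≫ b j),
      c ≫ t.1 = (m.core (c ≫ y) ⟨c ≫ vy.1, by rw [Category.assoc, vy.2]⟩ x hx).1 := by
  classical
  let fam : Presieve.FamilyOfElements (yoneda.obj (D'.obj j).left)
      ((Sieve.ofArrows U a).pullback (y ≫ b j)).arrows :=
    fun T' c hc => (m.core (c ≫ y) ⟨c ≫ vy.1, by rw [Category.assoc, vy.2]⟩
      ((mem_sieve_iff hw y c).mp hc).choose_spec.choose
      ((mem_sieve_iff hw y c).mp hc).choose_spec.choose_spec).1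
  have fam_eq : ∀ ⦃T' : Scheme.{u}⦄ (c : T' ⟶ T) (hc) (i : ι) (x : T' ⟶ U i)
      (hx : (x ≫ g i) ≫ b (α i) = (c ≫ y) ≫ b j),
      fam c hc = (m.core (c ≫ y) ⟨c ≫ vy.1, by rw [Category.assoc, vy.2]⟩ x hx).1 :=
    fun T' c hc i x hx => congrArg Subtype.val (m.core_indep _ _ _ _ _ _)
  have hcompat : fam.Compatible := by
    rw [Presieve.compatible_iff_sieveCompatible]
    intro T' T'' c e hc
    obtain ⟨i, x, hx⟩ := (mem_sieve_iff hw y c).mp hc
    have hx' : ((e ≫ x) ≫ g i) ≫ b (α i) = ((e ≫ c) ≫ y) ≫ b j := by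
      simp only [Category.assoc] at hx ⊢
      rw [hx]
    rw [fam_eq (e ≫ c) (Sieve.downward_closed _ hc e) i (e ≫ x) hx', fam_eq c hc i x hx]
    exact m.core_natural e (c ≫ y) ((e ≫ c) ≫ y) (Category.assoc _ _ _).symm _ _
      (Category.assoc _ _ _) x (e ≫ x) rfl hx hx'
  obtain ⟨t, ht, -⟩ := hsh y _ fam hcompat
  have ht' : ∀ ⦃T' : Scheme.{u}⦄ (c : T' ⟶ T) (i : ι) (x : T' ⟶ U i)
      (hx : (x ≫ g i) ≫ b (α i) = (c ≫ y) ≫ b j),
      c ≫ t = (m.core (c ≫ y) ⟨c ≫ vy.1, by rw [Category.assoc, vy.2]⟩ x hx).1 := by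
    intro T' c i x hx
    have hc := (mem_sieve_iff hw y c).mpr ⟨i, x, hx⟩
    exact (ht c hc).trans (fam_eq c hc i x hx)
  refine ⟨⟨t, ?_⟩, ht'⟩
  apply sep hw hsh y
  intro T' c i x hx
  rw [← Category.assoc, ht' c i x hx]
  exact (m.core _ _ x hx).2

/-- The extension of a map on pulled-back points to all points. -/
noncomputable def PullMap.extend (m : PullMap g D D') {T : Scheme.{u}} {j : κ} (y : T ⟶ V j)
    (vy : Lifts (D.obj j) y) : Lifts (D'.obj j) y :=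
  (exists_amalg hw hsh m y vy).choose

theorem PullMap.extend_spec (m : PullMap g D D') {T : Scheme.{u}} {j : κ} (y : T ⟶ V j)
    (vy : Lifts (D.obj j) y) ⦃T' : Scheme.{u}⦄ (c : T' ⟶ T) (i : ι) (x : T' ⟶ U i)
    (hx : (x ≫ g i) ≫ b (α i) = (c ≫ y) ≫ b j) :
    c ≫ (m.extend hw hsh y vy).1 =
      (m.core (c ≫ y) ⟨c ≫ vy.1, by rw [Category.assoc, vy.2]⟩ x hx).1 :=
  (exists_amalg hw hsh m y vy).choose_spec c i x hx

theorem PullMap.extend_self (m : PullMap g D D') {T : Scheme.{u}} {i : ι} (x : T ⟶ U i)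
    (vz : Lifts (D.obj (α i)) (x ≫ g i)) : m.extend hw hsh (x ≫ g i) vz = m.θ x vz := by
  apply Subtype.ext
  have h1 := m.extend_spec hw hsh (x ≫ g i) vz (𝟙 T) i x (by rw [Category.id_comp])
  rw [Category.id_comp] at h1
  rw [h1, ← m.core_self x vz]
  exact m.core_congr _ _ (Category.id_comp _) _ _ (Category.id_comp _) x _ _

/-- The natural family of maps on all points attached to a map on pulled-back points. -/
noncomputable def PullMap.toPtMap (m : PullMap g D D') : PtMap D D' where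
  θ _ _ y vy := m.extend hw hsh y vy
  natural T T₁ c₀ j y y₁ hy vy vy₁ hv := by
    apply sep hw hsh y₁
    intro T' c i x hx
    have hx' : (x ≫ g i) ≫ b (α i) = ((c ≫ c₀) ≫ y) ≫ b j := by
      rw [hx, ← hy, Category.assoc c c₀ y]
    refine (m.extend_spec hw hsh y₁ vy₁ c i x hx).trans (Eq.trans ?_
      ((Category.assoc c c₀ _).symm.trans (m.extend_spec hw hsh y vy (c ≫ c₀) i x hx')).symm)
    refine m.core_congr _ _ ?_ _ _ ?_ x _ _
    · rw [← hy, Category.assoc]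
    · change c ≫ vy₁.1 = (c ≫ c₀) ≫ vy.1
      rw [hv, Category.assoc]
  compat T j₀ j₁ y₀ y₁ h vy := by
    apply Subtype.ext
    apply sep hw hsh y₁
    intro T' c i x hx
    have hx₀ : (x ≫ g i) ≫ b (α i) = (c ≫ y₀) ≫ b j₀ := by
      rw [hx, Category.assoc, Category.assoc, h]
    have hc : (c ≫ y₀) ≫ b j₀ = (c ≫ y₁) ≫ b j₁ := by
      rw [Category.assoc, Category.assoc, h]
    have e1 : c ≫ (D'.φ y₀ y₁ h (m.extend hw hsh y₀ vy)).1 =
        (D'.φ (c ≫ y₀) (c ≫ y₁) hc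
          (m.core (c ≫ y₀) ⟨c ≫ vy.1, by rw [Category.assoc, vy.2]⟩ x hx₀)).1 :=
      (D'.φ_natural c y₀ y₁ h (c ≫ y₀) (c ≫ y₁) rfl rfl hc _ _
        (m.extend_spec hw hsh y₀ vy c i x hx₀).symm).symm
    rw [e1, m.core_φ, m.extend_spec hw hsh y₁ _ c i x hx]
    refine m.core_congr _ _ rfl _ _ ?_ x _ _
    exact D.φ_natural c y₀ y₁ h (c ≫ y₀) (c ≫ y₁) rfl rfl hc vy
      ⟨c ≫ vy.1, by rw [Category.assoc, vy.2]⟩ rfl

end Amalg

section Main

variable (hw : ∀ i, g i ≫ b (α i) = a i ≫ 𝟙 S)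

/-- The map on pulled-back points attached to a morphism between pulled-back descent data. -/
noncomputable def PullMap.ofHom {D D' : SchDDFam b}
    (ψ : (pullDDFam hw).obj D ⟶ (pullDDFam hw).obj D') : PullMap g D D' where
  θ _ _ x u := (PtDesc.pull hw).e D' x (ψ.push (((PtDesc.pull hw).e D x).symm u))
  natural T T' c i x y hy v v' hv := by
    refine (PtDesc.pull hw).e_natural D' c x y hy _ _ ?_
    change (((PtDesc.pull hw).e D y).symm v').1 ≫ (ψ.hom i).left =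
      c ≫ (((PtDesc.pull hw).e D x).symm v).1 ≫ (ψ.hom i).left
    rw [(PtDesc.pull hw).e_symm_natural D c x y hy v v' hv, Category.assoc]
  compat T i₀ i₁ x₀ x₁ h v := by
    have h' : x₀ ≫ a i₀ = x₁ ≫ a i₁ := by
      have := h
      simp only [Category.assoc, hw, Category.comp_id] at this
      exact this
    have e1 := (PtDesc.pull hw).e_φ D' x₀ x₁ h' (ψ.push (((PtDesc.pull hw).e D x₀).symm v))
    have e2 := (PtDesc.pull hw).e_φ D x₀ x₁ h' (((PtDesc.pull hw).e D x₀).symm v)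
    rw [Equiv.apply_symm_apply] at e2
    rw [comm_push] at e1
    refine e1.symm.trans ?_
    congr 2
    rw [Equiv.eq_symm_apply]
    exact e2

variable (hsh : ∀ ⦃T : Scheme.{u}⦄ ⦃j : κ⦄ (y : T ⟶ V j) (Z : Scheme.{u}),
      Presieve.IsSheafFor (yoneda.obj Z) ((Sieve.ofArrows U a).pullback (y ≫ b j)).arrows)

include hsh in
/-- Pullback of descent data along a refinement is full and faithful as soon as representable
presheaves are sheaves for the pulled back sieves generated by the finer family. -/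
theorem pullDDFam_full_faithful : (pullDDFam hw).Full ∧ (pullDDFam hw).Faithful := by
  constructor
  · constructor
    intro D D' ψ
    refine ⟨((PullMap.ofHom hw ψ).toPtMap hw hsh).toHom, ?_⟩
    apply hom_ext_push
    intro T i x w
    apply ((PtDesc.pull hw).e D' x).injective
    rw [(PtDesc.pull hw).e_map, PtMap.toHom_push]
    change (PullMap.ofHom hw ψ).extend hw hsh (x ≫ g i) ((PtDesc.pull hw).e D x w) =
      (PtDesc.pull hw).e D' x (ψ.push w)
    rw [PullMap.extend_self]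
    change (PtDesc.pull hw).e D' x (ψ.push (((PtDesc.pull hw).e D x).symm
      ((PtDesc.pull hw).e D x w))) = _
    rw [Equiv.symm_apply_apply]
  · constructor
    intro D D' h₁ h₂ heq
    have star : ∀ ⦃T : Scheme.{u}⦄ (i : ι) (x : T ⟶ U i)
        (u : Lifts (D.obj (α i)) (x ≫ g i)), h₁.push u = h₂.push u := by
      intro T i x u
      have e1 := (PtDesc.pull hw).e_map h₁ x (((PtDesc.pull hw).e D x).symm u)
      have e2 := (PtDesc.pull hw).e_map h₂ x (((PtDesc.pull hw).e D x).symm u)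
      rw [Equiv.apply_symm_apply] at e1 e2
      rw [heq] at e1
      exact e1.symm.trans e2
    apply hom_ext_push
    intro T j y vy
    apply Subtype.ext
    apply sep hw hsh y
    intro T' c i x hx
    have key := star i x
      (D.φ (c ≫ y) (x ≫ g i) hx.symm ⟨c ≫ vy.1, by rw [Category.assoc, vy.2]⟩)
    rw [← comm_push, ← comm_push] at key
    have key2 := (D'.φ _ _ hx.symm).injective key
    have key3 : (c ≫ vy.1) ≫ (h₁.hom j).left = (c ≫ vy.1) ≫ (h₂.hom j).left :=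
      congrArg Subtype.val key2
    change c ≫ vy.1 ≫ (h₁.hom j).left = c ≫ vy.1 ≫ (h₂.hom j).left
    rw [← Category.assoc, key3, Category.assoc]

end Main

end FF

end Groth.Agent.H49
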