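import Groth.Agent.H49.FppfSource
import Groth.Agent.H51.SrcLocP
import Groth.Agent.H51.ChartLifts
import Groth.Agent.H51.EtaleIff
import Groth.Agent.H52.EtLocalInst

/-!
# fppf descent on the source for morphisms of algebraic spaces (helper49; uses helper51/52 toolkit)
-/

set_option autoImplicit false
universe u

open AlgebraicGeometry CategoryTheory Limits MorphismProperty AlgSp

namespace Groth.Agent.H49.AlgSpFppf

variable {S : Scheme.{u}}

/-- If a property `P` of morphisms of schemes descends on the source along jointly surjective fppf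
families, then `LocP P` descends on the source along surjective fppf morphisms of algebraic
spaces. -/
theorem locP_of_comp_of_fppf (P : MorphismProperty Scheme.{u})
    (hdesc : ∀ {ι : Type u} {X : ι → Scheme.{u}} {Y Z : Scheme.{u}}
      (e : ∀ i, X i ⟶ Y) (h : Y ⟶ Z), (∀ i, Flat (e i)) →
      (∀ i, LocallyOfFinitePresentation (e i)) → (∀ y : Y, ∃ i, y ∈ Set.range (e i)) →
      (∀ i, P (e i ≫ h)) → P h)
    {X' X Y : Sp S} (hX : IsAlgSpace X) (hX' : IsAlgSpace X') (g : X' ⟶ X)
    (hs : IsSurjectiveMor g) (hfl : LocP @Flat g) (hfp : LocP @LocallyOfFinitePresentation g)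
    (f : X ⟶ Y) (h : LocP P (g ≫ f)) : LocP P f := by
  intro U V a b k ha hb comm
  obtain ⟨V', c, l, hl, hs', hP, het⟩ := Groth.Agent.H51.exists_chart_lifts hX
    (fun _ : PUnit.{u + 1} => X') (fun _ => g) (fun _ => hX') (fun x => ⟨⟨⟩, hs x⟩) U a
  refine hdesc (fun i => (c i).left) k.left
    (fun i => hP @Flat Groth.Agent.H52.etLocal_flat i hfl)
    (fun i => hP @LocallyOfFinitePresentation Groth.Agent.H52.etLocal_lfp i hfp) hs' (fun i => ?_)
  rw [← Over.comp_left]
  refine h (l i) b (c i ≫ k) (het ha i) hb ?_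
  rw [← Category.assoc, hl i, Category.assoc, comm, Functor.map_comp, Category.assoc]

end Groth.Agent.H49.AlgSpFppf
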