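import Groth.Agent.H49.FinGrpdFlat
import Mathlib

/-!
# `R ≅ U ×_M U` for a finite locally free equivalence relation on an affine scheme
-/

set_option autoImplicit false
universe u
open CategoryTheory CategoryTheory.Limits AlgebraicGeometry TensorProduct
open Grpd

namespace Groth.Agent.H49.FinGrpdIso

open Groth.Agent.H49.FinGrpdRing Groth.Agent.H49.FinGrpdSch Groth.Agent.H49.BasisCond
  Groth.Agent.H49.FinGrpdQuot Groth.Agent.H49.FinGrpdBasis Groth.Agent.H49.FinGrpdLoc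
  Groth.Agent.H49.FinGrpdCover Groth.Agent.H49.FinGrpdFlat

section general

/-- for a jointly monic pair of morphisms of affine schemes, one of them finite, the functions on the
source are generated by the pullbacks -/
theorem productMap_surjective {X Y₁ Y₂ : Scheme.{u}} [IsAffine X] [IsAffine Y₁] [IsAffine Y₂]
    (f₁ : X ⟶ Y₁) (f₂ : X ⟶ Y₂) [IsFinite f₂]
    (hmono : ∀ {T : Scheme.{u}} (g h : T ⟶ X), g ≫ f₁ = h ≫ f₁ → g ≫ f₂ = h ≫ f₂ → g = h) :
    Function.Surjective (Algebra.TensorProduct.productMap f₁.appTop.hom.toIntAlgHom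
      f₂.appTop.hom.toIntAlgHom) := by
  set Ψ := Algebra.TensorProduct.productMap f₁.appTop.hom.toIntAlgHom
      f₂.appTop.hom.toIntAlgHom with hΨ
  have hΨt : ∀ a a', Ψ (a ⊗ₜ a') = f₁.appTop.hom a * f₂.appTop.hom a' := fun _ _ => rfl
  let f : CommRingCat.of (Γ(Y₁, ⊤) ⊗[ℤ] Γ(Y₂, ⊤)) ⟶ Γ(X, ⊤) := CommRingCat.ofHom Ψ.toRingHom
  haveI : Epi f := by
    refine ⟨fun {T} g h hgh => ?_⟩
    have hgh' : ∀ z, g.hom (Ψ z) = h.hom (Ψ z) := fun z => congrArg (fun φ => φ.hom z) hgh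
    have h1 : f₁.appTop ≫ g = f₁.appTop ≫ h := by
      ext a
      have := hgh' (a ⊗ₜ 1)
      rw [hΨt, map_one, mul_one] at this
      exact this
    have h2 : f₂.appTop ≫ g = f₂.appTop ≫ h := by
      ext a
      have := hgh' (1 ⊗ₜ a)
      rw [hΨt, map_one, one_mul] at this
      exact this
    have key : (Spec.map g ≫ X.isoSpec.inv) = (Spec.map h ≫ X.isoSpec.inv) := by
      apply hmono
      · simp only [Category.assoc]
        rw [← Scheme.isoSpec_inv_naturality, ← Spec.map_comp_assoc, ← Spec.map_comp_assoc, h1]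
      · simp only [Category.assoc]
        rw [← Scheme.isoSpec_inv_naturality, ← Spec.map_comp_assoc, ← Spec.map_comp_assoc, h2]
    rw [cancel_mono] at key
    exact Spec.map_injective key
  have hfin : RingHom.Finite f.hom := by
    have h1 : (f₂.appTop.hom).Finite := f₂.finite_appTop
    have h2 : f₂.appTop.hom = f.hom.comp
        (Algebra.TensorProduct.includeRight (R := ℤ) (A := Γ(Y₁, ⊤)) (B := Γ(Y₂, ⊤))).toRingHom := by
      ext a
      show _ = Ψ (1 ⊗ₜ a)
      rw [hΨt, map_one, one_mul]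
    rw [h2] at h1
    exact RingHom.Finite.of_comp_finite h1
  exact RingHom.surjective_of_epi_of_finite f hfin

end general

section ring

variable {A B P : Type u} [CommRing A] [CommRing B] [CommRing P] (p₁ p₂ : A →+* P) (θ : P →+* B)
  (s t : A →+* B) (hθ₁ : ∀ a, θ (p₁ a) = t a) (hθ₂ : ∀ a, θ (p₂ a) = s a)
  (C : Subring A) (hC : ∀ y ∈ C, p₁ y = p₂ y)

include hC in
theorem shape_ring (c : A) (hc : c ∈ C) {n : ℕ} (a : Fin n → A)
    (h1 : ∀ x : A, ∃ (N : ℕ) (y : Fin n → A), (∀ i, y i ∈ C) ∧ c ^ N * x = ∑ i, y i * a i)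
    (w : A ⊗[ℤ] A) :
    ∃ (N : ℕ) (v : Fin n → A),
      p₁ c ^ N * Algebra.TensorProduct.productMap p₁.toIntAlgHom p₂.toIntAlgHom w =
        ∑ i, p₁ (a i) * p₂ (v i) := by
  have hc12 : p₂ c = p₁ c := (hC c hc).symm
  induction w using TensorProduct.induction_on with
  | zero => exact ⟨0, 0, by simp⟩
  | tmul x x' =>
    obtain ⟨N, y, hy, e⟩ := h1 x
    refine ⟨N, fun i => y i * x', ?_⟩
    have e0 : Algebra.TensorProduct.productMap p₁.toIntAlgHom p₂.toIntAlgHom (x ⊗ₜ x') =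
        p₁ x * p₂ x' := rfl
    rw [e0, ← mul_assoc, ← map_pow, ← map_mul, e, map_sum, Finset.sum_mul]
    refine Finset.sum_congr rfl fun i _ => ?_
    show p₁ (y i * a i) * p₂ x' = p₁ (a i) * p₂ (y i * x')
    rw [map_mul, map_mul, hC (y i) (hy i)]
    ring
  | add w₁ w₂ ih₁ ih₂ =>
    obtain ⟨N₁, v₁, e₁⟩ := ih₁
    obtain ⟨N₂, v₂, e₂⟩ := ih₂
    refine ⟨N₁ + N₂, fun i => c ^ N₂ * v₁ i + c ^ N₁ * v₂ i, ?_⟩
    have e3 : p₁ c ^ (N₁ + N₂) *
        Algebra.TensorProduct.productMap p₁.toIntAlgHom p₂.toIntAlgHom (w₁ + w₂) =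
        p₁ c ^ N₂ * (p₁ c ^ N₁ *
          Algebra.TensorProduct.productMap p₁.toIntAlgHom p₂.toIntAlgHom w₁) +
        p₁ c ^ N₁ * (p₁ c ^ N₂ *
          Algebra.TensorProduct.productMap p₁.toIntAlgHom p₂.toIntAlgHom w₂) := by
      rw [map_add]; ring
    rw [e3, e₁, e₂, Finset.mul_sum, Finset.mul_sum, ← Finset.sum_add_distrib]
    refine Finset.sum_congr rfl fun i _ => ?_
    show _ = p₁ (a i) * p₂ (c ^ N₂ * v₁ i + c ^ N₁ * v₂ i)
    rw [map_add, map_mul, map_mul, map_pow, map_pow, hc12]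
    ring

include hθ₁ hθ₂ hC in
theorem injective_ring
    (hsurj : Function.Surjective (Algebra.TensorProduct.productMap p₁.toIntAlgHom p₂.toIntAlgHom))
    (hloc : ∀ (𝔭 : Ideal C) [𝔭.IsPrime], ∃ c : C, c ∉ 𝔭 ∧ ∃ (n : ℕ) (a : Fin n → A),
      (∀ x : A, ∃ (N : ℕ) (y : Fin n → A), (∀ i, y i ∈ C) ∧
        (c : A) ^ N * x = ∑ i, y i * a i) ∧
      (∀ x : Fin n → A, ∑ i, s (x i) * t (a i) = 0 →
        ∃ N : ℕ, ∀ i, (c : A) ^ N * x i = 0)) :
    Function.Injective θ := by
  rw [injective_iff_map_eq_zero]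
  intro z hz
  obtain ⟨w, rfl⟩ := hsurj z
  let J : Ideal C :=
    { carrier := {y | p₁ (y : A) *
        Algebra.TensorProduct.productMap p₁.toIntAlgHom p₂.toIntAlgHom w = 0}
      add_mem' := fun {x y} hx hy => by
        simp only [Set.mem_setOf_eq] at hx hy ⊢
        rw [Subring.coe_add, map_add, add_mul, hx, hy, add_zero]
      zero_mem' := by simp
      smul_mem' := fun r {x} hx => by
        simp only [Set.mem_setOf_eq] at hx ⊢
        rw [smul_eq_mul, Subring.coe_mul, map_mul, mul_assoc, hx, mul_zero] }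
  by_contra hne
  have hJ : J ≠ ⊤ := by
    intro h
    have h1 : (1 : C) ∈ J := h ▸ Submodule.mem_top
    have h2 : p₁ ((1 : C) : A) *
        Algebra.TensorProduct.productMap p₁.toIntAlgHom p₂.toIntAlgHom w = 0 := h1
    rw [Subring.coe_one, map_one, one_mul] at h2
    exact hne h2
  obtain ⟨𝔪, h𝔪, hle⟩ := Ideal.exists_le_maximal J hJ
  haveI := h𝔪.isPrime
  obtain ⟨c, hc𝔪, n, a, h1, h2⟩ := hloc 𝔪
  obtain ⟨N, v, hv⟩ := shape_ring p₁ p₂ C hC c c.2 a h1 w
  have h3 : ∑ i, s (v i) * t (a i) = 0 := by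
    have := congrArg θ hv
    rw [map_mul, hz, mul_zero, map_sum] at this
    rw [this]
    refine Finset.sum_congr rfl fun i _ => ?_
    rw [map_mul, hθ₁, hθ₂, mul_comm]
  obtain ⟨M, hM⟩ := h2 v h3
  have h4 : c ^ (M + N) ∈ J := by
    show p₁ ((c ^ (M + N) : C) : A) *
      Algebra.TensorProduct.productMap p₁.toIntAlgHom p₂.toIntAlgHom w = 0
    rw [Subring.coe_pow, map_pow, pow_add, mul_assoc, hv, Finset.mul_sum]
    refine Finset.sum_eq_zero fun i _ => ?_
    rw [hC c c.2, ← map_pow, mul_left_comm, ← map_mul, hM, map_zero, mul_zero]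
  exact hc𝔪 (h𝔪.isPrime.mem_of_pow_mem _ (hle h4))

end ring

variable (S : Scheme.{u}) (G : Grpd.GroupoidScheme S) [IsAffine G.U] [IsAffine G.R]
  [IsFinite G.s] [Flat G.s] [LocallyOfFinitePresentation G.s]
  [IsFinite G.t] [Flat G.t] [LocallyOfFinitePresentation G.t]

omit [IsAffine G.U] [IsAffine G.R]
  [IsFinite G.s] [Flat G.s] [LocallyOfFinitePresentation G.s]
  [IsFinite G.t] [Flat G.t] [LocallyOfFinitePresentation G.t] in
lemma toQuot_appTop (y : G.invariants) :
    G.toQuot.appTop.hom ((Scheme.ΓSpecIso (CommRingCat.of G.invariants)).inv.hom y) =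
      (y : Γ(G.U, ⊤)) := by
  have h : (Scheme.ΓSpecIso (CommRingCat.of G.invariants)).inv ≫ G.toQuot.appTop =
      CommRingCat.ofHom G.invariants.subtype := by
    unfold Grpd.GroupoidScheme.toQuot
    rw [Scheme.Hom.comp_appTop, Scheme.toSpecΓ_appTop, Scheme.ΓSpecIso_naturality,
      Iso.inv_hom_id_assoc]
  exact congrArg (fun φ => φ.hom y) h

omit [IsAffine G.U] [IsAffine G.R]
  [IsFinite G.s] [Flat G.s] [LocallyOfFinitePresentation G.s]
  [IsFinite G.t] [Flat G.t] [LocallyOfFinitePresentation G.t] in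
/-- invariant functions have the same pullback along both projections of `U ×_M U` -/
lemma fst_eq_snd (y : Γ(G.U, ⊤)) (hy : y ∈ G.invariants) :
    (pullback.fst G.toQuot G.toQuot).appTop.hom y =
      (pullback.snd G.toQuot G.toQuot).appTop.hom y := by
  have h1 := toQuot_appTop S G ⟨y, hy⟩
  simp only at h1
  rw [← h1]
  exact appTop_comm (pullback.condition (f := G.toQuot) (g := G.toQuot)) _

section main

/-- the comparison morphism `R ⟶ U ×_M U` -/
noncomputable def θ : G.R ⟶ pullback G.toQuot G.toQuot :=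
  pullback.lift G.t G.s (toQuot_s_eq_t S G).symm

lemma θ_fst : θ S G ≫ pullback.fst G.toQuot G.toQuot = G.t := pullback.lift_fst _ _ _
lemma θ_snd : θ S G ≫ pullback.snd G.toQuot G.toQuot = G.s := pullback.lift_snd _ _ _

lemma θ_P₁ (a : Γ(G.U, ⊤)) :
    (θ S G).appTop.hom ((pullback.fst G.toQuot G.toQuot).appTop.hom a) = G.t.appTop.hom a := by
  have h : (θ S G ≫ pullback.fst G.toQuot G.toQuot).appTop.hom a = G.t.appTop.hom a := by
    rw [θ_fst]
  rw [Scheme.Hom.comp_appTop] at h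
  exact h

lemma θ_P₂ (a : Γ(G.U, ⊤)) :
    (θ S G).appTop.hom ((pullback.snd G.toQuot G.toQuot).appTop.hom a) = G.s.appTop.hom a := by
  have h : (θ S G ≫ pullback.snd G.toQuot G.toQuot).appTop.hom a = G.s.appTop.hom a := by
    rw [θ_snd]
  rw [Scheme.Hom.comp_appTop] at h
  exact h

/-- the map `Γ(U) ⊗ Γ(U) → Γ(U ×_M U)` -/
noncomputable abbrev Ψ : Γ(G.U, ⊤) ⊗[ℤ] Γ(G.U, ⊤) →ₐ[ℤ] Γ(pullback G.toQuot G.toQuot, ⊤) :=
  Algebra.TensorProduct.productMap (pullback.fst G.toQuot G.toQuot).appTop.hom.toIntAlgHom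
    (pullback.snd G.toQuot G.toQuot).appTop.hom.toIntAlgHom

omit [IsAffine G.U] [IsAffine G.R]
  [IsFinite G.s] [Flat G.s] [LocallyOfFinitePresentation G.s]
  [IsFinite G.t] [Flat G.t] [LocallyOfFinitePresentation G.t] in
lemma Ψ_tmul (x x' : Γ(G.U, ⊤)) : Ψ S G (x ⊗ₜ x') =
    (pullback.fst G.toQuot G.toQuot).appTop.hom x *
      (pullback.snd G.toQuot G.toQuot).appTop.hom x' := rfl

variable [Mono G.j]

theorem θ_appTop_injective : Function.Injective (θ S G).appTop.hom := by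
  haveI := (toQuot_props S G).1
  exact injective_ring (pullback.fst G.toQuot G.toQuot).appTop.hom
    (pullback.snd G.toQuot G.toQuot).appTop.hom (θ S G).appTop.hom G.s.appTop.hom G.t.appTop.hom
    (θ_P₁ S G) (θ_P₂ S G) G.invariants (fst_eq_snd S G)
    (productMap_surjective (pullback.fst G.toQuot G.toQuot)
      (pullback.snd G.toQuot G.toQuot) (fun g h e1 e2 => pullback.hom_ext e1 e2))
    (fun 𝔭 _ => exists_local_basis S G 𝔭)

theorem isIso_θ : IsIso (θ S G) := by
  haveI := (toQuot_props S G).1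
  have hbij : Function.Bijective (θ S G).appTop.hom := by
    refine ⟨θ_appTop_injective S G, fun b => ?_⟩
    obtain ⟨z, rfl⟩ := psi_surjective S G b
    refine ⟨Ψ S G z, ?_⟩
    induction z using TensorProduct.induction_on with
    | zero => simp
    | tmul a a' => rw [Ψ_tmul, map_mul, θ_P₁, θ_P₂, psi_tmul]
    | add z w hz hw => rw [map_add, map_add, hz, hw, map_add]
  haveI : IsIso (θ S G).appTop := (ConcreteCategory.isIso_iff_bijective _).mpr hbij
  exact (HasAffineProperty.iff_of_isAffine (P := MorphismProperty.isomorphisms Scheme)).mpr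
    ⟨inferInstance, this⟩

end main

end Groth.Agent.H49.FinGrpdIso
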