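import Mathlib
import Groth.Agent.H37.CharpolyBC

/-!
# A norm for finite projective algebras given by a retract presentation

For an `A`-algebra `B` presented as a retract `σ : B → Aⁿ`, `π : Aⁿ → B`, `π ∘ σ = id`, the
endomorphism `ψ_x = 1 + σ ∘ (lmul x - 1) ∘ π` of `Aⁿ` is "`x` on `B`, the identity on `ker π`";
its determinant is the norm of `x`.
-/

set_option autoImplicit false
universe u
open TensorProduct

namespace Groth.Agent.H49.ProjNorm

open Groth.Agent.H37.CharpolyBC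

section basic

variable {A B : Type*} [CommRing A] [CommRing B] [Algebra A B] {n : ℕ}
  (π : (Fin n → A) →ₗ[A] B) (σ : B →ₗ[A] (Fin n → A))

/-- the padded multiplication endomorphism -/
noncomputable def psi (x : B) : Module.End A (Fin n → A) :=
  1 + σ ∘ₗ (Algebra.lmul A B x - 1) ∘ₗ π

/-- the norm attached to the presentation -/
noncomputable def nrm (x : B) : A := LinearMap.det (psi π σ x)

variable {π σ}

lemma psi_one : psi π σ 1 = 1 := by
  unfold psi
  have : (Algebra.lmul A B 1 : Module.End A B) = 1 := map_one _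
  rw [this, sub_self, LinearMap.zero_comp, LinearMap.comp_zero, add_zero]

lemma psi_mul (hπσ : π ∘ₗ σ = LinearMap.id) (x y : B) :
    psi π σ (x * y) = psi π σ x * psi π σ y := by
  unfold psi
  have hm : (Algebra.lmul A B (x * y) : Module.End A B) = Algebra.lmul A B x * Algebra.lmul A B y :=
    map_mul _ _ _
  refine LinearMap.ext fun v => ?_
  have hps : ∀ w : B, π (σ w) = w := fun w => by
    rw [← LinearMap.comp_apply, hπσ, LinearMap.id_apply]
  simp only [LinearMap.add_apply, Module.End.one_apply, LinearMap.comp_apply, LinearMap.sub_apply,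
    Module.End.mul_apply, hm, map_add, map_sub, hps]
  simp only [Algebra.lmul_algebraMap, Algebra.coe_lmul_eq_mul, LinearMap.mul_apply']
  abel_nf

lemma nrm_one : nrm π σ 1 = 1 := by
  unfold nrm
  rw [psi_one]
  exact LinearMap.det_id

lemma nrm_mul (hπσ : π ∘ₗ σ = LinearMap.id) (x y : B) :
    nrm π σ (x * y) = nrm π σ x * nrm π σ y := by
  unfold nrm
  rw [psi_mul hπσ]
  exact LinearMap.det_comp _ _

lemma isUnit_nrm (hπσ : π ∘ₗ σ = LinearMap.id) {x : B} (hx : IsUnit x) : IsUnit (nrm π σ x) := by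
  obtain ⟨y, hy⟩ := hx.exists_right_inv
  refine IsUnit.of_mul_eq_one (nrm π σ y) ?_
  rw [← nrm_mul hπσ, hy, nrm_one]

/-- the norm in terms of the presentation characteristic polynomial -/
lemma nrm_eq (x : B) :
    nrm π σ x = (-1) ^ n * (σ ∘ₗ Algebra.lmul A B (x - 1) ∘ₗ π).charpoly.eval (-1) := by
  rw [LinearMap.eval_charpoly]
  unfold nrm psi
  have h1 : (Algebra.lmul A B (x - 1) : Module.End A B) = Algebra.lmul A B x - 1 := by
    rw [map_sub, map_one]
  have h2 : (algebraMap A (Module.End A (Fin n → A)) (-1) - σ ∘ₗ (Algebra.lmul A B x - 1) ∘ₗ π) =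
      (-1 : A) • (1 + σ ∘ₗ (Algebra.lmul A B x - 1) ∘ₗ π) := by
    rw [map_neg, map_one, smul_add, neg_one_smul, neg_one_smul, sub_eq_add_neg]
  rcases subsingleton_or_nontrivial A with hA | hA
  · exact Subsingleton.elim _ _
  rw [h1, h2, LinearMap.det_smul, Module.finrank_fin_fun, ← mul_assoc, ← mul_pow]
  simp

/-- `x` divides its norm. -/
lemma dvd_nrm (hπσ : π ∘ₗ σ = LinearMap.id) (x : B) : x ∣ algebraMap A B (nrm π σ x) := by
  have hCH := ch_lemma π σ hπσ (x - 1)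
  obtain ⟨P, hP⟩ : ∃ P, P = (σ ∘ₗ Algebra.lmul A B (x - 1) ∘ₗ π).charpoly := ⟨_, rfl⟩
  rw [nrm_eq, ← hP]
  rw [← hP] at hCH
  -- `P = P(-1) + (X + 1) Q`
  obtain ⟨Q, hQ⟩ : (Polynomial.X - Polynomial.C (-1 : A)) ∣ P - Polynomial.C (P.eval (-1)) :=
    Polynomial.X_sub_C_dvd_sub_C_eval
  have h3 : Polynomial.aeval (x - 1) (P - Polynomial.C (P.eval (-1))) =
      Polynomial.aeval (x - 1) ((Polynomial.X - Polynomial.C (-1 : A)) * Q) := by rw [hQ]
  rw [map_sub, hCH, Polynomial.aeval_C, map_mul, map_sub, Polynomial.aeval_X, Polynomial.aeval_C,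
    map_neg, map_one, sub_neg_eq_add, sub_add_cancel, zero_sub] at h3
  rw [map_mul, map_pow, map_neg, map_one]
  refine Dvd.dvd.mul_left ?_ _
  refine ⟨- Polynomial.aeval (x - 1) Q, ?_⟩
  rw [mul_neg, ← h3, neg_neg]

end basic

section basechange

variable {A B : Type u} [CommRing A] [CommRing B] [Algebra A B] {n : ℕ}
  {π : (Fin n → A) →ₗ[A] B} {σ : B →ₗ[A] (Fin n → A)}

/-- Base change of the norm. -/
theorem nrm_pushout {T P : Type u} [CommRing T] [CommRing P]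
    [Algebra A T] [Algebra B P] [Algebra T P] [Algebra A P]
    [IsScalarTower A B P] [IsScalarTower A T P] [Algebra.IsPushout A T B P]
    (hπσ : π ∘ₗ σ = LinearMap.id) :
    ∃ (π' : (Fin n → T) →ₗ[T] P) (σ' : P →ₗ[T] (Fin n → T)), π' ∘ₗ σ' = LinearMap.id ∧
      ∀ x : B, nrm π' σ' (algebraMap B P x) = algebraMap A T (nrm π σ x) := by
  obtain ⟨π₀, σ₀, h₀, -⟩ := charpoly_pushout (T := T) (P := P) n π σ hπσ 0
  refine ⟨π₀, σ₀, h₀, fun x => ?_⟩
  obtain ⟨π₁, σ₁, h₁, e₁⟩ := charpoly_pushout (T := T) (P := P) n π σ hπσ (x - 1)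
  rw [nrm_eq, nrm_eq]
  have hx : algebraMap B P x - 1 = algebraMap B P (x - 1) := by rw [map_sub, map_one]
  have hm1 : (-1 : T) = algebraMap A T (-1) := by rw [map_neg, map_one]
  rw [hx, lchar π₀ π₁ σ₀ σ₁ h₀ h₁, e₁, Polynomial.eval_map, map_mul, map_pow, map_neg, map_one]
  congr 1
  rw [hm1, Polynomial.eval₂_hom]

attribute [local instance] Algebra.TensorProduct.rightAlgebra in
/-- If the norm of `x` lies in a prime `𝔭`, then `x` lies in a prime over `𝔭`. -/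
theorem exists_prime_of_nrm_mem (hπσ : π ∘ₗ σ = LinearMap.id) (𝔭 : Ideal A) [𝔭.IsPrime] (x : B)
    (h : nrm π σ x ∈ 𝔭) :
    ∃ 𝔮 : Ideal B, 𝔮.IsPrime ∧ 𝔮.comap (algebraMap A B) = 𝔭 ∧ x ∈ 𝔮 := by
  obtain ⟨π', σ', h', hn⟩ :=
    nrm_pushout (T := 𝔭.ResidueField) (P := 𝔭.ResidueField ⊗[A] B) hπσ
  have h0 : nrm π' σ' (algebraMap B (𝔭.ResidueField ⊗[A] B) x) = 0 := by
    rw [hn]
    exact (Ideal.algebraMap_residueField_eq_zero).mpr h
  have hnu : ¬ IsUnit (algebraMap B (𝔭.ResidueField ⊗[A] B) x) := fun hu => by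
    have := isUnit_nrm h' hu
    rw [h0] at this
    exact not_isUnit_zero this
  obtain ⟨𝔫, h𝔫, hx𝔫⟩ := exists_max_ideal_of_mem_nonunits hnu
  haveI := h𝔫.isPrime
  refine ⟨𝔫.comap (algebraMap B (𝔭.ResidueField ⊗[A] B)), inferInstance, ?_, hx𝔫⟩
  ext a
  rw [Ideal.mem_comap, Ideal.mem_comap, ← IsScalarTower.algebraMap_apply,
    IsScalarTower.algebraMap_apply A 𝔭.ResidueField (𝔭.ResidueField ⊗[A] B)]
  constructor
  · intro ha
    by_contra hna
    have hne : algebraMap A 𝔭.ResidueField a ≠ 0 := fun h0 =>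
      hna ((Ideal.algebraMap_residueField_eq_zero).mp h0)
    have hu : IsUnit (algebraMap 𝔭.ResidueField (𝔭.ResidueField ⊗[A] B)
        (algebraMap A 𝔭.ResidueField a)) := (IsUnit.mk0 _ hne).map _
    exact h𝔫.ne_top (Ideal.eq_top_of_isUnit_mem _ ha hu)
  · intro ha
    rw [(Ideal.algebraMap_residueField_eq_zero).mpr ha, map_zero]
    exact 𝔫.zero_mem

/-- The norm of `x` lies in a prime `𝔭` iff `x` lies in a prime over `𝔭`. -/
theorem nrm_mem_iff (hπσ : π ∘ₗ σ = LinearMap.id) (𝔭 : Ideal A) [𝔭.IsPrime] (x : B) :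
    nrm π σ x ∈ 𝔭 ↔ ∃ 𝔮 : Ideal B, 𝔮.IsPrime ∧ 𝔮.comap (algebraMap A B) = 𝔭 ∧ x ∈ 𝔮 := by
  refine ⟨exists_prime_of_nrm_mem hπσ 𝔭 x, ?_⟩
  rintro ⟨𝔮, -, h𝔮, hx⟩
  rw [← h𝔮, Ideal.mem_comap]
  exact Ideal.mem_of_dvd _ (dvd_nrm hπσ x) hx

end basechange

end Groth.Agent.H49.ProjNorm
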