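import Mathlib
import Groth.Agent.H37.CharpolyBC
import Groth.Agent.H49.ProjNorm

/-!
# Ring-level theory of finite locally free groupoids in affine schemes

`A = Γ(U)`, `B = Γ(R)`, `B₂ = Γ(R ×_{s,U,t} R)`; `s t : A → B`, `e : B → A`,
`p₀ p₁ c : B → B₂`.  The hypotheses are those of `H37.CharpolyBC.integral_main`.
-/

set_option autoImplicit false
universe u
open TensorProduct

namespace Groth.Agent.H49.FinGrpdRing

open Groth.Agent.H37.CharpolyBC Groth.Agent.H49.ProjNorm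

section

variable {A B B₂ : Type u} [CommRing A] [CommRing B] [CommRing B₂]
    (s t : A →+* B) (e : B →+* A) (p₀ p₁ c : B →+* B₂)
    (hes : ∀ a, e (s a) = a) (het : ∀ a, e (t a) = a)
    (hct : ∀ a, c (t a) = p₀ (t a))
    (n : ℕ) (π : letI := s.toAlgebra; (Fin n → A) →ₗ[A] B)
    (σ : letI := s.toAlgebra; B →ₗ[A] (Fin n → A))
    (hπσ : letI := s.toAlgebra; π ∘ₗ σ = LinearMap.id)
    (H1 : letI := s.toAlgebra; letI := p₁.toAlgebra;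
      ∀ x : B, ∃ (π' : (Fin n → B) →ₗ[B] B₂) (σ' : B₂ →ₗ[B] (Fin n → B)),
        π' ∘ₗ σ' = LinearMap.id ∧
        (σ' ∘ₗ Algebra.lmul B B₂ (c x) ∘ₗ π').charpoly =
          (σ ∘ₗ Algebra.lmul A B x ∘ₗ π).charpoly.map s)
    (H2 : letI := s.toAlgebra; letI := p₁.toAlgebra;
      ∀ x : B, ∃ (π' : (Fin n → B) →ₗ[B] B₂) (σ' : B₂ →ₗ[B] (Fin n → B)),
        π' ∘ₗ σ' = LinearMap.id ∧
        (σ' ∘ₗ Algebra.lmul B B₂ (p₀ x) ∘ₗ π').charpoly =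
          (σ ∘ₗ Algebra.lmul A B x ∘ₗ π).charpoly.map t)

include hct H1 H2 in
/-- The coefficients of the presentation characteristic polynomial of `t f` are invariant. -/
theorem coeff_mem (f : A) (k : ℕ) :
    letI := s.toAlgebra
    (σ ∘ₗ Algebra.lmul A B (t f) ∘ₗ π).charpoly.coeff k ∈ RingHom.eqLocus s t := by
  letI := s.toAlgebra
  letI := p₁.toAlgebra
  obtain ⟨π₁, σ₁, h₁, e₁⟩ := H1 (t f)
  obtain ⟨π₂, σ₂, h₂, e₂⟩ := H2 (t f)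
  have hst : (σ ∘ₗ Algebra.lmul A B (t f) ∘ₗ π).charpoly.map s =
      (σ ∘ₗ Algebra.lmul A B (t f) ∘ₗ π).charpoly.map t := by
    rw [← e₁, ← e₂, hct]
    exact lchar π₁ π₂ σ₁ σ₂ h₁ h₂ _
  have h3 := congrArg (fun q => q.coeff k) hst
  simpa [Polynomial.coeff_map] using h3

include hct H1 H2 in
/-- The norm of `t f` is invariant. -/
theorem nrm_mem (f : A) :
    letI := s.toAlgebra
    nrm π σ (t f) ∈ RingHom.eqLocus s t := by
  letI := s.toAlgebra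
  rw [nrm_eq]
  have h1 : t f - 1 = t (f - 1) := by rw [map_sub, map_one]
  rw [h1]
  obtain ⟨P, hP⟩ : ∃ P, P = (σ ∘ₗ Algebra.lmul A B (t (f - 1)) ∘ₗ π).charpoly := ⟨_, rfl⟩
  rw [← hP]
  have hc : ∀ k, P.coeff k ∈ RingHom.eqLocus s t := fun k => by
    rw [hP]; exact coeff_mem s t p₀ p₁ c hct n π σ H1 H2 (f - 1) k
  refine Subring.mul_mem _ (Subring.pow_mem _ (Subring.neg_mem _ (Subring.one_mem _)) _) ?_
  rw [Polynomial.eval_eq_sum_range]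
  refine Subring.sum_mem _ fun k _ => ?_
  exact Subring.mul_mem _ (hc k) (Subring.pow_mem _ (Subring.neg_mem _ (Subring.one_mem _)) _)

include hes het hct hπσ H1 H2 in
theorem isIntegral : Algebra.IsIntegral (RingHom.eqLocus s t) A :=
  ⟨fun f => integral_main s t e p₀ p₁ c hes het hct n π σ hπσ H1 H2 f⟩

include hes het hct hπσ H1 H2 in
/-- Two primes of `A` with the same contraction to the invariants are related by a prime of `B`. -/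
theorem exists_prime_orbit (hfin : letI := s.toAlgebra; Module.Finite A B)
    (𝔭 𝔭' : Ideal A) [h𝔭 : 𝔭.IsPrime] [h𝔭' : 𝔭'.IsPrime]
    (h : ∀ x ∈ RingHom.eqLocus s t, x ∈ 𝔭 ↔ x ∈ 𝔭') :
    ∃ 𝔮 : Ideal B, 𝔮.IsPrime ∧ 𝔮.comap s = 𝔭 ∧ 𝔮.comap t = 𝔭' := by
  classical
  letI := s.toAlgebra
  haveI := hfin
  haveI hint : Algebra.IsIntegral (RingHom.eqLocus s t) A :=
    isIntegral s t e p₀ p₁ c hes het hct n π σ hπσ H1 H2
  by_contra hno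
  push_neg at hno
  have hfinQ : (𝔭.primesOver B).Finite := Algebra.QuasiFinite.finite_primesOver 𝔭
  -- the finite set of primes `t⁻¹ 𝔮`
  let T : Finset (Ideal A) := (hfinQ.toFinset).image (fun 𝔮 => 𝔮.comap t)
  have hT : ∀ I ∈ T, ∃ 𝔮 : Ideal B, 𝔮.IsPrime ∧ 𝔮.comap s = 𝔭 ∧ I = 𝔮.comap t := by
    intro I hI
    obtain ⟨𝔮, h𝔮, rfl⟩ := Finset.mem_image.mp hI
    rw [Set.Finite.mem_toFinset] at h𝔮
    exact ⟨𝔮, h𝔮.1, h𝔮.2.over.symm, rfl⟩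
  have hTmem : ∀ 𝔮 : Ideal B, 𝔮.IsPrime → 𝔮.comap s = 𝔭 → 𝔮.comap t ∈ T := by
    intro 𝔮 h𝔮 h𝔮s
    refine Finset.mem_image.mpr ⟨𝔮, ?_, rfl⟩
    rw [Set.Finite.mem_toFinset]
    exact ⟨h𝔮, ⟨h𝔮s.symm⟩⟩
  have hTprime : ∀ I ∈ T, I.IsPrime := by
    intro I hI
    obtain ⟨𝔮, h𝔮, -, rfl⟩ := hT I hI
    exact Ideal.comap_isPrime t 𝔮
  -- `𝔭'` is not contained in any of them
  have hnle : ¬ ∃ I ∈ T, 𝔭' ≤ I := by
    rintro ⟨I, hI, hle⟩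
    obtain ⟨𝔮, h𝔮, h𝔮s, rfl⟩ := hT I hI
    rcases eq_or_lt_of_le hle with heq | hlt
    · exact hno 𝔮 h𝔮 h𝔮s heq.symm
    · have h1 := Ideal.IsIntegral.comap_lt_comap (R := RingHom.eqLocus s t) hlt
      refine (ne_of_lt h1) ?_
      ext ⟨x, hx⟩
      rw [Ideal.mem_comap, Ideal.mem_comap]
      show x ∈ 𝔭' ↔ x ∈ 𝔮.comap t
      rw [← h x hx, ← h𝔮s, Ideal.mem_comap, Ideal.mem_comap]
      have hxx : s x = t x := hx
      rw [hxx]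
  rw [← Ideal.subset_union_prime (f := fun I => I) 𝔭' 𝔭' (fun I hI _ _ => hTprime I hI)] at hnle
  obtain ⟨f, hf, hfT⟩ := Set.not_subset.mp hnle
  have hfT' : ∀ I ∈ T, f ∉ I := by
    intro I hI hfI
    exact hfT (Set.mem_biUnion (show I ∈ (↑T : Set (Ideal A)) from hI) hfI)
  have hN := nrm_mem s t p₀ p₁ c hct n π σ H1 H2 f
  have hN1 : nrm π σ (t f) ∉ 𝔭 := by
    intro hmem
    obtain ⟨𝔮, h𝔮, h𝔮s, hx⟩ := (nrm_mem_iff hπσ 𝔭 (t f)).mp hmem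
    exact hfT' _ (hTmem 𝔮 h𝔮 h𝔮s) hx
  have hN2 : nrm π σ (t f) ∈ 𝔭' := by
    refine (nrm_mem_iff hπσ 𝔭' (t f)).mpr ⟨𝔭'.comap e, Ideal.comap_isPrime e 𝔭', ?_, ?_⟩
    · ext a
      show e (s a) ∈ 𝔭' ↔ a ∈ 𝔭'
      rw [hes]
    · show e (t f) ∈ 𝔭'
      rw [het]
      exact hf
  exact hN1 ((h _ hN).mpr hN2)

end

end Groth.Agent.H49.FinGrpdRing
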