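import Mathlib

/-!
# Pushout squares of polynomial rings
-/

set_option autoImplicit false
universe u
open CategoryTheory CategoryTheory.Limits MvPolynomial

namespace Groth.Agent.H49.PolyPush

section basic

variable {A B : Type u} [CommRing A] [CommRing B] (s : A →+* B) (m : ℕ)

/-- `B[T] = B ⊗_A A[T]` -/
theorem isPushout_C :
    IsPushout (CommRingCat.ofHom s) (CommRingCat.ofHom (C : A →+* MvPolynomial (Fin m) A))
      (CommRingCat.ofHom (C : B →+* MvPolynomial (Fin m) B))
      (CommRingCat.ofHom (MvPolynomial.map (σ := Fin m) s)) := by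
  have w : CommRingCat.ofHom s ≫ CommRingCat.ofHom (C : B →+* MvPolynomial (Fin m) B) =
      CommRingCat.ofHom (C : A →+* MvPolynomial (Fin m) A) ≫
        CommRingCat.ofHom (MvPolynomial.map (σ := Fin m) s) := by
    ext a
    simp
  refine ⟨⟨w⟩, ⟨PushoutCocone.isColimitAux' _ fun c => ?_⟩⟩
  have hc : ∀ a : A, c.inl.hom (s a) = c.inr.hom (C a) := fun a =>
    congrArg (fun φ => φ.hom a) c.condition
  refine ⟨CommRingCat.ofHom (eval₂Hom c.inl.hom (fun i => c.inr.hom (X i))), ?_, ?_, ?_⟩
  · apply CommRingCat.hom_ext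
    apply RingHom.ext
    intro b
    show (eval₂Hom c.inl.hom (fun i => c.inr.hom (X i))) (C b) = c.inl.hom b
    rw [eval₂Hom_C]
  · apply CommRingCat.hom_ext
    apply MvPolynomial.ringHom_ext
    · intro a
      show (eval₂Hom c.inl.hom (fun i => c.inr.hom (X i))) (MvPolynomial.map s (C a)) =
        c.inr.hom (C a)
      rw [MvPolynomial.map_C, eval₂Hom_C, hc]
    · intro i
      show (eval₂Hom c.inl.hom (fun i => c.inr.hom (X i))) (MvPolynomial.map s (X i)) =
        c.inr.hom (X i)
      rw [MvPolynomial.map_X, eval₂Hom_X']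
  · intro m' h1 h2
    apply CommRingCat.hom_ext
    apply MvPolynomial.ringHom_ext
    · intro b
      show m'.hom (C b) = (eval₂Hom c.inl.hom (fun i => c.inr.hom (X i))) (C b)
      rw [eval₂Hom_C]
      exact congrArg (fun φ => φ.hom b) h1
    · intro i
      show m'.hom (X i) = (eval₂Hom c.inl.hom (fun i => c.inr.hom (X i))) (X i)
      rw [eval₂Hom_X']
      have := congrArg (fun φ => φ.hom (X i)) h2
      have e : (MvPolynomial.map s) (X i : MvPolynomial (Fin m) A) = X i := MvPolynomial.map_X _ _
      rw [← e]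
      exact this

/-- `B = B[T] ⊗_{A[T]} A` for the evaluation at a point -/
theorem isPushout_eval (a' : Fin m → A) :
    IsPushout (CommRingCat.ofHom (MvPolynomial.map (σ := Fin m) s))
      (CommRingCat.ofHom (eval₂Hom (RingHom.id A) a'))
      (CommRingCat.ofHom (eval₂Hom (RingHom.id B) (fun j => s (a' j))))
      (CommRingCat.ofHom s) := by
  have w : CommRingCat.ofHom (MvPolynomial.map (σ := Fin m) s) ≫
      CommRingCat.ofHom (eval₂Hom (RingHom.id B) (fun j => s (a' j))) =
      CommRingCat.ofHom (eval₂Hom (RingHom.id A) a') ≫ CommRingCat.ofHom s := by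
    apply CommRingCat.hom_ext
    apply MvPolynomial.ringHom_ext
    · intro a
      show (eval₂Hom (RingHom.id B) (fun j => s (a' j))) (MvPolynomial.map s (C a)) =
        s ((eval₂Hom (RingHom.id A) a') (C a))
      rw [MvPolynomial.map_C, eval₂Hom_C, eval₂Hom_C]
      rfl
    · intro i
      show (eval₂Hom (RingHom.id B) (fun j => s (a' j))) (MvPolynomial.map s (X i)) =
        s ((eval₂Hom (RingHom.id A) a') (X i))
      rw [MvPolynomial.map_X, eval₂Hom_X', eval₂Hom_X']
  refine ⟨⟨w⟩, ⟨PushoutCocone.isColimitAux' _ fun c => ?_⟩⟩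
  have hc : ∀ p : MvPolynomial (Fin m) A, c.inl.hom (MvPolynomial.map s p) =
      c.inr.hom (eval₂Hom (RingHom.id A) a' p) := fun p =>
    congrArg (fun φ => φ.hom p) c.condition
  have hcC : ∀ a : A, c.inl.hom (C (s a)) = c.inr.hom a := fun a => by
    have := hc (C a)
    rw [MvPolynomial.map_C, eval₂Hom_C] at this
    exact this
  have hcX : ∀ i, c.inl.hom (X i) = c.inr.hom (a' i) := fun i => by
    have := hc (X i)
    rw [MvPolynomial.map_X, eval₂Hom_X'] at this
    exact this
  refine ⟨CommRingCat.ofHom (c.inl.hom.comp C), ?_, ?_, ?_⟩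
  · apply CommRingCat.hom_ext
    apply MvPolynomial.ringHom_ext
    · intro b
      show c.inl.hom (C ((eval₂Hom (RingHom.id B) (fun j => s (a' j))) (C b))) = c.inl.hom (C b)
      rw [eval₂Hom_C]
      rfl
    · intro i
      show c.inl.hom (C ((eval₂Hom (RingHom.id B) (fun j => s (a' j))) (X i))) = c.inl.hom (X i)
      rw [eval₂Hom_X', hcC, hcX]
  · apply CommRingCat.hom_ext
    apply RingHom.ext
    intro a
    show c.inl.hom (C (s a)) = c.inr.hom a
    exact hcC a
  · intro m' h1 h2
    apply CommRingCat.hom_ext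
    apply RingHom.ext
    intro b
    show m'.hom b = c.inl.hom (C b)
    have := congrArg (fun φ => φ.hom (C b)) h1
    have e : (eval₂Hom (RingHom.id B) (fun j => s (a' j))) (C b : MvPolynomial (Fin m) B) = b :=
      eval₂Hom_C _ _ _
    rw [← this]
    show m'.hom b = m'.hom ((eval₂Hom (RingHom.id B) (fun j => s (a' j))) (C b))
    rw [e]

end basic

section functor

variable {R S T P : CommRingCat.{u}} {f : R ⟶ S} {g : R ⟶ T} {inl : S ⟶ P} {inr : T ⟶ P}

/-- the polynomial ring functor preserves pushout squares -/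
theorem isPushout_map (h : IsPushout f g inl inr) (m : ℕ) :
    IsPushout (CommRingCat.ofHom (MvPolynomial.map (σ := Fin m) f.hom))
      (CommRingCat.ofHom (MvPolynomial.map (σ := Fin m) g.hom))
      (CommRingCat.ofHom (MvPolynomial.map (σ := Fin m) inl.hom))
      (CommRingCat.ofHom (MvPolynomial.map (σ := Fin m) inr.hom)) := by
  have w0 : ∀ r, inl.hom (f.hom r) = inr.hom (g.hom r) := fun r =>
    congrArg (fun φ => φ.hom r) h.w
  have w : CommRingCat.ofHom (MvPolynomial.map (σ := Fin m) f.hom) ≫
      CommRingCat.ofHom (MvPolynomial.map (σ := Fin m) inl.hom) =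
      CommRingCat.ofHom (MvPolynomial.map (σ := Fin m) g.hom) ≫
      CommRingCat.ofHom (MvPolynomial.map (σ := Fin m) inr.hom) := by
    apply CommRingCat.hom_ext
    apply MvPolynomial.ringHom_ext
    · intro a
      show MvPolynomial.map inl.hom (MvPolynomial.map f.hom (C a)) =
        MvPolynomial.map inr.hom (MvPolynomial.map g.hom (C a))
      rw [MvPolynomial.map_C, MvPolynomial.map_C, MvPolynomial.map_C, MvPolynomial.map_C, w0]
    · intro i
      show MvPolynomial.map inl.hom (MvPolynomial.map f.hom (X i)) =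
        MvPolynomial.map inr.hom (MvPolynomial.map g.hom (X i))
      rw [MvPolynomial.map_X, MvPolynomial.map_X, MvPolynomial.map_X, MvPolynomial.map_X]
  refine ⟨⟨w⟩, ⟨PushoutCocone.isColimitAux' _ fun c => ?_⟩⟩
  have hc : ∀ p : MvPolynomial (Fin m) R, c.inl.hom (MvPolynomial.map f.hom p) =
      c.inr.hom (MvPolynomial.map g.hom p) := fun p =>
    congrArg (fun φ => φ.hom p) c.condition
  have hw : f ≫ (CommRingCat.ofHom (C : S →+* MvPolynomial (Fin m) S) ≫ c.inl) =
      g ≫ (CommRingCat.ofHom (C : T →+* MvPolynomial (Fin m) T) ≫ c.inr) := by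
    apply CommRingCat.hom_ext
    apply RingHom.ext
    intro r
    show c.inl.hom (C (f.hom r)) = c.inr.hom (C (g.hom r))
    have := hc (C r)
    rw [MvPolynomial.map_C, MvPolynomial.map_C] at this
    exact this
  have hd1 : ∀ x, (h.desc _ _ hw).hom (inl.hom x) = c.inl.hom (C x) := fun x =>
    congrArg (fun φ => φ.hom x) (h.inl_desc _ _ hw)
  have hd2 : ∀ x, (h.desc _ _ hw).hom (inr.hom x) = c.inr.hom (C x) := fun x =>
    congrArg (fun φ => φ.hom x) (h.inr_desc _ _ hw)
  refine ⟨CommRingCat.ofHom (eval₂Hom (h.desc _ _ hw).hom (fun i => c.inl.hom (X i))), ?_, ?_, ?_⟩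
  · apply CommRingCat.hom_ext
    apply MvPolynomial.ringHom_ext
    · intro x
      show (eval₂Hom (h.desc _ _ hw).hom (fun i => c.inl.hom (X i)))
        (MvPolynomial.map inl.hom (C x)) = c.inl.hom (C x)
      rw [MvPolynomial.map_C, eval₂Hom_C, hd1]
    · intro i
      show (eval₂Hom (h.desc _ _ hw).hom (fun i => c.inl.hom (X i)))
        (MvPolynomial.map inl.hom (X i)) = c.inl.hom (X i)
      rw [MvPolynomial.map_X, eval₂Hom_X']
  · apply CommRingCat.hom_ext
    apply MvPolynomial.ringHom_ext
    · intro x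
      show (eval₂Hom (h.desc _ _ hw).hom (fun i => c.inl.hom (X i)))
        (MvPolynomial.map inr.hom (C x)) = c.inr.hom (C x)
      rw [MvPolynomial.map_C, eval₂Hom_C, hd2]
    · intro i
      show (eval₂Hom (h.desc _ _ hw).hom (fun i => c.inl.hom (X i)))
        (MvPolynomial.map inr.hom (X i)) = c.inr.hom (X i)
      rw [MvPolynomial.map_X, eval₂Hom_X']
      have := hc (X i)
      rw [MvPolynomial.map_X, MvPolynomial.map_X] at this
      exact this
  · intro m' h1 h2
    have h1' : ∀ p, m'.hom (MvPolynomial.map inl.hom p) = c.inl.hom p := fun p =>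
      congrArg (fun φ => φ.hom p) h1
    have h2' : ∀ p, m'.hom (MvPolynomial.map inr.hom p) = c.inr.hom p := fun p =>
      congrArg (fun φ => φ.hom p) h2
    have e : CommRingCat.ofHom (C : P →+* MvPolynomial (Fin m) P) ≫ m' = h.desc _ _ hw := by
      apply h.hom_ext
      · rw [h.inl_desc]
        apply CommRingCat.hom_ext
        apply RingHom.ext
        intro x
        show m'.hom (C (inl.hom x)) = c.inl.hom (C x)
        rw [← h1', MvPolynomial.map_C]
      · rw [h.inr_desc]
        apply CommRingCat.hom_ext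
        apply RingHom.ext
        intro x
        show m'.hom (C (inr.hom x)) = c.inr.hom (C x)
        rw [← h2', MvPolynomial.map_C]
    apply CommRingCat.hom_ext
    apply MvPolynomial.ringHom_ext
    · intro x
      show m'.hom (C x) = (eval₂Hom (h.desc _ _ hw).hom (fun i => c.inl.hom (X i))) (C x)
      rw [eval₂Hom_C]
      exact congrArg (fun φ => φ.hom x) e
    · intro i
      show m'.hom (X i) = (eval₂Hom (h.desc _ _ hw).hom (fun i => c.inl.hom (X i))) (X i)
      rw [eval₂Hom_X', ← h1', MvPolynomial.map_X]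

end functor

end Groth.Agent.H49.PolyPush
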