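import Mathlib
import Groth.Agent.H37.CharpolyBC
import Groth.Agent.H49.FinGrpdRing
import Groth.Agent.H49.PolyPush

/-!
# The polynomial-variable trick for finite locally free groupoids (ring level)

If `Σ t(a_j) s(a'_j) = 0` in `B` then `Σ a_j ⊗ a'_j` is nilpotent in `A ⊗_C A`.
-/

set_option autoImplicit false
universe u
open CategoryTheory CategoryTheory.Limits MvPolynomial TensorProduct

namespace Groth.Agent.H49.PolyTrick

open Groth.Agent.H37.CharpolyBC Groth.Agent.H49.FinGrpdRing Groth.Agent.H49.PolyPush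

section inv

variable {A B : Type u} [CommRing A] [CommRing B] (s t : A →+* B) (m : ℕ) (a' : Fin m → A)

/-- evaluation into `A ⊗_C A` -/
noncomputable def ev : MvPolynomial (Fin m) A →+* A ⊗[RingHom.eqLocus s t] A :=
  eval₂Hom (Algebra.TensorProduct.includeLeftRingHom : A →+* A ⊗[RingHom.eqLocus s t] A)
    (fun j => (1 : A) ⊗ₜ[RingHom.eqLocus s t] a' j)

/-- evaluation into `A` -/
noncomputable def ev₂ : MvPolynomial (Fin m) A →+* A := eval₂Hom (RingHom.id A) a'

/-- the right inclusion -/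
noncomputable def ιR : A →+* A ⊗[RingHom.eqLocus s t] A :=
  (Algebra.TensorProduct.includeRight : A →ₐ[RingHom.eqLocus s t] A ⊗[RingHom.eqLocus s t] A)

lemma ιR_apply (x : A) : ιR s t x = (1 : A) ⊗ₜ[RingHom.eqLocus s t] x := rfl

lemma ev_of_mem (g : MvPolynomial (Fin m) A)
    (hg : g ∈ RingHom.eqLocus (MvPolynomial.map (σ := Fin m) s) (MvPolynomial.map (σ := Fin m) t)) :
    ev s t m a' g = ιR s t (ev₂ m a' g) := by
  have hg' : MvPolynomial.map s g = MvPolynomial.map t g := hg
  have hcoef : ∀ d, coeff d g ∈ RingHom.eqLocus s t := fun d => by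
    have := congrArg (coeff d) hg'
    rw [coeff_map, coeff_map] at this
    exact this
  have hrange : g ∈ Set.range (MvPolynomial.map (σ := Fin m) (RingHom.eqLocus s t).subtype) := by
    rw [mem_range_map_iff_coeffs_subset]
    intro x hx
    obtain ⟨d, -, rfl⟩ := MvPolynomial.mem_coeffs_iff.mp hx
    exact ⟨⟨coeff d g, hcoef d⟩, rfl⟩
  obtain ⟨g₀, rfl⟩ := hrange
  have key : (ev s t m a').comp (MvPolynomial.map (RingHom.eqLocus s t).subtype) =
      ((ιR s t).comp (ev₂ m a')).comp (MvPolynomial.map (RingHom.eqLocus s t).subtype) := by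
    apply MvPolynomial.ringHom_ext
    · intro r
      show ev s t m a' (MvPolynomial.map _ (C r)) = ιR s t (ev₂ m a' (MvPolynomial.map _ (C r)))
      rw [MvPolynomial.map_C]
      unfold ev ev₂
      rw [eval₂Hom_C, eval₂Hom_C, ιR_apply]
      show (r : A) ⊗ₜ[RingHom.eqLocus s t] (1 : A) = (1 : A) ⊗ₜ[RingHom.eqLocus s t] (r : A)
      have h1 : (r • (1 : A) : A) = ((r : RingHom.eqLocus s t) : A) := by
        rw [Subring.smul_def, smul_eq_mul, mul_one]
      rw [← h1, TensorProduct.smul_tmul]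
    · intro i
      show ev s t m a' (MvPolynomial.map _ (X i)) = ιR s t (ev₂ m a' (MvPolynomial.map _ (X i)))
      rw [MvPolynomial.map_X]
      unfold ev ev₂
      rw [eval₂Hom_X', eval₂Hom_X', ιR_apply]
  exact congrArg (fun φ => φ g₀) key

end inv

section main

variable {A B B₂ : Type u} [CommRing A] [CommRing B] [CommRing B₂]
  (s t : A →+* B) (e : B →+* A) (p₀ p₁ c : B →+* B₂)
  (hes : ∀ a, e (s a) = a) (het : ∀ a, e (t a) = a) (hct : ∀ a, c (t a) = p₀ (t a))
  (P1 : IsPushout (CommRingCat.ofHom s) (CommRingCat.ofHom s) (CommRingCat.ofHom c)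
    (CommRingCat.ofHom p₁))
  (P2 : IsPushout (CommRingCat.ofHom s) (CommRingCat.ofHom t) (CommRingCat.ofHom p₀)
    (CommRingCat.ofHom p₁))
  (n : ℕ) (π : letI := s.toAlgebra; (Fin n → A) →ₗ[A] B)
  (σ : letI := s.toAlgebra; B →ₗ[A] (Fin n → A))
  (hπσ : letI := s.toAlgebra; π ∘ₗ σ = LinearMap.id)

include hes het hct P1 P2 hπσ in
/-- the polynomial-variable trick -/
theorem pow_eq_zero (m : ℕ) (a a' : Fin m → A) (h0 : ∑ j, t (a j) * s (a' j) = 0) :
    (∑ j, (a j) ⊗ₜ[RingHom.eqLocus s t] (a' j) : A ⊗[RingHom.eqLocus s t] A) ^ n = 0 := by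
  rcases subsingleton_or_nontrivial A with hA | hA
  · haveI : Subsingleton (A ⊗[RingHom.eqLocus s t] A) := by
      refine ⟨fun x y => ?_⟩
      have h1 : (1 : A ⊗[RingHom.eqLocus s t] A) = 0 := by
        rw [Algebra.TensorProduct.one_def, Subsingleton.elim (1 : A) 0, TensorProduct.zero_tmul]
      rw [← mul_one x, ← mul_one y, h1, mul_zero, mul_zero]
    exact Subsingleton.elim _ _
  -- the polynomial groupoid
  set s' := MvPolynomial.map (σ := Fin m) s with hs'
  set t' := MvPolynomial.map (σ := Fin m) t with ht'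
  set e' := MvPolynomial.map (σ := Fin m) e with he'
  set p₀' := MvPolynomial.map (σ := Fin m) p₀ with hp₀'
  set p₁' := MvPolynomial.map (σ := Fin m) p₁ with hp₁'
  set c' := MvPolynomial.map (σ := Fin m) c with hc'
  have hes' : ∀ x, e' (s' x) = x := fun x => by
    rw [hs', he', MvPolynomial.map_map, show e.comp s = RingHom.id A from RingHom.ext hes,
      MvPolynomial.map_id]
  have het' : ∀ x, e' (t' x) = x := fun x => by
    rw [ht', he', MvPolynomial.map_map, show e.comp t = RingHom.id A from RingHom.ext het,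
      MvPolynomial.map_id]
  have hct' : ∀ x, c' (t' x) = p₀' (t' x) := fun x => by
    rw [ht', hc', hp₀', MvPolynomial.map_map, MvPolynomial.map_map,
      show c.comp t = p₀.comp t from RingHom.ext hct]
  letI algs := s.toAlgebra
  letI algs' := s'.toAlgebra
  letI algp := p₁'.toAlgebra
  -- presentation of `B[T]` over `A[T]`
  obtain ⟨π', σ', hπσ', -⟩ := charpoly_of_isPushout (isPushout_C s m) n π σ hπσ 0
  change (Fin n → MvPolynomial (Fin m) A) →ₗ[MvPolynomial (Fin m) A] MvPolynomial (Fin m) B at π'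
  change MvPolynomial (Fin m) B →ₗ[MvPolynomial (Fin m) A] (Fin n → MvPolynomial (Fin m) A) at σ'
  have H1' : ∀ x : MvPolynomial (Fin m) B,
      ∃ (π'' : (Fin n → MvPolynomial (Fin m) B) →ₗ[MvPolynomial (Fin m) B] MvPolynomial (Fin m) B₂)
        (σ'' : MvPolynomial (Fin m) B₂ →ₗ[MvPolynomial (Fin m) B] (Fin n → MvPolynomial (Fin m) B)),
        π'' ∘ₗ σ'' = LinearMap.id ∧
        (σ'' ∘ₗ Algebra.lmul (MvPolynomial (Fin m) B) (MvPolynomial (Fin m) B₂) (c' x) ∘ₗ
          π'').charpoly =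
          (σ' ∘ₗ Algebra.lmul (MvPolynomial (Fin m) A) (MvPolynomial (Fin m) B) x ∘ₗ
            π').charpoly.map s' := fun x =>
    charpoly_of_isPushout (isPushout_map P1 m) n π' σ' hπσ' x
  have H2' : ∀ x : MvPolynomial (Fin m) B,
      ∃ (π'' : (Fin n → MvPolynomial (Fin m) B) →ₗ[MvPolynomial (Fin m) B] MvPolynomial (Fin m) B₂)
        (σ'' : MvPolynomial (Fin m) B₂ →ₗ[MvPolynomial (Fin m) B] (Fin n → MvPolynomial (Fin m) B)),
        π'' ∘ₗ σ'' = LinearMap.id ∧
        (σ'' ∘ₗ Algebra.lmul (MvPolynomial (Fin m) B) (MvPolynomial (Fin m) B₂) (p₀' x) ∘ₗ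
          π'').charpoly =
          (σ' ∘ₗ Algebra.lmul (MvPolynomial (Fin m) A) (MvPolynomial (Fin m) B) x ∘ₗ
            π').charpoly.map t' := fun x =>
    charpoly_of_isPushout (isPushout_map P2 m) n π' σ' hπσ' x
  -- the generic element
  set f : MvPolynomial (Fin m) A := ∑ j, C (a j) * X j with hf
  obtain ⟨Pol, hPol⟩ : ∃ Pol, Pol = (σ' ∘ₗ Algebra.lmul (MvPolynomial (Fin m) A)
      (MvPolynomial (Fin m) B) (t' f) ∘ₗ π').charpoly := ⟨_, rfl⟩
  have hcoeff : ∀ k, Pol.coeff k ∈ RingHom.eqLocus s' t' := fun k => by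
    rw [hPol]
    exact coeff_mem s' t' p₀' p₁' c' hct' n π' σ' H1' H2' f k
  have hCH : Polynomial.aeval (t' f) Pol = 0 := by
    rw [hPol]
    exact ch_lemma π' σ' hπσ' (t' f)
  have hev : Pol.eval f = 0 := by
    have h3 := congrArg e' hCH
    rw [map_zero, Polynomial.aeval_def, Polynomial.hom_eval₂, het'] at h3
    have h4 : e'.comp (algebraMap (MvPolynomial (Fin m) A) (MvPolynomial (Fin m) B)) =
        RingHom.id _ := RingHom.ext hes'
    rw [h4] at h3
    exact h3
  -- specialisation of the generic element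
  set ξ : A ⊗[RingHom.eqLocus s t] A := ∑ j, (a j) ⊗ₜ[RingHom.eqLocus s t] (a' j) with hξ
  have hevf : ev s t m a' f = ξ := by
    rw [hf, hξ, map_sum]
    refine Finset.sum_congr rfl fun j _ => ?_
    rw [map_mul]
    unfold ev
    rw [eval₂Hom_C, eval₂Hom_X']
    show (a j ⊗ₜ[RingHom.eqLocus s t] (1 : A)) * ((1 : A) ⊗ₜ[RingHom.eqLocus s t] a' j) = _
    rw [Algebra.TensorProduct.tmul_mul_tmul, mul_one, one_mul]
  have h5 : Pol.eval₂ (ev s t m a') ξ = 0 := by
    rw [← hevf, Polynomial.eval₂_at_apply, hev, map_zero]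
  have h6 : Pol.eval₂ (ev s t m a') ξ = (Pol.map (ev₂ m a')).eval₂ (ιR s t) ξ := by
    rw [Polynomial.eval₂_map, Polynomial.eval₂_eq_sum_range, Polynomial.eval₂_eq_sum_range]
    refine Finset.sum_congr rfl fun k _ => ?_
    rw [ev_of_mem s t m a' _ (hcoeff k)]
    rfl
  -- the specialised polynomial is `X ^ n`
  have h7 : Pol.map (ev₂ m a') = Polynomial.X ^ n := by
    obtain ⟨π'', σ'', -, hch⟩ := charpoly_of_isPushout (isPushout_eval s m a') n π' σ' hπσ' (t' f)
    change (Fin n → A) →ₗ[A] B at π''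
    change B →ₗ[A] (Fin n → A) at σ''
    have hz : (eval₂Hom (RingHom.id B) (fun j => s (a' j))) (t' f) = 0 := by
      rw [hf, ht', map_sum, map_sum]
      rw [← h0]
      refine Finset.sum_congr rfl fun j _ => ?_
      rw [map_mul, map_mul, MvPolynomial.map_C, MvPolynomial.map_X, eval₂Hom_C, eval₂Hom_X']
      rfl
    have hch' : (σ'' ∘ₗ Algebra.lmul A B
        ((eval₂Hom (RingHom.id B) (fun j => s (a' j))) (t' f)) ∘ₗ π'').charpoly =
        Pol.map (ev₂ m a') := by
      rw [hPol]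
      exact hch
    rw [← hch', hz, map_zero, LinearMap.zero_comp, LinearMap.comp_zero, LinearMap.charpoly_zero,
      Module.finrank_fin_fun]
  rw [h6, h7, Polynomial.eval₂_X_pow] at h5
  exact h5

end main

end Groth.Agent.H49.PolyTrick
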