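import Mathlib
import Groth.Agent.H49.PolyTrick
import Groth.Agent.H49.FinGrpdIso

/-!
# `R ⟶ U ×_M U` is surjective for a finite locally free groupoid in affine schemes
-/

set_option autoImplicit false
universe u
open CategoryTheory CategoryTheory.Limits AlgebraicGeometry TensorProduct
open Grpd

namespace Groth.Agent.H49.ThetaSurj

open Groth.Agent.H49.FinGrpdSch Groth.Agent.H49.FinGrpdIso Groth.Agent.H49.FinGrpdLoc
  Groth.Agent.H49.PolyTrick

section general

lemma tensor_exists_fin {R M N : Type*} [CommRing R] [AddCommGroup M] [AddCommGroup N]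
    [Module R M] [Module R N] (x : M ⊗[R] N) :
    ∃ (m : ℕ) (a : Fin m → M) (a' : Fin m → N), x = ∑ j, a j ⊗ₜ[R] a' j := by
  obtain ⟨T, rfl⟩ := TensorProduct.exists_finset x
  refine ⟨T.card, fun j => (T.equivFin.symm j).1.1, fun j => (T.equivFin.symm j).1.2, ?_⟩
  rw [← Finset.sum_coe_sort T (fun i => i.1 ⊗ₜ[R] i.2)]
  exact (Equiv.sum_comp T.equivFin.symm (fun i : T => i.1.1 ⊗ₜ[R] i.1.2)).symm

end general

variable (S : Scheme.{u}) (G : Grpd.GroupoidScheme S) [IsAffine G.U] [IsAffine G.R]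
  [IsFinite G.s] [Flat G.s] [LocallyOfFinitePresentation G.s]
  [IsFinite G.t] [Flat G.t] [LocallyOfFinitePresentation G.t]

/-- the `C`-algebra structure on the functions on `U ×_M U` -/
noncomputable abbrev algD : Algebra (RingHom.eqLocus G.s.appTop.hom G.t.appTop.hom)
    Γ(pullback G.toQuot G.toQuot, ⊤) :=
  ((pullback.fst G.toQuot G.toQuot).appTop.hom.comp
    (RingHom.eqLocus G.s.appTop.hom G.t.appTop.hom).subtype).toAlgebra

/-- `A ⊗_C A → Γ(U ×_M U)` -/
noncomputable def Φ : Γ(G.U, ⊤) ⊗[RingHom.eqLocus G.s.appTop.hom G.t.appTop.hom] Γ(G.U, ⊤) →+*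
    Γ(pullback G.toQuot G.toQuot, ⊤) :=
  letI := algD S G
  (Algebra.TensorProduct.productMap
    ({ toRingHom := (pullback.fst G.toQuot G.toQuot).appTop.hom
       commutes' := fun _ => rfl } :
      Γ(G.U, ⊤) →ₐ[RingHom.eqLocus G.s.appTop.hom G.t.appTop.hom] Γ(pullback G.toQuot G.toQuot, ⊤))
    ({ toRingHom := (pullback.snd G.toQuot G.toQuot).appTop.hom
       commutes' := fun r => (fst_eq_snd S G r.1 r.2).symm } :
      Γ(G.U, ⊤) →ₐ[RingHom.eqLocus G.s.appTop.hom G.t.appTop.hom]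
        Γ(pullback G.toQuot G.toQuot, ⊤))).toRingHom

omit [IsAffine G.U] [IsAffine G.R]
  [IsFinite G.s] [Flat G.s] [LocallyOfFinitePresentation G.s]
  [IsFinite G.t] [Flat G.t] [LocallyOfFinitePresentation G.t] in
lemma Φ_tmul (a a' : Γ(G.U, ⊤)) :
    Φ S G (a ⊗ₜ a') = (pullback.fst G.toQuot G.toQuot).appTop.hom a *
      (pullback.snd G.toQuot G.toQuot).appTop.hom a' := by
  letI := algD S G
  unfold Φ
  exact Algebra.TensorProduct.productMap_apply_tmul _ _ _ _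

omit [IsFinite G.s] [Flat G.s] [LocallyOfFinitePresentation G.s]
  [IsFinite G.t] [Flat G.t] [LocallyOfFinitePresentation G.t] [IsAffine G.R] in
/-- `Φ` is surjective -/
lemma Φ_surjective : Function.Surjective (Φ S G) := by
  have hpo := isPushout_appTop_of_isPullback (IsPullback.of_hasPullback G.toQuot G.toQuot)
  -- the cocone `A ⊗_C A`
  let inl' : Γ(G.U, ⊤) ⟶ CommRingCat.of
      (Γ(G.U, ⊤) ⊗[RingHom.eqLocus G.s.appTop.hom G.t.appTop.hom] Γ(G.U, ⊤)) :=
    CommRingCat.ofHom Algebra.TensorProduct.includeLeftRingHom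
  let inr' : Γ(G.U, ⊤) ⟶ CommRingCat.of
      (Γ(G.U, ⊤) ⊗[RingHom.eqLocus G.s.appTop.hom G.t.appTop.hom] Γ(G.U, ⊤)) :=
    CommRingCat.ofHom (ιR G.s.appTop.hom G.t.appTop.hom)
  have hw : G.toQuot.appTop ≫ inl' = G.toQuot.appTop ≫ inr' := by
    apply CommRingCat.hom_ext
    apply RingHom.ext
    intro z
    obtain ⟨y, rfl⟩ : ∃ y : G.invariants,
        (Scheme.ΓSpecIso (CommRingCat.of G.invariants)).inv.hom y = z :=
      ⟨(Scheme.ΓSpecIso (CommRingCat.of G.invariants)).hom.hom z, by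
        rw [← CommRingCat.comp_apply, Iso.hom_inv_id]; rfl⟩
    show (G.toQuot.appTop.hom _) ⊗ₜ[RingHom.eqLocus G.s.appTop.hom G.t.appTop.hom] (1 : Γ(G.U, ⊤)) =
      (1 : Γ(G.U, ⊤)) ⊗ₜ[RingHom.eqLocus G.s.appTop.hom G.t.appTop.hom] (G.toQuot.appTop.hom _)
    rw [toQuot_appTop S G y]
    have h1 : ((⟨y.1, y.2⟩ : RingHom.eqLocus G.s.appTop.hom G.t.appTop.hom) •
        (1 : Γ(G.U, ⊤)) : Γ(G.U, ⊤)) = y.1 := by
      rw [Subring.smul_def, smul_eq_mul, mul_one]
    rw [← h1, TensorProduct.smul_tmul]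
  let Ψ' := hpo.desc inl' inr' hw
  have h1 : (pullback.fst G.toQuot G.toQuot).appTop ≫ Ψ' = inl' := hpo.inl_desc _ _ _
  have h2 : (pullback.snd G.toQuot G.toQuot).appTop ≫ Ψ' = inr' := hpo.inr_desc _ _ _
  have hid : Ψ' ≫ CommRingCat.ofHom (Φ S G) = 𝟙 _ := by
    apply hpo.hom_ext
    · rw [← Category.assoc, h1, Category.comp_id]
      apply CommRingCat.hom_ext
      apply RingHom.ext
      intro a
      show Φ S G (a ⊗ₜ 1) = _
      rw [Φ_tmul, map_one, mul_one]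
    · rw [← Category.assoc, h2, Category.comp_id]
      apply CommRingCat.hom_ext
      apply RingHom.ext
      intro a
      show Φ S G (1 ⊗ₜ a) = _
      rw [Φ_tmul, map_one, one_mul]
  intro d
  exact ⟨Ψ'.hom d, congrArg (fun φ => φ.hom d) hid⟩

/-- the kernel of `θ♯` consists of nilpotent elements -/
theorem isNilpotent_of_θ_eq_zero (d : Γ(pullback G.toQuot G.toQuot, ⊤))
    (hd : (θ S G).appTop.hom d = 0) : IsNilpotent d := by
  obtain ⟨n, π, σ, hπσ, -, -⟩ := exists_data S G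
  have sq1 : IsPullback G.c (pullback.snd G.s G.t) G.s G.s := (Groth.Agent.S7457.result S G).2
  have sq2 := IsPullback.of_hasPullback G.s G.t
  have p1 := isPushout_appTop_of_isPullback sq1
  have p2 := isPushout_appTop_of_isPullback sq2
  obtain ⟨ξ, rfl⟩ := Φ_surjective S G d
  obtain ⟨m, a, a', rfl⟩ := tensor_exists_fin ξ
  have h0 : ∑ j, G.t.appTop.hom (a j) * G.s.appTop.hom (a' j) = 0 := by
    rw [map_sum, map_sum] at hd
    rw [← hd]
    refine Finset.sum_congr rfl fun j _ => ?_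
    rw [Φ_tmul, map_mul, θ_P₁, θ_P₂]
  have key := pow_eq_zero G.s.appTop.hom G.t.appTop.hom G.e.appTop.hom
    (pullback.fst G.s G.t).appTop.hom (pullback.snd G.s G.t).appTop.hom G.c.appTop.hom
    (hes S G) (het S G) (hct S G) p1 p2 n π σ hπσ m a a' h0
  exact ⟨n, by rw [← map_pow, key, map_zero]⟩

/-- `R ⟶ U ×_M U` is surjective -/
theorem θ_surjective : Function.Surjective (θ S G) := by
  intro z
  letI := (θ S G).appTop.hom.toAlgebra
  haveI hint : Algebra.IsIntegral Γ(pullback G.toQuot G.toQuot, ⊤) Γ(G.R, ⊤) := by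
    have h1 : (G.t.appTop.hom).IsIntegral := (G.t.finite_appTop).to_isIntegral
    have h2 : G.t.appTop.hom = (θ S G).appTop.hom.comp
        (pullback.fst G.toQuot G.toQuot).appTop.hom := by
      ext a
      exact (θ_P₁ S G a).symm
    rw [h2] at h1
    exact ⟨RingHom.IsIntegral.tower_top _ _ h1⟩
  have hker : RingHom.ker (algebraMap Γ(pullback G.toQuot G.toQuot, ⊤) Γ(G.R, ⊤)) ≤
      ((pullback G.toQuot G.toQuot).isoSpec.hom z).asIdeal := by
    intro d hd
    obtain ⟨k, hk⟩ := isNilpotent_of_θ_eq_zero S G d hd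
    exact Ideal.IsPrime.mem_of_pow_mem inferInstance k (by rw [hk]; exact Ideal.zero_mem _)
  obtain ⟨𝔔, -, h𝔔, h𝔔z⟩ := Ideal.exists_ideal_over_prime_of_isIntegral
    ((pullback G.toQuot G.toQuot).isoSpec.hom z).asIdeal (⊥ : Ideal Γ(G.R, ⊤))
    (by rw [← RingHom.ker_eq_comap_bot]; exact hker)
  refine ⟨G.R.isoSpec.inv ⟨𝔔, h𝔔⟩, ?_⟩
  apply (pullback G.toQuot G.toQuot).isoSpec.hom.homeomorph.injective
  apply PrimeSpectrum.ext
  show ((pullback G.toQuot G.toQuot).isoSpec.hom (θ S G _)).asIdeal = _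
  rw [isoSpec_asIdeal]
  have : G.R.isoSpec.hom (G.R.isoSpec.inv ⟨𝔔, h𝔔⟩) = ⟨𝔔, h𝔔⟩ := by
    rw [← Scheme.Hom.comp_apply, Iso.inv_hom_id]; rfl
  rw [this]
  exact h𝔔z

end Groth.Agent.H49.ThetaSurj
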