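import Groth.Agent.H49.GQ9
import Groth.Agent.H49.ThetaSurj
import Mathlib

/-!
# The quotient morphism: openness, surjectivity of `R ⟶ U ×_Y U`, affineness
-/

set_option autoImplicit false
universe u
open CategoryTheory CategoryTheory.Limits AlgebraicGeometry TensorProduct
open Grpd

namespace Groth.Agent.H49.GQ10

open Groth.Agent.H49.GQ1 Groth.Agent.H49.GQ2 Groth.Agent.H49.GQ3 Groth.Agent.H49.GQ4
  Groth.Agent.H49.GQ5 Groth.Agent.H49.GQ6 Groth.Agent.H49.GQ7 Groth.Agent.H49.FinGrpdLoc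
  Groth.Agent.H49.FinGrpdSch Groth.Agent.H49.FinGrpdFlat Groth.Agent.H49.FinGrpdIso
  Groth.Agent.H49.InvAffine Groth.Agent.H49.ThetaSurj

variable {S : Scheme.{u}} {G : Grpd.GroupoidScheme S}
  [IsFinite G.s] [Flat G.s] [LocallyOfFinitePresentation G.s]
  (hT : GoodFamily (fun _ : J G => True))

/-- `R ⟶ U ×_Y U` is surjective -/
theorem lift_surjective :
    Function.Surjective (pullback.lift G.t G.s (s_q_eq_t_q hT).symm :
      G.R ⟶ pullback (q hT) (q hT)) := by
  intro z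
  obtain ⟨W, x, hx⟩ := ιY_jointly_surjective ((pullback.fst (q hT) (q hT) ≫ q hT) z)
  let V : (pullback (q hT) (q hT)).Opens :=
    (pullback.fst (q hT) (q hT) ≫ q hT) ⁻¹ᵁ (ιY W).opensRange
  have hzV : z ∈ V := ⟨x, hx⟩
  have ha : Set.range (V.ι ≫ pullback.fst (q hT) (q hT)) ⊆ Set.range W.1.ι := by
    rintro _ ⟨v, rfl⟩
    rw [Scheme.Opens.range_ι]
    show _ ∈ W.1
    rw [← preimage_q hT W]
    exact v.2
  have hb : Set.range (V.ι ≫ pullback.snd (q hT) (q hT)) ⊆ Set.range W.1.ι := by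
    rintro _ ⟨v, rfl⟩
    rw [Scheme.Opens.range_ι]
    show _ ∈ W.1
    rw [← preimage_q hT W]
    show (pullback.snd (q hT) (q hT) ≫ q hT) v.1 ∈ (ιY W).opensRange
    rw [← pullback.condition]
    exact v.2
  let a' := IsOpenImmersion.lift W.1.ι _ ha
  let b' := IsOpenImmersion.lift W.1.ι _ hb
  have ha' : a' ≫ W.1.ι = V.ι ≫ pullback.fst (q hT) (q hT) := IsOpenImmersion.lift_fac _ _ _
  have hb' : b' ≫ W.1.ι = V.ι ≫ pullback.snd (q hT) (q hT) := IsOpenImmersion.lift_fac _ _ _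
  have hab : a' ≫ (H G W).toQuot = b' ≫ (H G W).toQuot := by
    rw [← cancel_mono (ιY W), Category.assoc, Category.assoc, ← ι_q hT W, ← Category.assoc,
      ← Category.assoc, ha', hb', Category.assoc, Category.assoc, pullback.condition]
  let m : pullback (H G W).toQuot (H G W).toQuot ⟶ pullback (q hT) (q hT) :=
    pullback.map _ _ _ _ W.1.ι W.1.ι (ιY W) (ι_q hT W).symm (ι_q hT W).symm
  have hm1 : m ≫ pullback.fst (q hT) (q hT) = pullback.fst _ _ ≫ W.1.ι := pullback.lift_fst _ _ _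
  have hm2 : m ≫ pullback.snd (q hT) (q hT) = pullback.snd _ _ ≫ W.1.ι := pullback.lift_snd _ _ _
  have hlm : pullback.lift a' b' hab ≫ m = V.ι := by
    apply pullback.hom_ext
    · rw [Category.assoc, hm1, pullback.lift_fst_assoc, ha']
    · rw [Category.assoc, hm2, pullback.lift_snd_assoc, hb']
  have hθm : θ S (H G W) ≫ m = (G.s ⁻¹ᵁ W.1).ι ≫
      (pullback.lift G.t G.s (s_q_eq_t_q hT).symm : G.R ⟶ pullback (q hT) (q hT)) := by
    apply pullback.hom_ext
    · rw [Category.assoc, hm1, ← Category.assoc, θ_fst, Category.assoc, pullback.lift_fst]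
      exact GW_t_ι G W.1 W.2.2
    · rw [Category.assoc, hm2, ← Category.assoc, θ_snd, Category.assoc, pullback.lift_snd]
      exact GW_s_ι G W.1 W.2.2
  obtain ⟨r', hr'⟩ := θ_surjective S (H G W) ((pullback.lift a' b' hab) ⟨z, hzV⟩)
  refine ⟨(G.s ⁻¹ᵁ W.1).ι r', ?_⟩
  rw [← Scheme.Hom.comp_apply, ← hθm, Scheme.Hom.comp_apply, hr', ← Scheme.Hom.comp_apply, hlm]
  rfl

/-- the quotient morphism is open -/
theorem isOpenMap_q : IsOpenMap (q hT) := by
  haveI := isIntegralHom_q hT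
  haveI := flat_t G
  haveI := lfp_t G
  have hquot : Topology.IsQuotientMap (q hT) :=
    (q hT).isClosedMap.isQuotientMap (q hT).continuous (q_surjective hT)
  intro O hO
  rw [← hquot.isOpen_preimage]
  have : (q hT) ⁻¹' ((q hT) '' O) = G.t '' (G.s ⁻¹' O) := by
    ext u
    constructor
    · rintro ⟨o, ho, hou⟩
      obtain ⟨r, hr1, hr2⟩ := (q_eq_iff hT o u).mp hou
      exact ⟨r, by rw [Set.mem_preimage, hr1]; exact ho, hr2⟩
    · rintro ⟨r, hr, rfl⟩
      exact ⟨G.s r, hr, (q_eq_iff hT _ _).mpr ⟨r, rfl, rfl⟩⟩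
  rw [this]
  exact G.t.isOpenMap _ (hO.preimage G.s.continuous)

include hT in
/-- the quotient is affine when `U` is -/
theorem isAffine_Y [IsAffine G.U] : IsAffine (Y G) := by
  let W₀ : J G := ⟨⊤, isAffineOpen_top G.U, rfl⟩
  haveI : Epi (ιY W₀).base := by
    rw [TopCat.epi_iff_surjective]
    intro y
    obtain ⟨u, rfl⟩ := q_surjective hT y
    exact ⟨(H G W₀).toQuot ⟨u, trivial⟩, (q_apply hT W₀ ⟨u, trivial⟩).symm⟩
  haveI : IsIso (ιY W₀) :=
    (isIso_iff_isOpenImmersion_and_epi_base _).mpr ⟨inferInstance, inferInstance⟩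
  exact .of_isIso (inv (ιY W₀))

end Groth.Agent.H49.GQ10
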