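import Mathlib
import Groth.Prelude.Def_Grpd
import Groth.Prelude.Def_AlgGrp
import Groth.Agent.H63.ActionTranslate
import Groth.Agent.H37.GrpAct

/-!
# The action groupoid `G ×_S X ⇉ X` of an action of a group scheme (helper49)
-/

set_option autoImplicit false
universe u
open CategoryTheory CategoryTheory.Limits AlgebraicGeometry MonoidalCategory CartesianMonoidalCategory
open scoped MonObj
open Groth.Agent.H63.ActionTranslate

namespace Groth.Agent.H49.ActGrpd

variable {S : Scheme.{u}} {G X : Over S} [GrpObj G] (a : AlgGrp.Action G X)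

/-- a `T`-point of `Y : Over S` from a scheme morphism -/
def ptO {Y : Over S} {T : Scheme.{u}} (α : T ⟶ Y.left) (p : T ⟶ S) (hα : α ≫ Y.hom = p) :
    Over.mk p ⟶ Y :=
  Over.homMk α hα

/-- composable pairs as an object over `S` -/
noncomputable abbrev PO : Over S :=
  Over.mk (pullback.fst (snd G X).left a.act.left ≫ (G ⊗ X).hom)

lemma snd_over : pullback.snd (snd G X).left a.act.left ≫ (G ⊗ X).hom =
    pullback.fst (snd G X).left a.act.left ≫ (G ⊗ X).hom := by
  calc pullback.snd (snd G X).left a.act.left ≫ (G ⊗ X).hom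
      = pullback.snd (snd G X).left a.act.left ≫ a.act.left ≫ X.hom := by rw [Over.w a.act]
    _ = pullback.fst (snd G X).left a.act.left ≫ (snd G X).left ≫ X.hom := by
        rw [← Category.assoc, ← pullback.condition, Category.assoc]
    _ = pullback.fst (snd G X).left a.act.left ≫ (G ⊗ X).hom := by rw [Over.w (snd G X)]

noncomputable def π₁ : PO a ⟶ G ⊗ X := Over.homMk (pullback.fst _ _) rfl

noncomputable def π₂ : PO a ⟶ G ⊗ X := Over.homMk (pullback.snd _ _) (snd_over a)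

/-- composition `(g, x) ∘ (h, y) = (g h, y)` (defined when `x = h y`) -/
noncomputable def cO : PO a ⟶ G ⊗ X :=
  lift ((π₁ a ≫ fst G X) * (π₂ a ≫ fst G X)) (π₂ a ≫ snd G X)

/-- identity `x ↦ (1, x)` -/
noncomputable def eO : X ⟶ G ⊗ X := lift (toUnit X ≫ η[G]) (𝟙 X)

/-- inverse `(g, x) ↦ (g⁻¹, g x)` -/
noncomputable def iO : G ⊗ X ⟶ G ⊗ X := lift ((fst G X)⁻¹) a.act

lemma pR_eq {T : Scheme.{u}} (α β : T ⟶ (G ⊗ X).left)
    (h : α ≫ (snd G X).left = β ≫ a.act.left) :
    β ≫ (G ⊗ X).hom = α ≫ (G ⊗ X).hom := by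
  calc β ≫ (G ⊗ X).hom = β ≫ a.act.left ≫ X.hom := by rw [Over.w a.act]
    _ = α ≫ (snd G X).left ≫ X.hom := by rw [← Category.assoc, ← h, Category.assoc]
    _ = α ≫ (G ⊗ X).hom := by rw [Over.w (snd G X)]

lemma lift_c {T : Scheme.{u}} (α β : T ⟶ (G ⊗ X).left)
    (h : α ≫ (snd G X).left = β ≫ a.act.left) (p : T ⟶ S)
    (hα : α ≫ (G ⊗ X).hom = p) (hβ : β ≫ (G ⊗ X).hom = p) :
    pullback.lift α β h ≫ (cO a).left =
      (lift ((ptO α p hα ≫ fst G X) * (ptO β p hβ ≫ fst G X)) (ptO β p hβ ≫ snd G X)).left := by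
  let ℓ : Over.mk p ⟶ PO a := Over.homMk (pullback.lift α β h) (by
    show pullback.lift α β h ≫ pullback.fst _ _ ≫ (G ⊗ X).hom = p
    rw [pullback.lift_fst_assoc, hα])
  have h1 : ℓ ≫ π₁ a = ptO α p hα := by
    apply Over.OverMorphism.ext; exact pullback.lift_fst _ _ _
  have h2 : ℓ ≫ π₂ a = ptO β p hβ := by
    apply Over.OverMorphism.ext; exact pullback.lift_snd _ _ _
  show (ℓ ≫ cO a).left = _
  rw [cO, comp_lift, MonObj.comp_mul, ← Category.assoc, ← Category.assoc, ← Category.assoc, h1, h2]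

lemma c_over {T : Scheme.{u}} (α β : T ⟶ (G ⊗ X).left)
    (h : α ≫ (snd G X).left = β ≫ a.act.left) (p : T ⟶ S)
    (hα : α ≫ (G ⊗ X).hom = p) (hβ : β ≫ (G ⊗ X).hom = p) :
    (pullback.lift α β h ≫ (cO a).left) ≫ (G ⊗ X).hom = p := by
  rw [lift_c a α β h p hα hβ]
  exact Over.w _

lemma ptO_c {T : Scheme.{u}} (α β : T ⟶ (G ⊗ X).left)
    (h : α ≫ (snd G X).left = β ≫ a.act.left) (p : T ⟶ S)
    (hα : α ≫ (G ⊗ X).hom = p) (hβ : β ≫ (G ⊗ X).hom = p)
    (hc : (pullback.lift α β h ≫ (cO a).left) ≫ (G ⊗ X).hom = p) :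
    ptO (pullback.lift α β h ≫ (cO a).left) p hc =
      lift ((ptO α p hα ≫ fst G X) * (ptO β p hβ ≫ fst G X)) (ptO β p hβ ≫ snd G X) := by
  apply Over.OverMorphism.ext
  exact lift_c a α β h p hα hβ

lemma ptO_act_eq {T : Scheme.{u}} (α β : T ⟶ (G ⊗ X).left)
    (h : α ≫ (snd G X).left = β ≫ a.act.left) (p : T ⟶ S)
    (hα : α ≫ (G ⊗ X).hom = p) (hβ : β ≫ (G ⊗ X).hom = p) :
    ptO β p hβ ≫ a.act = ptO α p hα ≫ snd G X := by
  apply Over.OverMorphism.ext
  exact h.symm

lemma ptO_comp {Y Z : Over S} {T : Scheme.{u}} (α : T ⟶ Y.left) (p : T ⟶ S) (hα : α ≫ Y.hom = p)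
    (f : Y ⟶ Z) (h' : (α ≫ f.left) ≫ Z.hom = p) :
    ptO (α ≫ f.left) p h' = ptO α p hα ≫ f := by
  apply Over.OverMorphism.ext; rfl

lemma iO_act : iO a ≫ a.act = snd G X := by
  have h0 : lift ((fst G X)⁻¹) a.act ≫ a.act =
      lift ((fst G X)⁻¹) (lift (fst G X) (snd G X) ≫ a.act) ≫ a.act := by
    rw [lift_fst_snd, Category.id_comp]
  rw [iO, h0, ← act_mul, inv_mul_cancel]
  exact act_one' a _


lemma lift_fst_snd' {T : Over S} (f : T ⟶ G ⊗ X) : lift (f ≫ fst G X) (f ≫ snd G X) = f :=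
  lift_comp_fst_snd f

/-- the action groupoid `(X, G ×_S X, pr₂, act)` -/
noncomputable def actGrpd : Grpd.GroupoidScheme S where
  U := X.left
  R := (G ⊗ X).left
  pU := X.hom
  pR := (G ⊗ X).hom
  s := (snd G X).left
  t := a.act.left
  e := (eO (G := G) (X := X)).left
  i := (iO a).left
  c := (cO a).left
  s_over := Over.w _
  t_over := Over.w _
  comp_s α β h := by
    rw [lift_c a α β h _ rfl (pR_eq a α β h)]
    refine congrArg CommaMorphism.left
      (?_ : lift _ _ ≫ snd G X = ptO β _ (pR_eq a α β h) ≫ snd G X)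
    rw [lift_snd]
  comp_t α β h := by
    rw [lift_c a α β h _ rfl (pR_eq a α β h)]
    refine congrArg CommaMorphism.left
      (?_ : lift _ _ ≫ a.act = ptO α _ rfl ≫ a.act)
    rw [act_mul, lift_fst_snd', ptO_act_eq a α β h _ rfl (pR_eq a α β h), lift_fst_snd']
  assoc x y z h₁ h₂ := by
    have hy := pR_eq a x y h₁
    have hz := (pR_eq a y z h₂).trans hy
    have hxy := c_over a x y h₁ _ rfl hy
    have hyz := c_over a y z h₂ _ hy hz
    rw [lift_c a _ z _ _ hxy hz, lift_c a x _ _ _ rfl hyz, ptO_c a x y h₁ _ rfl hy hxy,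
      ptO_c a y z h₂ _ hy hz hyz, lift_fst, lift_fst, lift_snd, mul_assoc]
  e_s := by
    refine congrArg CommaMorphism.left (?_ : eO ≫ snd G X = 𝟙 X)
    rw [eO, lift_snd]
  e_t := by
    refine congrArg CommaMorphism.left (?_ : eO ≫ a.act = 𝟙 X)
    rw [eO]
    exact act_one a _
  comp_e α := by
    have hβ : (α ≫ (snd G X).left ≫ (eO (G := G) (X := X)).left) ≫ (G ⊗ X).hom =
        α ≫ (G ⊗ X).hom := by
      have := Over.w (ptO α _ rfl ≫ snd G X ≫ eO (G := G) (X := X))
      exact this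
    rw [lift_c a α _ _ _ rfl hβ]
    have e1 : ptO (α ≫ (snd G X).left ≫ (eO (G := G) (X := X)).left) _ hβ =
        ptO α _ rfl ≫ snd G X ≫ eO := by
      apply Over.OverMorphism.ext; rfl
    refine congrArg CommaMorphism.left (?_ : lift _ _ = ptO α _ rfl)
    rw [e1, eO, Category.assoc, Category.assoc, lift_fst, Category.assoc, Category.assoc, lift_snd,
      Category.comp_id, ← Category.assoc, ← Category.assoc, comp_toUnit]
    show lift (_ * 1) _ = _
    rw [mul_one, lift_fst_snd']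
  e_comp α := by
    have hβ : (α ≫ a.act.left ≫ (eO (G := G) (X := X)).left) ≫ (G ⊗ X).hom =
        α ≫ (G ⊗ X).hom := by
      have := Over.w (ptO α _ rfl ≫ a.act ≫ eO (G := G) (X := X))
      exact this
    rw [lift_c a _ α _ _ hβ rfl]
    have e1 : ptO (α ≫ a.act.left ≫ (eO (G := G) (X := X)).left) _ hβ =
        ptO α _ rfl ≫ a.act ≫ eO := by
      apply Over.OverMorphism.ext; rfl
    refine congrArg CommaMorphism.left (?_ : lift _ _ = ptO α _ rfl)
    rw [e1, eO, Category.assoc, Category.assoc, lift_fst, ← Category.assoc, ← Category.assoc,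
      comp_toUnit]
    show lift (1 * _) _ = _
    rw [one_mul, lift_fst_snd']
  i_s := by
    refine congrArg CommaMorphism.left (?_ : iO a ≫ snd G X = a.act)
    rw [iO, lift_snd]
  i_t := congrArg CommaMorphism.left (iO_act a)
  comp_i α := by
    have hβ : (α ≫ (iO a).left) ≫ (G ⊗ X).hom = α ≫ (G ⊗ X).hom := by
      have := Over.w (ptO α _ rfl ≫ iO a)
      exact this
    rw [lift_c a α _ _ _ rfl hβ]
    have e1 : ptO (α ≫ (iO a).left) _ hβ = ptO α _ rfl ≫ iO a := by
      apply Over.OverMorphism.ext; rfl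
    refine congrArg CommaMorphism.left (?_ : lift _ _ = ptO α _ rfl ≫ a.act ≫ eO)
    rw [e1, iO, eO, Category.assoc, lift_fst, Category.assoc, lift_snd, GrpObj.comp_inv,
      mul_inv_cancel, comp_lift, comp_lift, Category.comp_id, ← Category.assoc, ← Category.assoc,
      comp_toUnit]
    rfl
  i_comp α := by
    have hβ : (α ≫ (iO a).left) ≫ (G ⊗ X).hom = α ≫ (G ⊗ X).hom := by
      have := Over.w (ptO α _ rfl ≫ iO a)
      exact this
    rw [lift_c a _ α _ _ hβ rfl]
    have e1 : ptO (α ≫ (iO a).left) _ hβ = ptO α _ rfl ≫ iO a := by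
      apply Over.OverMorphism.ext; rfl
    refine congrArg CommaMorphism.left (?_ : lift _ _ = ptO α _ rfl ≫ snd G X ≫ eO)
    rw [e1, iO, eO, Category.assoc, lift_fst, GrpObj.comp_inv,
      inv_mul_cancel, comp_lift, comp_lift, Category.comp_id, ← Category.assoc, ← Category.assoc,
      comp_toUnit]
    rfl

end Groth.Agent.H49.ActGrpd
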