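import Groth.Agent.H49.FinGrpdQuot
import Mathlib

/-!
# A family inducing bases of all fibres of `s` is a basis of `Γ(U)` over the invariants
-/

set_option autoImplicit false
universe u
open CategoryTheory CategoryTheory.Limits AlgebraicGeometry TensorProduct
open Grpd

namespace Groth.Agent.H49.FinGrpdBasis

open Groth.Agent.H49.FinGrpdRing Groth.Agent.H49.FinGrpdSch Groth.Agent.H49.BasisCond
  Groth.Agent.H49.FinGrpdQuot

section ring

variable {A B B₂ : Type u} [CommRing A] [CommRing B] [CommRing B₂]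
    (s t : A →+* B) (e : B →+* A) (p₀ p₁ c : B →+* B₂)
    (hes : ∀ a, e (s a) = a) (het : ∀ a, e (t a) = a)
    (hct : ∀ a, c (t a) = p₀ (t a)) (hcs : ∀ a, c (s a) = p₁ (s a))
    (hp : ∀ a, p₀ (s a) = p₁ (t a))
    {n : ℕ} (a : Fin n → A)

include hes het hct hcs hp in
theorem span_over_invariants
    (H1 : Function.Surjective (fun x : Fin n → A => ∑ i, s (x i) * t (a i)))
    (H2 : Function.Injective (fun y : Fin n → B => ∑ i, p₁ (y i) * p₀ (t (a i)))) (x : A) :
    ∃ y : Fin n → A, (∀ i, s (y i) = t (y i)) ∧ x = ∑ i, y i * a i := by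
  obtain ⟨y, hy⟩ := H1 (t x)
  simp only at hy
  refine ⟨y, ?_, ?_⟩
  · have h1 := congrArg p₀ hy
    have h2 := congrArg c hy
    simp only [map_sum, map_mul, hp, hct, hcs] at h1 h2
    have h3 : (fun y : Fin n → B => ∑ i, p₁ (y i) * p₀ (t (a i))) (fun i => s (y i)) =
        (fun y : Fin n → B => ∑ i, p₁ (y i) * p₀ (t (a i))) (fun i => t (y i)) := by
      simp only
      rw [h1, h2]
    exact fun i => congrFun (H2 h3) i
  · have h1 := congrArg e hy
    simp only [map_sum, map_mul, hes, het] at h1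
    exact h1.symm

theorem indep_over_invariants
    (H1 : Function.Injective (fun x : Fin n → A => ∑ i, s (x i) * t (a i)))
    (y : Fin n → A) (hy : ∀ i, s (y i) = t (y i)) (h0 : ∑ i, y i * a i = 0) : y = 0 := by
  apply H1
  simp only [Pi.zero_apply, map_zero, zero_mul, Finset.sum_const_zero]
  have h1 := congrArg t h0
  simp only [map_sum, map_mul, map_zero] at h1
  rw [← h1]
  exact Finset.sum_congr rfl fun i _ => by rw [hy]

end ring

section sch

lemma finite_appTop' {X Y : Scheme.{u}} [IsAffine X] [IsAffine Y] (f : X ⟶ Y) [IsFinite f] :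
    letI := f.appTop.hom.toAlgebra; Module.Finite Γ(Y, ⊤) Γ(X, ⊤) :=
  f.finite_appTop

lemma projective_appTop {X Y : Scheme.{u}} [IsAffine X] [IsAffine Y] (f : X ⟶ Y) [IsFinite f]
    [Flat f] [LocallyOfFinitePresentation f] :
    letI := f.appTop.hom.toAlgebra; Module.Projective Γ(Y, ⊤) Γ(X, ⊤) := by
  letI := f.appTop.hom.toAlgebra
  haveI hfin : Module.Finite Γ(Y, ⊤) Γ(X, ⊤) := f.finite_appTop
  haveI hflat : Module.Flat Γ(Y, ⊤) Γ(X, ⊤) := f.flat_appTop
  haveI hfp : Algebra.FinitePresentation Γ(Y, ⊤) Γ(X, ⊤) := f.finitePresentation_appTop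
  haveI : Module.FinitePresentation Γ(Y, ⊤) Γ(X, ⊤) :=
    Module.FinitePresentation.of_finite_of_finitePresentation _ _
  exact Module.Flat.projective_of_finitePresentation

/-- a family inducing bases of all fibres of a finite locally free morphism of affine schemes is a
basis -/
theorem bijective_of_condAt {X Y : Scheme.{u}} [IsAffine X] [IsAffine Y] (f : X ⟶ Y) [IsFinite f]
    [Flat f] [LocallyOfFinitePresentation f] {n : ℕ} (x : Fin n → Γ(X, ⊤))
    (h : ∀ (𝔫 : Ideal Γ(Y, ⊤)) [𝔫.IsPrime], CondAt f.appTop.hom x 𝔫) :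
    Function.Bijective (fun y : Fin n → Γ(Y, ⊤) => ∑ i, f.appTop.hom (y i) * x i) := by
  letI := f.appTop.hom.toAlgebra
  haveI := finite_appTop' f
  haveI := projective_appTop f
  have hb := bijective_phi x (fun 𝔫 _ => (condAt_iff_bij f.appTop.hom x 𝔫).mp (h 𝔫))
  have : (fun y : Fin n → Γ(Y, ⊤) => ∑ i, f.appTop.hom (y i) * x i) = phi Γ(Y, ⊤) x := by
    funext y
    rw [Fintype.linearCombination_apply]
    exact Finset.sum_congr rfl fun i _ => (Algebra.smul_def _ _).symm
  rw [this]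
  exact hb

variable (S : Scheme.{u}) (G : Grpd.GroupoidScheme S) [IsAffine G.U] [IsAffine G.R]
  [IsFinite G.s] [Flat G.s] [LocallyOfFinitePresentation G.s]
  [IsFinite G.t] [Flat G.t] [LocallyOfFinitePresentation G.t]

/-- the family induces a basis of every fibre of `s` -/
def AllCond {n : ℕ} (a : Fin n → Γ(G.U, ⊤)) : Prop :=
  ∀ (𝔫 : Ideal Γ(G.U, ⊤)) [𝔫.IsPrime],
    CondAt G.s.appTop.hom (fun i => G.t.appTop.hom (a i)) 𝔫

variable {n : ℕ} (a : Fin n → Γ(G.U, ⊤)) (ha : AllCond S G a)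

include ha in
theorem bijective_s : Function.Bijective
    (fun y : Fin n → Γ(G.U, ⊤) => ∑ i, G.s.appTop.hom (y i) * G.t.appTop.hom (a i)) :=
  bijective_of_condAt G.s _ ha

include ha in
theorem bijective_p₁ : Function.Bijective
    (fun y : Fin n → Γ(G.R, ⊤) => ∑ i, (pullback.snd G.s G.t).appTop.hom (y i) *
      (pullback.fst G.s G.t).appTop.hom (G.t.appTop.hom (a i))) := by
  refine bijective_of_condAt (pullback.snd G.s G.t) _ ?_
  intro 𝔮 _
  have sq2 := IsPullback.of_hasPullback G.s G.t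
  have p2 := isPushout_appTop_of_isPullback sq2
  let ρ : Γ(G.R, ⊤) →+* 𝔮.ResidueField := algebraMap _ _
  have hk : RingHom.ker ρ = 𝔮 := Ideal.ker_algebraMap_residueField 𝔮
  have h2 := cond_of_isPushout p2 ρ (fun i => G.t.appTop.hom (a i))
  have k2 : RingHom.ker (ρ.comp G.t.appTop.hom) = 𝔮.comap G.t.appTop.hom := by
    rw [← RingHom.comap_ker, hk]
  rw [← cond_iff_condAt _ _ ρ _ hk, ← h2, cond_iff_condAt _ _ (ρ.comp G.t.appTop.hom) _ k2]
  exact ha _

include ha in
/-- every function is a combination of the `a i` with invariant coefficients -/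
theorem exists_coeff (x : Γ(G.U, ⊤)) :
    ∃ y : Fin n → Γ(G.U, ⊤), (∀ i, y i ∈ G.invariants) ∧ x = ∑ i, y i * a i :=
  span_over_invariants G.s.appTop.hom G.t.appTop.hom G.e.appTop.hom
    (pullback.fst G.s G.t).appTop.hom (pullback.snd G.s G.t).appTop.hom G.c.appTop.hom
    (hes S G) (het S G) (hct S G) (hcs S G) (hp S G) a (bijective_s S G a ha).2
    (bijective_p₁ S G a ha).1 x

include ha in
/-- the `a i` are independent over the invariants -/
theorem coeff_eq_zero (y : Fin n → Γ(G.U, ⊤)) (hy : ∀ i, y i ∈ G.invariants)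
    (h0 : ∑ i, y i * a i = 0) : y = 0 :=
  indep_over_invariants G.s.appTop.hom G.t.appTop.hom a (bijective_s S G a ha).1 y hy h0

end sch

end Groth.Agent.H49.FinGrpdBasis
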