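import Groth.Agent.H37.GrpdCalc
import Groth.Agent.H37.GrpdCalc2
import Groth.Agent.H49.ProjNorm
import Groth.Agent.H49.FinGrpdBasis
import Mathlib

/-!
# Invariant affine open neighbourhoods for finite locally free groupoids
-/

set_option autoImplicit false
universe u
open CategoryTheory CategoryTheory.Limits AlgebraicGeometry TensorProduct
open Grpd

namespace Groth.Agent.H49.InvAffine

section sat

variable {S : Scheme.{u}} (G : Grpd.GroupoidScheme S)

/-- the points whose orbit lies in `D` -/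
def sat (D : Set G.U) : Set G.U := {w | ∀ r : G.R, G.s r = w → G.t r ∈ D}

lemma sat_subset (D : Set G.U) : sat G D ⊆ D := by
  intro w hw
  have h1 : G.s (G.e w) = w := by
    rw [← Scheme.Hom.comp_apply, G.e_s]; rfl
  have h2 := hw (G.e w) h1
  rw [← Scheme.Hom.comp_apply, G.e_t] at h2
  exact h2

lemma sat_invariant (D : Set G.U) (r₀ : G.R) (h : G.t r₀ ∈ sat G D) : G.s r₀ ∈ sat G D := by
  intro r' hr'
  have hcomp : G.s r' = G.t (G.i r₀) := by
    rw [hr', ← Scheme.Hom.comp_apply, G.i_t]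
  obtain ⟨z, hz1, hz2⟩ := Scheme.Pullback.exists_preimage_pullback r' (G.i r₀) hcomp
  have h1 : G.s (G.c z) = G.t r₀ := by
    rw [← Scheme.Hom.comp_apply, Groth.Agent.H37.GrpdCalc.c_s, Scheme.Hom.comp_apply, hz2,
      ← Scheme.Hom.comp_apply, G.i_s]
  have h2 : G.t (G.c z) = G.t r' := by
    rw [← Scheme.Hom.comp_apply, Groth.Agent.H37.GrpdCalc.c_t, Scheme.Hom.comp_apply, hz1]
  rw [← h2]
  exact h (G.c z) h1

lemma isOpen_sat [IsFinite G.s] (D : G.U.Opens) : IsOpen (sat G (D : Set G.U)) := by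
  have : sat G (D : Set G.U) = (G.s '' (G.t ⁻¹' (D : Set G.U)ᶜ))ᶜ := by
    ext w
    simp only [sat, Set.mem_setOf_eq, Set.mem_compl_iff, Set.mem_image, Set.mem_preimage,
      SetLike.mem_coe, not_exists, not_and]
    constructor
    · intro h r hr hs
      exact hr (h r hs)
    · intro h r hs
      by_contra hr
      exact h r hr hs
  rw [this, isOpen_compl_iff]
  exact G.s.isClosedMap _ ((D.isOpen.isClosed_compl).preimage G.t.continuous)

/-- the largest invariant open contained in `D` -/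
def satOpen [IsFinite G.s] (D : G.U.Opens) : G.U.Opens := ⟨sat G (D : Set G.U), isOpen_sat G D⟩

lemma satOpen_invariant [IsFinite G.s] (D : G.U.Opens) :
    G.s ⁻¹ᵁ satOpen G D = G.t ⁻¹ᵁ satOpen G D :=
  Groth.Agent.H37.GrpdCalc.preimage_eq_of_le G _ (fun r hr => sat_invariant G _ r hr)

end sat

section avoid

/-- a finite set of points of an open of a prime spectrum lies in a basic open contained in it -/
lemma exists_basicOpen_between_spec {R : Type u} [CommRing R] (O : Set (PrimeSpectrum R))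
    (hO : IsOpen O) (F : Set (PrimeSpectrum R)) (hF : F.Finite) (hFO : F ⊆ O) :
    ∃ f : R, F ⊆ (PrimeSpectrum.basicOpen f : Set (PrimeSpectrum R)) ∧
      (PrimeSpectrum.basicOpen f : Set (PrimeSpectrum R)) ⊆ O := by
  classical
  rcases F.eq_empty_or_nonempty with hFe | ⟨p₀, hp₀⟩
  · refine ⟨0, by rw [hFe]; exact Set.empty_subset _, ?_⟩
    rw [PrimeSpectrum.basicOpen_zero]
    exact Set.empty_subset _
  set I := PrimeSpectrum.vanishingIdeal Oᶜ with hI
  have hz : PrimeSpectrum.zeroLocus (I : Set R) = Oᶜ := by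
    rw [hI, PrimeSpectrum.zeroLocus_vanishingIdeal_eq_closure, hO.isClosed_compl.closure_eq]
  have hnot : ¬ ((I : Set R) ⊆ ⋃ p ∈ (hF.toFinset : Set (PrimeSpectrum R)), (p.asIdeal : Set R)) := by
    intro hsub
    have hsub' := (Ideal.subset_union_prime (s := hF.toFinset)
      (f := fun p : PrimeSpectrum R => p.asIdeal) p₀ p₀
      (fun p _ _ _ => p.2) (I := I)).mp hsub
    obtain ⟨p, hp, hle⟩ := hsub'
    have hpF : p ∈ F := (Set.Finite.mem_toFinset hF).mp hp
    have : p ∈ PrimeSpectrum.zeroLocus (I : Set R) := hle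
    rw [hz] at this
    exact this (hFO hpF)
  rw [Set.not_subset] at hnot
  obtain ⟨f, hfI, hfn⟩ := hnot
  refine ⟨f, fun p hp => ?_, fun q hq => ?_⟩
  · intro hfp
    apply hfn
    simp only [Set.mem_iUnion]
    exact ⟨p, (Set.Finite.mem_toFinset hF).mpr hp, hfp⟩
  · by_contra hqO
    have hq' : q ∈ PrimeSpectrum.zeroLocus (I : Set R) := by rw [hz]; exact hqO
    exact hq (hq' hfI)

/-- a finite set of points of an open of an affine scheme lies in a basic open contained in it -/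
lemma exists_basicOpen_between {X : Scheme.{u}} [IsAffine X] (O : X.Opens) (F : Set X)
    (hF : F.Finite) (hFO : F ⊆ (O : Set X)) :
    ∃ f : Γ(X, ⊤), F ⊆ (X.basicOpen f : Set X) ∧ X.basicOpen f ≤ O := by
  let φ := X.isoSpec.hom.homeomorph
  have hφ : ∀ x : X, φ x = X.toSpecΓ x := fun _ => rfl
  obtain ⟨f, h1, h2⟩ := exists_basicOpen_between_spec (φ '' (O : Set X))
    (φ.isOpenMap _ O.isOpen) (φ '' F) (hF.image _) (Set.image_mono hFO)
  refine ⟨f, fun x hx => ?_, fun x hx => ?_⟩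
  · have h3 := h1 ⟨x, hx, rfl⟩
    rw [hφ] at h3
    have h4 : x ∈ X.toSpecΓ ⁻¹ᵁ (PrimeSpectrum.basicOpen f) := h3
    rw [Scheme.toSpecΓ_preimage_basicOpen] at h4
    exact h4
  · have hx' : x ∈ X.toSpecΓ ⁻¹ᵁ (PrimeSpectrum.basicOpen f) := by
      rw [Scheme.toSpecΓ_preimage_basicOpen]
      exact hx
    have hx'' : φ x ∈ (PrimeSpectrum.basicOpen f : Set (PrimeSpectrum Γ(X, ⊤))) := hx'
    obtain ⟨y, hy, hyx⟩ := h2 hx''
    rw [← φ.injective hyx]
    exact hy

end avoid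

section norm

open Groth.Agent.H49.ProjNorm Groth.Agent.H49.FinGrpdBasis Groth.Agent.H49.FinGrpdSch

lemma mem_basicOpen_iff {X : Scheme.{u}} [IsAffine X] (g : Γ(X, ⊤)) (x : X) :
    x ∈ X.basicOpen g ↔ g ∉ (X.isoSpec.hom x).asIdeal := by
  rw [← Scheme.toSpecΓ_preimage_basicOpen]
  exact Iff.rfl

/-- for a finite locally free morphism of affine schemes, the points whose fibre lies in a basic
open form a basic open -/
theorem exists_norm_locus {X Y : Scheme.{u}} [IsAffine X] [IsAffine Y] (φ : X ⟶ Y) [IsFinite φ]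
    [Flat φ] [LocallyOfFinitePresentation φ] (h : Γ(X, ⊤)) :
    ∃ g : Γ(Y, ⊤), ∀ y : Y, y ∈ Y.basicOpen g ↔ ∀ x : X, φ x = y → x ∈ X.basicOpen h := by
  letI := φ.appTop.hom.toAlgebra
  haveI := finite_appTop' φ
  haveI := projective_appTop φ
  obtain ⟨n, π, σ, -, -, hπσ⟩ := Module.Finite.exists_comp_eq_id_of_projective Γ(Y, ⊤) Γ(X, ⊤)
  refine ⟨nrm π σ h, fun y => ?_⟩
  rw [mem_basicOpen_iff, nrm_mem_iff hπσ]
  constructor
  · intro hno x hx
    rw [mem_basicOpen_iff]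
    intro hmem
    apply hno
    refine ⟨(X.isoSpec.hom x).asIdeal, inferInstance, ?_, hmem⟩
    rw [← hx, isoSpec_asIdeal]
    rfl
  · rintro hall ⟨𝔮, h𝔮, hcomap, hmem⟩
    have hx : X.isoSpec.hom (X.isoSpec.inv ⟨𝔮, h𝔮⟩) = ⟨𝔮, h𝔮⟩ := by
      rw [← Scheme.Hom.comp_apply, Iso.inv_hom_id]; rfl
    have hφx : φ (X.isoSpec.inv ⟨𝔮, h𝔮⟩) = y := by
      apply Y.isoSpec.hom.homeomorph.injective
      apply PrimeSpectrum.ext
      show (Y.isoSpec.hom (φ _)).asIdeal = _
      rw [isoSpec_asIdeal, hx]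
      exact hcomap
    have h2 := hall _ hφx
    rw [mem_basicOpen_iff, hx] at h2
    exact h2 hmem

end norm

section main

variable {S : Scheme.{u}} (G : Grpd.GroupoidScheme S)
  [IsFinite G.s] [Flat G.s] [LocallyOfFinitePresentation G.s]

/-- a point whose orbit lies in an affine open has an invariant affine open neighbourhood -/
theorem exists_invariant_affine (u : G.U) (V : G.U.Opens) (hV : IsAffineOpen V)
    (huV : ∀ r : G.R, G.s r = u → G.t r ∈ V) :
    ∃ W : G.U.Opens, IsAffineOpen W ∧ u ∈ W ∧ G.s ⁻¹ᵁ W = G.t ⁻¹ᵁ W := by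
  haveI : IsAffine V.toScheme := hV
  have hW₀V : satOpen G V ≤ V := sat_subset G _
  have huW₀ : u ∈ satOpen G V := huV
  have hinvW₀ := satOpen_invariant G V
  -- the finite set of points of the orbit
  let F : Set V.toScheme := {v | ∃ r : G.R, G.s r = u ∧ G.t r = v.1}
  have hF : F.Finite := by
    have hfib : (G.s ⁻¹' {u}).Finite := IsFinite.finite_preimage_singleton G.s u
    have hsub : F ⊆ (fun v : V.toScheme => v.1) ⁻¹' (G.t '' (G.s ⁻¹' {u})) := by
      rintro v ⟨r, hr, hrv⟩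
      exact ⟨r, hr, hrv⟩
    exact (Set.Finite.preimage (Subtype.val_injective.injOn) (hfib.image G.t)).subset hsub
  have hFO : F ⊆ ((V.ι ⁻¹ᵁ satOpen G V : V.toScheme.Opens) : Set V.toScheme) := by
    rintro v ⟨r, hr, hrv⟩
    show V.ι v ∈ satOpen G V
    have h1 : r ∈ G.s ⁻¹ᵁ satOpen G V := by
      show G.s r ∈ satOpen G V
      rw [hr]; exact huW₀
    rw [hinvW₀] at h1
    have h2 : G.t r ∈ satOpen G V := h1
    rw [hrv] at h2
    exact h2
  obtain ⟨f', hFf, hfO⟩ := exists_basicOpen_between (V.ι ⁻¹ᵁ satOpen G V) F hF hFO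
  set D : G.U.Opens := V.ι ''ᵁ (V.toScheme.basicOpen f') with hDdef
  have hD : IsAffineOpen D :=
    ((isAffineOpen_top V.toScheme).basicOpen f').image_of_isOpenImmersion V.ι
  have hmemD : ∀ w : G.U, w ∈ D ↔ ∃ v : V.toScheme, v ∈ V.toScheme.basicOpen f' ∧ V.ι v = w :=
    fun w => Iff.rfl
  have hDW₀ : D ≤ satOpen G V := by
    intro w hw
    obtain ⟨v, hv, rfl⟩ := (hmemD w).mp hw
    exact hfO hv
  haveI : IsAffine D.toScheme := hD
  haveI : IsAffine (G.s ⁻¹ᵁ D).toScheme := hD.preimage G.s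
  haveI : IsFinite (G.s ∣_ D) := MorphismProperty.of_isPullback (P := @IsFinite)
    (isPullback_morphismRestrict G.s D).flip inferInstance
  haveI : Flat (G.s ∣_ D) := MorphismProperty.of_isPullback (P := @Flat)
    (isPullback_morphismRestrict G.s D).flip inferInstance
  haveI : LocallyOfFinitePresentation (G.s ∣_ D) :=
    MorphismProperty.of_isPullback (P := @LocallyOfFinitePresentation)
      (isPullback_morphismRestrict G.s D).flip inferInstance
  -- the target map into `V`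
  have htV : ∀ x : (G.s ⁻¹ᵁ D).toScheme, G.t x.1 ∈ V := by
    intro x
    have h1 : x.1 ∈ G.s ⁻¹ᵁ satOpen G V := hDW₀ x.2
    rw [hinvW₀] at h1
    exact hW₀V h1
  have hrange : Set.range ((G.s ⁻¹ᵁ D).ι ≫ G.t) ⊆ Set.range V.ι := by
    rintro _ ⟨x, rfl⟩
    rw [Scheme.Opens.range_ι]
    exact htV x
  set τ : (G.s ⁻¹ᵁ D).toScheme ⟶ V.toScheme :=
    IsOpenImmersion.lift V.ι ((G.s ⁻¹ᵁ D).ι ≫ G.t) hrange with hτdef
  have hτ : τ ≫ V.ι = (G.s ⁻¹ᵁ D).ι ≫ G.t := IsOpenImmersion.lift_fac _ _ _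
  have hτpt : ∀ x : (G.s ⁻¹ᵁ D).toScheme, V.ι (τ x) = G.t x.1 := by
    intro x
    have := congrArg (fun ψ => ψ x) hτ
    simpa using this
  have hbo : (G.s ⁻¹ᵁ D).toScheme.basicOpen (τ.appTop.hom f') =
      τ ⁻¹ᵁ (V.toScheme.basicOpen f') := (Scheme.preimage_basicOpen_top τ f').symm
  obtain ⟨g, hg⟩ := exists_norm_locus (G.s ∣_ D) (τ.appTop.hom f')
  have hφpt : ∀ x : (G.s ⁻¹ᵁ D).toScheme, ((G.s ∣_ D) x).1 = G.s x.1 :=
    fun x => morphismRestrict_base_coe G.s D x
  have key : ∀ w : G.U, w ∈ D.ι ''ᵁ (D.toScheme.basicOpen g) ↔ w ∈ sat G (D : Set G.U) := by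
    intro w
    constructor
    · rintro ⟨y, hy, rfl⟩
      intro r hr
      have hrD : r ∈ G.s ⁻¹ᵁ D := by
        show G.s r ∈ D
        rw [hr]; exact y.2
      have hx := (hg y).mp hy ⟨r, hrD⟩ (Subtype.ext ((hφpt ⟨r, hrD⟩).trans hr))
      rw [hbo] at hx
      exact (hmemD _).mpr ⟨τ ⟨r, hrD⟩, hx, hτpt ⟨r, hrD⟩⟩
    · intro hw
      have hwD : w ∈ D := sat_subset G _ hw
      refine ⟨⟨w, hwD⟩, (hg ⟨w, hwD⟩).mpr ?_, rfl⟩
      intro x hx
      have hsx : G.s x.1 = w := by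
        rw [← hφpt x, hx]
      obtain ⟨v, hv, hvt⟩ := (hmemD _).mp (hw x.1 hsx)
      rw [hbo]
      show τ x ∈ V.toScheme.basicOpen f'
      have : v = τ x := by
        apply Subtype.ext
        exact hvt.trans (hτpt x).symm
      rw [← this]
      exact hv
  have hWeq : D.ι ''ᵁ (D.toScheme.basicOpen g) = satOpen G D := by
    ext w
    exact key w
  refine ⟨D.ι ''ᵁ (D.toScheme.basicOpen g),
    ((isAffineOpen_top D.toScheme).basicOpen g).image_of_isOpenImmersion D.ι, ?_, ?_⟩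
  · rw [hWeq]
    intro r hr
    have hv : (⟨G.t r, huV r hr⟩ : V.toScheme) ∈ F := ⟨r, hr, rfl⟩
    exact (hmemD _).mpr ⟨_, hFf hv, rfl⟩
  · rw [hWeq]
    exact satOpen_invariant G D

end main

end Groth.Agent.H49.InvAffine
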