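import Groth.Agent.H49.ActGrpd
import Groth.Agent.H49.InvAffine
import Groth.Prelude.Def_Mor2

/-!
# Properties of the action groupoid (helper49)
-/

set_option autoImplicit false
universe u
open CategoryTheory CategoryTheory.Limits AlgebraicGeometry MonoidalCategory CartesianMonoidalCategory
open scoped MonObj
open Groth.Agent.H63.ActionTranslate

namespace Groth.Agent.H49.ActGrpd

variable {S : Scheme.{u}} {G X : Over S} [GrpObj G] (a : AlgGrp.Action G X)

lemma s_eq : (actGrpd a).s = pullback.snd G.hom X.hom := rfl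

lemma isFinite_s (h : IsFinite G.hom) : IsFinite (actGrpd a).s := by
  have : IsFinite (G.hom : G.left ⟶ S) := h
  show IsFinite (pullback.snd (G.hom : G.left ⟶ S) (X.hom : X.left ⟶ S))
  infer_instance

lemma flat_s (h : Flat G.hom) : Flat (actGrpd a).s := by
  have : Flat (G.hom : G.left ⟶ S) := h
  show Flat (pullback.snd (G.hom : G.left ⟶ S) (X.hom : X.left ⟶ S))
  infer_instance

lemma lfp_s (h : LocallyOfFinitePresentation G.hom) :
    LocallyOfFinitePresentation (actGrpd a).s := by
  have : LocallyOfFinitePresentation (G.hom : G.left ⟶ S) := h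
  show LocallyOfFinitePresentation (pullback.snd (G.hom : G.left ⟶ S) (X.hom : X.left ⟶ S))
  infer_instance

lemma universallyInjective_s (h : UniversallyInjective G.hom) :
    UniversallyInjective (actGrpd a).s := by
  have : UniversallyInjective (G.hom : G.left ⟶ S) := h
  show UniversallyInjective (pullback.snd (G.hom : G.left ⟶ S) (X.hom : X.left ⟶ S))
  exact MorphismProperty.pullback_snd (P := @UniversallyInjective) _ _ this

lemma mono_j
    (hfree : ∀ (T : Over S) (g : T ⟶ G) (x : T ⟶ X), lift g x ≫ a.act = x → g = toUnit T ≫ η[G]) :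
    Mono (actGrpd a).j := by
  haveI hm : Mono (lift a.act (snd G X)) :=
    (Groth.Agent.H37.free_iff_mono a.act a.one_act a.mul_act).mp hfree
  refine ⟨fun {T} (α β : T ⟶ (G ⊗ X).left) hab => ?_⟩
  have h1 : α ≫ a.act.left = β ≫ a.act.left := by
    have := congrArg (fun ψ => ψ ≫ pullback.fst _ _) hab
    simp only [Category.assoc] at this
    rw [Grpd.GroupoidScheme.j, pullback.lift_fst] at this
    exact this
  have h2 : α ≫ (snd G X).left = β ≫ (snd G X).left := by
    have := congrArg (fun ψ => ψ ≫ pullback.snd _ _) hab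
    simp only [Category.assoc] at this
    rw [Grpd.GroupoidScheme.j, pullback.lift_snd] at this
    exact this
  have hβ : β ≫ (G ⊗ X).hom = α ≫ (G ⊗ X).hom := by
    calc β ≫ (G ⊗ X).hom = β ≫ (snd G X).left ≫ X.hom := by rw [Over.w (snd G X)]
      _ = α ≫ (snd G X).left ≫ X.hom := by rw [← Category.assoc, ← h2, Category.assoc]
      _ = α ≫ (G ⊗ X).hom := by rw [Over.w (snd G X)]
  have key : ptO α _ rfl ≫ lift a.act (snd G X) = ptO β _ hβ ≫ lift a.act (snd G X) := by
    apply CartesianMonoidalCategory.hom_ext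
    · rw [Category.assoc, Category.assoc, lift_fst]
      apply Over.OverMorphism.ext
      exact h1
    · rw [Category.assoc, Category.assoc, lift_snd]
      apply Over.OverMorphism.ext
      exact h2
  exact congrArg CommaMorphism.left ((cancel_mono _).mp key)

/-- the orbit of `x` lies over the image of `x` in `S` -/
lemma hom_t_eq (r : (actGrpd a).R) :
    (actGrpd a).pU ((actGrpd a).t r) = (actGrpd a).pU ((actGrpd a).s r) := by
  have h1 : (actGrpd a).t ≫ (actGrpd a).pU = (actGrpd a).s ≫ (actGrpd a).pU :=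
    (actGrpd a).t_over.trans (actGrpd a).s_over.symm
  rw [← Scheme.Hom.comp_apply, ← Scheme.Hom.comp_apply, h1]

lemma haff_of_isAffineHom [IsAffineHom X.hom] (x : (actGrpd a).U) :
    ∃ V : (actGrpd a).U.Opens, IsAffineOpen V ∧
      (actGrpd a).t.base '' ((actGrpd a).s.base ⁻¹' {x}) ⊆ (V : Set (actGrpd a).U) := by
  obtain ⟨W, hW, hxW, -⟩ := exists_isAffineOpen_mem_and_subset (X := S) (U := ⊤)
    (x := X.hom x) (by simp)
  refine ⟨X.hom ⁻¹ᵁ W, hW.preimage X.hom, ?_⟩
  rintro _ ⟨r, hr, rfl⟩
  show (actGrpd a).pU ((actGrpd a).t r) ∈ W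
  rw [hom_t_eq]
  have : (actGrpd a).s r = x := hr
  rw [this]
  exact hxW

lemma haff_of_isOpenImmersion (hfin : IsFinite G.hom) {R : CommRingCat.{u}} (i : X.left ⟶ Spec R)
    [IsOpenImmersion i] (x : (actGrpd a).U) :
    ∃ V : (actGrpd a).U.Opens, IsAffineOpen V ∧
      (actGrpd a).t.base '' ((actGrpd a).s.base ⁻¹' {x}) ⊆ (V : Set (actGrpd a).U) := by
  haveI := isFinite_s a hfin
  have hfib : ((actGrpd a).s ⁻¹' {x}).Finite := IsFinite.finite_preimage_singleton (actGrpd a).s x
  have hF : ((actGrpd a).t '' ((actGrpd a).s ⁻¹' {x})).Finite := hfib.image _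
  obtain ⟨f, hf1, hf2⟩ := Groth.Agent.H49.InvAffine.exists_basicOpen_between (X := Spec R)
    i.opensRange (i '' ((actGrpd a).t '' ((actGrpd a).s ⁻¹' {x}))) (hF.image _) (by
      rintro _ ⟨y, -, rfl⟩
      exact ⟨y, rfl⟩)
  refine ⟨i ⁻¹ᵁ ((Spec R).basicOpen f),
    ((isAffineOpen_top (Spec R)).basicOpen f).preimage_of_isOpenImmersion i hf2, ?_⟩
  rintro y hy
  exact hf1 ⟨y, hy, rfl⟩

lemma haff_of_universallyInjective (hinj : UniversallyInjective G.hom) (x : (actGrpd a).U) :
    ∃ V : (actGrpd a).U.Opens, IsAffineOpen V ∧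
      (actGrpd a).t.base '' ((actGrpd a).s.base ⁻¹' {x}) ⊆ (V : Set (actGrpd a).U) := by
  haveI := universallyInjective_s a hinj
  obtain ⟨V, hV, hxV, -⟩ := exists_isAffineOpen_mem_and_subset (X := (actGrpd a).U) (U := ⊤)
    (x := x) (by simp)
  refine ⟨V, hV, ?_⟩
  rintro _ ⟨r, hr, rfl⟩
  have hr' : (actGrpd a).s r = x := hr
  have h1 : (actGrpd a).s ((actGrpd a).e x) = x := by
    have := congrArg (fun f => f x) (actGrpd a).e_s
    simpa using this
  have h2 : (actGrpd a).t ((actGrpd a).e x) = x := by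
    have := congrArg (fun f => f x) (actGrpd a).e_t
    simpa using this
  have h3 : r = (actGrpd a).e x := (actGrpd a).s.injective (hr'.trans h1.symm)
  show (actGrpd a).t r ∈ V
  rw [h3, h2]
  exact hxV

end Groth.Agent.H49.ActGrpd
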