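import Mathlib
import Groth.Agent.H24.MilnorRing

/-!
# Flat base change of Milnor squares (helper49)
-/

set_option autoImplicit false
universe u

namespace Groth.Agent.H49.MilnorFlat

open TensorProduct Groth.Agent.H24

section tensor

variable {C B A' A C' : Type u} [CommRing C] [CommRing B] [CommRing A'] [CommRing A]
  [CommRing C'] [Algebra C B] [Algebra C A'] [Algebra C A] [Algebra C C']
  (q : B →ₐ[C] A) (p : A' →ₐ[C] A)

lemma map_eq_lTensor (x : C' ⊗[C] B) :
    Algebra.TensorProduct.map (AlgHom.id C C') q x = (q.toLinearMap.lTensor C') x := by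
  induction x using TensorProduct.induction_on with
  | zero => simp
  | tmul c b => simp
  | add x y hx hy => rw [map_add, map_add, hx, hy]

/-- the tensor model of the flat base change of a Milnor square -/
theorem milnorSq_tensor [Module.Flat C C']
    (hM : MilnorSq (algebraMap C B) (algebraMap C A') q.toRingHom p.toRingHom) :
    MilnorSq (Algebra.TensorProduct.includeLeftRingHom : C' →+* C' ⊗[C] B)
      (Algebra.TensorProduct.includeLeftRingHom : C' →+* C' ⊗[C] A')
      (Algebra.TensorProduct.map (AlgHom.id C C') q).toRingHom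
      (Algebra.TensorProduct.map (AlgHom.id C C') p).toRingHom := by
  -- the linear maps
  let f : C →ₗ[C] (B × A') := LinearMap.prod (Algebra.linearMap C B) (Algebra.linearMap C A')
  let g : (B × A') →ₗ[C] A :=
    q.toLinearMap ∘ₗ LinearMap.fst C B A' - p.toLinearMap ∘ₗ LinearMap.snd C B A'
  have hf1 : f 1 = (1, 1) := by
    show ((algebraMap C B) 1, (algebraMap C A') 1) = (1, 1)
    rw [map_one, map_one]
  have hfinj : Function.Injective f := by
    intro c c' hcc'
    have h1 : algebraMap C B c = algebraMap C B c' := congrArg Prod.fst hcc'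
    have h2 : algebraMap C A' c = algebraMap C A' c' := congrArg Prod.snd hcc'
    exact hM.inj c c' h1 h2
  have hexact : Function.Exact f g := by
    intro y
    constructor
    · intro hy
      have hy' : q y.1 - p y.2 = 0 := hy
      obtain ⟨c, hc1, hc2⟩ := hM.ex y.1 y.2 (sub_eq_zero.mp hy')
      exact ⟨c, Prod.ext hc1 hc2⟩
    · rintro ⟨c, rfl⟩
      show q (algebraMap C B c) - p (algebraMap C A' c) = 0
      rw [sub_eq_zero]
      exact hM.comm c
  have hfinjT : Function.Injective (f.lTensor C') :=
    Module.Flat.lTensor_preserves_injective_linearMap f hfinj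
  have hexactT : Function.Exact (f.lTensor C') (g.lTensor C') :=
    Module.Flat.lTensor_exact C' hexact
  -- components
  have hπ1 : ∀ (x : C' ⊗[C] B) (y : C' ⊗[C] A'),
      ((LinearMap.fst C B A').lTensor C') (((LinearMap.inl C B A').lTensor C') x +
        ((LinearMap.inr C B A').lTensor C') y) = x := by
    intro x y
    rw [map_add, ← LinearMap.comp_apply, ← LinearMap.comp_apply, ← LinearMap.lTensor_comp,
      ← LinearMap.lTensor_comp, LinearMap.fst_comp_inl, LinearMap.fst_comp_inr,
      LinearMap.lTensor_id, LinearMap.lTensor_zero]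
    simp
  have hπ2 : ∀ (x : C' ⊗[C] B) (y : C' ⊗[C] A'),
      ((LinearMap.snd C B A').lTensor C') (((LinearMap.inl C B A').lTensor C') x +
        ((LinearMap.inr C B A').lTensor C') y) = y := by
    intro x y
    rw [map_add, ← LinearMap.comp_apply, ← LinearMap.comp_apply, ← LinearMap.lTensor_comp,
      ← LinearMap.lTensor_comp, LinearMap.snd_comp_inl, LinearMap.snd_comp_inr,
      LinearMap.lTensor_id, LinearMap.lTensor_zero]
    simp
  have hg : ∀ (x : C' ⊗[C] B) (y : C' ⊗[C] A'),
      (g.lTensor C') (((LinearMap.inl C B A').lTensor C') x +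
        ((LinearMap.inr C B A').lTensor C') y) =
        (q.toLinearMap.lTensor C') x - (p.toLinearMap.lTensor C') y := by
    intro x y
    have e1 : g ∘ₗ LinearMap.inl C B A' = q.toLinearMap := by
      ext b
      show q b - p 0 = q b
      rw [map_zero, sub_zero]
    have e2 : g ∘ₗ LinearMap.inr C B A' = - p.toLinearMap := by
      ext a'
      show q 0 - p a' = - p a'
      rw [map_zero, zero_sub]
    rw [map_add, ← LinearMap.comp_apply, ← LinearMap.comp_apply, ← LinearMap.lTensor_comp,
      ← LinearMap.lTensor_comp, e1, e2, LinearMap.lTensor_neg, LinearMap.neg_apply,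
      sub_eq_add_neg]
  have hfT : ∀ c' : C', (f.lTensor C') (c' ⊗ₜ[C] (1 : C)) =
      ((LinearMap.inl C B A').lTensor C') (c' ⊗ₜ[C] (1 : B)) +
        ((LinearMap.inr C B A').lTensor C') (c' ⊗ₜ[C] (1 : A')) := by
    intro c'
    rw [LinearMap.lTensor_tmul, LinearMap.lTensor_tmul, LinearMap.lTensor_tmul, hf1,
      ← TensorProduct.tmul_add]
    congr 1
    show ((1 : B), (1 : A')) = ((1 : B), (0 : A')) + ((0 : B), (1 : A'))
    simp
  refine ⟨?_, ?_, ?_, ?_⟩
  · intro c'
    show Algebra.TensorProduct.map (AlgHom.id C C') q (c' ⊗ₜ[C] (1 : B)) =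
      Algebra.TensorProduct.map (AlgHom.id C C') p (c' ⊗ₜ[C] (1 : A'))
    rw [Algebra.TensorProduct.map_tmul, Algebra.TensorProduct.map_tmul, map_one, map_one]
  · intro z
    have hp : Function.Surjective p := hM.surj
    have : Function.Surjective (p.toLinearMap.lTensor C') :=
      LinearMap.lTensor_surjective C' hp
    obtain ⟨y, hy⟩ := this z
    exact ⟨y, (map_eq_lTensor p y).trans hy⟩
  · intro x y hxy
    have hxy' : Algebra.TensorProduct.map (AlgHom.id C C') q x =
        Algebra.TensorProduct.map (AlgHom.id C C') p y := hxy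
    rw [map_eq_lTensor, map_eq_lTensor] at hxy'
    have hz : (g.lTensor C') (((LinearMap.inl C B A').lTensor C') x +
        ((LinearMap.inr C B A').lTensor C') y) = 0 := by
      rw [hg, hxy', sub_self]
    obtain ⟨w, hw⟩ := (hexactT _).mp hz
    let c' : C' := TensorProduct.rid C C' w
    have hwc : w = c' ⊗ₜ[C] (1 : C) := by
      have := (TensorProduct.rid C C').symm_apply_apply w
      rw [← this]
      rfl
    refine ⟨c', ?_, ?_⟩
    · show c' ⊗ₜ[C] (1 : B) = x
      have h1 := hπ1 x y
      rw [← hw, hwc, hfT, hπ1] at h1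
      exact h1
    · show c' ⊗ₜ[C] (1 : A') = y
      have h2 := hπ2 x y
      rw [← hw, hwc, hfT, hπ2] at h2
      exact h2
  · intro c₁ c₂ h1 h2
    have h1' : c₁ ⊗ₜ[C] (1 : B) = c₂ ⊗ₜ[C] (1 : B) := h1
    have h2' : c₁ ⊗ₜ[C] (1 : A') = c₂ ⊗ₜ[C] (1 : A') := h2
    have : (f.lTensor C') (c₁ ⊗ₜ[C] (1 : C)) = (f.lTensor C') (c₂ ⊗ₜ[C] (1 : C)) := by
      rw [hfT, hfT, h1', h2']
    have h3 := hfinjT this
    have h4 := congrArg (TensorProduct.rid C C') h3
    simpa using h4

end tensor

end Groth.Agent.H49.MilnorFlat
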