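import Mathlib
import Groth.Agent.H49.MilnorFlat

/-!
# Injectivity after base change for a ring map with flat cokernel, categorical form (helper49)
-/

set_option autoImplicit false
universe u

namespace Groth.Agent.H49.FlatCokerInj

open TensorProduct CategoryTheory CategoryTheory.Limits

lemma iso_hom_injective {R S : CommRingCat.{u}} (e : R ≅ S) : Function.Injective e.hom.hom := by
  intro x y hxy
  have := congrArg e.inv.hom hxy
  have hx : e.inv.hom (e.hom.hom x) = x := congrArg (fun f : R ⟶ R => f.hom x) e.hom_inv_id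
  have hy : e.inv.hom (e.hom.hom y) = y := congrArg (fun f : R ⟶ R => f.hom y) e.hom_inv_id
  rw [hx, hy] at this
  exact this

/-- Let `R → RP → RX` be ring maps with `RP → RX` injective with cokernel (as an `R`-module)
flat over `R`.  Then for every `R`-algebra `R'` the map `R' ⊗ RP → R' ⊗ RX` is injective; here
the tensor products are given by pushout squares. -/
theorem injective_of_flat_coker {R RP RX R' D₁ DX : CommRingCat.{u}} (ρ : R ⟶ RP)
    (snd : RP ⟶ RX) (φ : R ⟶ R')
    {ι₁ : RP ⟶ D₁} {ι₁' : R' ⟶ D₁} (h₁ : IsPushout ρ φ ι₁ ι₁')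
    {ιX : RX ⟶ DX} {ιX' : R' ⟶ DX} (hX : IsPushout (ρ ≫ snd) φ ιX ιX')
    (s : D₁ ⟶ DX) (hs1 : ι₁ ≫ s = snd ≫ ιX) (hs2 : ι₁' ≫ s = ιX')
    (Pm : Type u) [AddCommGroup Pm] [Module R Pm] [Module.Flat R Pm]
    (f : RX →+ Pm) (hf : Function.Surjective f)
    (hlin : ∀ (r : R) (x : RX), f ((ρ ≫ snd).hom r * x) = r • f x)
    (hex : ∀ x, f x = 0 ↔ x ∈ Set.range snd.hom) (hsnd : Function.Injective snd.hom) :
    Function.Injective s.hom := by
  letI algRP : Algebra R RP := ρ.hom.toAlgebra
  letI algRX : Algebra R RX := (ρ ≫ snd).hom.toAlgebra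
  letI algR' : Algebra R R' := φ.hom.toAlgebra
  let sndAlg : RP →ₐ[R] RX := { snd.hom with commutes' := fun r => rfl }
  let fL : RX →ₗ[R] Pm :=
    { toFun := f
      map_add' := f.map_add
      map_smul' := fun r x => by
        rw [Algebra.smul_def]
        exact hlin r x }
  have hexact : Function.Exact sndAlg.toLinearMap fL := fun x => hex x
  have hinjT : Function.Injective (sndAlg.toLinearMap.lTensor R') :=
    LinearMap.lTensor_injective_of_exact_of_flat fL hf sndAlg.toLinearMap hsnd hexact R'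
  have hinjM : Function.Injective (Algebra.TensorProduct.map (AlgHom.id R R') sndAlg) := by
    intro x y hxy
    rw [MilnorFlat.map_eq_lTensor, MilnorFlat.map_eq_lTensor] at hxy
    exact hinjT hxy
  have t₁ := CommRingCat.isPushout_tensorProduct R R' RP
  have tX := CommRingCat.isPushout_tensorProduct R R' RX
  let e₁ : D₁ ≅ CommRingCat.of (R' ⊗[R] RP) := h₁.flip.isoIsPushout _ _ t₁
  let eX : DX ≅ CommRingCat.of (R' ⊗[R] RX) := hX.flip.isoIsPushout _ _ tX
  have h11 : ι₁' ≫ e₁.hom = CommRingCat.ofHom Algebra.TensorProduct.includeLeftRingHom :=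
    h₁.flip.inl_isoIsPushout_hom _ _ t₁
  have h12 : ι₁ ≫ e₁.hom = CommRingCat.ofHom Algebra.TensorProduct.includeRight.toRingHom :=
    h₁.flip.inr_isoIsPushout_hom _ _ t₁
  have hX1 : ιX' ≫ eX.hom = CommRingCat.ofHom Algebra.TensorProduct.includeLeftRingHom :=
    hX.flip.inl_isoIsPushout_hom _ _ tX
  have hX2 : ιX ≫ eX.hom = CommRingCat.ofHom Algebra.TensorProduct.includeRight.toRingHom :=
    hX.flip.inr_isoIsPushout_hom _ _ tX
  let T : CommRingCat.of (R' ⊗[R] RP) ⟶ CommRingCat.of (R' ⊗[R] RX) :=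
    CommRingCat.ofHom (Algebra.TensorProduct.map (AlgHom.id R R') sndAlg).toRingHom
  have hsT : s ≫ eX.hom = e₁.hom ≫ T := by
    apply h₁.hom_ext
    · rw [← Category.assoc, hs1, Category.assoc, hX2, ← Category.assoc, h12]
      ext x
      show (1 : R') ⊗ₜ[R] (snd.hom x) =
        Algebra.TensorProduct.map (AlgHom.id R R') sndAlg ((1 : R') ⊗ₜ[R] x)
      rw [Algebra.TensorProduct.map_tmul, map_one]
      rfl
    · rw [← Category.assoc, hs2, hX1, ← Category.assoc, h11]
      ext c'
      show c' ⊗ₜ[R] (1 : RX) =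
        Algebra.TensorProduct.map (AlgHom.id R R') sndAlg (c' ⊗ₜ[R] (1 : RP))
      rw [Algebra.TensorProduct.map_tmul, map_one]
      rfl
  intro x y hxy
  have h1 : eX.hom.hom (s.hom x) = eX.hom.hom (s.hom y) := by rw [hxy]
  have h2 : T.hom (e₁.hom.hom x) = T.hom (e₁.hom.hom y) := by
    have hx := congrArg (fun m : D₁ ⟶ _ => m.hom x) hsT
    have hy := congrArg (fun m : D₁ ⟶ _ => m.hom y) hsT
    have hx' : eX.hom.hom (s.hom x) = T.hom (e₁.hom.hom x) := hx
    have hy' : eX.hom.hom (s.hom y) = T.hom (e₁.hom.hom y) := hy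
    rw [← hx', ← hy', h1]
  exact iso_hom_injective e₁ (hinjM h2)

end Groth.Agent.H49.FlatCokerInj
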