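import Groth.Agent.H49.FerrandDom
import Groth.Agent.H49.FlatCokerInj

/-!
# Base change of an affine Milnor pushout square along maps keeping `C → A'` injective
(helper49)
-/

set_option autoImplicit false
universe u
open CategoryTheory CategoryTheory.Limits AlgebraicGeometry

namespace Groth.Agent.H49.AffineMilnorBC

open Groth.Agent.H24 Groth.Agent.H49.LocalPushout TensorProduct

section transport

variable {C B A' A C₂ B₂ A'₂ A₂ : Type u} [CommRing C] [CommRing B] [CommRing A'] [CommRing A]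
  [CommRing C₂] [CommRing B₂] [CommRing A'₂] [CommRing A₂]

theorem milnorSq_of_equiv4 {fst : C →+* B} {snd : C →+* A'} {q : B →+* A} {p : A' →+* A}
    (hM : MilnorSq fst snd q p) (eC : C ≃+* C₂) (eB : B ≃+* B₂) (eA' : A' ≃+* A'₂)
    (eA : A ≃+* A₂)
    (fst₂ : C₂ →+* B₂) (snd₂ : C₂ →+* A'₂) (q₂ : B₂ →+* A₂) (p₂ : A'₂ →+* A₂)
    (h1 : ∀ c, fst₂ (eC c) = eB (fst c)) (h2 : ∀ c, snd₂ (eC c) = eA' (snd c))
    (h3 : ∀ b, q₂ (eB b) = eA (q b)) (h4 : ∀ a', p₂ (eA' a') = eA (p a')) :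
    MilnorSq fst₂ snd₂ q₂ p₂ := by
  have hC : ∀ c₂ : C₂, c₂ = eC (eC.symm c₂) := fun c₂ => (RingEquiv.apply_symm_apply _ _).symm
  refine ⟨?_, ?_, ?_, ?_⟩
  · intro c₂
    rw [hC c₂, h1, h2, h3, h4, hM.comm]
  · intro z
    obtain ⟨a', ha'⟩ := hM.surj (eA.symm z)
    refine ⟨eA' a', ?_⟩
    rw [h4, ha', RingEquiv.apply_symm_apply]
  · intro b₂ a'₂ hba
    have hb : b₂ = eB (eB.symm b₂) := (RingEquiv.apply_symm_apply _ _).symm
    have ha : a'₂ = eA' (eA'.symm a'₂) := (RingEquiv.apply_symm_apply _ _).symm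
    rw [hb, ha, h3, h4] at hba
    obtain ⟨c, hc1, hc2⟩ := hM.ex _ _ (eA.injective hba)
    refine ⟨eC c, ?_, ?_⟩
    · rw [h1, hc1, RingEquiv.apply_symm_apply]
    · rw [h2, hc2, RingEquiv.apply_symm_apply]
  · intro c c' hc1 hc2
    rw [hC c, hC c', h1, h1] at hc1
    rw [hC c, hC c', h2, h2] at hc2
    have := hM.inj _ _ (eB.injective hc1) (eA'.injective hc2)
    rw [hC c, hC c', this]

end transport

/-- a Milnor square of rings gives a Milnor square of rings of global functions on spectra -/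
theorem milnorSq_appTop_Spec {C B A' A : CommRingCat.{u}} {fst : C ⟶ B} {snd : C ⟶ A'}
    {q : B ⟶ A} {p : A' ⟶ A} (hM : MilnorSq fst.hom snd.hom q.hom p.hom) :
    MilnorSq (Spec.map fst).appTop.hom (Spec.map snd).appTop.hom (Spec.map q).appTop.hom
      (Spec.map p).appTop.hom := by
  have nat : ∀ {R S : CommRingCat.{u}} (f : R ⟶ S) (r : R),
      (Spec.map f).appTop.hom ((Scheme.ΓSpecIso R).inv.hom r) =
        (Scheme.ΓSpecIso S).inv.hom (f.hom r) := by
    intro R S f r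
    exact (congrArg (fun m : R ⟶ _ => m.hom r) (Scheme.ΓSpecIso_inv_naturality f)).symm
  exact milnorSq_of_equiv4 hM (Scheme.ΓSpecIso C).symm.commRingCatIsoToRingEquiv
    (Scheme.ΓSpecIso B).symm.commRingCatIsoToRingEquiv
    (Scheme.ΓSpecIso A').symm.commRingCatIsoToRingEquiv
    (Scheme.ΓSpecIso A).symm.commRingCatIsoToRingEquiv _ _ _ _
    (fun c => nat fst c) (fun c => nat snd c) (fun b => nat q b) (fun a' => nat p a')

section local_

variable {W₀ X₀ Y₀ P₀ : Scheme.{u}} [IsAffine W₀] [IsAffine X₀] [IsAffine Y₀] [IsAffine P₀]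
  {i₀ : W₀ ⟶ X₀} {j₀ : W₀ ⟶ Y₀} {a₀ : X₀ ⟶ P₀} {b₀ : Y₀ ⟶ P₀}
  (hM : MilnorSq b₀.appTop.hom a₀.appTop.hom j₀.appTop.hom i₀.appTop.hom)
  {F X' Y' Z' : Scheme.{u}} (q : F ⟶ P₀)
  {pX : X' ⟶ X₀} {a' : X' ⟶ F} (hX' : IsPullback pX a' a₀ q)
  {pY : Y' ⟶ Y₀} {b' : Y' ⟶ F} (hY' : IsPullback pY b' b₀ q)
  {pZ : Z' ⟶ W₀} {i' : Z' ⟶ X'} {j' : Z' ⟶ Y'} (hZ' : IsPullback pZ (i' ≫ a') (i₀ ≫ a₀) q)
  (hi' : i' ≫ pX = pZ ≫ i₀) (hj' : j' ≫ pY = pZ ≫ j₀) (w' : i' ≫ a' = j' ≫ b')

include hM hX' hY' hZ' hi' hj' in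
/-- the restricted square over an affine scheme is a pushout as soon as the map on functions
for the `X`-part is injective -/
theorem local_isPushout_of_injective {O : Scheme.{u}} [IsAffine O] (f : O ⟶ F)
    (hinj : Function.Injective (pullback.snd a' f).appTop.hom) :
    IsPushout (iR f i' a') (jR f w') (pullback.snd a' f) (pullback.snd b' f) := by
  have pbU : IsPullback (pullback.fst a' f ≫ pX) (pullback.snd a' f) a₀ (f ≫ q) :=
    (IsPullback.of_hasPullback a' f).paste_horiz hX'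
  have pbV : IsPullback (pullback.fst b' f ≫ pY) (pullback.snd b' f) b₀ (f ≫ q) :=
    (IsPullback.of_hasPullback b' f).paste_horiz hY'
  have pbW : IsPullback (pullback.fst (i' ≫ a') f ≫ pZ) (pullback.snd (i' ≫ a') f)
      (i₀ ≫ a₀) (f ≫ q) :=
    (IsPullback.of_hasPullback (i' ≫ a') f).paste_horiz hZ'
  haveI : IsAffine (pullback a' f) := .of_isIso pbU.isoPullback.hom
  haveI : IsAffine (pullback b' f) := .of_isIso pbV.isoPullback.hom
  haveI : IsAffine (pullback (i' ≫ a') f) := .of_isIso pbW.isoPullback.hom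
  have hcU : iR f i' a' ≫ (pullback.fst a' f ≫ pX) = (pullback.fst (i' ≫ a') f ≫ pZ) ≫ i₀ := by
    rw [iR_fst_assoc, Category.assoc, hi']
  have hcV : jR f w' ≫ (pullback.fst b' f ≫ pY) = (pullback.fst (i' ≫ a') f ≫ pZ) ≫ j₀ := by
    rw [jR_fst_assoc, Category.assoc, hj']
  have hw'' : iR f i' a' ≫ pullback.snd a' f = jR f w' ≫ pullback.snd b' f := by
    rw [iR_snd, jR_snd]
  have rB := (AffinePushout.isPushout_appTop_of_isPullback pbV).flip
  have rA' := (AffinePushout.isPushout_appTop_of_isPullback pbU).flip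
  have rA0 := (AffinePushout.isPushout_appTop_of_isPullback pbW).flip
  have rA : IsPushout (f ≫ q).appTop (a₀.appTop ≫ i₀.appTop)
      ((pullback.snd a' f).appTop ≫ (iR f i' a').appTop)
      (pullback.fst (i' ≫ a') f ≫ pZ).appTop := by
    rw [← Scheme.Hom.comp_appTop, ← Scheme.Hom.comp_appTop, iR_snd]
    exact rA0
  have hM' := MilnorFlat.milnorSq_of_injective_of_isPushout hM (f ≫ q).appTop rB rA' rA
    (by rw [← Scheme.Hom.comp_appTop, ← Scheme.Hom.comp_appTop, hcV])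
    (by rw [← Scheme.Hom.comp_appTop, ← Scheme.Hom.comp_appTop, hcU])
    (by rw [← Scheme.Hom.comp_appTop, ← Scheme.Hom.comp_appTop, hw'']) hinj
  exact AffinePushout.isPushout_of_affine_milnorSq _ _ _ _ hw'' hM'

include hM hX' hY' hZ' hi' hj' w' in
/-- the base change of an affine Milnor pushout square is a pushout square as soon as the maps
on functions for the `X`-part stay injective over a basis-like family of affine opens -/
theorem isPushout_baseChange_of_injective (𝓑 : Set F.Opens) (h𝓑 : BasisCover.IsGood 𝓑)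
    (haff : ∀ O ∈ 𝓑, IsAffineOpen O)
    (hinj : ∀ O ∈ 𝓑, Function.Injective (pullback.snd a' O.ι).appTop.hom) :
    IsPushout i' j' a' b' := by
  refine isPushout_of_local w' (BasisCover.cover h𝓑) ?_
  rintro ⟨O, hO⟩
  show IsPushout (iR O.ι i' a') (jR O.ι w') (pullback.snd a' O.ι) (pullback.snd b' O.ι)
  haveI : IsAffine (O : Scheme.{u}) := haff O hO
  exact local_isPushout_of_injective hM q hX' hY' hZ' hi' hj' w' O.ι (hinj O hO)

end local_

/-- Let `R → RP → RX` be ring maps with `R` a quotient of `ℤ` and `RP → RX` having an additive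
retraction.  Then for every `R`-algebra `R'` the map `R' ⊗ RP → R' ⊗ RX` is injective; here
the tensor products are given by pushout squares. -/
theorem injective_of_additive_retraction {R RP RX R' D₁ DX : CommRingCat.{u}} (ρ : R ⟶ RP)
    (snd : RP ⟶ RX) (φ : R ⟶ R')
    {ι₁ : RP ⟶ D₁} {ι₁' : R' ⟶ D₁} (h₁ : IsPushout ρ φ ι₁ ι₁')
    {ιX : RX ⟶ DX} {ιX' : R' ⟶ DX} (hX : IsPushout (ρ ≫ snd) φ ιX ιX')
    (s : D₁ ⟶ DX) (hs1 : ι₁ ≫ s = snd ≫ ιX) (hs2 : ι₁' ≫ s = ιX')
    (hZ : ∀ r : R, ∃ n : ℤ, r = (n : R))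
    (ρ' : RX →+ RP) (hρ' : ∀ x, ρ' (snd.hom x) = x) :
    Function.Injective s.hom := by
  letI algRP : Algebra R RP := ρ.hom.toAlgebra
  letI algRX : Algebra R RX := (ρ ≫ snd).hom.toAlgebra
  letI algR' : Algebra R R' := φ.hom.toAlgebra
  let sndAlg : RP →ₐ[R] RX := { snd.hom with commutes' := fun r => rfl }
  let ρL : RX →ₗ[R] RP :=
    { toFun := ρ'
      map_add' := ρ'.map_add
      map_smul' := fun r x => by
        obtain ⟨n, rfl⟩ := hZ r
        rw [Int.cast_smul_eq_zsmul, RingHom.id_apply, Int.cast_smul_eq_zsmul]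
        exact map_zsmul ρ' n x }
  have hcomp : ρL ∘ₗ sndAlg.toLinearMap = LinearMap.id := by
    ext x
    exact hρ' x
  have hinjT : Function.Injective (sndAlg.toLinearMap.lTensor R') := by
    apply Function.LeftInverse.injective (g := ρL.lTensor R')
    intro x
    rw [← LinearMap.comp_apply, ← LinearMap.lTensor_comp, hcomp, LinearMap.lTensor_id,
      LinearMap.id_apply]
  have hinjM : Function.Injective (Algebra.TensorProduct.map (AlgHom.id R R') sndAlg) := by
    intro x y hxy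
    rw [MilnorFlat.map_eq_lTensor, MilnorFlat.map_eq_lTensor] at hxy
    exact hinjT hxy
  have t₁ := CommRingCat.isPushout_tensorProduct R R' RP
  have tX := CommRingCat.isPushout_tensorProduct R R' RX
  let e₁ : D₁ ≅ CommRingCat.of (R' ⊗[R] RP) := h₁.flip.isoIsPushout _ _ t₁
  let eX : DX ≅ CommRingCat.of (R' ⊗[R] RX) := hX.flip.isoIsPushout _ _ tX
  have h11 : ι₁' ≫ e₁.hom = CommRingCat.ofHom Algebra.TensorProduct.includeLeftRingHom :=
    h₁.flip.inl_isoIsPushout_hom _ _ t₁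
  have h12 : ι₁ ≫ e₁.hom = CommRingCat.ofHom Algebra.TensorProduct.includeRight.toRingHom :=
    h₁.flip.inr_isoIsPushout_hom _ _ t₁
  have hX1 : ιX' ≫ eX.hom = CommRingCat.ofHom Algebra.TensorProduct.includeLeftRingHom :=
    hX.flip.inl_isoIsPushout_hom _ _ tX
  have hX2 : ιX ≫ eX.hom = CommRingCat.ofHom Algebra.TensorProduct.includeRight.toRingHom :=
    hX.flip.inr_isoIsPushout_hom _ _ tX
  let T : CommRingCat.of (R' ⊗[R] RP) ⟶ CommRingCat.of (R' ⊗[R] RX) :=
    CommRingCat.ofHom (Algebra.TensorProduct.map (AlgHom.id R R') sndAlg).toRingHom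
  have hsT : s ≫ eX.hom = e₁.hom ≫ T := by
    apply h₁.hom_ext
    · rw [← Category.assoc, hs1, Category.assoc, hX2, ← Category.assoc, h12]
      ext x
      show (1 : R') ⊗ₜ[R] (snd.hom x) =
        Algebra.TensorProduct.map (AlgHom.id R R') sndAlg ((1 : R') ⊗ₜ[R] x)
      rw [Algebra.TensorProduct.map_tmul, map_one]
      rfl
    · rw [← Category.assoc, hs2, hX1, ← Category.assoc, h11]
      ext c'
      show c' ⊗ₜ[R] (1 : RX) =
        Algebra.TensorProduct.map (AlgHom.id R R') sndAlg (c' ⊗ₜ[R] (1 : RP))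
      rw [Algebra.TensorProduct.map_tmul, map_one]
      rfl
  intro x y hxy
  have h1 : eX.hom.hom (s.hom x) = eX.hom.hom (s.hom y) := by rw [hxy]
  have h2 : T.hom (e₁.hom.hom x) = T.hom (e₁.hom.hom y) := by
    have hx := congrArg (fun m : D₁ ⟶ _ => m.hom x) hsT
    have hy := congrArg (fun m : D₁ ⟶ _ => m.hom y) hsT
    have hx' : eX.hom.hom (s.hom x) = T.hom (e₁.hom.hom x) := hx
    have hy' : eX.hom.hom (s.hom y) = T.hom (e₁.hom.hom y) := hy
    rw [← hx', ← hy', h1]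
  exact FlatCokerInj.iso_hom_injective e₁ (hinjM h2)

end Groth.Agent.H49.AffineMilnorBC
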