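import Groth.Agent.H49.AffineMilnorBC

/-!
# Affine Milnor pushout squares over a quotient of `ℤ` with additively split `C → A'` are
universal pushout squares (helper49)
-/

set_option autoImplicit false
universe u
open CategoryTheory CategoryTheory.Limits AlgebraicGeometry

namespace Groth.Agent.H49.AffineMilnorBC

open Groth.Agent.H24 Groth.Agent.H49.LocalPushout Groth.Agent.H49.Ferrand

section inj

variable {T S P₀ X₀ X' : Scheme.{u}} [IsAffine T] [IsAffine P₀] [IsAffine X₀]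
  (h : P₀ ⟶ T) (τ : S ⟶ T) (a₀ : X₀ ⟶ P₀)
  {pX : X' ⟶ X₀} {a' : X' ⟶ pullback h τ} (hX' : IsPullback pX a' a₀ (pullback.fst h τ))

include hX' in
theorem appTop_injective_of_retraction (U : S.Opens) (hU : IsAffineOpen U)
    (hZ : ∀ r : Γ(T, ⊤), ∃ n : ℤ, r = (n : Γ(T, ⊤)))
    (ρ' : Γ(X₀, ⊤) →+ Γ(P₀, ⊤)) (hρ' : ∀ x, ρ' (a₀.appTop.hom x) = x) :
    Function.Injective (pullback.snd a' ((pullback.snd h τ) ⁻¹ᵁ U).ι).appTop.hom := by
  haveI : IsAffineHom (pullback.snd h τ) := MorphismProperty.pullback_snd _ _ inferInstance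
  haveI : IsAffine (U : Scheme.{u}) := hU
  have hO : IsAffineOpen ((pullback.snd h τ) ⁻¹ᵁ U) := hU.preimage _
  haveI : IsAffine (((pullback.snd h τ) ⁻¹ᵁ U : (pullback h τ).Opens) : Scheme.{u}) := hO
  set O := (pullback.snd h τ) ⁻¹ᵁ U with hOdef
  have sq : IsPullback (O.ι ≫ pullback.fst h τ) (pullback.snd h τ ∣_ U) h (U.ι ≫ τ) :=
    (isPullback_morphismRestrict (pullback.snd h τ) U).flip.paste_horiz
      (IsPullback.of_hasPullback h τ)
  have pbU : IsPullback (pullback.fst a' O.ι ≫ pX) (pullback.snd a' O.ι) a₀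
      (O.ι ≫ pullback.fst h τ) :=
    (IsPullback.of_hasPullback a' O.ι).paste_horiz hX'
  haveI : IsAffine (pullback a' O.ι) := .of_isIso pbU.isoPullback.hom
  have sqX : IsPullback (pullback.fst a' O.ι ≫ pX)
      (pullback.snd a' O.ι ≫ (pullback.snd h τ ∣_ U)) (a₀ ≫ h) (U.ι ≫ τ) :=
    pbU.paste_vert sq
  have h₁ := AffinePushout.isPushout_appTop_of_isPullback sq
  have hX := AffinePushout.isPushout_appTop_of_isPullback sqX
  rw [Scheme.Hom.comp_appTop] at hX
  refine injective_of_additive_retraction h.appTop a₀.appTop (U.ι ≫ τ).appTop h₁ hX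
    (pullback.snd a' O.ι).appTop ?_ ?_ hZ ρ' hρ'
  · rw [← Scheme.Hom.comp_appTop, ← Scheme.Hom.comp_appTop, pbU.w]
  · rw [← Scheme.Hom.comp_appTop]

end inj

section overT

variable {T S : Scheme.{u}} [IsAffine T] (τ : S ⟶ T)
  {W X Y P : Over T} [IsAffine W.left] [IsAffine X.left] [IsAffine Y.left] [IsAffine P.left]
  (θ₁ : W ⟶ X) (θ₂ : W ⟶ Y) (φ₁ : X ⟶ P) (φ₂ : Y ⟶ P) (e₀ : θ₁ ≫ φ₁ = θ₂ ≫ φ₂)

include e₀ in
/-- **Affine Milnor squares over a quotient of `ℤ` in which `C → A'` has an additive retraction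
are universal pushout squares.** -/
theorem isPushout_overPullback
    (hM : MilnorSq φ₂.left.appTop.hom φ₁.left.appTop.hom θ₂.left.appTop.hom θ₁.left.appTop.hom)
    (hZ : ∀ r : Γ(T, ⊤), ∃ n : ℤ, r = (n : Γ(T, ⊤)))
    (ρ' : Γ(X.left, ⊤) →+ Γ(P.left, ⊤)) (hρ' : ∀ x, ρ' (φ₁.left.appTop.hom x) = x) :
    IsPushout ((Over.pullback τ).map θ₁) ((Over.pullback τ).map θ₂)
      ((Over.pullback τ).map φ₁) ((Over.pullback τ).map φ₂) := by
  have e : (Over.pullback τ).map θ₁ ≫ (Over.pullback τ).map φ₁ =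
      (Over.pullback τ).map θ₂ ≫ (Over.pullback τ).map φ₂ := by
    rw [← Functor.map_comp, ← Functor.map_comp, e₀]
  refine IsPushout.of_map (Over.forget S) e ?_
  show IsPushout ((Over.pullback τ).map θ₁).left ((Over.pullback τ).map θ₂).left
    ((Over.pullback τ).map φ₁).left ((Over.pullback τ).map φ₂).left
  have hZ' : IsPullback (pullback.fst W.hom τ)
      (((Over.pullback τ).map θ₁).left ≫ ((Over.pullback τ).map φ₁).left)
      (θ₁.left ≫ φ₁.left) (pullback.fst P.hom τ) := by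
    have := isPullback_overPullback_map τ (θ₁ ≫ φ₁)
    rw [Functor.map_comp] at this
    exact this
  haveI : IsAffineHom (pullback.snd P.hom τ) := MorphismProperty.pullback_snd _ _ inferInstance
  let 𝓑 : Set (pullback P.hom τ).Opens :=
    {O | ∃ U : S.Opens, IsAffineOpen U ∧ O = (pullback.snd P.hom τ) ⁻¹ᵁ U}
  have h𝓑 : BasisCover.IsGood 𝓑 := by
    constructor
    · intro x
      obtain ⟨U, hU, hxU, -⟩ := exists_isAffineOpen_mem_and_subset
        (x := pullback.snd P.hom τ x) (U := ⊤) trivial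
      exact ⟨_, ⟨U, hU, rfl⟩, hxU⟩
    · rintro _ ⟨U₁, hU₁, rfl⟩ _ ⟨U₂, hU₂, rfl⟩ x hx1 hx2
      obtain ⟨U, hU, hxU, hle⟩ := exists_isAffineOpen_mem_and_subset
        (x := pullback.snd P.hom τ x) (U := U₁ ⊓ U₂) ⟨hx1, hx2⟩
      refine ⟨_, ⟨U, hU, rfl⟩, hxU, ?_, ?_⟩
      · intro y hy
        exact (hle hy).1
      · intro y hy
        exact (hle hy).2
  refine isPushout_baseChange_of_injective hM (pullback.fst P.hom τ)
    (isPullback_overPullback_map τ φ₁) (isPullback_overPullback_map τ φ₂) hZ'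
    (overPullback_map_left_fst τ θ₁) (overPullback_map_left_fst τ θ₂)
    (congrArg (fun ψ : (Over.pullback τ).obj W ⟶ (Over.pullback τ).obj P => ψ.left) e)
    𝓑 h𝓑 ?_ ?_
  · rintro _ ⟨U, hU, rfl⟩
    exact hU.preimage _
  · rintro _ ⟨U, hU, rfl⟩
    exact appTop_injective_of_retraction P.hom τ φ₁.left (isPullback_overPullback_map τ φ₁) U hU
      hZ ρ' hρ'

end overT

end Groth.Agent.H49.AffineMilnorBC
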