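import Groth.Agent.H49.AffineMilnorBC2

/-!
# Universal pushouts, whiskered form (helper49)
-/

set_option autoImplicit false
universe u
open CategoryTheory CategoryTheory.Limits AlgebraicGeometry MonoidalCategory
  CartesianMonoidalCategory

namespace Groth.Agent.H49.AffineMilnorBC

open Groth.Agent.H24 Groth.Agent.H49.LocalPushout Groth.Agent.H49.Ferrand

section inj

variable {T S P₀ X₀ X' F : Scheme.{u}} [IsAffine T] [IsAffine P₀] [IsAffine X₀]
  (h : P₀ ⟶ T) (τ : S ⟶ T) (a₀ : X₀ ⟶ P₀) {q : F ⟶ P₀} {p' : F ⟶ S}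
  (hF : IsPullback q p' h τ)
  {pX : X' ⟶ X₀} {a' : X' ⟶ F} (hX' : IsPullback pX a' a₀ q)

include hF hX' in
theorem appTop_injective_of_retraction' (U : S.Opens) (hU : IsAffineOpen U)
    (hZ : ∀ r : Γ(T, ⊤), ∃ n : ℤ, r = (n : Γ(T, ⊤)))
    (ρ' : Γ(X₀, ⊤) →+ Γ(P₀, ⊤)) (hρ' : ∀ x, ρ' (a₀.appTop.hom x) = x) :
    Function.Injective (pullback.snd a' (p' ⁻¹ᵁ U).ι).appTop.hom := by
  haveI : IsAffineHom p' := MorphismProperty.of_isPullback (P := @IsAffineHom) hF inferInstance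
  haveI : IsAffine (U : Scheme.{u}) := hU
  have hO : IsAffineOpen (p' ⁻¹ᵁ U) := hU.preimage _
  haveI : IsAffine ((p' ⁻¹ᵁ U : F.Opens) : Scheme.{u}) := hO
  set O := p' ⁻¹ᵁ U with hOdef
  have sq : IsPullback (O.ι ≫ q) (p' ∣_ U) h (U.ι ≫ τ) :=
    (isPullback_morphismRestrict p' U).flip.paste_horiz hF
  have pbU : IsPullback (pullback.fst a' O.ι ≫ pX) (pullback.snd a' O.ι) a₀ (O.ι ≫ q) :=
    (IsPullback.of_hasPullback a' O.ι).paste_horiz hX'
  haveI : IsAffine (pullback a' O.ι) := .of_isIso pbU.isoPullback.hom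
  have sqX : IsPullback (pullback.fst a' O.ι ≫ pX)
      (pullback.snd a' O.ι ≫ (p' ∣_ U)) (a₀ ≫ h) (U.ι ≫ τ) :=
    pbU.paste_vert sq
  have h₁ := AffinePushout.isPushout_appTop_of_isPullback sq
  have hX := AffinePushout.isPushout_appTop_of_isPullback sqX
  rw [Scheme.Hom.comp_appTop] at hX
  refine injective_of_additive_retraction h.appTop a₀.appTop (U.ι ≫ τ).appTop h₁ hX
    (pullback.snd a' O.ι).appTop ?_ ?_ hZ ρ' hρ'
  · rw [← Scheme.Hom.comp_appTop, ← Scheme.Hom.comp_appTop, pbU.w]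
  · rw [← Scheme.Hom.comp_appTop]

end inj

lemma isPullback_whiskerRight_left {S : Scheme.{u}} {A B : Over S} (ψ : A ⟶ B) (T' : Over S) :
    IsPullback (pullback.fst A.hom T'.hom) (ψ ▷ T').left ψ.left (pullback.fst B.hom T'.hom) := by
  have big : IsPullback (pullback.fst A.hom T'.hom) (pullback.snd A.hom T'.hom) A.hom T'.hom :=
    IsPullback.of_hasPullback A.hom T'.hom
  have t : IsPullback (pullback.fst B.hom T'.hom) (pullback.snd B.hom T'.hom) B.hom T'.hom :=
    IsPullback.of_hasPullback B.hom T'.hom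
  have s : IsPullback (pullback.fst A.hom T'.hom)
      ((ψ ▷ T').left ≫ pullback.snd B.hom T'.hom) (ψ.left ≫ B.hom) T'.hom := by
    rw [Over.whiskerRight_left_snd, Over.w ψ]
    exact big
  exact IsPullback.of_bot s (Over.whiskerRight_left_fst ψ).symm t

section overT

variable {T S : Scheme.{u}} [IsAffine T] (τ : S ⟶ T)
  {W X Y P : Over T} [IsAffine W.left] [IsAffine X.left] [IsAffine Y.left] [IsAffine P.left]
  (θ₁ : W ⟶ X) (θ₂ : W ⟶ Y) (φ₁ : X ⟶ P) (φ₂ : Y ⟶ P) (e₀ : θ₁ ≫ φ₁ = θ₂ ≫ φ₂)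

include e₀ in
/-- whiskered form of `isPushout_overPullback` -/
theorem isPushout_overPullback_whiskerRight
    (hM : MilnorSq φ₂.left.appTop.hom φ₁.left.appTop.hom θ₂.left.appTop.hom θ₁.left.appTop.hom)
    (hZ : ∀ r : Γ(T, ⊤), ∃ n : ℤ, r = (n : Γ(T, ⊤)))
    (ρ' : Γ(X.left, ⊤) →+ Γ(P.left, ⊤)) (hρ' : ∀ x, ρ' (φ₁.left.appTop.hom x) = x)
    (T' : Over S) :
    IsPushout ((Over.pullback τ).map θ₁ ▷ T') ((Over.pullback τ).map θ₂ ▷ T')
      ((Over.pullback τ).map φ₁ ▷ T') ((Over.pullback τ).map φ₂ ▷ T') := by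
  have e : (Over.pullback τ).map θ₁ ▷ T' ≫ (Over.pullback τ).map φ₁ ▷ T' =
      (Over.pullback τ).map θ₂ ▷ T' ≫ (Over.pullback τ).map φ₂ ▷ T' := by
    rw [← comp_whiskerRight, ← comp_whiskerRight, ← Functor.map_comp, ← Functor.map_comp, e₀]
  refine IsPushout.of_map (Over.forget S) e ?_
  show IsPushout ((Over.pullback τ).map θ₁ ▷ T').left ((Over.pullback τ).map θ₂ ▷ T').left
    ((Over.pullback τ).map φ₁ ▷ T').left ((Over.pullback τ).map φ₂ ▷ T').left
  have hX' := (isPullback_whiskerRight_left ((Over.pullback τ).map φ₁) T').paste_horiz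
    (isPullback_overPullback_map τ φ₁)
  have hY' := (isPullback_whiskerRight_left ((Over.pullback τ).map φ₂) T').paste_horiz
    (isPullback_overPullback_map τ φ₂)
  have hZ' : IsPullback
      (pullback.fst ((Over.pullback τ).obj W).hom T'.hom ≫ pullback.fst W.hom τ)
      (((Over.pullback τ).map θ₁ ▷ T').left ≫ ((Over.pullback τ).map φ₁ ▷ T').left)
      (θ₁.left ≫ φ₁.left)
      (pullback.fst ((Over.pullback τ).obj P).hom T'.hom ≫ pullback.fst P.hom τ) := by
    have h2 := isPullback_overPullback_map τ (θ₁ ≫ φ₁)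
    rw [Functor.map_comp] at h2
    have h1 := (isPullback_whiskerRight_left
      ((Over.pullback τ).map θ₁ ≫ (Over.pullback τ).map φ₁) T').paste_horiz h2
    rw [comp_whiskerRight, Over.comp_left, Over.comp_left] at h1
    exact h1
  have hF : IsPullback
      (pullback.fst ((Over.pullback τ).obj P).hom T'.hom ≫ pullback.fst P.hom τ)
      (pullback.snd ((Over.pullback τ).obj P).hom T'.hom) P.hom (T'.hom ≫ τ) :=
    (IsPullback.of_hasPullback ((Over.pullback τ).obj P).hom T'.hom).paste_horiz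
      (IsPullback.of_hasPullback P.hom τ)
  haveI : IsAffineHom (pullback.snd ((Over.pullback τ).obj P).hom T'.hom) :=
    MorphismProperty.of_isPullback (P := @IsAffineHom) hF inferInstance
  let 𝓑 : Set (pullback ((Over.pullback τ).obj P).hom T'.hom).Opens :=
    {O | ∃ U : T'.left.Opens, IsAffineOpen U ∧
      O = (pullback.snd ((Over.pullback τ).obj P).hom T'.hom) ⁻¹ᵁ U}
  have h𝓑 : BasisCover.IsGood 𝓑 := by
    constructor
    · intro x
      obtain ⟨U, hU, hxU, -⟩ := exists_isAffineOpen_mem_and_subset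
        (x := pullback.snd ((Over.pullback τ).obj P).hom T'.hom x) (U := ⊤) trivial
      exact ⟨_, ⟨U, hU, rfl⟩, hxU⟩
    · rintro _ ⟨U₁, hU₁, rfl⟩ _ ⟨U₂, hU₂, rfl⟩ x hx1 hx2
      obtain ⟨U, hU, hxU, hle⟩ := exists_isAffineOpen_mem_and_subset
        (x := pullback.snd ((Over.pullback τ).obj P).hom T'.hom x) (U := U₁ ⊓ U₂) ⟨hx1, hx2⟩
      refine ⟨_, ⟨U, hU, rfl⟩, hxU, ?_, ?_⟩
      · intro y hy
        exact (hle hy).1
      · intro y hy
        exact (hle hy).2
  refine isPushout_baseChange_of_injective hM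
    (pullback.fst ((Over.pullback τ).obj P).hom T'.hom ≫ pullback.fst P.hom τ)
    hX' hY' hZ' ?_ ?_
    (by
      have := congrArg (fun ψ : (Over.pullback τ).obj W ⊗ T' ⟶ (Over.pullback τ).obj P ⊗ T' =>
        ψ.left) e
      exact this)
    𝓑 h𝓑 ?_ ?_
  · rw [Over.whiskerRight_left_fst_assoc, overPullback_map_left_fst, Category.assoc]
  · rw [Over.whiskerRight_left_fst_assoc, overPullback_map_left_fst, Category.assoc]
  · rintro _ ⟨U, hU, rfl⟩
    exact hU.preimage _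
  · rintro _ ⟨U, hU, rfl⟩
    exact appTop_injective_of_retraction' P.hom (T'.hom ≫ τ) φ₁.left hF hX' U hU hZ ρ' hρ'

end overT

end Groth.Agent.H49.AffineMilnorBC
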