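import Mathlib
import Groth.Agent.H24.MilnorPushout

/-!
# Affine squares: Milnor squares give pushouts, pullbacks give ring pushouts (helper49)
-/

set_option autoImplicit false
universe u
open CategoryTheory CategoryTheory.Limits AlgebraicGeometry

namespace Groth.Agent.H49.AffinePushout

open Groth.Agent.H24

/-- a commutative square of affine schemes whose rings of functions form a Milnor square is a
pushout in the category of schemes -/
theorem isPushout_of_affine_milnorSq {W' U' V' O' : Scheme.{u}} [IsAffine W'] [IsAffine U']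
    [IsAffine V'] [IsAffine O'] (iW : W' ⟶ U') (jW : W' ⟶ V') (aU : U' ⟶ O') (bV : V' ⟶ O')
    (hw : iW ≫ aU = jW ≫ bV)
    (hM : MilnorSq bV.appTop.hom aU.appTop.hom jW.appTop.hom iW.appTop.hom) :
    IsPushout iW jW aU bV := by
  have hw' : aU.appTop ≫ iW.appTop = bV.appTop ≫ jW.appTop := by
    rw [← Scheme.Hom.comp_appTop, ← Scheme.Hom.comp_appTop, hw]
  have h0 := isPushout_Spec_of_milnorSq (fst := bV.appTop) (snd := aU.appTop) (q := jW.appTop)
    (p := iW.appTop) hM hw'
  refine IsPushout.of_iso h0 W'.isoSpec.symm U'.isoSpec.symm V'.isoSpec.symm O'.isoSpec.symm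
    ?_ ?_ ?_ ?_
  · rw [Iso.symm_hom, Iso.symm_hom, Iso.eq_inv_comp, ← Category.assoc, Iso.comp_inv_eq]
    exact (Scheme.toSpecΓ_naturality iW).symm
  · rw [Iso.symm_hom, Iso.symm_hom, Iso.eq_inv_comp, ← Category.assoc, Iso.comp_inv_eq]
    exact (Scheme.toSpecΓ_naturality jW).symm
  · rw [Iso.symm_hom, Iso.symm_hom, Iso.eq_inv_comp, ← Category.assoc, Iso.comp_inv_eq]
    exact (Scheme.toSpecΓ_naturality aU).symm
  · rw [Iso.symm_hom, Iso.symm_hom, Iso.eq_inv_comp, ← Category.assoc, Iso.comp_inv_eq]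
    exact (Scheme.toSpecΓ_naturality bV).symm

lemma isIso_of_isIso_SpecMap {R S : CommRingCat.{u}} (δ : R ⟶ S) [IsIso (Spec.map δ)] :
    IsIso δ := by
  refine ⟨Spec.preimage (inv (Spec.map δ)), ?_, ?_⟩
  · apply Spec.map_injective
    rw [Spec.map_comp, Spec.map_preimage, IsIso.inv_hom_id, Spec.map_id]
  · apply Spec.map_injective
    rw [Spec.map_comp, Spec.map_preimage, IsIso.hom_inv_id, Spec.map_id]

/-- a cartesian square of affine schemes gives a cocartesian square of rings of functions -/
theorem isPushout_appTop_of_isPullback {T' T S' S : Scheme.{u}} [IsAffine T'] [IsAffine T]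
    [IsAffine S'] [IsAffine S] {fst : T' ⟶ T} {snd : T' ⟶ S'} {f : T ⟶ S} {g : S' ⟶ S}
    (h : IsPullback fst snd f g) : IsPushout f.appTop g.appTop fst.appTop snd.appTop := by
  have w : f.appTop ≫ fst.appTop = g.appTop ≫ snd.appTop := by
    rw [← Scheme.Hom.comp_appTop, ← Scheme.Hom.comp_appTop, h.w]
  let δ : pushout f.appTop g.appTop ⟶ Γ(T', ⊤) := pushout.desc fst.appTop snd.appTop w
  have hSpec : IsPullback (Spec.map (pushout.inl f.appTop g.appTop))
      (Spec.map (pushout.inr f.appTop g.appTop)) (Spec.map f.appTop) (Spec.map g.appTop) :=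
    isPullback_SpecMap_pushout f.appTop g.appTop
  have h' : IsPullback (Spec.map fst.appTop) (Spec.map snd.appTop) (Spec.map f.appTop)
      (Spec.map g.appTop) := by
    refine IsPullback.of_iso h T'.isoSpec T.isoSpec S'.isoSpec S.isoSpec ?_ ?_ ?_ ?_
    · exact Scheme.toSpecΓ_naturality fst
    · exact Scheme.toSpecΓ_naturality snd
    · exact Scheme.toSpecΓ_naturality f
    · exact Scheme.toSpecΓ_naturality g
  have hδ : Spec.map δ = (h'.isoIsPullback _ _ hSpec).hom := by
    apply hSpec.hom_ext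
    · rw [IsPullback.isoIsPullback_hom_fst, ← Spec.map_comp, pushout.inl_desc]
    · rw [IsPullback.isoIsPullback_hom_snd, ← Spec.map_comp, pushout.inr_desc]
  haveI : IsIso (Spec.map δ) := by rw [hδ]; infer_instance
  haveI : IsIso δ := isIso_of_isIso_SpecMap δ
  refine IsPushout.of_iso (IsPushout.of_hasPushout f.appTop g.appTop) (Iso.refl _) (Iso.refl _)
    (Iso.refl _) (asIso δ) ?_ ?_ ?_ ?_
  · simp
  · simp
  · rw [Iso.refl_hom, Category.id_comp, asIso_hom]
    exact pushout.inl_desc _ _ _
  · rw [Iso.refl_hom, Category.id_comp, asIso_hom]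
    exact pushout.inr_desc _ _ _

end Groth.Agent.H49.AffinePushout
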