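import Mathlib
import Groth.Agent.H49.KerFG
import Groth.Agent.H48.PtFlat7
import Groth.Agent.H57.FlatAtBC

/-!
# Slicing by an element regular on the fibre: spreading out (ring level, towards S1348)
-/

set_option autoImplicit false
set_option linter.style.haveILetI false

universe u

open TensorProduct

namespace Groth.Agent.H49.Slice

/-- Flatness of a localization at powers of `g₁` passes to the localization at powers of
`g₁ * g₂`. -/
theorem flat_localizedModule_powers_mul {A B : Type u} [CommRing A] [CommRing B] [Algebra A B]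
    (N : Type u) [AddCommGroup N] [Module A N] [Module B N] [IsScalarTower A B N] (g₁ g₂ : B)
    (h : Module.Flat A (LocalizedModule (Submonoid.powers g₁) N)) :
    Module.Flat A (LocalizedModule (Submonoid.powers (g₁ * g₂)) N) := by
  refine Groth.Agent.H57.flat_localizedModule_of_forall (Submonoid.powers (g₁ * g₂)) N
    (fun P Q _ _ _ _ v hv x hx => ?_)
  obtain ⟨⟨t, n, rfl⟩, ht⟩ := Groth.Agent.H57.exists_smul_eq_zero_of_lTensor_injective
    (Submonoid.powers g₁) N v (Module.Flat.lTensor_preserves_injective_linearMap v hv) x hx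
  refine ⟨⟨(g₁ * g₂) ^ n, n, rfl⟩, ?_⟩
  change (g₁ * g₂) ^ n • x = 0
  have ht' : g₁ ^ n • x = 0 := ht
  rw [mul_pow, mul_comm, mul_smul, ht', smul_zero]

set_option maxHeartbeats 1000000 in
/-- **Spreading out a slice.** `A → B` of finite presentation, `h ∈ B`, `q` a prime of `B` such
that `h` is a nonzerodivisor on `B_q` and `(B/hB)_q` is flat over `A`. Then on some principal
open `D(g) ∋ q`, `h` is a nonzerodivisor and `B/hB` is flat over `A`. -/
theorem exists_away {A B : Type u} [CommRing A] [CommRing B] [Algebra A B]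
    [Algebra.FinitePresentation A B] (h : B) (q : Ideal B) [q.IsPrime]
    {N₀ : Type u} [AddCommGroup N₀] [Module B N₀] [Module A N₀] [IsScalarTower A B N₀]
    (p : B →ₗ[B] N₀) (hp : Function.Surjective p)
    (hker : ∀ b : B, p b = 0 ↔ ∃ c : B, h * c = b)
    (hinj : ∀ b : B, h * b = 0 → ∃ t ∉ q, t * b = 0)
    (hflat : Module.Flat A (LocalizedModule q.primeCompl N₀)) :
    ∃ g ∉ q, (∀ b : B, h * b = 0 → ∃ n : ℕ, g ^ n * b = 0) ∧
      Module.Flat A (LocalizedModule (Submonoid.powers g) N₀) := by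
  classical
  -- `N₀` is finitely presented
  let uB : B →ₗ[B] B := LinearMap.mulLeft B h
  have huB : ∀ b, uB b = h * b := fun b => rfl
  have hex : Function.Exact uB p := by
    intro b
    rw [hker b]
    exact ⟨fun ⟨c, hc⟩ => ⟨c, hc⟩, fun ⟨c, hc⟩ => ⟨c, hc⟩⟩
  have hkerp : (LinearMap.ker p).FG := by
    rw [hex.linearMap_ker_eq, LinearMap.range_eq_map]
    exact Module.Finite.fg_top.map uB
  haveI : Module.FinitePresentation B N₀ := Module.finitePresentation_of_surjective p hp hkerp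
  haveI := hflat
  obtain ⟨g₁, hg₁, hflat₁⟩ := Groth.Agent.H48.PtFlat.exists_flat_localizedModule_away
    (R := A) (S₀ := B) (N₀ := N₀) q
  -- localize at `g₁`
  let S₁ : Submonoid B := Submonoid.powers g₁
  let f₀ : B →ₗ[B] Localization S₁ := Algebra.linearMap B (Localization S₁)
  let f₂ : N₀ →ₗ[B] LocalizedModule S₁ N₀ := LocalizedModule.mkLinearMap S₁ N₀
  let u₁' := IsLocalizedModule.map S₁ f₀ f₀ uB
  let p₁' := IsLocalizedModule.map S₁ f₀ f₂ p
  have hex₁' : Function.Exact u₁' p₁' := IsLocalizedModule.map_exact S₁ f₀ f₀ f₂ uB p hex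
  have hp₁' : Function.Surjective p₁' := IsLocalizedModule.map_surjective S₁ f₀ f₂ p hp
  let u₁ : Localization S₁ →ₗ[Localization S₁] Localization S₁ :=
    LinearMap.extendScalarsOfIsLocalization S₁ (Localization S₁) u₁'
  let p₁ : Localization S₁ →ₗ[Localization S₁] LocalizedModule S₁ N₀ :=
    LinearMap.extendScalarsOfIsLocalization S₁ (Localization S₁) p₁'
  have hex₁ : Function.Exact u₁ p₁ := hex₁'
  have hp₁ : Function.Surjective p₁ := hp₁'
  haveI : Algebra.FinitePresentation A (Localization S₁) :=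
    Algebra.FinitePresentation.trans A B (Localization.Away g₁)
  haveI : Module.Flat A (LocalizedModule S₁ N₀) := hflat₁
  have hfg : (LinearMap.ker u₁).FG :=
    Groth.Agent.H49.KerFG.ker_fg_of_flat_coker (A := A) (B := Localization S₁) u₁ p₁ hp₁ hex₁
  have hu₁f : ∀ b : B, u₁ (f₀ b) = f₀ (h * b) := fun b =>
    IsLocalizedModule.map_apply S₁ f₀ f₀ uB b
  -- every element of `ker u₁` is killed by some `t ∉ q`
  have hkill : ∀ k ∈ LinearMap.ker u₁, ∃ t : B, t ∉ q ∧ t • k = 0 := by
    intro k hk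
    rw [LinearMap.mem_ker] at hk
    obtain ⟨⟨b, s⟩, hbs⟩ := IsLocalizedModule.surj S₁ f₀ k
    have hbs' : (s : B) • k = f₀ b := hbs
    have h1 : f₀ (h * b) = 0 := by
      rw [← hu₁f, ← hbs', ← algebraMap_smul (Localization S₁) (s : B) k, map_smul, hk, smul_zero]
    obtain ⟨⟨c, n, rfl⟩, hc⟩ := (IsLocalizedModule.eq_zero_iff S₁ f₀).mp h1
    have hc' : g₁ ^ n * (h * b) = 0 := hc
    obtain ⟨t, htq, ht⟩ := hinj (g₁ ^ n * b) (by rw [← hc']; ring)
    refine ⟨t, htq, ?_⟩
    have h2 : f₀ (t * b) = 0 := by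
      refine (IsLocalizedModule.eq_zero_iff S₁ f₀).mpr ⟨⟨g₁ ^ n, n, rfl⟩, ?_⟩
      change g₁ ^ n * (t * b) = 0
      rw [← ht]; ring
    have h3 : (s : B) • (t • k) = 0 := by
      rw [smul_comm, hbs', ← map_smul, smul_eq_mul, h2]
    have hsu : IsUnit (algebraMap B (Localization S₁) (s : B)) :=
      IsLocalization.map_units (Localization S₁) s
    rw [← algebraMap_smul (Localization S₁) (s : B) (t • k)] at h3
    exact hsu.smul_eq_zero.mp h3
  obtain ⟨gens, hgens⟩ := hfg
  choose! τ hτq hτ using hkill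
  let g₂ : B := ∏ k ∈ gens, τ k
  have hgensmem : ∀ k ∈ gens, k ∈ LinearMap.ker u₁ := by
    intro k hk
    rw [← hgens]
    exact Submodule.subset_span hk
  have hg₂q : g₂ ∉ q := by
    intro hmem
    obtain ⟨k, hk, hkq⟩ := (Ideal.IsPrime.prod_mem_iff).mp hmem
    exact hτq k (hgensmem k hk) hkq
  have hg₂ : ∀ k ∈ LinearMap.ker u₁, g₂ • k = 0 := by
    intro k hk
    rw [← hgens] at hk
    refine Submodule.span_induction ?_ ?_ ?_ ?_ hk
    · intro k hk
      obtain ⟨c, hc⟩ := Finset.dvd_prod_of_mem τ hk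
      change (∏ k ∈ gens, τ k) • k = 0
      rw [hc, mul_comm, mul_smul, hτ k (hgensmem k hk), smul_zero]
    · exact smul_zero _
    · intro x y _ _ hx hy
      rw [smul_add, hx, hy, add_zero]
    · intro a x _ hx
      rw [smul_comm, hx, smul_zero]
  refine ⟨g₁ * g₂, fun hmem => (Ideal.IsPrime.mem_or_mem ‹q.IsPrime› hmem).elim hg₁ hg₂q, ?_,
    flat_localizedModule_powers_mul N₀ g₁ g₂ hflat₁⟩
  intro b hb
  have h1 : f₀ b ∈ LinearMap.ker u₁ := by
    rw [LinearMap.mem_ker, hu₁f, hb, map_zero]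
  have h2 : f₀ (g₂ * b) = 0 := by
    have := hg₂ _ h1
    rw [← map_smul] at this
    exact this
  obtain ⟨⟨c, n, rfl⟩, hc⟩ := (IsLocalizedModule.eq_zero_iff S₁ f₀).mp h2
  have hc' : g₁ ^ n * (g₂ * b) = 0 := hc
  refine ⟨n + 1, ?_⟩
  rw [mul_pow, pow_succ g₁, pow_succ' g₂]
  calc g₁ ^ n * g₁ * (g₂ * g₂ ^ n) * b = g₁ * g₂ ^ n * (g₁ ^ n * (g₂ * b)) := by ring
    _ = 0 := by rw [hc', mul_zero]

theorem range_mulLeft_eq_span {Ox : Type u} [CommRing Ox] (h : Ox) :
    LinearMap.range (LinearMap.mulLeft Ox h) = Ideal.span {h} := by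
  ext x
  rw [LinearMap.mem_range, Ideal.mem_span_singleton']
  constructor
  · rintro ⟨y, rfl⟩
    exact ⟨y, mul_comm _ _⟩
  · rintro ⟨y, rfl⟩
    exact ⟨y, mul_comm _ _⟩

/-- From flatness of `O_x / h O_x` over the local ring `R = A_p` to flatness over `A` of the
localization `(B / h₀ B)_q`. -/
theorem flat_localizedModule_quot {A R B Ox : Type u} [CommRing A] [CommRing R] [CommRing B]
    [CommRing Ox] [Algebra A R] [Algebra A B] [Algebra B Ox] [Algebra R Ox] [Algebra A Ox]
    [IsScalarTower A B Ox] [IsScalarTower A R Ox]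
    (P : Submonoid A) [IsLocalization P R] (q : Ideal B) [q.IsPrime] [IsLocalization.AtPrime Ox q]
    (h₀ : B)
    (hfl : Module.Flat R (Ox ⧸ LinearMap.range (LinearMap.mulLeft Ox (algebraMap B Ox h₀)))) :
    Module.Flat A (LocalizedModule q.primeCompl (B ⧸ Ideal.span {h₀})) := by
  let M' : Submodule B B := Ideal.span {h₀}
  let f : B →ₗ[B] Ox := Algebra.linearMap B Ox
  let L : Submodule Ox Ox := M'.localized' Ox q.primeCompl f
  have hL : LinearMap.range (LinearMap.mulLeft Ox (algebraMap B Ox h₀)) = L := by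
    rw [range_mulLeft_eq_span]
    change _ = (Submodule.span B {h₀}).localized' Ox q.primeCompl f
    rw [Submodule.localized'_span, Set.image_singleton]
    rfl
  rw [hL] at hfl
  haveI : IsScalarTower A R (Ox ⧸ L) := IsScalarTower.of_algebraMap_smul fun a z => by
    obtain ⟨o, rfl⟩ := Submodule.Quotient.mk_surjective _ z
    rw [← Submodule.Quotient.mk_smul, ← Submodule.Quotient.mk_smul, algebraMap_smul]
  haveI : Module.Flat A (Ox ⧸ L) := (Module.flat_iff_of_isLocalization R P (Ox ⧸ L)).mp hfl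
  let φ : (B ⧸ M') →ₗ[B] (Ox ⧸ L) := M'.toLocalizedQuotient' Ox q.primeCompl f
  let e : LocalizedModule q.primeCompl (B ⧸ M') ≃ₗ[B] (Ox ⧸ L) :=
    IsLocalizedModule.linearEquiv q.primeCompl
      (LocalizedModule.mkLinearMap q.primeCompl (B ⧸ M')) φ
  haveI : IsScalarTower A B (Ox ⧸ L) := IsScalarTower.of_algebraMap_smul fun a z => by
    obtain ⟨o, rfl⟩ := Submodule.Quotient.mk_surjective _ z
    rw [← Submodule.Quotient.mk_smul, ← Submodule.Quotient.mk_smul, algebraMap_smul]
  exact Module.Flat.of_linearEquiv (e.restrictScalars A)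

/-- From flatness over `A` of `(B / h₀ B)_g` to flatness of `B' / h₀ B'` for `B' = B_g`. -/
theorem flat_quot_away {A B B' : Type u} [CommRing A] [CommRing B] [CommRing B'] [Algebra A B]
    [Algebra B B'] [Algebra A B'] [IsScalarTower A B B'] (g h₀ : B) [IsLocalization.Away g B']
    (hfl : Module.Flat A (LocalizedModule (Submonoid.powers g) (B ⧸ Ideal.span {h₀}))) :
    Module.Flat A (B' ⧸ Ideal.span {algebraMap B B' h₀}) := by
  let M' : Submodule B B := Ideal.span {h₀}
  let f : B →ₗ[B] B' := Algebra.linearMap B B'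
  let L : Submodule B' B' := M'.localized' B' (Submonoid.powers g) f
  have hL : Ideal.span {algebraMap B B' h₀} = L := by
    change _ = (Submodule.span B {h₀}).localized' B' (Submonoid.powers g) f
    rw [Submodule.localized'_span, Set.image_singleton]
    rfl
  let φ : (B ⧸ M') →ₗ[B] (B' ⧸ L) := M'.toLocalizedQuotient' B' (Submonoid.powers g) f
  let e : LocalizedModule (Submonoid.powers g) (B ⧸ M') ≃ₗ[B] (B' ⧸ L) :=
    IsLocalizedModule.linearEquiv (Submonoid.powers g)
      (LocalizedModule.mkLinearMap (Submonoid.powers g) (B ⧸ M')) φ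
  haveI : IsScalarTower A B (B' ⧸ L) := IsScalarTower.of_algebraMap_smul fun a z => by
    obtain ⟨o, rfl⟩ := Submodule.Quotient.mk_surjective _ z
    rw [← Submodule.Quotient.mk_smul, ← Submodule.Quotient.mk_smul, algebraMap_smul]
  haveI : Module.Flat A (B' ⧸ L) := Module.Flat.of_linearEquiv (e.symm.restrictScalars A)
  have e2 : (B' ⧸ Ideal.span {algebraMap B B' h₀}) ≃ₗ[B'] (B' ⧸ L) :=
    Submodule.quotEquivOfEq _ _ hL
  exact Module.Flat.of_linearEquiv (e2.restrictScalars A)

/-- `h₀` becomes a nonzerodivisor on `B_g` if its annihilator is killed by powers of `g`. -/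
theorem mem_nonZeroDivisors_away {B B' : Type u} [CommRing B] [CommRing B'] [Algebra B B']
    (g h₀ : B) [IsLocalization.Away g B']
    (hkill : ∀ b : B, h₀ * b = 0 → ∃ n : ℕ, g ^ n * b = 0) :
    algebraMap B B' h₀ ∈ nonZeroDivisors B' := by
  rw [mem_nonZeroDivisors_iff_left]
  intro b' hb'
  obtain ⟨⟨b, s⟩, hbs⟩ := IsLocalization.surj (Submonoid.powers g) b'
  have hbs' : b' * algebraMap B B' (s : B) = algebraMap B B' b := hbs
  have h1 : algebraMap B B' (h₀ * b) = 0 := by
    rw [map_mul, ← hbs', ← mul_assoc, hb', zero_mul]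
  obtain ⟨⟨m, k, rfl⟩, hm⟩ := (IsLocalization.map_eq_zero_iff (Submonoid.powers g) B' _).mp h1
  have hm' : g ^ k * (h₀ * b) = 0 := hm
  obtain ⟨n, hn⟩ := hkill (g ^ k * b) (by rw [← hm']; ring)
  have h2 : algebraMap B B' b = 0 := by
    refine (IsLocalization.map_eq_zero_iff (Submonoid.powers g) B' _).mpr
      ⟨⟨g ^ (n + k), n + k, rfl⟩, ?_⟩
    change g ^ (n + k) * b = 0
    rw [pow_add, mul_assoc, hn]
  rw [h2] at hbs'
  exact (IsLocalization.map_units B' s).mul_left_eq_zero.mp hbs'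

end Groth.Agent.H49.Slice
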