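import Mathlib
import Groth.Agent.H10.Kummer
import Groth.Agent.H14.LocalKaehler2
import Groth.Agent.H23.RegularLocal
import Groth.Agent.H49.SliceRing
import Groth.Agent.H49.FibreCritRing
import Groth.Agent.S2107

/-!
# Smooth slices: ring level lemmas (towards S9725, S9751, S9724)
-/

set_option autoImplicit false
set_option linter.style.haveILetI false

universe u

open TensorProduct KaehlerDifferential

namespace Groth.Agent.H49.SliceSmooth

/-- The closed fibre ring of a formally smooth, essentially finite type local homomorphism is a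
domain (it is a regular local ring). -/
theorem isDomain_fibre (R T : Type u) [CommRing R] [CommRing T] [IsLocalRing R] [IsLocalRing T]
    [Algebra R T] [IsLocalHom (algebraMap R T)] [Algebra.FormallySmooth R T]
    [Algebra.EssFiniteType R T] :
    IsDomain (T ⧸ (IsLocalRing.maximalIdeal R).map (algebraMap R T)) := by
  haveI : Algebra.FormallySmooth (IsLocalRing.ResidueField R)
      (IsLocalRing.ResidueField R ⊗[R] T) := inferInstance
  haveI : Algebra.EssFiniteType (IsLocalRing.ResidueField R)
      (IsLocalRing.ResidueField R ⊗[R] T) := inferInstance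
  haveI : IsNoetherianRing (IsLocalRing.ResidueField R ⊗[R] T) :=
    Algebra.EssFiniteType.isNoetherianRing (IsLocalRing.ResidueField R) _
  haveI : IsLocalRing (IsLocalRing.ResidueField R ⊗[R] T) := inferInstance
  haveI := Groth.Agent.H14.LocalKaehler.isRegularLocalRing_of_formallySmooth
    (IsLocalRing.ResidueField R) (IsLocalRing.ResidueField R ⊗[R] T)
  haveI : IsDomain (IsLocalRing.ResidueField R ⊗[R] T) :=
    Groth.Agent.H23.isDomain_of_isRegularLocalRing _
  let e := Algebra.TensorProduct.quotIdealMapEquivQuotTensor T (IsLocalRing.maximalIdeal R)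
  haveI : IsDomain ((R ⧸ IsLocalRing.maximalIdeal R) ⊗[R] T) :=
    ‹IsDomain (IsLocalRing.ResidueField R ⊗[R] T)›
  exact e.injective.isDomain e.toRingEquiv.toRingHom

/-- An element of `𝔪_R T` has vanishing differential in `κ(T) ⊗ Ω[T⁄R]`. -/
theorem tmul_D_eq_zero_of_mem (R T : Type u) [CommRing R] [CommRing T] [IsLocalRing R]
    [IsLocalRing T] [Algebra R T] [IsLocalHom (algebraMap R T)] (h : T)
    (hh : h ∈ (IsLocalRing.maximalIdeal R).map (algebraMap R T)) :
    (1 : IsLocalRing.ResidueField T) ⊗ₜ[T] D R T h = 0 := by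
  have key : h ∈ IsLocalRing.maximalIdeal T ∧
      (1 : IsLocalRing.ResidueField T) ⊗ₜ[T] D R T h = 0 := by
    rw [Ideal.map, Ideal.span] at hh
    refine Submodule.span_induction (p := fun h _ => h ∈ IsLocalRing.maximalIdeal T ∧
      (1 : IsLocalRing.ResidueField T) ⊗ₜ[T] D R T h = 0) ?_ ?_ ?_ ?_ hh
    · rintro _ ⟨r, hr, rfl⟩
      refine ⟨?_, ?_⟩
      · exact (IsLocalRing.mem_maximalIdeal _).mpr
          (map_mem_nonunits_iff (algebraMap R T) r |>.mpr ((IsLocalRing.mem_maximalIdeal _).mp hr))
      · rw [Derivation.map_algebraMap, tmul_zero]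
    · exact ⟨zero_mem _, by rw [map_zero, tmul_zero]⟩
    · rintro x y _ _ ⟨hx1, hx2⟩ ⟨hy1, hy2⟩
      exact ⟨add_mem hx1 hy1, by rw [map_add, tmul_add, hx2, hy2, add_zero]⟩
    · rintro t x _ ⟨hx1, hx2⟩
      refine ⟨Ideal.mul_mem_left _ _ hx1, ?_⟩
      rw [smul_eq_mul, Derivation.leibniz, tmul_add, tmul_smul, hx2, smul_zero, zero_add,
        tmul_smul]
      have : x • (1 : IsLocalRing.ResidueField T) = 0 := by
        rw [Algebra.smul_def, mul_one]
        exact (IsLocalRing.residue_eq_zero_iff x).mpr hx1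
      rw [smul_tmul', this, zero_tmul]
  exact key.2

/-- **Jacobian criterion, first half.** If `dh₀` does not vanish in the fibre of the differentials
at a local ring `T` of `B`, some functional on the projective module `Ω[B⁄A]` takes a value on
`dh₀` which is a unit in `T`. -/
theorem exists_functional (A Rl B T : Type u) [CommRing A] [CommRing Rl] [CommRing B] [CommRing T]
    [Algebra A Rl] [Algebra A B] [Algebra B T] [Algebra Rl T] [Algebra A T]
    [IsScalarTower A B T] [IsScalarTower A Rl T] [IsLocalRing T]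
    [Module.Projective B Ω[B⁄A]] (h₀ : B)
    (hne : (1 : IsLocalRing.ResidueField T) ⊗ₜ[T] D Rl T (algebraMap B T h₀) ≠ 0) :
    ∃ φ : Ω[B⁄A] →ₗ[B] B, IsUnit (algebraMap B T (φ (D A B h₀))) := by
  classical
  haveI : SMulCommClass Rl B T := ⟨fun r b t => by
    rw [Algebra.smul_def, Algebra.smul_def, Algebra.smul_def, Algebra.smul_def]; ring⟩
  obtain ⟨s, hs⟩ := Module.projective_def'.mp ‹Module.Projective B Ω[B⁄A]›
  by_contra hcon
  push Not at hcon
  apply hne
  have h1 : D A B h₀ = Finsupp.linearCombination B id (s (D A B h₀)) := by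
    simpa using (LinearMap.congr_fun hs (D A B h₀)).symm
  have h2 : D Rl T (algebraMap B T h₀) = KaehlerDifferential.map A Rl B T (D A B h₀) :=
    (KaehlerDifferential.map_D A Rl B T h₀).symm
  rw [h2, h1, Finsupp.linearCombination_apply, Finsupp.sum, map_sum, tmul_sum]
  refine Finset.sum_eq_zero fun ω _ => ?_
  rw [id, map_smul,
    ← algebraMap_smul T (s (D A B h₀) ω) (KaehlerDifferential.map A Rl B T ω), tmul_smul,
    smul_tmul']
  have : algebraMap B T (s (D A B h₀) ω) • (1 : IsLocalRing.ResidueField T) = 0 := by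
    rw [Algebra.smul_def, mul_one]
    exact (IsLocalRing.residue_eq_zero_iff _).mpr
      ((IsLocalRing.mem_maximalIdeal _).mpr (hcon (Finsupp.lapply ω ∘ₗ s)))
  rw [this, zero_tmul]

/-- **Jacobian criterion, second half.** If a functional on `Ω[B⁄A]` takes a value on `dh₀`
which becomes a unit in the formally étale `B`-algebra `B'`, then `B' ⧸ (h₀)` is formally smooth
over `A`. -/
theorem formallySmooth_quotient_of_functional (A B B' : Type u) [CommRing A] [CommRing B]
    [CommRing B'] [Algebra A B] [Algebra B B'] [Algebra A B'] [IsScalarTower A B B']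
    [Algebra.FormallySmooth A B] [Algebra.FormallyEtale B B'] (h₀ : B)
    (φ : Ω[B⁄A] →ₗ[B] B) (hu : IsUnit (algebraMap B B' (φ (D A B h₀)))) :
    Algebra.FormallySmooth A (B' ⧸ Ideal.span {algebraMap B B' h₀}) := by
  haveI : Algebra.FormallySmooth B B' := inferInstance
  haveI : Algebra.FormallySmooth A B' := Algebra.FormallySmooth.comp A B B'
  let e := tensorKaehlerEquivOfFormallyEtale A B B'
  let φ' : B' ⊗[B] Ω[B⁄A] →ₗ[B'] B' :=
    LinearMap.liftBaseChange B' ((Algebra.linearMap B B') ∘ₗ φ)
  obtain ⟨c, hc⟩ := hu.exists_left_inv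
  let D' : Derivation A B' B' := (c • (φ' ∘ₗ e.symm.toLinearMap)).compDer (D A B')
  refine Groth.Agent.H10.Kummer.formallySmooth_quotient_span_singleton (algebraMap B B' h₀) D' ?_
  have h1 : D' (algebraMap B B' h₀) = 1 := by
    change c • φ' (e.symm (D A B' (algebraMap B B' h₀))) = 1
    rw [tensorKaehlerEquivOfFormallyEtale_symm_D_algebraMap]
    change c • (LinearMap.liftBaseChange B' ((Algebra.linearMap B B') ∘ₗ φ)) (1 ⊗ₜ D A B h₀) = 1
    rw [LinearMap.liftBaseChange_tmul, one_smul, LinearMap.comp_apply, Algebra.linearMap_apply,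
      smul_eq_mul, hc]
  rw [h1, sub_self]
  exact zero_mem _

set_option maxHeartbeats 1600000 in
/-- **Spreading out regularity on the fibre** (ring form of the first half of S1348): `A → B` of
finite presentation, `Rl = A_p`, `T = B_q` flat over `Rl`, `h₀ ∈ B` whose image in the closed
fibre `T ⧸ 𝔪 T` is a nonzerodivisor. Then for some `g ∉ q` the annihilator of `h₀` is killed by
powers of `g`. -/
theorem exists_kill (A Rl B T : Type u) [CommRing A] [CommRing Rl] [CommRing B] [CommRing T]
    [Algebra A Rl] [Algebra A B] [Algebra B T] [Algebra Rl T] [Algebra A T]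
    [IsScalarTower A B T] [IsScalarTower A Rl T] [IsLocalRing Rl] [IsLocalRing T]
    [IsLocalHom (algebraMap Rl T)] [Algebra.FinitePresentation A B]
    (p : Ideal A) [p.IsPrime] (q : Ideal B) [q.IsPrime] (hpq : p = q.comap (algebraMap A B))
    [IsLocalization.AtPrime Rl p] [IsLocalization.AtPrime T q] [Module.Flat Rl T] (h₀ : B)
    (hreg : Ideal.Quotient.mk ((IsLocalRing.maximalIdeal Rl).map (algebraMap Rl T))
      (algebraMap B T h₀) ∈
        nonZeroDivisors (T ⧸ (IsLocalRing.maximalIdeal Rl).map (algebraMap Rl T))) :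
    ∃ g ∉ q, ∀ b : B, h₀ * b = 0 → ∃ n : ℕ, g ^ n * b = 0 := by
  have hC := Groth.Agent.H49.FibreCrit.isEssFinitePresentation_of_charts A B Rl T p q hpq
  obtain ⟨hinjx, hflx⟩ := Groth.Agent.S2107.result (R := Rl) (S := T) (M := T) (N := T) hC
    (LinearMap.mulLeft T (algebraMap B T h₀)) (by
      intro b hb
      rw [Ideal.smul_eq_mul, Ideal.mul_top] at hb ⊢
      have h1 : Ideal.Quotient.mk ((IsLocalRing.maximalIdeal Rl).map (algebraMap Rl T)) b *
          Ideal.Quotient.mk ((IsLocalRing.maximalIdeal Rl).map (algebraMap Rl T))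
            (algebraMap B T h₀) = 0 := by
        rw [← map_mul, mul_comm]
        exact Ideal.Quotient.eq_zero_iff_mem.mpr hb
      have h2 := (mem_nonZeroDivisors_iff_right.mp hreg) _ h1
      exact Ideal.Quotient.eq_zero_iff_mem.mp h2)
  have hflq : Module.Flat A (LocalizedModule q.primeCompl (B ⧸ Ideal.span {h₀})) :=
    Groth.Agent.H49.Slice.flat_localizedModule_quot (A := A) (R := Rl) (B := B) (Ox := T)
      p.primeCompl q h₀ hflx
  have hinjq : ∀ b : B, h₀ * b = 0 → ∃ t ∉ q, t * b = 0 := by
    intro b hb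
    have h1 : algebraMap B T h₀ * algebraMap B T b = 0 := by
      rw [← map_mul, hb, map_zero]
    have h2 : algebraMap B T b = 0 := by
      apply hinjx
      rw [map_zero]
      exact h1
    obtain ⟨⟨t, ht⟩, htb⟩ := (IsLocalization.map_eq_zero_iff q.primeCompl T b).mp h2
    exact ⟨t, ht, htb⟩
  have hker : ∀ b : B, Submodule.mkQ (Ideal.span {h₀}) b = 0 ↔ ∃ c, h₀ * c = b := by
    intro b
    rw [Submodule.mkQ_apply, Submodule.Quotient.mk_eq_zero, Ideal.mem_span_singleton']
    exact ⟨fun ⟨c, hc⟩ => ⟨c, by rw [mul_comm]; exact hc⟩,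
      fun ⟨c, hc⟩ => ⟨c, by rw [mul_comm]; exact hc⟩⟩
  obtain ⟨g, hgq, hkill, -⟩ := Groth.Agent.H49.Slice.exists_away (A := A) h₀ q
    (Submodule.mkQ (Ideal.span {h₀})) (Submodule.mkQ_surjective _) hker hinjq hflq
  exact ⟨g, hgq, hkill⟩

end Groth.Agent.H49.SliceSmooth
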