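import Mathlib
import Groth.Agent.H49.SliceRing
import Groth.Agent.H49.FibreCritSch
import Groth.Agent.S2107

/-!
# Slicing a flat morphism by an element regular on the fibre (S1348)
-/

set_option autoImplicit false
set_option linter.style.haveILetI false

universe u

open AlgebraicGeometry CategoryTheory Limits TensorProduct

namespace Groth.Agent.H49.Slice

variable {X S : Scheme.{u}}

set_option maxHeartbeats 1600000 in
/-- Statement of S1348 (EGA IV 11.3.8, one element). -/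
theorem slice_nonzerodivisor (f : X ⟶ S) [LocallyOfFinitePresentation f] (x : X)
    (hflat : (f.stalkMap x).hom.Flat) (h : X.presheaf.stalk x)
    (hreg : Ideal.Quotient.mk (Ideal.map (f.stalkMap x).hom
        (IsLocalRing.maximalIdeal (S.presheaf.stalk (f x)))) h ∈
      nonZeroDivisors (X.presheaf.stalk x ⧸ Ideal.map (f.stalkMap x).hom
        (IsLocalRing.maximalIdeal (S.presheaf.stalk (f x))))) :
    ∃ (U : X.Opens) (hU : IsAffineOpen U) (hx : x ∈ U) (h' : Γ(X, U)),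
      X.presheaf.germ U x hx h' = h ∧ h' ∈ nonZeroDivisors Γ(X, U) ∧
      Flat (Spec.map (CommRingCat.ofHom (Ideal.Quotient.mk (Ideal.span {h'}))) ≫
        hU.fromSpec ≫ f) ∧
      LocallyOfFinitePresentation (Spec.map (CommRingCat.ofHom
        (Ideal.Quotient.mk (Ideal.span {h'}))) ≫ hU.fromSpec ≫ f) := by
  -- Step 1: stalk level, via S2107
  letI algx : Algebra (S.presheaf.stalk (f x)) (X.presheaf.stalk x) :=
    (f.stalkMap x).hom.toAlgebra
  have hC := Groth.Agent.H49.FibreCrit.isEssFinitePresentation_stalk f x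
  haveI : IsLocalHom (algebraMap (S.presheaf.stalk (f x)) (X.presheaf.stalk x)) :=
    inferInstanceAs (IsLocalHom (f.stalkMap x).hom)
  haveI : Module.Flat (S.presheaf.stalk (f x)) (X.presheaf.stalk x) := hflat
  obtain ⟨hinjx, hflx⟩ := Groth.Agent.S2107.result (R := S.presheaf.stalk (f x))
    (S := X.presheaf.stalk x) (M := X.presheaf.stalk x) (N := X.presheaf.stalk x) hC
    (LinearMap.mulLeft (X.presheaf.stalk x) h) (by
      intro b hb
      rw [Ideal.smul_eq_mul, Ideal.mul_top] at hb ⊢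
      have h1 : Ideal.Quotient.mk (Ideal.map (f.stalkMap x).hom
          (IsLocalRing.maximalIdeal (S.presheaf.stalk (f x)))) b *
          Ideal.Quotient.mk (Ideal.map (f.stalkMap x).hom
          (IsLocalRing.maximalIdeal (S.presheaf.stalk (f x)))) h = 0 := by
        rw [← map_mul, mul_comm]
        exact Ideal.Quotient.eq_zero_iff_mem.mpr hb
      have h2 := (mem_nonZeroDivisors_iff_right.mp hreg) _ h1
      exact Ideal.Quotient.eq_zero_iff_mem.mp h2)
  -- Step 2: charts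
  obtain ⟨V, hV, hxV, -⟩ :=
    exists_isAffineOpen_mem_and_subset (x := f x) (U := (⊤ : S.Opens)) trivial
  obtain ⟨W, hxW, s, hs⟩ := TopCat.Presheaf.exists_germ_eq X.presheaf h
  obtain ⟨U₀, hU₀, hxU₀, hU₀le⟩ :=
    exists_isAffineOpen_mem_and_subset (x := x) (U := f ⁻¹ᵁ V ⊓ W) ⟨hxV, hxW⟩
  have hU₀V : U₀ ≤ f ⁻¹ᵁ V := hU₀le.trans inf_le_left
  have hU₀W : U₀ ≤ W := hU₀le.trans inf_le_right
  let h₀ : Γ(X, U₀) := X.presheaf.map (homOfLE hU₀W).op s
  have hh₀ : X.presheaf.germ U₀ x hxU₀ h₀ = h := by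
    rw [TopCat.Presheaf.germ_res_apply]
    exact hs
  -- Step 3: algebra set-up
  letI : Algebra Γ(S, V) Γ(X, U₀) := (f.appLE V U₀ hU₀V).hom.toAlgebra
  haveI : Algebra.FinitePresentation Γ(S, V) Γ(X, U₀) := f.finitePresentation_appLE hV hU₀ hU₀V
  letI : Algebra Γ(S, V) (S.presheaf.stalk (f x)) := S.presheaf.algebra_section_stalk ⟨f x, hxV⟩
  letI : Algebra Γ(X, U₀) (X.presheaf.stalk x) := X.presheaf.algebra_section_stalk ⟨x, hxU₀⟩
  letI : Algebra Γ(S, V) (X.presheaf.stalk x) :=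
    ((algebraMap (S.presheaf.stalk (f x)) (X.presheaf.stalk x)).comp
      (algebraMap Γ(S, V) (S.presheaf.stalk (f x)))).toAlgebra
  haveI : IsScalarTower Γ(S, V) (S.presheaf.stalk (f x)) (X.presheaf.stalk x) :=
    .of_algebraMap_eq fun _ => rfl
  haveI : IsScalarTower Γ(S, V) Γ(X, U₀) (X.presheaf.stalk x) := .of_algebraMap_eq fun a => by
    change (f.stalkMap x).hom (S.presheaf.germ V (f x) hxV a) =
      X.presheaf.germ U₀ x hxU₀ ((f.appLE V U₀ hU₀V).hom a)
    exact Groth.Agent.H57.stalkMap_germ_appLE f hU₀V x hxU₀ a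
  haveI := hV.isLocalization_stalk ⟨f x, hxV⟩
  haveI := hU₀.isLocalization_stalk ⟨x, hxU₀⟩
  have halg : algebraMap Γ(X, U₀) (X.presheaf.stalk x) h₀ = h := hh₀
  rw [← halg] at hflx
  have hflq : Module.Flat Γ(S, V) (LocalizedModule
      (hU₀.primeIdealOf ⟨x, hxU₀⟩).asIdeal.primeCompl (Γ(X, U₀) ⧸ Ideal.span {h₀})) :=
    flat_localizedModule_quot (A := Γ(S, V)) (R := S.presheaf.stalk (f x)) (B := Γ(X, U₀))
      (Ox := X.presheaf.stalk x) (hV.primeIdealOf ⟨f x, hxV⟩).asIdeal.primeCompl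
      (hU₀.primeIdealOf ⟨x, hxU₀⟩).asIdeal h₀ hflx
  have hinjq : ∀ b : Γ(X, U₀), h₀ * b = 0 →
      ∃ t ∉ (hU₀.primeIdealOf ⟨x, hxU₀⟩).asIdeal, t * b = 0 := by
    intro b hb
    have h1 : h * algebraMap Γ(X, U₀) (X.presheaf.stalk x) b = 0 := by
      rw [← halg, ← map_mul, hb, map_zero]
    have h2 : algebraMap Γ(X, U₀) (X.presheaf.stalk x) b = 0 := by
      apply hinjx
      rw [map_zero]
      exact h1
    obtain ⟨⟨t, ht⟩, htb⟩ := (IsLocalization.map_eq_zero_iff
      (hU₀.primeIdealOf ⟨x, hxU₀⟩).asIdeal.primeCompl (X.presheaf.stalk x) b).mp h2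
    exact ⟨t, ht, htb⟩
  have hker : ∀ b : Γ(X, U₀), Submodule.mkQ (Ideal.span {h₀}) b = 0 ↔ ∃ c, h₀ * c = b := by
    intro b
    rw [Submodule.mkQ_apply, Submodule.Quotient.mk_eq_zero, Ideal.mem_span_singleton']
    exact ⟨fun ⟨c, hc⟩ => ⟨c, by rw [mul_comm]; exact hc⟩,
      fun ⟨c, hc⟩ => ⟨c, by rw [mul_comm]; exact hc⟩⟩
  -- Step 4: spreading out
  obtain ⟨g, hgq, hkill, hflg⟩ := exists_away (A := Γ(S, V)) h₀
    (hU₀.primeIdealOf ⟨x, hxU₀⟩).asIdeal (Submodule.mkQ (Ideal.span {h₀}))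
    (Submodule.mkQ_surjective _) hker hinjq hflq
  -- Step 5: the basic open
  have hxg : x ∈ X.basicOpen g :=
    (Groth.Agent.H8.mem_basicOpen_iff_notMem_primeIdealOf hU₀ x hxU₀ g).mpr hgq
  have hU : IsAffineOpen (X.basicOpen g) := hU₀.basicOpen g
  haveI : IsLocalization.Away g Γ(X, X.basicOpen g) := hU₀.isLocalization_basicOpen g
  have hUV : X.basicOpen g ≤ f ⁻¹ᵁ V := (X.basicOpen_le g).trans hU₀V
  letI : Algebra Γ(S, V) Γ(X, X.basicOpen g) := (f.appLE V (X.basicOpen g) hUV).hom.toAlgebra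
  haveI : IsScalarTower Γ(S, V) Γ(X, U₀) Γ(X, X.basicOpen g) := .of_algebraMap_eq fun a => by
    change (f.appLE V (X.basicOpen g) hUV).hom a =
      (X.presheaf.map (homOfLE (X.basicOpen_le g)).op).hom ((f.appLE V U₀ hU₀V).hom a)
    rw [← Scheme.Hom.appLE_map f hU₀V (homOfLE (X.basicOpen_le g)).op]
    rfl
  have hflfin : Module.Flat Γ(S, V) (Γ(X, X.basicOpen g) ⧸
      Ideal.span {algebraMap Γ(X, U₀) Γ(X, X.basicOpen g) h₀}) :=
    flat_quot_away (A := Γ(S, V)) g h₀ hflg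
  refine ⟨X.basicOpen g, hU, hxg, algebraMap Γ(X, U₀) Γ(X, X.basicOpen g) h₀, ?_, ?_, ?_, ?_⟩
  · change X.presheaf.germ (X.basicOpen g) x hxg
      (X.presheaf.map (homOfLE (X.basicOpen_le g)).op h₀) = h
    rw [TopCat.Presheaf.germ_res_apply]
    exact hh₀
  · exact mem_nonZeroDivisors_away g h₀ hkill
  · have hcomp : Spec.map (CommRingCat.ofHom (Ideal.Quotient.mk
          (Ideal.span {algebraMap Γ(X, U₀) Γ(X, X.basicOpen g) h₀}))) ≫ hU.fromSpec ≫ f =
        Spec.map (f.appLE V (X.basicOpen g) hUV ≫ CommRingCat.ofHom (Ideal.Quotient.mk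
          (Ideal.span {algebraMap Γ(X, U₀) Γ(X, X.basicOpen g) h₀}))) ≫ hV.fromSpec := by
      rw [Spec.map_comp, Category.assoc, IsAffineOpen.SpecMap_appLE_fromSpec f hV hU hUV]
    rw [hcomp]
    haveI : Flat (Spec.map (f.appLE V (X.basicOpen g) hUV ≫ CommRingCat.ofHom
        (Ideal.Quotient.mk (Ideal.span {algebraMap Γ(X, U₀) Γ(X, X.basicOpen g) h₀})))) := by
      rw [Flat.SpecMap_iff]
      have halgeq : (f.appLE V (X.basicOpen g) hUV ≫ CommRingCat.ofHom (Ideal.Quotient.mk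
          (Ideal.span {algebraMap Γ(X, U₀) Γ(X, X.basicOpen g) h₀}))).hom.toAlgebra =
          (inferInstance : Algebra Γ(S, V) (Γ(X, X.basicOpen g) ⧸
            Ideal.span {algebraMap Γ(X, U₀) Γ(X, X.basicOpen g) h₀})) :=
        Algebra.algebra_ext _ _ (fun a => rfl)
      change @Module.Flat _ _ _ _ (@Algebra.toModule _ _ _ _ (f.appLE V (X.basicOpen g) hUV ≫
        CommRingCat.ofHom (Ideal.Quotient.mk
          (Ideal.span {algebraMap Γ(X, U₀) Γ(X, X.basicOpen g) h₀}))).hom.toAlgebra)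
      rw [halgeq]
      exact hflfin
    infer_instance
  · haveI : LocallyOfFinitePresentation (Spec.map (CommRingCat.ofHom (Ideal.Quotient.mk
        (Ideal.span {algebraMap Γ(X, U₀) Γ(X, X.basicOpen g) h₀})))) := by
      rw [HasRingHomProperty.Spec_iff (P := @LocallyOfFinitePresentation)]
      refine RingHom.FinitePresentation.of_surjective _ Ideal.Quotient.mk_surjective ?_
      change (RingHom.ker (Ideal.Quotient.mk
        (Ideal.span {algebraMap Γ(X, U₀) Γ(X, X.basicOpen g) h₀}))).FG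
      rw [Ideal.mk_ker]
      exact ⟨{algebraMap Γ(X, U₀) Γ(X, X.basicOpen g) h₀}, by simp⟩
    infer_instance

end Groth.Agent.H49.Slice
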