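import Mathlib

/-!
# Points with values in an algebraically closed field lift along integral surjective morphisms
-/

set_option autoImplicit false
universe u
open CategoryTheory CategoryTheory.Limits AlgebraicGeometry

namespace Groth.Agent.H49.AlgClosedLift

/-- affine case: a nonempty affine scheme integral over an algebraically closed field has a
rational point -/
theorem exists_section {X' : Scheme.{u}} [IsAffine X'] (k : Type u) [Field k] [IsAlgClosed k]
    (p : X' ⟶ Spec (CommRingCat.of k)) [IsIntegralHom p] (x₀ : X') :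
    ∃ x' : Spec (CommRingCat.of k) ⟶ X', x' ≫ p = 𝟙 _ := by
  let φ : CommRingCat.of k ⟶ Γ(X', ⊤) := (Scheme.ΓSpecIso (CommRingCat.of k)).inv ≫ p.appTop
  have hp : p = X'.isoSpec.hom ≫ Spec.map φ := by
    have h1 := Scheme.toSpecΓ_naturality p
    rw [show (Spec (CommRingCat.of k)).toSpecΓ = Spec.map (Scheme.ΓSpecIso _).hom from
      Scheme.isoSpec_Spec_hom _] at h1
    show p = X'.toSpecΓ ≫ Spec.map ((Scheme.ΓSpecIso (CommRingCat.of k)).inv ≫ p.appTop)
    rw [Spec.map_comp, ← Category.assoc, ← h1, Category.assoc, ← Spec.map_comp, Iso.inv_hom_id,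
      Spec.map_id, Category.comp_id]
  have hφ : φ.hom.IsIntegral := by
    rw [← IsIntegralHom.SpecMap_iff]
    have : Spec.map φ = X'.isoSpec.inv ≫ p := by rw [hp, Iso.inv_hom_id_assoc]
    rw [this]
    infer_instance
  letI := φ.hom.toAlgebra
  haveI : Algebra.IsIntegral k Γ(X', ⊤) := ⟨hφ⟩
  let 𝔭 : Ideal Γ(X', ⊤) := (X'.isoSpec.hom x₀).asIdeal
  haveI : 𝔭.IsPrime := (X'.isoSpec.hom x₀).isPrime
  haveI : Algebra.IsIntegral k (Γ(X', ⊤) ⧸ 𝔭) :=
    Algebra.IsIntegral.of_surjective (Ideal.Quotient.mkₐ k 𝔭) Ideal.Quotient.mk_surjective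
  have hbij : Function.Bijective (algebraMap k (Γ(X', ⊤) ⧸ 𝔭)) :=
    IsAlgClosed.algebraMap_bijective_of_isIntegral
  let E := RingEquiv.ofBijective (algebraMap k (Γ(X', ⊤) ⧸ 𝔭)) hbij
  let ψ : Γ(X', ⊤) →+* k := E.symm.toRingHom.comp (Ideal.Quotient.mk 𝔭)
  have hψφ : φ ≫ CommRingCat.ofHom ψ = 𝟙 _ := by
    apply CommRingCat.hom_ext
    apply RingHom.ext
    intro c
    show E.symm (Ideal.Quotient.mk 𝔭 (algebraMap k Γ(X', ⊤) c)) = c
    rw [E.symm_apply_eq]
    rfl
  refine ⟨Spec.map (CommRingCat.ofHom ψ) ≫ X'.isoSpec.inv, ?_⟩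
  rw [hp, Category.assoc, Iso.inv_hom_id_assoc, ← Spec.map_comp, hψφ, Spec.map_id]

/-- points with values in an algebraically closed field lift along integral surjective morphisms -/
theorem exists_lift {X Y : Scheme.{u}} (f : X ⟶ Y) [IsIntegralHom f] [Surjective f]
    (k : Type u) [Field k] [IsAlgClosed k] (y : Spec (CommRingCat.of k) ⟶ Y) :
    ∃ x : Spec (CommRingCat.of k) ⟶ X, x ≫ f = y := by
  haveI : IsAffine (pullback f y) := isAffine_of_isAffineHom (pullback.snd f y)
  obtain ⟨x₀, -⟩ := (pullback.snd f y).surjective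
    (⟨⊥, Ideal.isPrime_bot⟩ : PrimeSpectrum k)
  obtain ⟨x', hx'⟩ := exists_section k (pullback.snd f y) x₀
  refine ⟨x' ≫ pullback.fst f y, ?_⟩
  rw [Category.assoc, pullback.condition, ← Category.assoc, hx', Category.id_comp]

end Groth.Agent.H49.AlgClosedLift
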