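import Mathlib
import Groth.Prelude.Def_Magnet4
import Groth.Agent.H69.DirColim

/-! Ring level: `ℤ[⨆ N i] = colim ℤ[N i]` for a directed family of submonoids. -/

set_option autoImplicit false
universe u
open CategoryTheory Limits

namespace Groth.Agent.H49.AttrColim

variable {M : Type} [AddCommMonoid M] {J : Type} [Preorder J] (N : J → AddSubmonoid M)

/-- the algebras -/
abbrev C (j : ULift.{u} J) : Type u :=
  MonoidAlgebra (ULift.{u} ℤ) (Multiplicative ↥(N j.down))

/-- the colimit algebra -/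
abbrev B : Type u := MonoidAlgebra (ULift.{u} ℤ) (Multiplicative ↥(⨆ i, N i))

variable {N} (hN : Monotone N)

/-- transition maps -/
noncomputable def tr {i j : ULift.{u} J} (h : i ≤ j) : C.{u} N i →ₐ[ULift.{u} ℤ] C.{u} N j :=
  (MonoidAlgebra.mapDomainBialgHom (ULift.{u} ℤ)
    (AddMonoidHom.toMultiplicative (AddSubmonoid.inclusion (hN h)))).toAlgHom

variable (N) in
/-- maps to the colimit -/
noncomputable def toB (j : ULift.{u} J) : C.{u} N j →ₐ[ULift.{u} ℤ] B.{u} N :=
  (MonoidAlgebra.mapDomainBialgHom (ULift.{u} ℤ)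
    (AddMonoidHom.toMultiplicative (AddSubmonoid.inclusion (le_iSup N j.down)))).toAlgHom

lemma tr_single {i j : ULift.{u} J} (h : i ≤ j) (n : Multiplicative ↥(N i.down)) (r : ULift.{u} ℤ) :
    tr hN h (MonoidAlgebra.single n r) =
      MonoidAlgebra.single (AddMonoidHom.toMultiplicative (AddSubmonoid.inclusion (hN h)) n) r :=
  MonoidAlgebra.mapDomainBialgHom_single _ _ _

lemma toB_single (j : ULift.{u} J) (n : Multiplicative ↥(N j.down)) (r : ULift.{u} ℤ) :
    toB N j (MonoidAlgebra.single n r) =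
      MonoidAlgebra.single
        (AddMonoidHom.toMultiplicative (AddSubmonoid.inclusion (le_iSup N j.down)) n) r :=
  MonoidAlgebra.mapDomainBialgHom_single _ _ _

lemma tr_refl (i : ULift.{u} J) (x : C.{u} N i) : tr hN (le_refl i) x = x := by
  have : tr hN (le_refl i) = AlgHom.id _ _ := by
    refine MonoidAlgebra.algHom_ext ?_ (Subsingleton.elim _ _)
    intro n
    rw [tr_single]
    rfl
  rw [this]
  rfl

lemma tr_trans {i j k : ULift.{u} J} (h1 : i ≤ j) (h2 : j ≤ k) (x : C.{u} N i) :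
    tr hN h2 (tr hN h1 x) = tr hN (h1.trans h2) x := by
  have : (tr hN h2).comp (tr hN h1) = tr hN (h1.trans h2) := by
    refine MonoidAlgebra.algHom_ext ?_ (Subsingleton.elim _ _)
    intro n
    rw [AlgHom.comp_apply, tr_single, tr_single, tr_single]
    rfl
  rw [← this]
  rfl

lemma toB_tr {i j : ULift.{u} J} (h : i ≤ j) (x : C.{u} N i) :
    toB N j (tr hN h x) = toB N i x := by
  have : (toB N j).comp (tr hN h) = toB N i := by
    refine MonoidAlgebra.algHom_ext ?_ (Subsingleton.elim _ _)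
    intro n
    rw [AlgHom.comp_apply, tr_single, toB_single, toB_single]
    rfl
  rw [← this]
  rfl

lemma toB_injective (j : ULift.{u} J) : Function.Injective (toB.{u} N j) := by
  intro x y hxy
  have hinj : Function.Injective
      (AddMonoidHom.toMultiplicative (AddSubmonoid.inclusion (le_iSup N j.down))) := by
    intro a b hab
    exact AddSubmonoid.inclusion_injective (le_iSup N j.down) hab
  exact MonoidAlgebra.mapDomain_injective (R := ULift.{u} ℤ) hinj hxy

instance isDirected_ulift [IsDirected J (· ≤ ·)] : IsDirected (ULift.{u} J) (· ≤ ·) :=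
  ⟨fun a b => by
    obtain ⟨c, h1, h2⟩ := exists_ge_ge a.down b.down
    exact ⟨⟨c⟩, h1, h2⟩⟩

include hN in
lemma toB_surj [IsDirected J (· ≤ ·)] [Nonempty J] (b : B.{u} N) :
    ∃ (j : ULift.{u} J) (x : C.{u} N j), toB N j x = b := by
  induction b using MonoidAlgebra.induction_on with
  | of n =>
    obtain ⟨n', hn'⟩ : ∃ n' : ↥(⨆ i, N i), n = Multiplicative.ofAdd n' := ⟨n.toAdd, rfl⟩
    obtain ⟨i, hi⟩ := (AddSubmonoid.mem_iSup_of_directed hN.directed_le).mp n'.2
    refine ⟨⟨i⟩, MonoidAlgebra.of _ _ (Multiplicative.ofAdd ⟨n'.1, hi⟩), ?_⟩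
    rw [MonoidAlgebra.of_apply, toB_single, hn']
    rfl
  | add b₁ b₂ h₁ h₂ =>
    obtain ⟨j₁, x₁, rfl⟩ := h₁
    obtain ⟨j₂, x₂, rfl⟩ := h₂
    obtain ⟨k, hk₁, hk₂⟩ := exists_ge_ge j₁ j₂
    refine ⟨k, tr hN hk₁ x₁ + tr hN hk₂ x₂, ?_⟩
    rw [map_add, toB_tr, toB_tr]
  | smul r b h =>
    obtain ⟨j, x, rfl⟩ := h
    exact ⟨j, r • x, map_smul _ _ _⟩

end Groth.Agent.H49.AttrColim
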