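import Groth.Agent.H49.AttrColim1

/-! `A(⨆ N i)_S = lim A(N i)_S` in `Over S`. -/

set_option autoImplicit false
universe u
open CategoryTheory Limits AlgebraicGeometry Opposite Magnet

namespace Groth.Agent.H49.AttrColim

variable {M : Type} [AddCommMonoid M] {J : Type} [Preorder J] {N : J → AddSubmonoid M}
  (hN : Monotone N)

lemma down_le {i j : (ULift.{u} J)ᵒᵖ} (f : i ⟶ j) : j.unop.down ≤ i.unop.down :=
  (leOfHom f.unop : j.unop ≤ i.unop)

/-- the ring diagram in `Under ℤ` -/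
noncomputable abbrev ringF : ULift.{u} J ⥤ Under (CommRingCat.of (ULift.{u} ℤ)) :=
  Groth.Agent.H69.dirF (C.{u} N) (fun {_ _} h => tr hN h) (tr_refl hN)
    (fun {_ _ _} h1 h2 x => tr_trans hN h1 h2 x)

/-- the ring cocone -/
noncomputable abbrev ringCocone : Cocone (ringF.{u} hN) :=
  Groth.Agent.H69.dirCocone (C.{u} N) (fun {_ _} h => tr hN h) (tr_refl hN)
    (fun {_ _ _} h1 h2 x => tr_trans hN h1 h2 x) (toB N) (fun {_ _} h x => toB_tr hN h x)

lemma ringCocone_isColimit [IsDirected J (· ≤ ·)] [Nonempty J] :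
    Nonempty (IsColimit (ringCocone.{u} hN)) := by
  refine Groth.Agent.H69.dir_isColimit _ _ _ _ _ _ (toB_surj hN) ?_
  intro j x hx
  refine ⟨j, le_rfl, ?_⟩
  have : x = 0 := toB_injective j (by rw [hx, map_zero])
  rw [this, map_zero]

/-- `Spec` on `(Under R)ᵒᵖ` -/
noncomputable abbrev specU (R : CommRingCat.{u}) : (Under R)ᵒᵖ ⥤ Over (Spec R) :=
  (Over.opEquivOpUnder R).inverse ⋙ Over.post Scheme.Spec

instance (R : CommRingCat.{u}) : PreservesLimitsOfSize.{u, u} (specU R) :=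
  inferInstanceAs <| PreservesLimitsOfSize.{u, u} <|
    (Over.opEquivOpUnder R).inverse ⋙ Over.post Scheme.Spec

/-- the diagram `i ↦ A(N i)_ℤ` -/
noncomputable abbrev D₀ : (ULift.{u} J)ᵒᵖ ⥤ Over (Spec (CommRingCat.of (ULift.{u} ℤ))) :=
  (ringF.{u} hN).op ⋙ specU _

/-- its cone -/
noncomputable abbrev c₀ : Cone (D₀.{u} hN) := (specU _).mapCone (ringCocone.{u} hN).op

lemma c₀_isLimit [IsDirected J (· ≤ ·)] [Nonempty J] : Nonempty (IsLimit (c₀.{u} hN)) := by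
  obtain ⟨h⟩ := ringCocone_isColimit.{u} hN
  exact ⟨isLimitOfPreserves (specU _) h.op⟩

lemma D₀_obj (i : (ULift.{u} J)ᵒᵖ) : (D₀.{u} hN).obj i = AMon (ULift.{u} ℤ) ↥(N i.unop.down) := rfl

lemma c₀_pt : (c₀.{u} hN).pt = AMon (ULift.{u} ℤ) ↥(⨆ i, N i) := rfl

lemma D₀_map {i j : (ULift.{u} J)ᵒᵖ} (f : i ⟶ j) :
    (D₀.{u} hN).map f =
      AMon.map (ULift.{u} ℤ) (AddSubmonoid.inclusion (hN (down_le f))) := by
  ext : 1
  rw [AMon.map_left]
  rfl

lemma c₀_π (i : (ULift.{u} J)ᵒᵖ) :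
    (c₀.{u} hN).π.app i =
      AMon.map (ULift.{u} ℤ) (AddSubmonoid.inclusion (le_iSup N i.unop.down)) := by
  ext : 1
  rw [AMon.map_left]
  rfl

variable (S : Scheme.{u})

/-- the diagram `i ↦ A(N i)_S` -/
noncomputable abbrev D₁ : (ULift.{u} J)ᵒᵖ ⥤ Over S :=
  D₀.{u} hN ⋙ Over.pullback (Limits.IsTerminal.from specULiftZIsTerminal S)

/-- its cone -/
noncomputable abbrev c₁ : Cone (D₁.{u} hN S) :=
  (Over.pullback (Limits.IsTerminal.from specULiftZIsTerminal S)).mapCone (c₀.{u} hN)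

lemma c₁_isLimit [IsDirected J (· ≤ ·)] [Nonempty J] : Nonempty (IsLimit (c₁.{u} hN S)) := by
  obtain ⟨h⟩ := c₀_isLimit.{u} hN
  haveI : PreservesLimitsOfSize.{u, u}
      (Over.pullback (Limits.IsTerminal.from specULiftZIsTerminal S)) :=
    (Over.mapPullbackAdj _).rightAdjoint_preservesLimits
  exact ⟨isLimitOfPreserves _ h⟩

lemma D₁_obj (i : (ULift.{u} J)ᵒᵖ) : (D₁.{u} hN S).obj i = AMonS S ↥(N i.unop.down) := rfl

lemma c₁_pt : (c₁.{u} hN S).pt = AMonS S ↥(⨆ i, N i) := rfl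

lemma D₁_map {i j : (ULift.{u} J)ᵒᵖ} (f : i ⟶ j) :
    (D₁.{u} hN S).map f = AMonS.map S (AddSubmonoid.inclusion (hN (down_le f))) := by
  show (Over.pullback _).map ((D₀.{u} hN).map f) = _
  rw [D₀_map]
  rfl

lemma c₁_π (i : (ULift.{u} J)ᵒᵖ) :
    (c₁.{u} hN S).π.app i = AMonS.map S (AddSubmonoid.inclusion (le_iSup N i.unop.down)) := by
  show (Over.pullback _).map ((c₀.{u} hN).π.app i) = _
  rw [c₀_π]
  rfl

end Groth.Agent.H49.AttrColim
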