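import Mathlib

/-! In a cartesian monoidal category, `Z ↦ W ⊗ (Z ⊗ Y)` preserves connected limits. -/

set_option autoImplicit false
universe v₁ u₁ v₂ u₂
open CategoryTheory Limits MonoidalCategory CartesianMonoidalCategory

namespace Groth.Agent.H49.AttrColim

variable {𝒞 : Type u₁} [Category.{v₁} 𝒞] [CartesianMonoidalCategory 𝒞]
  {I : Type u₂} [Category.{v₂} I]

/-- the functor `Z ↦ W ⊗ (Z ⊗ Y)` -/
abbrev triple (W Y : 𝒞) : 𝒞 ⥤ 𝒞 := tensorRight Y ⋙ tensorLeft W

lemma triple_map (W Y : 𝒞) {Z Z' : 𝒞} (f : Z ⟶ Z') : (triple W Y).map f = W ◁ (f ▷ Y) := rfl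

section
variable (W Y : 𝒞) {D : I ⥤ 𝒞} (s : Cone (D ⋙ triple W Y))

/-- legs with clean types -/
def leg (i : I) : s.pt ⟶ W ⊗ (D.obj i ⊗ Y) := s.π.app i

lemma leg_w {i j : I} (f : i ⟶ j) : leg W Y s i ≫ W ◁ (D.map f ▷ Y) = leg W Y s j := s.w f

/-- legs of a cone with clean types -/
def cleg (c : Cone D) (i : I) : c.pt ⟶ D.obj i := c.π.app i

lemma cleg_w (c : Cone D) {i j : I} (f : i ⟶ j) : cleg c i ≫ D.map f = cleg c j := c.w f

variable [IsConnected I]

lemma leg_fst_eq (i j : I) : leg W Y s i ≫ fst _ _ = leg W Y s j ≫ fst _ _ := by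
  refine constant_of_preserves_morphisms (fun i => leg W Y s i ≫ fst W (D.obj i ⊗ Y)) ?_ i j
  intro j₁ j₂ f
  show leg W Y s j₁ ≫ fst _ _ = leg W Y s j₂ ≫ fst _ _
  rw [← leg_w W Y s f, Category.assoc, whiskerLeft_fst]

lemma leg_snd_snd_eq (i j : I) :
    leg W Y s i ≫ snd _ _ ≫ snd _ _ = leg W Y s j ≫ snd _ _ ≫ snd _ _ := by
  refine constant_of_preserves_morphisms
    (fun i => leg W Y s i ≫ snd W (D.obj i ⊗ Y) ≫ snd (D.obj i) Y) ?_ i j
  intro j₁ j₂ f
  show leg W Y s j₁ ≫ snd _ _ ≫ snd _ _ = leg W Y s j₂ ≫ snd _ _ ≫ snd _ _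
  rw [← leg_w W Y s f, Category.assoc, whiskerLeft_snd_assoc, whiskerRight_snd]

omit [IsConnected I] in
lemma leg_mid_w {i j : I} (f : i ⟶ j) :
    (leg W Y s i ≫ snd _ _ ≫ fst _ _) ≫ D.map f = leg W Y s j ≫ snd _ _ ≫ fst _ _ := by
  rw [← leg_w W Y s f, Category.assoc, Category.assoc, Category.assoc, whiskerLeft_snd_assoc,
    whiskerRight_fst]

/-- the middle cone -/
def midCone : Cone D where
  pt := s.pt
  π :=
    { app := fun i => leg W Y s i ≫ snd _ _ ≫ fst _ _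
      naturality := fun i j f => by
        rw [Functor.const_obj_map]
        exact (Category.id_comp _).trans (leg_mid_w W Y s f).symm }

omit [IsConnected I] in
lemma midCone_π (i : I) : (midCone W Y s).π.app i = leg W Y s i ≫ snd _ _ ≫ fst _ _ := rfl

end

variable [IsConnected I]

/-- the lift -/
noncomputable def tlift (W Y : 𝒞) {D : I ⥤ 𝒞} {c : Cone D} (hc : IsLimit c)
    (s : Cone (D ⋙ triple W Y)) : s.pt ⟶ W ⊗ (c.pt ⊗ Y) :=
  lift (leg W Y s (Classical.arbitrary I) ≫ fst _ _)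
    (lift (hc.lift (midCone W Y s)) (leg W Y s (Classical.arbitrary I) ≫ snd _ _ ≫ snd _ _))

lemma tlift_fac (W Y : 𝒞) {D : I ⥤ 𝒞} {c : Cone D} (hc : IsLimit c)
    (s : Cone (D ⋙ triple W Y)) (i : I) :
    tlift W Y hc s ≫ W ◁ (cleg c i ▷ Y) = leg W Y s i := by
  apply CartesianMonoidalCategory.hom_ext
  · rw [Category.assoc, whiskerLeft_fst, tlift, lift_fst]
    exact leg_fst_eq W Y s _ _
  · rw [Category.assoc, whiskerLeft_snd, tlift, lift_snd_assoc]
    apply CartesianMonoidalCategory.hom_ext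
    · rw [Category.assoc, whiskerRight_fst, lift_fst_assoc, Category.assoc]
      exact hc.fac (midCone W Y s) i
    · rw [Category.assoc, whiskerRight_snd, lift_snd, Category.assoc]
      exact leg_snd_snd_eq W Y s _ _

lemma tlift_uniq (W Y : 𝒞) {D : I ⥤ 𝒞} {c : Cone D} (hc : IsLimit c)
    (s : Cone (D ⋙ triple W Y)) (m : s.pt ⟶ W ⊗ (c.pt ⊗ Y))
    (hm : ∀ i, m ≫ W ◁ (cleg c i ▷ Y) = leg W Y s i) : m = tlift W Y hc s := by
  apply CartesianMonoidalCategory.hom_ext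
  · rw [tlift, lift_fst, ← hm, Category.assoc, whiskerLeft_fst]
  · rw [tlift, lift_snd]
    apply CartesianMonoidalCategory.hom_ext
    · rw [lift_fst, Category.assoc]
      have h : ∀ i, (m ≫ snd _ _ ≫ fst _ _) ≫ cleg c i = leg W Y s i ≫ snd _ _ ≫ fst _ _ := by
        intro i
        rw [← hm i, Category.assoc, Category.assoc, Category.assoc, whiskerLeft_snd_assoc,
          whiskerRight_fst]
      exact hc.uniq (midCone W Y s) _ h
    · rw [lift_snd, ← hm, Category.assoc, Category.assoc, whiskerLeft_snd_assoc, whiskerRight_snd]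

/-- `Z ↦ W ⊗ (Z ⊗ Y)` preserves connected limits -/
noncomputable def isLimitTriple (W Y : 𝒞) {D : I ⥤ 𝒞} {c : Cone D} (hc : IsLimit c) :
    IsLimit ((triple W Y).mapCone c) where
  lift s := tlift W Y hc s
  fac s i := tlift_fac W Y hc s i
  uniq s m hm := tlift_uniq W Y hc s m hm

end Groth.Agent.H49.AttrColim
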