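import Groth.Prelude.Def_Magnet

/-!
# Gluing equivariant morphisms along jointly epimorphic families stable under products
(helper49)
-/

set_option autoImplicit false
universe v₁ u₁
open CategoryTheory MonoidalCategory CartesianMonoidalCategory MonObj Opposite

namespace Groth.Agent.H49.EqvGlue

open Magnet Magnet.MonAct

variable {C : Type u₁} [Category.{v₁} C] [CartesianMonoidalCategory C]

/-- the swap `B ⊗ (A ⊗ T) ⟶ A ⊗ (B ⊗ T)` -/
def σ (A B T : C) : B ⊗ (A ⊗ T) ⟶ A ⊗ (B ⊗ T) :=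
  lift (snd _ _ ≫ fst _ _) (lift (fst _ _) (snd _ _ ≫ snd _ _))

lemma σ_σ (A B T : C) : σ B A T ≫ σ A B T = 𝟙 _ := by
  apply CartesianMonoidalCategory.hom_ext
  · simp [σ]
  · apply CartesianMonoidalCategory.hom_ext
    · simp [σ]
    · simp [σ]

lemma σ_natural (A T : C) {B B' : C} (ψ : B' ⟶ B) :
    (ψ ▷ (A ⊗ T)) ≫ σ A B T = σ A B' T ≫ (A ◁ (ψ ▷ T)) := by
  apply CartesianMonoidalCategory.hom_ext
  · simp [σ]
  · apply CartesianMonoidalCategory.hom_ext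
    · simp [σ]
    · simp [σ]

/-- a family `ψ₁, ψ₂` jointly epimorphic after every `- ⊗ T''` stays so after `A ⊗ (- ⊗ T)` -/
theorem whiskerLeft_ext {B₁ B₂ B : C} (ψ₁ : B₁ ⟶ B) (ψ₂ : B₂ ⟶ B)
    (hepi : ∀ (T'' Z : C) (f g : B ⊗ T'' ⟶ Z), (ψ₁ ▷ T'') ≫ f = (ψ₁ ▷ T'') ≫ g →
      (ψ₂ ▷ T'') ≫ f = (ψ₂ ▷ T'') ≫ g → f = g)
    (A T : C) {Z : C} (f g : A ⊗ (B ⊗ T) ⟶ Z)
    (h1 : (A ◁ (ψ₁ ▷ T)) ≫ f = (A ◁ (ψ₁ ▷ T)) ≫ g)
    (h2 : (A ◁ (ψ₂ ▷ T)) ≫ f = (A ◁ (ψ₂ ▷ T)) ≫ g) : f = g := by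
  have key : σ A B T ≫ f = σ A B T ≫ g := by
    apply hepi (A ⊗ T)
    · rw [← Category.assoc, σ_natural, Category.assoc, h1, ← Category.assoc, ← σ_natural,
        Category.assoc]
    · rw [← Category.assoc, σ_natural, Category.assoc, h2, ← Category.assoc, ← σ_natural,
        Category.assoc]
  have := congrArg (fun m => σ B A T ≫ m) key
  simpa [← Category.assoc, σ_σ] using this

variable {A B B' X : C} [MonObj A]

lemma isEquivariant_whiskerRight {ρ : MonAct A B} {ρ' : MonAct A B'} {ψ : B' ⟶ B}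
    (hψ : IsEquivariant ρ' ρ ψ) (T : C) :
    IsEquivariant (ρ'.prod (trivial A T)) (ρ.prod (trivial A T)) (ψ ▷ T) := by
  rw [isEquivariant_iff] at hψ ⊢
  intro T' g z
  rw [← lift_comp_fst_snd z, lift_prod_act_assoc, lift_trivial_act, lift_whiskerRight,
    lift_whiskerRight, lift_prod_act, lift_trivial_act, Category.assoc, hψ]

/-- a morphism out of `B ⊗ T` is equivariant as soon as its restrictions along a jointly
epimorphic (universally so) equivariant family are -/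
theorem isEquivariant_of_jointly_epi {B₁ B₂ : C} {ρ : MonAct A B} {ρ₁ : MonAct A B₁}
    {ρ₂ : MonAct A B₂} (a : MonAct A X) {ψ₁ : B₁ ⟶ B} {ψ₂ : B₂ ⟶ B}
    (hψ₁ : IsEquivariant ρ₁ ρ ψ₁) (hψ₂ : IsEquivariant ρ₂ ρ ψ₂)
    (hepi : ∀ (T'' Z : C) (f g : B ⊗ T'' ⟶ Z), (ψ₁ ▷ T'') ≫ f = (ψ₁ ▷ T'') ≫ g →
      (ψ₂ ▷ T'') ≫ f = (ψ₂ ▷ T'') ≫ g → f = g)
    (T : C) (φ : B ⊗ T ⟶ X)
    (h1 : IsEquivariant (ρ₁.prod (trivial A T)) a ((ψ₁ ▷ T) ≫ φ))
    (h2 : IsEquivariant (ρ₂.prod (trivial A T)) a ((ψ₂ ▷ T) ≫ φ)) :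
    IsEquivariant (ρ.prod (trivial A T)) a φ := by
  have k1 := isEquivariant_whiskerRight hψ₁ T
  have k2 := isEquivariant_whiskerRight hψ₂ T
  unfold IsEquivariant at h1 h2 k1 k2 ⊢
  apply whiskerLeft_ext ψ₁ ψ₂ hepi
  · rw [← Category.assoc, ← k1, Category.assoc, h1, MonoidalCategory.whiskerLeft_comp,
      Category.assoc]
  · rw [← Category.assoc, ← k2, Category.assoc, h2, MonoidalCategory.whiskerLeft_comp,
      Category.assoc]

end Groth.Agent.H49.EqvGlue
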