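import Groth.Agent.H49.AttrColim3
import Groth.Agent.H49.EqvGlue
import Groth.Prelude.Def_Magnet4

/-! Descending an equivariant morphism out of a cofiltered limit (generic form). -/

set_option autoImplicit false
universe u
open CategoryTheory Limits MonoidalCategory CartesianMonoidalCategory AlgebraicGeometry Magnet
open MonObj

namespace Groth.Agent.H49.AttrColim

attribute [local instance] IsCofiltered.isConnected

variable {S : Scheme.{u}} {I : Type u} [Category.{u} I] [IsCofiltered I]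

/-- the scheme-level diagram -/
noncomputable abbrev Dsch (W T : Over S) (D₁ : I ⥤ Over S) : I ⥤ Scheme.{u} :=
  D₁ ⋙ triple W T ⋙ Over.forget S

/-- the scheme-level cone -/
noncomputable abbrev csch (W T : Over S) {D₁ : I ⥤ Over S} (c₁ : Cone D₁) : Cone (Dsch W T D₁) :=
  (Over.forget S).mapCone ((triple W T).mapCone c₁)

/-- it is a limit -/
noncomputable def hcsch (W T : Over S) {D₁ : I ⥤ Over S} {c₁ : Cone D₁} (hc₁ : IsLimit c₁) :
    IsLimit (csch W T c₁) :=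
  isLimitOfPreserves (Over.forget S) (isLimitTriple W T hc₁)

/-- the structure maps -/
noncomputable def tsch (W T : Over S) (D₁ : I ⥤ Over S) :
    Dsch W T D₁ ⟶ (Functor.const I).obj S where
  app i := (W ⊗ (D₁.obj i ⊗ T)).hom
  naturality i j f := (Over.w (W ◁ (D₁.map f ▷ T))).trans (Category.comp_id _).symm

lemma Dsch_map (W T : Over S) (D₁ : I ⥤ Over S) {i j : I} (f : i ⟶ j) :
    (Dsch W T D₁).map f = (W ◁ (D₁.map f ▷ T)).left := rfl

lemma csch_π (W T : Over S) {D₁ : I ⥤ Over S} (c₁ : Cone D₁) (i : I) :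
    (csch W T c₁).π.app i = (W ◁ (c₁.π.app i ▷ T)).left := rfl

theorem exists_descend {W X T : Over S} [MonObj W] (a : MonAct W X)
    [LocallyOfFinitePresentation X.hom]
    (D₁ : I ⥤ Over S) (c₁ : Cone D₁) (hc₁ : IsLimit c₁)
    (ρ : ∀ i, MonAct W (D₁.obj i)) (ρ' : MonAct W c₁.pt)
    (hmap : ∀ {i j : I} (f : i ⟶ j), MonAct.IsEquivariant (ρ i) (ρ j) (D₁.map f))
    (hπ : ∀ i, MonAct.IsEquivariant ρ' (ρ i) (c₁.π.app i))
    (haff : ∀ i, IsAffine (W ⊗ (D₁.obj i ⊗ T)).left)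
    (φ : c₁.pt ⊗ T ⟶ X)
    (hφ : MonAct.IsEquivariant (ρ'.prod (MonAct.trivial W T)) a φ) :
    ∃ (j : I) (ψ : D₁.obj j ⊗ T ⟶ X),
      MonAct.IsEquivariant ((ρ j).prod (MonAct.trivial W T)) a ψ ∧
      (c₁.π.app j ▷ T) ≫ ψ = φ := by
  haveI : ∀ i, IsAffine ((Dsch W T D₁).obj i) := haff
  haveI : ∀ {i j : I} (f : i ⟶ j), IsAffineHom ((Dsch W T D₁).map f) := fun f => inferInstance
  haveI : ∀ i, CompactSpace ((Dsch W T D₁).obj i) := fun i => inferInstance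
  haveI : ∀ i, QuasiSeparatedSpace ((Dsch W T D₁).obj i) := fun i => inferInstance
  -- step 1: descend the morphism
  obtain ⟨i, g, hg1, hg2⟩ := Scheme.exists_π_app_comp_eq_of_locallyOfFinitePresentation
    (Dsch W T D₁) (tsch W T D₁) X.hom (csch W T c₁) (hcsch W T hc₁)
    (snd W (c₁.pt ⊗ T) ≫ φ).left (by
      ext k
      show (W ◁ (cleg c₁ k ▷ T)).left ≫ (W ⊗ (D₁.obj k ⊗ T)).hom =
        (snd W (c₁.pt ⊗ T) ≫ φ).left ≫ X.hom
      exact (Over.w (W ◁ (cleg c₁ k ▷ T))).trans (Over.w (snd W (c₁.pt ⊗ T) ≫ φ)).symm)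
  let g' : W ⊗ (D₁.obj i ⊗ T) ⟶ X := Over.homMk g hg2
  have hg' : (W ◁ (cleg c₁ i ▷ T)) ≫ g' = snd W (c₁.pt ⊗ T) ≫ φ := by
    ext : 1
    exact hg1
  let ψ₀ : D₁.obj i ⊗ T ⟶ X := lift (toUnit _ ≫ η[W]) (𝟙 _) ≫ g'
  have hψ₀ : (cleg c₁ i ▷ T) ≫ ψ₀ = φ := by
    have h1 : (cleg c₁ i ▷ T) ≫ lift (toUnit _ ≫ η[W]) (𝟙 (D₁.obj i ⊗ T)) =
        lift (toUnit _ ≫ η[W]) (𝟙 (c₁.pt ⊗ T)) ≫ (W ◁ (cleg c₁ i ▷ T)) := by
      apply CartesianMonoidalCategory.hom_ext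
      · rw [Category.assoc, lift_fst, Category.assoc, whiskerLeft_fst, lift_fst,
          ← Category.assoc]
        congr 1
        exact toUnit_unique _ _
      · rw [Category.assoc, lift_snd, Category.assoc, whiskerLeft_snd, lift_snd_assoc,
          Category.comp_id, Category.id_comp]
    show (cleg c₁ i ▷ T) ≫ lift (toUnit _ ≫ η[W]) (𝟙 _) ≫ g' = φ
    rw [← Category.assoc, h1, Category.assoc, hg', lift_snd_assoc, Category.id_comp]
  -- step 2: equivariance after refinement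
  have hwπ : ((ρ'.prod (MonAct.trivial W T)).act) ≫ (cleg c₁ i ▷ T) =
      (W ◁ (cleg c₁ i ▷ T)) ≫ ((ρ i).prod (MonAct.trivial W T)).act :=
    EqvGlue.isEquivariant_whiskerRight (hπ i) T
  obtain ⟨k, f, hk⟩ := Scheme.exists_hom_comp_eq_comp_of_locallyOfFiniteType
    (Dsch W T D₁) (tsch W T D₁) X.hom (csch W T c₁) (hcsch W T hc₁)
    (((ρ i).prod (MonAct.trivial W T)).act ≫ ψ₀).left ((W ◁ ψ₀) ≫ a.act).left
    (Over.w _).symm (Over.w _).symm (by
      show (W ◁ (cleg c₁ i ▷ T)).left ≫ (((ρ i).prod (MonAct.trivial W T)).act ≫ ψ₀).left =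
        (W ◁ (cleg c₁ i ▷ T)).left ≫ ((W ◁ ψ₀) ≫ a.act).left
      rw [← Over.comp_left, ← Over.comp_left]
      congr 1
      rw [← Category.assoc, ← hwπ, Category.assoc, hψ₀, ← Category.assoc,
        ← MonoidalCategory.whiskerLeft_comp, hψ₀]
      exact hφ)
  have hwf : ((ρ k).prod (MonAct.trivial W T)).act ≫ (D₁.map f ▷ T) =
      (W ◁ (D₁.map f ▷ T)) ≫ ((ρ i).prod (MonAct.trivial W T)).act :=
    EqvGlue.isEquivariant_whiskerRight (hmap f) T
  refine ⟨k, (D₁.map f ▷ T) ≫ ψ₀, ?_, ?_⟩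
  · show ((ρ k).prod (MonAct.trivial W T)).act ≫ (D₁.map f ▷ T) ≫ ψ₀ =
      (W ◁ ((D₁.map f ▷ T) ≫ ψ₀)) ≫ a.act
    rw [← Category.assoc, hwf, Category.assoc, MonoidalCategory.whiskerLeft_comp, Category.assoc]
    ext : 1
    exact hk
  · show (cleg c₁ k ▷ T) ≫ (D₁.map f ▷ T) ≫ ψ₀ = φ
    rw [← Category.assoc, ← comp_whiskerRight, cleg_w c₁ f, hψ₀]

end Groth.Agent.H49.AttrColim
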