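import Groth.Agent.H49.AttrColim2
import Groth.Agent.H49.AttrColim4
import Groth.Agent.H91.MagnetDense2

/-! Attractors commute with directed unions of magnets on affine test schemes. -/

set_option autoImplicit false
universe u
open CategoryTheory Limits MonoidalCategory CartesianMonoidalCategory AlgebraicGeometry Magnet
open MonObj Opposite

namespace Groth.Agent.H49.AttrColim

lemma isAffine_triple (S : Scheme.{u}) (M : Type) [AddCommMonoid M] (L : AddSubmonoid M)
    (T : Over S) [IsAffine T.left] : IsAffine (AMonS S M ⊗ (AMonS S ↥L ⊗ T)).left := by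
  haveI h1 : IsAffineHom (pullback.snd (AMonS S ↥L).hom T.hom) :=
    MorphismProperty.pullback_snd _ _ (Groth.Agent.H91.MagnetDense.isAffineHom_hom S ↥L)
  haveI h2 : IsAffine (AMonS S ↥L ⊗ T).left :=
    show IsAffine (pullback (AMonS S ↥L).hom T.hom) from
      isAffine_of_isAffineHom (pullback.snd (AMonS S ↥L).hom T.hom)
  haveI h3 : IsAffineHom (pullback.snd (AMonS S M).hom (AMonS S ↥L ⊗ T).hom) :=
    MorphismProperty.pullback_snd _ _ (Groth.Agent.H91.MagnetDense.isAffineHom_hom S M)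
  show IsAffine (pullback (AMonS S M).hom (AMonS S ↥L ⊗ T).hom)
  exact isAffine_of_isAffineHom (pullback.snd (AMonS S M).hom (AMonS S ↥L ⊗ T).hom)

lemma eqv_incl (S : Scheme.{u}) (M : Type) [AddCommMonoid M] {L L' : AddSubmonoid M}
    (h : L ≤ L') :
    MonAct.IsEquivariant (subAct S M L') (subAct S M L)
      (AMonS.map S (AddSubmonoid.inclusion h)) :=
  MonAct.isEquivariant_restrict_regular _ _ _ (by rw [← AMonS.map_comp]; rfl)

theorem main (S : Scheme.{u}) (M : Type) [AddCommMonoid M]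
    (X : Over S) [LocallyOfFinitePresentation X.hom]
    (a : Magnet.MonAct (Magnet.AMonS S M) X) {J : Type} [Preorder J] [IsDirected J (· ≤ ·)]
    [Nonempty J]
    (N : J → AddSubmonoid M) (hN : Monotone N) (T : Over S) [IsAffine T.left]
    (φ : (Magnet.attr a (⨆ i, N i)).obj (op T)) :
    ∃ (i : J) (ψ : (Magnet.attr a (N i)).obj (op T)),
      (Magnet.attrMap a (le_iSup N i)).app (op T) ψ = φ := by
  obtain ⟨hc₁⟩ := c₁_isLimit.{u} hN S
  obtain ⟨j, ψ, hψ, hψφ⟩ := exists_descend a (D₁.{u} hN S) (c₁.{u} hN S) hc₁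
    (fun i => subAct S M (N i.unop.down)) (subAct S M (⨆ i, N i))
    (fun {i j} f => by
      rw [D₁_map]
      exact eqv_incl S M _)
    (fun i => by
      rw [c₁_π]
      exact eqv_incl S M _)
    (fun i => isAffine_triple S M (N i.unop.down) T) φ.1 φ.2
  refine ⟨j.unop.down, ⟨ψ, hψ⟩, Subtype.ext ?_⟩
  show (AMonS.map S (AddSubmonoid.inclusion (le_iSup N j.unop.down)) ▷ T) ≫ ψ = φ.1
  rw [← c₁_π.{u} hN S j]
  exact hψφ

end Groth.Agent.H49.AttrColim
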