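import Groth.Agent.H49.AttrColim3

/-! `Z ↦ W ⊗ Z` preserves connected limits; lifting a limit cone of schemes to `Over S`. -/

set_option autoImplicit false
universe v₁ u₁ v₂ u₂ u
open CategoryTheory Limits MonoidalCategory CartesianMonoidalCategory

namespace Groth.Agent.H49.AttrOpen

open Groth.Agent.H49.AttrColim (cleg cleg_w)

section WL

variable {𝒞 : Type u₁} [Category.{v₁} 𝒞] [CartesianMonoidalCategory 𝒞]
  {I : Type u₂} [Category.{v₂} I]

variable (W : 𝒞) {D : I ⥤ 𝒞} (s : Cone (D ⋙ tensorLeft W))

/-- legs with clean types -/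
def wleg (i : I) : s.pt ⟶ W ⊗ D.obj i := s.π.app i

lemma wleg_w {i j : I} (f : i ⟶ j) : wleg W s i ≫ W ◁ D.map f = wleg W s j := s.w f

variable [IsConnected I]

lemma wleg_fst_eq (i j : I) : wleg W s i ≫ fst _ _ = wleg W s j ≫ fst _ _ := by
  refine constant_of_preserves_morphisms (fun i => wleg W s i ≫ fst W (D.obj i)) ?_ i j
  intro j₁ j₂ f
  show wleg W s j₁ ≫ fst _ _ = wleg W s j₂ ≫ fst _ _
  rw [← wleg_w W s f, Category.assoc, whiskerLeft_fst]

/-- the second-component cone -/
def sndCone : Cone D where
  pt := s.pt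
  π :=
    { app := fun i => wleg W s i ≫ snd _ _
      naturality := fun i j f => by
        rw [Functor.const_obj_map]
        refine (Category.id_comp _).trans ?_
        rw [← wleg_w W s f, Category.assoc, Category.assoc, whiskerLeft_snd] }

/-- the lift -/
noncomputable def wlift {c : Cone D} (hc : IsLimit c) : s.pt ⟶ W ⊗ c.pt :=
  lift (wleg W s (Classical.arbitrary I) ≫ fst _ _) (hc.lift (sndCone W s))

lemma wlift_fac {c : Cone D} (hc : IsLimit c) (i : I) :
    wlift W s hc ≫ W ◁ cleg c i = wleg W s i := by
  apply CartesianMonoidalCategory.hom_ext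
  · rw [Category.assoc, whiskerLeft_fst, wlift, lift_fst]
    exact wleg_fst_eq W s _ _
  · rw [Category.assoc, whiskerLeft_snd, wlift, lift_snd_assoc]
    exact hc.fac (sndCone W s) i

lemma wlift_uniq {c : Cone D} (hc : IsLimit c) (m : s.pt ⟶ W ⊗ c.pt)
    (hm : ∀ i, m ≫ W ◁ cleg c i = wleg W s i) : m = wlift W s hc := by
  apply CartesianMonoidalCategory.hom_ext
  · rw [wlift, lift_fst, ← hm, Category.assoc, whiskerLeft_fst]
  · rw [wlift, lift_snd]
    have h : ∀ i, (m ≫ snd _ _) ≫ cleg c i = wleg W s i ≫ snd _ _ := by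
      intro i
      rw [← hm i, Category.assoc, Category.assoc, whiskerLeft_snd]
    exact hc.uniq (sndCone W s) _ h

/-- `Z ↦ W ⊗ Z` preserves connected limits -/
noncomputable def isLimitWhiskerLeft {c : Cone D} (hc : IsLimit c) :
    IsLimit ((tensorLeft W).mapCone c) where
  lift s := wlift W s hc
  fac s i := wlift_fac W s hc i
  uniq s m hm := wlift_uniq W s hc m hm

end WL

section OverLift

open AlgebraicGeometry

variable {S : Scheme.{u}} {I : Type u} [Category.{u} I]
  (D : I ⥤ Scheme.{u}) (τ : D ⟶ (Functor.const I).obj S)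

lemma τ_w {k k' : I} (a : k ⟶ k') : D.map a ≫ τ.app k' = τ.app k := by
  exact (τ.naturality a).trans (Category.comp_id _)

/-- the diagram over `S` -/
def DO : I ⥤ Over S where
  obj k := Over.mk (τ.app k)
  map a := Over.homMk (D.map a) (τ_w D τ a)
  map_id k := by
    apply Over.OverMorphism.ext
    exact D.map_id k
  map_comp a b := by
    apply Over.OverMorphism.ext
    exact D.map_comp a b

variable (c : Cone D) [IsConnected I]

lemma cone_const (k k' : I) : c.π.app k ≫ τ.app k = c.π.app k' ≫ τ.app k' := by
  refine constant_of_preserves_morphisms (fun k => cleg c k ≫ τ.app k) ?_ k k'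
  intro j₁ j₂ a
  show cleg c j₁ ≫ τ.app j₁ = cleg c j₂ ≫ τ.app j₂
  rw [← cleg_w c a, Category.assoc, τ_w]

variable (i₀ : I)

/-- the cone over `S` -/
def cO : Cone (DO D τ) where
  pt := Over.mk (c.π.app i₀ ≫ τ.app i₀)
  π :=
    { app := fun k => Over.homMk (cleg c k) (cone_const D τ c k i₀)
      naturality := fun k k' a => by
        apply Over.OverMorphism.ext
        show 𝟙 _ ≫ cleg c k' = cleg c k ≫ D.map a
        rw [Category.id_comp, cleg_w] }

/-- the underlying cone of a cone over `S` -/
def underCone (s : Cone (DO D τ)) : Cone D where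
  pt := s.pt.left
  π :=
    { app := fun k => (s.π.app k).left
      naturality := fun k k' a => by
        have := congrArg (fun m => m.left) (s.w a)
        rw [Functor.const_obj_map]
        exact (Category.id_comp _).trans this.symm }

/-- it is a limit -/
def hcO (hc : IsLimit c) : IsLimit (cO D τ c i₀) where
  lift s := Over.homMk (hc.lift (underCone D τ s)) (by
    show hc.lift (underCone D τ s) ≫ c.π.app i₀ ≫ τ.app i₀ = s.pt.hom
    rw [← Category.assoc, hc.fac]
    exact Over.w (s.π.app i₀))
  fac s k := by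
    apply Over.OverMorphism.ext
    exact hc.fac (underCone D τ s) k
  uniq s m hm := by
    apply Over.OverMorphism.ext
    refine hc.uniq (underCone D τ s) m.left ?_
    intro k
    exact congrArg (fun m => m.left) (hm k)

end OverLift

end Groth.Agent.H49.AttrOpen
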