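import Groth.Agent.H49.AttrOpen1

/-! An open of a stage containing the image of the limit contains the image of a later stage
(for diagrams `W ⊗ D'` in `Over S`). -/

set_option autoImplicit false
universe u
open CategoryTheory Limits MonoidalCategory CartesianMonoidalCategory AlgebraicGeometry

namespace Groth.Agent.H49.AttrOpen

attribute [local instance] IsCofiltered.isConnected

variable {S : Scheme.{u}} {I : Type u} [Category.{u} I] [IsCofiltered I]

/-- the scheme-level diagram -/
noncomputable abbrev Esch (W : Over S) (D' : I ⥤ Over S) : I ⥤ Scheme.{u} :=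
  D' ⋙ tensorLeft W ⋙ Over.forget S

/-- the scheme-level cone -/
noncomputable abbrev cEsch (W : Over S) {D' : I ⥤ Over S} (c' : Cone D') : Cone (Esch W D') :=
  (Over.forget S).mapCone ((tensorLeft W).mapCone c')

/-- it is a limit -/
noncomputable def hcEsch (W : Over S) {D' : I ⥤ Over S} {c' : Cone D'} (hc' : IsLimit c') :
    IsLimit (cEsch W c') :=
  isLimitOfPreserves (Over.forget S) (isLimitWhiskerLeft W hc')

theorem exists_stage_preimage_eq_top (W : Over S) (D' : I ⥤ Over S) (c' : Cone D')
    (hc' : IsLimit c') (haff : ∀ k, IsAffine (W ⊗ D'.obj k).left) (i₀ : I)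
    (U : (W ⊗ D'.obj i₀).left.Opens)
    (hU : (W ◁ Groth.Agent.H49.AttrColim.cleg c' i₀).left ⁻¹ᵁ U = ⊤) :
    ∃ (k : I) (a : k ⟶ i₀), (W ◁ D'.map a).left ⁻¹ᵁ U = ⊤ := by
  haveI : ∀ k, IsAffine ((Esch W D').obj k) := haff
  haveI : ∀ {k k' : I} (a : k ⟶ k'), IsAffineHom ((Esch W D').map a) := fun a => inferInstance
  haveI : ∀ k, CompactSpace ((Esch W D').obj k) := fun k => inferInstance
  exact exists_map_eq_top (Esch W D') (cEsch W c') (hcEsch W hc') (i := i₀) U hU

end Groth.Agent.H49.AttrOpen
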