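import Groth.Agent.H49.FerrandCover

/-!
# Ferrand pushouts: the main existence theorems (helper49)
-/

set_option autoImplicit false
universe u
open CategoryTheory CategoryTheory.Limits AlgebraicGeometry

namespace Groth.Agent.H49.Ferrand

variable {X Y Z : Scheme.{u}} (i : Z ⟶ X) (j : Z ⟶ Y) [IsClosedImmersion i] [IsIntegralHom j]

theorem covers_of_haff
    (haff : ∀ y : Y, ∃ U : X.Opens, IsAffineOpen U ∧ j ⁻¹' {y} ⊆ i ⁻¹' (U : Set X)) :
    Covers i j := by
  have hY : ∀ y : Y, ∃ k : Chart i j, y ∈ k.V := by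
    intro y
    obtain ⟨U, hU, hy⟩ := haff y
    have hC : IsClosed (j '' ((i ⁻¹ᵁ U : Z.Opens) : Set Z)ᶜ) :=
      j.isClosedMap _ (i ⁻¹ᵁ U).isOpen.isClosed_compl
    have hyC : y ∈ (j '' ((i ⁻¹ᵁ U : Z.Opens) : Set Z)ᶜ)ᶜ := by
      rintro ⟨z, hz, rfl⟩
      exact hz (hy rfl)
    obtain ⟨_, ⟨V₁, hV₁, rfl⟩, hyV₁, hV₁C⟩ :=
      Y.isBasis_affineOpens.exists_subset_of_mem_open hyC hC.isOpen_compl
    refine exists_chart_of_le i j U hU V₁ hV₁ ?_ y hyV₁
    intro z hz
    by_contra hzU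
    exact hV₁C hz ⟨z, hzU, rfl⟩
  refine ⟨fun x => ?_, hY⟩
  by_cases hx : x ∈ Set.range i
  · obtain ⟨z, rfl⟩ := hx
    obtain ⟨k, hk⟩ := hY (j z)
    refine ⟨k, ?_⟩
    have : z ∈ j ⁻¹ᵁ k.V := hk
    rw [← k.h] at this
    exact this
  · have hcl : IsClosed (Set.range i) := i.isClosedEmbedding.isClosed_range
    obtain ⟨_, ⟨U', hU', rfl⟩, hxU', hU'C⟩ :=
      X.isBasis_affineOpens.exists_subset_of_mem_open (show x ∈ (Set.range i)ᶜ from hx)
        hcl.isOpen_compl
    refine ⟨{ U := U', V := ⊥, hU := hU', hV := isAffineOpen_bot Y, h := ?_ }, hxU'⟩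
    ext z
    constructor
    · intro hz
      exact absurd ⟨z, rfl⟩ (hU'C hz)
    · intro hz
      exact absurd hz (fun h => h)

/-- Ferrand's pushout of a closed immersion and an integral morphism -/
theorem exists_pushout
    (haff : ∀ y : Y, ∃ U : X.Opens, IsAffineOpen U ∧ j ⁻¹' {y} ⊆ i ⁻¹' (U : Set X)) :
    ∃ (P : Scheme.{u}) (a : X ⟶ P) (b : Y ⟶ P), IsPushout i j a b ∧ IsPullback i j a b ∧
      IsIntegralHom a ∧ IsClosedImmersion b := by
  have hc := covers_of_haff i j haff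
  exact ⟨Pglue i j, aG hc, bG hc, isPushout_glue hc, isPullback_glue hc, isIntegralHom_aG hc,
    isClosedImmersion_bG hc⟩

omit [IsIntegralHom j] in
/-- the affineness hypothesis is automatic for two closed immersions -/
lemma haff_of_isClosedImmersion [IsClosedImmersion j] :
    ∀ y : Y, ∃ U : X.Opens, IsAffineOpen U ∧ j ⁻¹' {y} ⊆ i ⁻¹' (U : Set X) := by
  intro y
  by_cases hy : y ∈ Set.range j
  · obtain ⟨z, rfl⟩ := hy
    obtain ⟨_, ⟨U, hU, rfl⟩, hzU, -⟩ :=
      X.isBasis_affineOpens.exists_subset_of_mem_open (Set.mem_univ (i z)) isOpen_univ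
    refine ⟨U, hU, ?_⟩
    intro z' hz'
    have : z' = z := j.isClosedEmbedding.injective hz'
    rw [this]
    exact hzU
  · refine ⟨⊥, isAffineOpen_bot X, ?_⟩
    intro z hz
    exact absurd ⟨z, hz⟩ hy

/-- the pushout of two closed immersions -/
theorem exists_pushout_closed [IsClosedImmersion j] :
    ∃ (P : Scheme.{u}) (a : X ⟶ P) (b : Y ⟶ P), IsPushout i j a b ∧ IsPullback i j a b ∧
      IsClosedImmersion a ∧ IsClosedImmersion b := by
  have hc := covers_of_haff i j (haff_of_isClosedImmersion i j)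
  exact ⟨Pglue i j, aG hc, bG hc, isPushout_glue hc, isPullback_glue hc,
    isClosedImmersion_aG hc, isClosedImmersion_bG hc⟩

end Groth.Agent.H49.Ferrand
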