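import Groth.Agent.H49.FerrandFlat5
import Groth.Agent.H49.FerrandMain

/-!
# Pushouts of two closed immersions in `Over T` stay pushouts after `G ⊗ -` for flat `G`;
affine pushouts in `Over T` (helper49)
-/

set_option autoImplicit false
universe u
open CategoryTheory CategoryTheory.Limits AlgebraicGeometry MonoidalCategory
  CartesianMonoidalCategory

namespace Groth.Agent.H49.FlatWhisker

open Groth.Agent.H24 Groth.Agent.H49.Ferrand

lemma isPullback_whiskerLeft_left {S : Scheme.{u}} {A B : Over S} (ψ : A ⟶ B) (G : Over S) :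
    IsPullback (pullback.snd G.hom A.hom) (G ◁ ψ).left ψ.left (pullback.snd G.hom B.hom) := by
  have big : IsPullback (pullback.snd G.hom A.hom) (pullback.fst G.hom A.hom) A.hom G.hom :=
    (IsPullback.of_hasPullback G.hom A.hom).flip
  have t : IsPullback (pullback.snd G.hom B.hom) (pullback.fst G.hom B.hom) B.hom G.hom :=
    (IsPullback.of_hasPullback G.hom B.hom).flip
  have s : IsPullback (pullback.snd G.hom A.hom)
      ((G ◁ ψ).left ≫ pullback.fst G.hom B.hom) (ψ.left ≫ B.hom) G.hom := by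
    rw [Over.whiskerLeft_left_fst, Over.w ψ]
    exact big
  exact IsPullback.of_bot s (Over.whiskerLeft_left_snd ψ).symm t

/-- pushouts of two closed immersions commute with `G ⊗ -` for `G` flat over the base -/
theorem isPushout_whiskerLeft_of_flat {T : Scheme.{u}} {W X Y P : Over T} {θ₁ : W ⟶ X}
    {θ₂ : W ⟶ Y} {ν₁ : X ⟶ P} {ν₂ : Y ⟶ P} [IsClosedImmersion θ₁.left]
    [IsClosedImmersion θ₂.left] (hP : IsPushout θ₁ θ₂ ν₁ ν₂) (G : Over T) [Flat G.hom] :
    IsPushout (G ◁ θ₁) (G ◁ θ₂) (G ◁ ν₁) (G ◁ ν₂) := by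
  haveI : PreservesColimitsOfSize.{0, 0} (Over.forget T) :=
    (Over.forgetAdjStar T).leftAdjoint_preservesColimits
  have hXs : IsPushout θ₁.left θ₂.left ν₁.left ν₂.left := hP.map (Over.forget T)
  haveI : IsIntegralHom θ₂.left := inferInstance
  have hc := covers_of_haff θ₁.left θ₂.left (haff_of_isClosedImmersion θ₁.left θ₂.left)
  have e : (G ◁ θ₁) ≫ (G ◁ ν₁) = (G ◁ θ₂) ≫ (G ◁ ν₂) := by
    rw [← MonoidalCategory.whiskerLeft_comp, ← MonoidalCategory.whiskerLeft_comp, hP.w]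
  refine IsPushout.of_map (Over.forget T) e ?_
  show IsPushout (G ◁ θ₁).left (G ◁ θ₂).left (G ◁ ν₁).left (G ◁ ν₂).left
  haveI : Flat (pullback.snd G.hom P.hom) := inferInstance
  have hZ' : IsPullback (pullback.snd G.hom W.hom) ((G ◁ θ₁).left ≫ (G ◁ ν₁).left)
      (θ₁.left ≫ ν₁.left) (pullback.snd G.hom P.hom) := by
    have := isPullback_whiskerLeft_left (θ₁ ≫ ν₁) G
    rw [MonoidalCategory.whiskerLeft_comp, Over.comp_left, Over.comp_left] at this
    exact this
  exact isPushout_baseChange_of_isPushout hc hXs (pullback.snd G.hom P.hom)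
    (isPullback_whiskerLeft_left ν₁ G) (isPullback_whiskerLeft_left ν₂ G) hZ'
    (Over.whiskerLeft_left_snd θ₁) (Over.whiskerLeft_left_snd θ₂)
    (by
      have := congrArg (fun ψ : G ⊗ W ⟶ G ⊗ P => ψ.left) e
      exact this)

section affine

/-- the pushout of affine schemes along a closed immersion exists and is affine -/
theorem exists_affine_pushout {W X Y : Scheme.{u}} [IsAffine W] [IsAffine X] [IsAffine Y]
    (i : W ⟶ X) (j : W ⟶ Y) [IsClosedImmersion i] :
    ∃ (P : Scheme.{u}) (a : X ⟶ P) (b : Y ⟶ P), IsAffine P ∧ IsPushout i j a b := by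
  let B := Γ(Y, ⊤)
  let A' := Γ(X, ⊤)
  let q : B →+* Γ(W, ⊤) := j.appTop.hom
  let p : A' →+* Γ(W, ⊤) := i.appTop.hom
  have hp : Function.Surjective p := (IsClosedImmersion.isAffine_surjective_of_isAffine i).2
  let E := RingHom.eqLocus (q.comp (RingHom.fst B A')) (p.comp (RingHom.snd B A'))
  let fst : CommRingCat.of E ⟶ B :=
    CommRingCat.ofHom ((RingHom.fst B A').comp (Subring.subtype E))
  let snd : CommRingCat.of E ⟶ A' :=
    CommRingCat.ofHom ((RingHom.snd B A').comp (Subring.subtype E))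
  have hM : MilnorSq fst.hom snd.hom j.appTop.hom i.appTop.hom := by
    refine ⟨?_, hp, ?_, ?_⟩
    · intro c
      exact c.2
    · intro b a' hba
      exact ⟨⟨(b, a'), hba⟩, rfl, rfl⟩
    · intro c c' h1 h2
      exact Subtype.ext (Prod.ext h1 h2)
  have hw : snd ≫ i.appTop = fst ≫ j.appTop := by
    ext c
    exact (hM.comm c).symm
  have h0 := isPushout_Spec_of_milnorSq hM hw
  refine ⟨Spec (CommRingCat.of E), X.isoSpec.hom ≫ Spec.map snd, Y.isoSpec.hom ≫ Spec.map fst,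
    inferInstance, ?_⟩
  refine IsPushout.of_iso h0 W.isoSpec.symm X.isoSpec.symm Y.isoSpec.symm (Iso.refl _)
    ?_ ?_ ?_ ?_
  · rw [Iso.symm_hom, Iso.symm_hom, Iso.eq_inv_comp, ← Category.assoc, Iso.comp_inv_eq]
    exact (Scheme.toSpecΓ_naturality i).symm
  · rw [Iso.symm_hom, Iso.symm_hom, Iso.eq_inv_comp, ← Category.assoc, Iso.comp_inv_eq]
    exact (Scheme.toSpecΓ_naturality j).symm
  · rw [Iso.symm_hom, Iso.refl_hom, Category.comp_id, Iso.inv_hom_id_assoc]
  · rw [Iso.symm_hom, Iso.refl_hom, Category.comp_id, Iso.inv_hom_id_assoc]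

/-- the same in `Over T` -/
theorem exists_affine_pushout_over {T : Scheme.{u}} {W X Y : Over T} [IsAffine W.left]
    [IsAffine X.left] [IsAffine Y.left] (θ₁ : W ⟶ X) (θ₂ : W ⟶ Y) [IsClosedImmersion θ₁.left] :
    ∃ (P : Over T) (ν₁ : X ⟶ P) (ν₂ : Y ⟶ P), IsAffine P.left ∧ IsPushout θ₁ θ₂ ν₁ ν₂ := by
  obtain ⟨P, a, b, hPa, hP⟩ := exists_affine_pushout θ₁.left θ₂.left
  have hw : θ₁.left ≫ X.hom = θ₂.left ≫ Y.hom := by rw [Over.w θ₁, Over.w θ₂]
  let ν₁ : X ⟶ Over.mk (hP.desc X.hom Y.hom hw) := Over.homMk a (hP.inl_desc _ _ _)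
  let ν₂ : Y ⟶ Over.mk (hP.desc X.hom Y.hom hw) := Over.homMk b (hP.inr_desc _ _ _)
  have e : θ₁ ≫ ν₁ = θ₂ ≫ ν₂ := by
    apply Over.OverMorphism.ext
    exact hP.w
  refine ⟨Over.mk (hP.desc X.hom Y.hom hw), ν₁, ν₂, hPa, ?_⟩
  exact IsPushout.of_map (Over.forget T) e hP

end affine

end Groth.Agent.H49.FlatWhisker
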