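import Mathlib

/-! Infinitesimal lifting + locally of finite presentation ⇒ flat (via smooth ring maps). -/

set_option autoImplicit false
universe u
open CategoryTheory AlgebraicGeometry

namespace Groth.Agent.H49.InfLiftFlat

lemma specMap_mk_surjective {C : Type u} [CommRing C] (I : Ideal C) (hI : I ^ 2 = ⊥) :
    Function.Surjective (Spec.map (CommRingCat.ofHom (Ideal.Quotient.mk I))) := by
  intro p
  have hle : I ≤ p.asIdeal := by
    intro x hx
    have h2 : x ^ 2 ∈ I ^ 2 := Ideal.pow_mem_pow hx 2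
    rw [hI] at h2
    have h3 : x ^ 2 = 0 := h2
    exact p.isPrime.mem_of_pow_mem 2 (h3 ▸ p.asIdeal.zero_mem)
  have hmem : p ∈ Set.range (PrimeSpectrum.comap (Ideal.Quotient.mk I)) := by
    rw [range_comap_of_surjective _ _ Ideal.Quotient.mk_surjective, Ideal.mk_ker]
    exact hle
  obtain ⟨q, hq⟩ := hmem
  exact ⟨q, hq⟩

/-- infinitesimal lifting property + lfp ⇒ flat -/
theorem flat_of_lifting {Z Z' : Scheme.{u}} (j : Z ⟶ Z') [LocallyOfFinitePresentation j]
    (hlift : ∀ (C : Type u) [CommRing C] (I : Ideal C), I ^ 2 = ⊥ →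
      ∀ (x₀ : Spec (CommRingCat.of (C ⧸ I)) ⟶ Z) (y : Spec (CommRingCat.of C) ⟶ Z'),
        x₀ ≫ j = Spec.map (CommRingCat.ofHom (Ideal.Quotient.mk I)) ≫ y →
        ∃ x : Spec (CommRingCat.of C) ⟶ Z,
          Spec.map (CommRingCat.ofHom (Ideal.Quotient.mk I)) ≫ x = x₀ ∧ x ≫ j = y) :
    Flat j := by
  rw [HasRingHomProperty.iff_appLE (P := @Flat)]
  intro U V e
  have hU : IsAffineOpen U.1 := U.2
  have hV : IsAffineOpen V.1 := V.2
  set φ := j.appLE U.1 V.1 e with hφ
  have hφj : Spec.map φ ≫ hU.fromSpec = hV.fromSpec ≫ j :=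
    IsAffineOpen.SpecMap_appLE_fromSpec j hU hV e
  have hfp : φ.hom.FinitePresentation :=
    HasRingHomProperty.appLE (P := @LocallyOfFinitePresentation) j inferInstance U V e
  letI : Algebra Γ(Z', U.1) Γ(Z, V.1) := φ.hom.toAlgebra
  haveI : Algebra.FinitePresentation Γ(Z', U.1) Γ(Z, V.1) := hfp
  haveI : Algebra.FormallySmooth Γ(Z', U.1) Γ(Z, V.1) := by
    refine Algebra.FormallySmooth.of_comp_surjective ?_
    intro C _ _ I hI g₀
    let x₀ : Spec (CommRingCat.of (C ⧸ I)) ⟶ Z :=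
      Spec.map (CommRingCat.ofHom g₀.toRingHom) ≫ hV.fromSpec
    let y : Spec (CommRingCat.of C) ⟶ Z' :=
      Spec.map (CommRingCat.ofHom (algebraMap Γ(Z', U.1) C)) ≫ hU.fromSpec
    have hcomm : x₀ ≫ j = Spec.map (CommRingCat.ofHom (Ideal.Quotient.mk I)) ≫ y := by
      show (Spec.map (CommRingCat.ofHom g₀.toRingHom) ≫ hV.fromSpec) ≫ j =
        Spec.map (CommRingCat.ofHom (Ideal.Quotient.mk I)) ≫
          Spec.map (CommRingCat.ofHom (algebraMap Γ(Z', U.1) C)) ≫ hU.fromSpec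
      rw [Category.assoc, ← hφj, ← Spec.map_comp_assoc, ← Spec.map_comp_assoc]
      congr 2
      apply CommRingCat.hom_ext
      apply RingHom.ext
      intro a
      show g₀ (algebraMap _ _ a) = Ideal.Quotient.mk I (algebraMap _ _ a)
      rw [g₀.commutes]
      rfl
    obtain ⟨x, hx1, hx2⟩ := hlift C I hI x₀ y hcomm
    have hrange : Set.range x ⊆ Set.range hV.fromSpec := by
      rintro _ ⟨p, rfl⟩
      obtain ⟨p₀, rfl⟩ := specMap_mk_surjective I hI p
      rw [← Scheme.Hom.comp_apply, hx1]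
      exact ⟨_, rfl⟩
    let x' : Spec (CommRingCat.of C) ⟶ Spec Γ(Z, V.1) :=
      IsOpenImmersion.lift hV.fromSpec x hrange
    have hx' : x' ≫ hV.fromSpec = x := IsOpenImmersion.lift_fac _ _ _
    let g : Γ(Z, V.1) ⟶ CommRingCat.of C := Spec.preimage x'
    have hg : Spec.map g = x' := Spec.map_preimage x'
    have hgalg : φ ≫ g = CommRingCat.ofHom (algebraMap Γ(Z', U.1) C) := by
      apply Spec.map_injective
      rw [Spec.map_comp, hg, ← cancel_mono hU.fromSpec, Category.assoc, hφj, ← Category.assoc,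
        hx', hx2]
    have hglift : g ≫ CommRingCat.ofHom (Ideal.Quotient.mk I) =
        CommRingCat.ofHom g₀.toRingHom := by
      apply Spec.map_injective
      rw [Spec.map_comp, hg, ← cancel_mono hV.fromSpec, Category.assoc, hx', hx1]
    refine ⟨{ g.hom with commutes' := fun a => ?_ }, ?_⟩
    · exact congrArg (fun ψ : Γ(Z', U.1) ⟶ CommRingCat.of C => ψ.hom a) hgalg
    · apply AlgHom.ext
      intro b
      exact congrArg (fun ψ : Γ(Z, V.1) ⟶ CommRingCat.of (C ⧸ I) => ψ.hom b) hglift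
  haveI : Algebra.Smooth Γ(Z', U.1) Γ(Z, V.1) := {}
  show Module.Flat Γ(Z', U.1) Γ(Z, V.1)
  infer_instance

end Groth.Agent.H49.InfLiftFlat
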