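import Groth.Agent.H49.AttrOpen1
import Groth.Agent.H49.InfLiftFlat
import Groth.Agent.H49.FlatWhisker
import Groth.Agent.H24.LFPSurj
import Groth.Agent.H91.MagnetDense2
import Groth.Prelude.Def_Magnet4

/-! The attractor map of an equivariant open immersion is an open immersion. -/

set_option autoImplicit false
universe u
open CategoryTheory Limits MonoidalCategory CartesianMonoidalCategory AlgebraicGeometry Magnet
open MonObj Opposite

namespace Groth.Agent.H49.AttrOpen

attribute [local instance] IsCofiltered.isConnected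

variable {S : Scheme.{u}} {M : Type} [AddCommMonoid M] {N : AddSubmonoid M} {X Y : Over S}
  {aX : MonAct (AMonS S M) X} {aY : MonAct (AMonS S M) Y} {f : X ⟶ Y}
  (hf : MonAct.IsEquivariant aX aY f) [IsOpenImmersion f.left] {ZX ZY : Over S}
  (eX : (attr aX N).RepresentableBy ZX) (eY : (attr aY N).RepresentableBy ZY) (j : ZX ⟶ ZY)
  (hj : ∀ (T : Over S) (z : T ⟶ ZX), eY.homEquiv (z ≫ j) =
    (MonAct.eqvHom.postcomp (subAct S M N) f hf).app (op T) (eX.homEquiv z))

omit [IsOpenImmersion f.left] in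
include hj in
lemma key_fwd (T : Over S) (z : T ⟶ ZX) :
    (eY.homEquiv (z ≫ j)).1 = (eX.homEquiv z).1 ≫ f := by
  rw [hj T z]
  rfl

omit [IsOpenImmersion f.left] in
lemma natural {T T' : Over S} (t : T' ⟶ T) (zY : T ⟶ ZY) :
    (eY.homEquiv (t ≫ zY)).1 = (AMonS S ↥N ◁ t) ≫ (eY.homEquiv zY).1 := by
  rw [eY.homEquiv_comp]
  rfl

lemma mono_f (f : X ⟶ Y) [IsOpenImmersion f.left] : Mono f :=
  (Over.forget S).mono_of_mono_map (show Mono f.left from inferInstance)

include hf hj in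
lemma key_bwd (T : Over S) (zY : T ⟶ ZY)
    (h : Set.range (eY.homEquiv zY).1.left ⊆ Set.range f.left) :
    ∃ zX : T ⟶ ZX, zX ≫ j = zY := by
  haveI := mono_f f
  set ψ := (eY.homEquiv zY).1 with hψdef
  have hψ : MonAct.IsEquivariant ((subAct S M N).prod (MonAct.trivial _ T)) aY ψ :=
    (eY.homEquiv zY).2
  let φl : (AMonS S ↥N ⊗ T).left ⟶ X.left := IsOpenImmersion.lift f.left ψ.left h
  have hφl : φl ≫ f.left = ψ.left := IsOpenImmersion.lift_fac _ _ _
  let φ : AMonS S ↥N ⊗ T ⟶ X := Over.homMk φl (by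
    rw [← Over.w f, ← Category.assoc, hφl]
    exact Over.w ψ)
  have hφ : φ ≫ f = ψ := by
    apply Over.OverMorphism.ext
    exact hφl
  have hφe : MonAct.IsEquivariant ((subAct S M N).prod (MonAct.trivial _ T)) aX φ := by
    unfold MonAct.IsEquivariant at hψ hf ⊢
    rw [← cancel_mono f, Category.assoc, hφ, hψ, Category.assoc, hf, ← Category.assoc,
      ← MonoidalCategory.whiskerLeft_comp, hφ]
  refine ⟨eX.homEquiv.symm ⟨φ, hφe⟩, ?_⟩
  apply eY.homEquiv.injective
  apply Subtype.ext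
  rw [key_fwd hf eX eY j hj, Equiv.apply_symm_apply]
  exact hφ

include hf hj in
lemma mono_j_left : Mono j.left := by
  haveI := mono_f f
  constructor
  intro T₀ g₁ g₂ h
  have hw : g₂ ≫ ZX.hom = g₁ ≫ ZX.hom := by
    rw [← Over.w j, ← Category.assoc, ← Category.assoc, h]
  let T : Over S := Over.mk (g₁ ≫ ZX.hom)
  let z₁ : T ⟶ ZX := Over.homMk g₁ rfl
  let z₂ : T ⟶ ZX := Over.homMk g₂ hw
  have hz : z₁ ≫ j = z₂ ≫ j := by
    apply Over.OverMorphism.ext
    exact h
  have h1 := key_fwd hf eX eY j hj T z₁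
  have h2 := key_fwd hf eX eY j hj T z₂
  rw [hz] at h1
  have h3 : (eX.homEquiv z₁).1 = (eX.homEquiv z₂).1 := by
    rw [← cancel_mono f, ← h1, ← h2]
  have h4 : z₁ = z₂ := eX.homEquiv.injective (Subtype.ext h3)
  exact congrArg (fun m => m.left) h4

include hf hj in
lemma lifting (C : Type u) [CommRing C] (I : Ideal C) (hI : I ^ 2 = ⊥)
    (x₀ : Spec (CommRingCat.of (C ⧸ I)) ⟶ ZX.left) (y : Spec (CommRingCat.of C) ⟶ ZY.left)
    (hxy : x₀ ≫ j.left = Spec.map (CommRingCat.ofHom (Ideal.Quotient.mk I)) ≫ y) :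
    ∃ x : Spec (CommRingCat.of C) ⟶ ZX.left,
      Spec.map (CommRingCat.ofHom (Ideal.Quotient.mk I)) ≫ x = x₀ ∧ x ≫ j.left = y := by
  haveI := mono_j_left hf eX eY j hj
  set qq := Spec.map (CommRingCat.ofHom (Ideal.Quotient.mk I)) with hqq
  let T : Over S := Over.mk (y ≫ ZY.hom)
  let T₀ : Over S := Over.mk (qq ≫ y ≫ ZY.hom)
  let zY : T ⟶ ZY := Over.homMk y rfl
  let i : T₀ ⟶ T := Over.homMk qq rfl
  let z₀ : T₀ ⟶ ZX := Over.homMk x₀ (by
    show x₀ ≫ ZX.hom = qq ≫ y ≫ ZY.hom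
    rw [← Over.w j, ← Category.assoc, hxy, Category.assoc])
  have hz : z₀ ≫ j = i ≫ zY := by
    apply Over.OverMorphism.ext
    exact hxy
  have h1 : (AMonS S ↥N ◁ i) ≫ (eY.homEquiv zY).1 = (eX.homEquiv z₀).1 ≫ f := by
    rw [← natural eY i zY, ← hz, key_fwd hf eX eY j hj]
  haveI hsurj : Surjective (AMonS S ↥N ◁ i).left := by
    have hq' : Surjective i.left := ⟨InfLiftFlat.specMap_mk_surjective I hI⟩
    exact MorphismProperty.of_isPullback (P := @Surjective)
      (FlatWhisker.isPullback_whiskerLeft_left i (AMonS S ↥N)) hq'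
  have hrange : Set.range (eY.homEquiv zY).1.left ⊆ Set.range f.left := by
    rintro _ ⟨p, rfl⟩
    obtain ⟨p₀, rfl⟩ := hsurj.surj p
    have h2 := congrArg (fun m => m.left p₀) h1
    simp only [Over.comp_left, Scheme.Hom.comp_apply] at h2
    rw [h2]
    exact ⟨_, rfl⟩
  obtain ⟨zX, hzX⟩ := key_bwd hf eX eY j hj T zY hrange
  have hx2 : zX.left ≫ j.left = y := congrArg (fun m => m.left) hzX
  refine ⟨zX.left, ?_, hx2⟩
  rw [← cancel_mono j.left, Category.assoc, hx2, hxy]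

lemma isAffine_pair (L : AddSubmonoid M) (T : Over S) [IsAffine T.left] :
    IsAffine (AMonS S ↥L ⊗ T).left := by
  haveI h1 : IsAffineHom (pullback.snd (AMonS S ↥L).hom T.hom) :=
    MorphismProperty.pullback_snd _ _ (Groth.Agent.H91.MagnetDense.isAffineHom_hom S ↥L)
  show IsAffine (pullback (AMonS S ↥L).hom T.hom)
  exact isAffine_of_isAffineHom (pullback.snd (AMonS S ↥L).hom T.hom)

end Groth.Agent.H49.AttrOpen
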