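import Groth.Agent.H49.AttrOpen2
import Groth.Agent.H49.AttrOpen1b

/-! The attractor map of an equivariant open immersion is an open immersion: lfp + assembly. -/

set_option autoImplicit false
universe u
open CategoryTheory Limits MonoidalCategory CartesianMonoidalCategory AlgebraicGeometry Magnet
open MonObj Opposite

namespace Groth.Agent.H49.AttrOpen

attribute [local instance] IsCofiltered.isConnected

variable {S : Scheme.{u}} {M : Type} [AddCommMonoid M] {N : AddSubmonoid M} {X Y : Over S}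
  {aX : MonAct (AMonS S M) X} {aY : MonAct (AMonS S M) Y} {f : X ⟶ Y}
  (hf : MonAct.IsEquivariant aX aY f) [IsOpenImmersion f.left] {ZX ZY : Over S}
  (eX : (attr aX N).RepresentableBy ZX) (eY : (attr aY N).RepresentableBy ZY) (j : ZX ⟶ ZY)
  (hj : ∀ (T : Over S) (z : T ⟶ ZX), eY.homEquiv (z ≫ j) =
    (MonAct.eqvHom.postcomp (subAct S M N) f hf).app (op T) (eX.homEquiv z))

include hf hj in
theorem lfp_j : LocallyOfFinitePresentation j.left := by
  haveI := mono_j_left hf eX eY j hj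
  apply Groth.Agent.H24.locallyOfFinitePresentation_of_surj
  intro J _ _ _ D t c hc haff j₀ g hg
  let τ : D ⟶ (Functor.const Jᵒᵖ).obj S :=
    { app := fun k => t.app k ≫ ZY.hom
      naturality := fun k k' a =>
        ((Category.assoc _ _ _).symm.trans (congrArg (· ≫ ZY.hom) (τ_w D t a))).trans
          (Category.comp_id _).symm }
  let D' : Jᵒᵖ ⥤ Over S := DO D τ
  let c' : Cone D' := cO D τ c j₀
  have hc' : IsLimit c' := hcO D τ c j₀ hc
  let z : ∀ k, D'.obj k ⟶ ZY := fun k => Over.homMk (t.app k) rfl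
  have hz_nat : ∀ {k k' : Jᵒᵖ} (a : k ⟶ k'), D'.map a ≫ z k' = z k := by
    intro k k' a
    apply Over.OverMorphism.ext
    exact τ_w D t a
  haveI : ∀ k, IsAffine (D'.obj k).left := haff
  have haffE : ∀ k, IsAffine (AMonS S ↥N ⊗ D'.obj k).left := fun k => isAffine_pair N (D'.obj k)
  let ψ : AMonS S ↥N ⊗ D'.obj j₀ ⟶ Y := (eY.homEquiv (z j₀)).1
  let U : (AMonS S ↥N ⊗ D'.obj j₀).left.Opens := ψ.left ⁻¹ᵁ f.left.opensRange
  let zg : c'.pt ⟶ ZX := Over.homMk g (by
    show g ≫ ZX.hom = c.π.app j₀ ≫ t.app j₀ ≫ ZY.hom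
    rw [← Over.w j, ← Category.assoc, hg, Category.assoc])
  have hzg : zg ≫ j = Groth.Agent.H49.AttrColim.cleg c' j₀ ≫ z j₀ := by
    apply Over.OverMorphism.ext
    exact hg
  have h1 : (AMonS S ↥N ◁ Groth.Agent.H49.AttrColim.cleg c' j₀) ≫ ψ = (eX.homEquiv zg).1 ≫ f := by
    rw [← natural eY (Groth.Agent.H49.AttrColim.cleg c' j₀) (z j₀), ← hzg,
      key_fwd hf eX eY j hj]
  have hU : (AMonS S ↥N ◁ Groth.Agent.H49.AttrColim.cleg c' j₀).left ⁻¹ᵁ U = ⊤ := by
    rw [eq_top_iff]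
    intro p _
    show ψ.left ((AMonS S ↥N ◁ Groth.Agent.H49.AttrColim.cleg c' j₀).left p) ∈ Set.range f.left
    have h2 := congrArg (fun m => m.left p) h1
    simp only [Over.comp_left, Scheme.Hom.comp_apply] at h2
    rw [h2]
    exact ⟨_, rfl⟩
  obtain ⟨k, a, hk⟩ := exists_stage_preimage_eq_top (AMonS S ↥N) D' c' hc' haffE j₀ U hU
  have h3 : (eY.homEquiv (z k)).1 = (AMonS S ↥N ◁ D'.map a) ≫ ψ := by
    rw [← natural eY (D'.map a) (z j₀), hz_nat a]
  have hrange : Set.range (eY.homEquiv (z k)).1.left ⊆ Set.range f.left := by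
    rintro _ ⟨q, rfl⟩
    have hq : q ∈ (AMonS S ↥N ◁ D'.map a).left ⁻¹ᵁ U := by rw [hk]; trivial
    have hq' : ψ.left ((AMonS S ↥N ◁ D'.map a).left q) ∈ Set.range f.left := hq
    rw [h3]
    simpa only [Over.comp_left, Scheme.Hom.comp_apply] using hq'
  obtain ⟨zX, hzX⟩ := key_bwd hf eX eY j hj (D'.obj k) (z k) hrange
  let gj : D.obj k ⟶ ZX.left := zX.left
  have hgj : gj ≫ j.left = t.app k := congrArg (fun m => m.left) hzX
  refine ⟨k, gj, hgj, ?_⟩
  rw [← cancel_mono j.left, Category.assoc, hgj, hg]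
  exact cone_const D t c k j₀

include hf hj in
theorem isOpenImmersion_j : IsOpenImmersion j.left := by
  haveI := mono_j_left hf eX eY j hj
  haveI := lfp_j hf eX eY j hj
  haveI : Flat j.left :=
    InfLiftFlat.flat_of_lifting j.left (fun C _ I hI x₀ y hxy => lifting hf eX eY j hj C I hI x₀ y hxy)
  exact IsOpenImmersion.of_flat_of_mono j.left

end Groth.Agent.H49.AttrOpen
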