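import Mathlib

/-!
# Families inducing a basis on a fibre

For a ring map `f : R → S`, a point `α : R → K` with values in a field and a family `x : Fin n → S`,
`Cond f α x` says that the `1 ⊗ x i` form a `K`-basis of `K ⊗[R] S`.  The condition is invariant under
pushouts and under extension of the field; for finite projective `S` the locus of primes where it
holds is open, and if it holds everywhere the `x i` form a basis.
-/

set_option autoImplicit false
universe u
open TensorProduct CategoryTheory

namespace Groth.Agent.H49.BasisCond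

/-- the `1 ⊗ x i` form a `K`-basis of `K ⊗[R] S` -/
def Cond {R S : Type u} [CommRing R] [CommRing S] (f : R →+* S) {K : Type u} [Field K]
    (α : R →+* K) {n : ℕ} (x : Fin n → S) : Prop :=
  letI := f.toAlgebra
  letI := α.toAlgebra
  Function.Bijective
    (Fintype.linearCombination K (fun i => (1 : K) ⊗ₜ[R] x i) : (Fin n → K) →ₗ[K] K ⊗[R] S)

section sq

/-- typeclass form of the pushout invariance -/
theorem cond_pushout {R S T P : Type u} [CommRing R] [CommRing S] [CommRing T] [CommRing P]
    [Algebra R S] [Algebra R T] [Algebra S P] [Algebra T P] [Algebra R P]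
    [IsScalarTower R S P] [IsScalarTower R T P] [Algebra.IsPushout R T S P]
    {K : Type u} [Field K] [Algebra T K] [Algebra R K] [IsScalarTower R T K] {n : ℕ} (x : Fin n → S) :
    Function.Bijective
      (Fintype.linearCombination K (fun i => (1 : K) ⊗ₜ[R] x i) : (Fin n → K) →ₗ[K] K ⊗[R] S) ↔
    Function.Bijective
      (Fintype.linearCombination K (fun i => (1 : K) ⊗ₜ[T] algebraMap S P (x i)) :
        (Fin n → K) →ₗ[K] K ⊗[T] P) := by
  have hbc : IsBaseChange T (IsScalarTower.toAlgHom R S P).toLinearMap :=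
    Algebra.IsPushout.out
  let E : K ⊗[R] S ≃ₗ[K] K ⊗[T] P :=
    (AlgebraTensorModule.cancelBaseChange R T K K S).symm ≪≫ₗ
      (AlgebraTensorModule.congr (LinearEquiv.refl K K) hbc.equiv)
  have hE : ∀ y : S, E ((1 : K) ⊗ₜ[R] y) = (1 : K) ⊗ₜ[T] algebraMap S P y := by
    intro y
    show (AlgebraTensorModule.congr (LinearEquiv.refl K K) hbc.equiv)
      ((AlgebraTensorModule.cancelBaseChange R T K K S).symm ((1 : K) ⊗ₜ[R] y)) = _
    rw [AlgebraTensorModule.cancelBaseChange_symm_tmul, AlgebraTensorModule.congr_tmul,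
      IsBaseChange.equiv_tmul, one_smul]
    rfl
  have hcomp : (Fintype.linearCombination K (fun i => (1 : K) ⊗ₜ[T] algebraMap S P (x i)) :
        (Fin n → K) →ₗ[K] K ⊗[T] P) =
      E.toLinearMap ∘ₗ (Fintype.linearCombination K (fun i => (1 : K) ⊗ₜ[R] x i)) := by
    refine LinearMap.ext fun v => ?_
    simp only [Fintype.linearCombination_apply, LinearMap.comp_apply, LinearEquiv.coe_coe, map_sum,
      map_smul, hE]
  rw [hcomp]
  exact (E.bijective.of_comp_iff' _).symm

/-- Pushout invariance of `Cond`. -/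
theorem cond_of_isPushout {R S T P : CommRingCat.{u}} {f : R ⟶ S} {g : R ⟶ T}
    {inl : S ⟶ P} {inr : T ⟶ P} (h : CategoryTheory.IsPushout f g inl inr)
    {K : Type u} [Field K] (ρ : T →+* K) {n : ℕ} (x : Fin n → S) :
    Cond f.hom (ρ.comp g.hom) x ↔ Cond inr.hom ρ (fun i => inl.hom (x i)) := by
  algebraize [f.hom, g.hom, inl.hom, inr.hom, inl.hom.comp f.hom, ρ, ρ.comp g.hom]
  have : IsScalarTower R T P := .of_algebraMap_eq' <| congr($(h.1.1).hom)
  have : IsScalarTower R T K := .of_algebraMap_eq' rfl
  have h1 : Algebra.IsPushout R S T P := CommRingCat.isPushout_iff_isPushout.mp h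
  haveI h2 : Algebra.IsPushout R T S P := h1.symm
  exact cond_pushout x

end sq

section fe

/-- typeclass form of the invariance under field extension -/
theorem cond_fieldExt' {R S : Type u} [CommRing R] [CommRing S] [Algebra R S]
    {K K' : Type u} [Field K] [Field K'] [Algebra R K] [Algebra K K'] [Algebra R K']
    [IsScalarTower R K K'] {n : ℕ} (x : Fin n → S) :
    Function.Bijective
      (Fintype.linearCombination K' (fun i => (1 : K') ⊗ₜ[R] x i) : (Fin n → K') →ₗ[K'] K' ⊗[R] S) ↔
    Function.Bijective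
      (Fintype.linearCombination K (fun i => (1 : K) ⊗ₜ[R] x i) : (Fin n → K) →ₗ[K] K ⊗[R] S) := by
  obtain ⟨L, hL⟩ : ∃ L : (Fin n → K) →ₗ[K] K ⊗[R] S,
      L = Fintype.linearCombination K (fun i => (1 : K) ⊗ₜ[R] x i) := ⟨_, rfl⟩
  obtain ⟨L', hL'⟩ : ∃ L' : (Fin n → K') →ₗ[K'] K' ⊗[R] S,
      L' = Fintype.linearCombination K' (fun i => (1 : K') ⊗ₜ[R] x i) := ⟨_, rfl⟩
  rw [← hL, ← hL', ← Module.FaithfullyFlat.lTensor_bijective_iff_bijective K K' L]
  let E : K' ⊗[K] (K ⊗[R] S) ≃ₗ[K'] K' ⊗[R] S := AlgebraTensorModule.cancelBaseChange R K K' K' S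
  let J : K' ⊗[K] (Fin n → K) ≃ₗ[K'] (Fin n → K') := TensorProduct.piScalarRight K K' K' (Fin n)
  have key : ∀ w : K' ⊗[K] (Fin n → K), E (L.lTensor K' w) = L' (J w) := by
    intro w
    induction w using TensorProduct.induction_on with
    | zero => simp
    | add a b ha hb => simp only [map_add, ha, hb]
    | tmul k v =>
      rw [LinearMap.lTensor_tmul, hL, hL', Fintype.linearCombination_apply,
        Fintype.linearCombination_apply, TensorProduct.tmul_sum, map_sum]
      refine Finset.sum_congr rfl fun i _ => ?_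
      rw [TensorProduct.smul_tmul', smul_eq_mul, mul_one]
      show (AlgebraTensorModule.cancelBaseChange R K K' K' S) (k ⊗ₜ[K] (v i ⊗ₜ[R] x i)) = _
      rw [AlgebraTensorModule.cancelBaseChange_tmul, TensorProduct.piScalarRight_apply,
        TensorProduct.piScalarRightHom_tmul, TensorProduct.smul_tmul', smul_eq_mul, mul_one]
  have hfun : (L' : (Fin n → K') → K' ⊗[R] S) = E ∘ (L.lTensor K') ∘ J.symm := by
    funext v
    show L' v = E (L.lTensor K' (J.symm v))
    rw [key, LinearEquiv.apply_symm_apply]
  rw [hfun]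
  rw [Function.Bijective.of_comp_iff' E.bijective, Function.Bijective.of_comp_iff _ J.symm.bijective]

/-- Invariance of `Cond` under extension of the field. -/
theorem cond_fieldExt {R S : Type u} [CommRing R] [CommRing S] (f : R →+* S)
    {K K' : Type u} [Field K] [Field K'] (α : R →+* K) (ι : K →+* K') {n : ℕ} (x : Fin n → S) :
    Cond f (ι.comp α) x ↔ Cond f α x := by
  algebraize [f, α, ι, ι.comp α]
  have : IsScalarTower R K K' := .of_algebraMap_eq' rfl
  exact cond_fieldExt' x

end fe

section locus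

variable {R S : Type u} [CommRing R] [CommRing S] (f : R →+* S) {n : ℕ} (x : Fin n → S)

/-- the condition at a prime -/
def CondAt (𝔫 : Ideal R) [𝔫.IsPrime] : Prop := Cond f (algebraMap R 𝔫.ResidueField) x

theorem cond_iff_condAt {K : Type u} [Field K] (α : R →+* K) (𝔫 : Ideal R) [𝔫.IsPrime]
    (h : RingHom.ker α = 𝔫) : Cond f α x ↔ CondAt f x 𝔫 := by
  have h1 : 𝔫 ≤ RingHom.ker α := h.ge
  have h2 : 𝔫.primeCompl ≤ (IsUnit.submonoid K).comap α := by
    intro r hr
    show IsUnit (α r)
    refine IsUnit.mk0 _ fun h0 => hr ?_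
    rw [← h]
    exact h0
  have h3 : α = (Ideal.ResidueField.lift 𝔫 α h1 h2).comp (algebraMap R 𝔫.ResidueField) := by
    ext r
    exact (Ideal.ResidueField.lift_algebraMap 𝔫 α h1 h2 r).symm
  unfold CondAt
  conv_lhs => rw [h3]
  exact cond_fieldExt f _ _ x

theorem bij_congr_inst {K : Type u} [Field K] [Algebra R S] (i i' : Algebra R K)
    (h : ∀ r, @algebraMap R K _ _ i r = @algebraMap R K _ _ i' r) :
    (letI := i; Function.Bijective
      (Fintype.linearCombination K (fun j => (1 : K) ⊗ₜ[R] x j) : (Fin n → K) →ₗ[K] K ⊗[R] S)) ↔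
    (letI := i'; Function.Bijective
      (Fintype.linearCombination K (fun j => (1 : K) ⊗ₜ[R] x j) : (Fin n → K) →ₗ[K] K ⊗[R] S)) := by
  have : i = i' := Algebra.algebra_ext _ _ h
  subst this
  exact Iff.rfl

/-- `CondAt` with the canonical algebra structure on the residue field -/
theorem condAt_iff_bij (𝔫 : Ideal R) [𝔫.IsPrime] :
    CondAt f x 𝔫 ↔ (letI := f.toAlgebra; Function.Bijective
      (Fintype.linearCombination 𝔫.ResidueField (fun j => (1 : 𝔫.ResidueField) ⊗ₜ[R] x j) :
        (Fin n → 𝔫.ResidueField) →ₗ[𝔫.ResidueField] 𝔫.ResidueField ⊗[R] S)) := by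
  letI := f.toAlgebra
  exact bij_congr_inst x _ _ (fun _ => rfl)

end locus

section proj

variable {R S : Type u} [CommRing R] [CommRing S] [Algebra R S] [Module.Finite R S]
  [Module.Projective R S] {n : ℕ} (x : Fin n → S)

variable (R) in
/-- the linear map attached to the family -/
noncomputable abbrev phi : (Fin n → R) →ₗ[R] S := Fintype.linearCombination R x

/-- the fibre map attached to the family -/
noncomputable abbrev fib (𝔫 : Ideal R) [𝔫.IsPrime] :
    (Fin n → 𝔫.ResidueField) →ₗ[𝔫.ResidueField] 𝔫.ResidueField ⊗[R] S :=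
  Fintype.linearCombination 𝔫.ResidueField (fun j => (1 : 𝔫.ResidueField) ⊗ₜ[R] x j)

omit [Module.Finite R S] [Module.Projective R S] in
lemma lTensor_phi_mem (𝔫 : Ideal R) [𝔫.IsPrime] (w : 𝔫.ResidueField ⊗[R] (Fin n → R)) :
    (phi R x).lTensor 𝔫.ResidueField w ∈ LinearMap.range (fib x 𝔫) := by
  induction w using TensorProduct.induction_on with
  | zero => simp
  | add a b ha hb => rw [map_add]; exact Submodule.add_mem _ ha hb
  | tmul k u =>
    refine ⟨fun j => k * algebraMap R 𝔫.ResidueField (u j), ?_⟩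
    rw [LinearMap.lTensor_tmul, Fintype.linearCombination_apply, Fintype.linearCombination_apply,
      TensorProduct.tmul_sum]
    refine Finset.sum_congr rfl fun j _ => ?_
    rw [TensorProduct.smul_tmul', smul_eq_mul, mul_one, TensorProduct.tmul_smul,
      TensorProduct.smul_tmul', Algebra.smul_def, mul_comm]

omit [Module.Projective R S] in
theorem fib_surjective_iff (𝔫 : Ideal R) [h𝔫 : 𝔫.IsPrime] :
    Function.Surjective (fib x 𝔫) ↔
      (⟨𝔫, h𝔫⟩ : PrimeSpectrum R) ∉ Module.support R (S ⧸ LinearMap.range (phi R x)) := by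
  rw [Module.mem_support_iff_nontrivial_residueField_tensorProduct, not_nontrivial_iff_subsingleton]
  have hex : Function.Exact ((phi R x).lTensor 𝔫.ResidueField)
      ((LinearMap.range (phi R x)).mkQ.lTensor 𝔫.ResidueField) :=
    lTensor_exact _ (LinearMap.exact_map_mkQ_range (phi R x)) (Submodule.mkQ_surjective _)
  have hsurj : Function.Surjective ((LinearMap.range (phi R x)).mkQ.lTensor 𝔫.ResidueField) :=
    LinearMap.lTensor_surjective _ (Submodule.mkQ_surjective _)
  constructor
  · intro hL
    refine ⟨fun a b => ?_⟩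
    obtain ⟨a', rfl⟩ := hsurj a
    obtain ⟨b', rfl⟩ := hsurj b
    have hz : ∀ v : 𝔫.ResidueField ⊗[R] S,
        (LinearMap.range (phi R x)).mkQ.lTensor 𝔫.ResidueField v = 0 := by
      intro v
      obtain ⟨c, rfl⟩ := hL v
      rw [Fintype.linearCombination_apply, map_sum]
      refine Finset.sum_eq_zero fun j _ => ?_
      rw [TensorProduct.smul_tmul', LinearMap.lTensor_tmul]
      have : (LinearMap.range (phi R x)).mkQ (x j) = 0 := by
        rw [Submodule.mkQ_apply, Submodule.Quotient.mk_eq_zero]
        refine ⟨Pi.single j 1, ?_⟩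
        simp [Fintype.linearCombination_apply, Pi.single_apply]
      rw [this, TensorProduct.tmul_zero]
    rw [hz, hz]
  · intro hsub v
    have hv : (LinearMap.range (phi R x)).mkQ.lTensor 𝔫.ResidueField v = 0 := Subsingleton.elim _ _
    obtain ⟨w, rfl⟩ := (hex v).mp hv
    exact lTensor_phi_mem x 𝔫 w

theorem fib_bijective_iff (𝔫 : Ideal R) [h𝔫 : 𝔫.IsPrime] :
    Function.Bijective (fib x 𝔫) ↔
      (⟨𝔫, h𝔫⟩ : PrimeSpectrum R) ∉ Module.support R (S ⧸ LinearMap.range (phi R x)) ∧
        Module.rankAtStalk S ⟨𝔫, h𝔫⟩ = n := by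
  have hrk : Module.rankAtStalk S ⟨𝔫, h𝔫⟩ =
      Module.finrank 𝔫.ResidueField (𝔫.ResidueField ⊗[R] S) := Module.rankAtStalk_eq ⟨𝔫, h𝔫⟩
  rw [← fib_surjective_iff, hrk]
  constructor
  · intro hb
    refine ⟨hb.2, ?_⟩
    have e := LinearEquiv.ofBijective (fib x 𝔫) hb
    rw [← e.finrank_eq, Module.finrank_fin_fun]
  · rintro ⟨hs, hr⟩
    refine ⟨?_, hs⟩
    have hfr : Module.finrank 𝔫.ResidueField (Fin n → 𝔫.ResidueField) =
        Module.finrank 𝔫.ResidueField (𝔫.ResidueField ⊗[R] S) := by
      rw [Module.finrank_fin_fun, hr]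
    exact (LinearMap.injective_iff_surjective_of_finrank_eq_finrank hfr).mpr hs

/-- the locus where the family induces a basis of the fibre is open -/
theorem isOpen_locus :
    IsOpen {p : PrimeSpectrum R | Function.Bijective (fib x p.asIdeal)} := by
  have hfp : Module.FinitePresentation R S := Module.finitePresentation_of_projective R S
  have : {p : PrimeSpectrum R | Function.Bijective (fib x p.asIdeal)} =
      (Module.support R (S ⧸ LinearMap.range (phi R x)))ᶜ ∩ (Module.rankAtStalk S) ⁻¹' {n} := by
    ext p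
    exact fib_bijective_iff x p.asIdeal
  rw [this]
  exact (Module.isClosed_support).isOpen_compl.inter
    ((Module.isLocallyConstant_rankAtStalk (R := R) (M := S)).isOpen_fiber n)

/-- if the family induces a basis of every fibre, it is a basis -/
theorem bijective_phi (h : ∀ (𝔫 : Ideal R) [𝔫.IsPrime], Function.Bijective (fib x 𝔫)) :
    Function.Bijective (phi R x) := by
  have hsupp : Module.support R (S ⧸ LinearMap.range (phi R x)) = ∅ := by
    ext p
    simp only [Set.mem_empty_iff_false, iff_false]
    exact ((fib_bijective_iff x p.asIdeal).mp (h p.asIdeal)).1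
  have hrk : ∀ p : PrimeSpectrum R, Module.rankAtStalk S p = n := fun p =>
    ((fib_bijective_iff x p.asIdeal).mp (h p.asIdeal)).2
  rw [Module.support_eq_empty_iff] at hsupp
  have hsurj : Function.Surjective (phi R x) := by
    rw [← LinearMap.range_eq_top]
    exact Submodule.Quotient.subsingleton_iff.mp hsupp
  refine ⟨?_, hsurj⟩
  obtain ⟨g, hg⟩ := Module.projective_lifting_property (phi R x) LinearMap.id hsurj
  -- `R^n ≃ S × ker φ`
  have hφg : ∀ y, phi R x (g y) = y := fun y => by
    rw [← LinearMap.comp_apply, hg, LinearMap.id_apply]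
  let pr : (Fin n → R) →ₗ[R] LinearMap.ker (phi R x) :=
    (LinearMap.id - g ∘ₗ phi R x).codRestrict (LinearMap.ker (phi R x)) (fun v => by
      rw [LinearMap.mem_ker, LinearMap.sub_apply, LinearMap.id_apply, LinearMap.comp_apply, map_sub,
        hφg, sub_self])
  have hpr : ∀ k : LinearMap.ker (phi R x), pr k.1 = k := by
    intro k
    apply Subtype.ext
    show k.1 - g (phi R x k.1) = k.1
    rw [k.2, map_zero, sub_zero]
  let e : (Fin n → R) ≃ₗ[R] S × LinearMap.ker (phi R x) :=
    LinearEquiv.ofLinear ((phi R x).prod pr) (g.coprod (LinearMap.ker (phi R x)).subtype)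
      (by
        refine LinearMap.ext fun p => ?_
        obtain ⟨y, k⟩ := p
        have h2 : phi R x k.1 = 0 := k.2
        apply Prod.ext
        · show phi R x (g y + k.1) = y
          rw [map_add, hφg, h2, add_zero]
        · apply Subtype.ext
          show (g y + k.1) - g (phi R x (g y + k.1)) = k.1
          rw [map_add, hφg, h2, add_zero, add_sub_cancel_left])
      (by
        refine LinearMap.ext fun v => ?_
        show g (phi R x v) + (v - g (phi R x v)) = v
        abel)
  haveI : Module.Finite R (LinearMap.ker (phi R x)) :=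
    Module.Finite.of_surjective pr (fun k => ⟨k.1, hpr k⟩)
  haveI : Module.Projective R (LinearMap.ker (phi R x)) :=
    Module.Projective.of_split (LinearMap.ker (phi R x)).subtype pr
      (LinearMap.ext fun k => hpr k)
  have h1 := Module.rankAtStalk_eq_of_equiv (R := R) e
  rw [Module.rankAtStalk_prod, Module.rankAtStalk_eq_finrank_of_free] at h1
  have h2 : Module.rankAtStalk (R := R) (LinearMap.ker (phi R x)) = 0 := by
    rcases subsingleton_or_nontrivial R with hR | hR
    · haveI := Module.subsingleton R (LinearMap.ker (phi R x))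
      exact Module.rankAtStalk_eq_zero_of_subsingleton
    ext p
    have h3 := congrFun h1 p
    simp only [Pi.add_apply, hrk, Module.finrank_fin_fun, Pi.natCast_def, Nat.cast_id] at h3
    simpa using h3.symm
  have h4 : Subsingleton (LinearMap.ker (phi R x)) :=
    Module.rankAtStalk_eq_zero_iff_subsingleton.mp h2
  rw [← LinearMap.ker_eq_bot]
  exact Submodule.eq_bot_of_subsingleton

omit [Module.Projective R S] in
/-- a family inducing a basis of the fibre can be extracted from any set spanning the fibre -/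
theorem exists_family_of_span (𝔫 : Ideal R) [𝔫.IsPrime] (T : Set S)
    (hT : Submodule.span 𝔫.ResidueField
      (Set.range (fun y : T => (1 : 𝔫.ResidueField) ⊗ₜ[R] (y : S))) = ⊤) :
    ∃ (n : ℕ) (x : Fin n → S), (∀ i, x i ∈ T) ∧ Function.Bijective (fib x 𝔫) := by
  obtain ⟨κ, a, -, hsp, hli⟩ := exists_linearIndependent' 𝔫.ResidueField
    (fun y : T => (1 : 𝔫.ResidueField) ⊗ₜ[R] (y : S))
  rw [hT] at hsp
  haveI : Finite κ := hli.finite
  let b := Module.Basis.mk hli hsp.ge
  obtain ⟨n, ⟨e⟩⟩ := Finite.exists_equiv_fin κ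
  let b' := b.reindex e
  refine ⟨n, fun i => (a (e.symm i) : S), fun i => (a (e.symm i)).2, ?_⟩
  have hb' : ∀ i, b' i = (1 : 𝔫.ResidueField) ⊗ₜ[R] ((a (e.symm i) : T) : S) := by
    intro i
    simp [b', b]
  have : (fib (fun i => ((a (e.symm i) : T) : S)) 𝔫 : (Fin n → 𝔫.ResidueField) → _) =
      b'.equivFun.symm := by
    funext v
    rw [Module.Basis.equivFun_symm_apply, Fintype.linearCombination_apply]
    simp only [hb']
  rw [this]
  exact b'.equivFun.symm.bijective

end proj

end Groth.Agent.H49.BasisCond
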