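import Mathlib

/-!
# The locally directed open cover attached to a basis-like family of opens (helper49)
-/

set_option autoImplicit false
universe u
open CategoryTheory CategoryTheory.Limits AlgebraicGeometry

namespace Groth.Agent.H49.BasisCover

variable {F : Scheme.{u}} (𝓑 : Set F.Opens)

/-- a family of opens covering `F` and such that the intersection of two members is covered by
members -/
structure IsGood : Prop where
  cov : ∀ x : F, ∃ O ∈ 𝓑, x ∈ O
  dir : ∀ O₁ ∈ 𝓑, ∀ O₂ ∈ 𝓑, ∀ x : F, x ∈ O₁ → x ∈ O₂ → ∃ O₃ ∈ 𝓑, x ∈ O₃ ∧ O₃ ≤ O₁ ∧ O₃ ≤ O₂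

variable {𝓑} (h𝓑 : IsGood 𝓑)

/-- the cover by the members of the family -/
@[simps I₀ X f]
noncomputable def cover : F.OpenCover where
  I₀ := {O : F.Opens // O ∈ 𝓑}
  X O := O.1.toScheme
  f O := O.1.ι
  mem₀ := by
    rw [Scheme.presieve₀_mem_precoverage_iff]
    refine ⟨fun x => ?_, inferInstance⟩
    obtain ⟨O, hO, hx⟩ := h𝓑.cov x
    exact ⟨⟨O, hO⟩, ⟨x, hx⟩, rfl⟩

instance : Preorder (cover h𝓑).I₀ := inferInstanceAs (Preorder {O : F.Opens // O ∈ 𝓑})

noncomputable instance : Scheme.Cover.LocallyDirected (cover h𝓑) where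
  trans {k k'} hkk' := F.homOfLE (leOfHom hkk' : k ≤ k')
  trans_id k := Scheme.homOfLE_rfl _ _
  trans_comp hij hjk := (Scheme.homOfLE_homOfLE _ _ _).symm
  w hij := Scheme.homOfLE_ι _ _
  directed {k k'} x := by
    let u : F := (pullback.fst ((cover h𝓑).f k) ((cover h𝓑).f k') ≫ (cover h𝓑).f k) x
    have hui : u ∈ k.1 := (pullback.fst ((cover h𝓑).f k) ((cover h𝓑).f k') x).2
    have huj : u ∈ k'.1 := by
      have : u = (pullback.snd ((cover h𝓑).f k) ((cover h𝓑).f k') ≫ (cover h𝓑).f k') x := by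
        show (pullback.fst ((cover h𝓑).f k) ((cover h𝓑).f k') ≫ (cover h𝓑).f k) x = _
        rw [pullback.condition]
      rw [this]
      exact (pullback.snd ((cover h𝓑).f k) ((cover h𝓑).f k') x).2
    obtain ⟨O₃, hO₃, hu₃, hle, hle'⟩ := h𝓑.dir k.1 k.2 k'.1 k'.2 u hui huj
    refine ⟨⟨O₃, hO₃⟩, homOfLE hle, homOfLE hle', ⟨u, hu₃⟩, ?_⟩
    apply (pullback.fst ((cover h𝓑).f k) ((cover h𝓑).f k') ≫
      (cover h𝓑).f k).isOpenEmbedding.injective
    rw [← Scheme.Hom.comp_apply, pullback.lift_fst_assoc]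
    show (F.homOfLE _ ≫ k.1.ι) _ = u
    rw [Scheme.homOfLE_ι]
    rfl
  property_trans hij := by
    show IsOpenImmersion (F.homOfLE _)
    infer_instance

end Groth.Agent.H49.BasisCover
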