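import Mathlib
import Groth.Agent.H49.BiratLocal

/-!
# Birational morphisms are isomorphisms over dense opens: gluing
-/

set_option autoImplicit false
universe u
open CategoryTheory CategoryTheory.Limits AlgebraicGeometry TopologicalSpace

namespace Groth.Agent.H49.Birational

section Top

variable {T : Type u} [TopologicalSpace T]

/-- The set of points lying only on the irreducible component `closure {y}`. -/
def onlyOn (y : T) : Set T := (⋃₀ {Z | Z ∈ irreducibleComponents T ∧ Z ≠ closure {y}})ᶜ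

lemma isOpen_onlyOn (hfin : (irreducibleComponents T).Finite) (y : T) : IsOpen (onlyOn y) := by
  rw [onlyOn, isOpen_compl_iff, Set.sUnion_eq_biUnion]
  exact (hfin.subset (fun Z hZ => hZ.1)).isClosed_biUnion
    (fun Z hZ => isClosed_of_mem_irreducibleComponents Z hZ.1)

lemma mem_onlyOn_self {y : T} (hy : closure {y} ∈ irreducibleComponents T) : y ∈ onlyOn y := by
  rw [onlyOn, Set.mem_compl_iff, Set.mem_sUnion]
  rintro ⟨Z, ⟨hZ, hne⟩, hyZ⟩
  apply hne
  have hcl : IsClosed Z := isClosed_of_mem_irreducibleComponents Z hZ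
  have hsub : closure {y} ⊆ Z := hcl.closure_subset_iff.mpr (Set.singleton_subset_iff.mpr hyZ)
  exact (hy.2 hZ.1 hsub).antisymm hsub

lemma specializes_of_mem_onlyOn {y p : T} (hp : p ∈ onlyOn y) : y ⤳ p := by
  rw [specializes_iff_mem_closure]
  by_contra hne
  apply hp
  refine ⟨irreducibleComponent p, ⟨irreducibleComponent_mem_irreducibleComponents p, ?_⟩,
    mem_irreducibleComponent⟩
  intro h
  exact hne (h ▸ mem_irreducibleComponent)

lemma eq_of_mem_onlyOn [T0Space T] {y y' p : T} (hy : closure {y} ∈ irreducibleComponents T)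
    (hp : p ∈ onlyOn y) (hp' : p ∈ onlyOn y') : y = y' := by
  have h1 : p ∈ closure {y} := specializes_iff_mem_closure.mp (specializes_of_mem_onlyOn hp)
  have h2 : closure {y} = closure {y'} := by
    by_contra hne
    exact hp' ⟨closure {y}, ⟨hy, hne⟩, h1⟩
  exact (inseparable_iff_closure_eq.mpr h2).eq

lemma dense_of_forall_generic_mem [T0Space T] [QuasiSober T] {U : Set T}
    (hU : ∀ x : T, closure {x} ∈ irreducibleComponents T → x ∈ U) : Dense U := by
  intro p
  obtain ⟨ξ, hξ, hξgen⟩ := Groth.Agent.S7658.exists_generic_specializes p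
  have hξU : ξ ∈ U := hU ξ ((Groth.Agent.S7658.mem_irreducibleComponents_iff ξ).mpr hξgen)
  exact closure_mono (Set.singleton_subset_iff.mpr hξU) (specializes_iff_mem_closure.mp hξ)

end Top

variable {X Y : Scheme.{u}}

/-- Around a generic point of a reduced scheme with finitely many irreducible components there is
an affine open, contained in `onlyOn y`, whose ring of sections is a domain. -/
theorem exists_affine_domain_nhd [IsReduced Y] (hfin : (irreducibleComponents Y).Finite) (y : Y)
    (hy : closure {y} ∈ irreducibleComponents Y) :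
    ∃ W : Y.Opens, IsAffineOpen W ∧ y ∈ W ∧ IsDomain Γ(Y, W) := by
  obtain ⟨_, ⟨W, hW, rfl⟩, hyW, hsub⟩ :=
    Y.isBasis_affineOpens.exists_subset_of_mem_open (mem_onlyOn_self hy) (isOpen_onlyOn hfin y)
  refine ⟨W, hW, hyW, ?_⟩
  have hirr : IrreducibleSpace ↥W := by
    have hne : Nonempty ↥W := ⟨⟨y, hyW⟩⟩
    refine { toPreirreducibleSpace := ⟨?_⟩, toNonempty := hne }
    intro u v hu hv ⟨a, _, hau⟩ ⟨b, _, hbv⟩
    have ha : (⟨y, hyW⟩ : ↥W) ⤳ a := by
      rw [subtype_specializes_iff]
      exact specializes_of_mem_onlyOn (hsub a.2)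
    have hb : (⟨y, hyW⟩ : ↥W) ⤳ b := by
      rw [subtype_specializes_iff]
      exact specializes_of_mem_onlyOn (hsub b.2)
    exact ⟨⟨y, hyW⟩, Set.mem_univ _, ha.mem_open hu hau, hb.mem_open hv hbv⟩
  have hirr' : IrreducibleSpace ↥(W : Scheme.{u}) := hirr
  have hint : IsIntegral (W : Scheme.{u}) := isIntegral_of_irreducibleSpace_of_isReduced _
  have hne' : Nonempty ↥(⊤ : (W : Scheme.{u}).Opens) := ⟨⟨⟨y, hyW⟩, trivial⟩⟩
  have hdom : IsDomain Γ((W : Scheme.{u}), ⊤) := inferInstance
  exact ((Scheme.Opens.topIso W).symm.commRingCatIsoToRingEquiv).toMulEquiv.isDomain Γ((W : Scheme.{u}), ⊤)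

/-- Gluing step: local open immersions around the generic points of `X` glue to an open
immersion on an open subset containing all generic points. -/
theorem exists_isOpenImmersion_of_forall_generic (f : X ⟶ Y)
    (hYfin : (irreducibleComponents ↥Y).Finite)
    (hmaps : ∀ x : X, closure {x} ∈ irreducibleComponents ↥X →
      closure {f.base x} ∈ irreducibleComponents ↥Y)
    (hinj : ∀ x x' : X, closure {x} ∈ irreducibleComponents ↥X →
      closure {x'} ∈ irreducibleComponents ↥X → f.base x = f.base x' → x = x')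
    (hloc : ∀ x : X, closure {x} ∈ irreducibleComponents ↥X →
      ∃ U : X.Opens, x ∈ U ∧ IsOpenImmersion (U.ι ≫ f)) :
    ∃ U : X.Opens, (∀ x : X, closure {x} ∈ irreducibleComponents ↥X → x ∈ U) ∧
      IsOpenImmersion (U.ι ≫ f) := by
  choose Ux hxU hUx using hloc
  let G := {x : X // closure {x} ∈ irreducibleComponents ↥X}
  let O : G → Y.Opens := fun a => ⟨onlyOn (f.base a.1), isOpen_onlyOn hYfin _⟩
  let U' : G → X.Opens := fun a => Ux a.1 a.2 ⊓ f ⁻¹ᵁ O a
  have hU'le : ∀ a, U' a ≤ Ux a.1 a.2 := fun a => inf_le_left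
  have hU'imm : ∀ a, IsOpenImmersion ((U' a).ι ≫ f) := by
    intro a
    have h1 : (U' a).ι ≫ f = X.homOfLE (hU'le a) ≫ (Ux a.1 a.2).ι ≫ f := by
      rw [Scheme.homOfLE_ι_assoc]
    rw [h1]
    have := hUx a.1 a.2
    infer_instance
  have hmemO : ∀ (a : G) (u : X), u ∈ U' a → f.base u ∈ onlyOn (f.base a.1) := fun a u hu => hu.2
  refine ⟨⨆ a, U' a, ?_, ?_⟩
  · intro x hx
    exact Opens.mem_iSup.mpr ⟨⟨x, hx⟩, hxU x hx, mem_onlyOn_self (hmaps x hx)⟩
  · have hinjU : Function.Injective ((⨆ a, U' a).ι ≫ f).base := by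
      intro u u' huu'
      obtain ⟨a, ha⟩ := Opens.mem_iSup.mp u.2
      obtain ⟨a', ha'⟩ := Opens.mem_iSup.mp u'.2
      have hfu : f.base u.1 = f.base u'.1 := huu'
      have h1 : f.base a.1 = f.base a'.1 :=
        eq_of_mem_onlyOn (hmaps a.1 a.2) (hmemO a u.1 ha) (hfu ▸ hmemO a' u'.1 ha')
      have h2 : a = a' := Subtype.ext (hinj a.1 a'.1 a.2 a'.2 h1)
      subst h2
      have h3 : ((U' a).ι ≫ f).base ⟨u.1, ha⟩ = ((U' a).ι ≫ f).base ⟨u'.1, ha'⟩ := hfu
      have h4 := (hU'imm a).base_open.injective h3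
      exact Subtype.ext (Subtype.mk.inj h4)
    refine IsOpenImmersion.of_forall_source_exists _ hinjU fun u => ?_
    obtain ⟨a, ha⟩ := Opens.mem_iSup.mp u.2
    refine ⟨(U' a).toScheme, X.homOfLE (le_iSup U' a), inferInstance, ?_, ?_⟩
    · rw [Scheme.opensRange_homOfLE]
      exact ha
    · rw [Scheme.homOfLE_ι_assoc]
      exact hU'imm a

/-- From an open `U` containing all generic points on which `f` is an open immersion, produce
the dense opens of the birational statement. -/
theorem exists_dense_isIso_resLE (f : X ⟶ Y)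
    (hsurj : ∀ y : Y, closure {y} ∈ irreducibleComponents ↥Y →
      ∃ x : X, closure {x} ∈ irreducibleComponents ↥X ∧ f.base x = y)
    (U : X.Opens) (hU : ∀ x : X, closure {x} ∈ irreducibleComponents ↥X → x ∈ U)
    [IsOpenImmersion (U.ι ≫ f)] :
    ∃ (V : Y.Opens) (hUV : U ≤ f ⁻¹ᵁ V), Dense (U : Set ↥X) ∧ Dense (V : Set ↥Y) ∧
      IsIso (f.resLE V U hUV) ∧ V = (U.ι ≫ f).opensRange := by
  have hUV : U ≤ f ⁻¹ᵁ (U.ι ≫ f).opensRange := fun u hu => ⟨⟨u, hu⟩, rfl⟩
  refine ⟨(U.ι ≫ f).opensRange, hUV, dense_of_forall_generic_mem hU, ?_, ?_, rfl⟩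
  · apply dense_of_forall_generic_mem
    intro y hy
    obtain ⟨x, hx, rfl⟩ := hsurj y hy
    exact ⟨⟨x, hU x hx⟩, rfl⟩
  · have hr : Set.range (U.ι ≫ f).base = Set.range ((U.ι ≫ f).opensRange.ι).base := by
      rw [Scheme.Opens.range_ι]
      rfl
    have h1 : f.resLE (U.ι ≫ f).opensRange U hUV =
        (IsOpenImmersion.isoOfRangeEq (U.ι ≫ f) ((U.ι ≫ f).opensRange.ι) hr).hom := by
      rw [← cancel_mono ((U.ι ≫ f).opensRange.ι), Scheme.Hom.resLE_comp_ι,
        IsOpenImmersion.isoOfRangeEq_hom_fac]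
    rw [h1]
    infer_instance

/-- Packaged: for a birational `f` as in the statements, there is an open `U` containing all
generic points of `X` on which `f` is an open immersion. -/
theorem exists_open_of_birational (f : X ⟶ Y)
    (hYfin : (irreducibleComponents ↥Y).Finite)
    (hbij : Set.BijOn (fun x : X => f.base x) {x : X | closure {x} ∈ irreducibleComponents ↥X}
      {y : Y | closure {y} ∈ irreducibleComponents ↥Y})
    (hiso : ∀ x : X, closure {x} ∈ irreducibleComponents ↥X → IsIso (f.stalkMap x))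
    (hf : (LocallyOfFiniteType f ∧ IsReduced Y) ∨ LocallyOfFinitePresentation f) :
    ∃ U : X.Opens, (∀ x : X, closure {x} ∈ irreducibleComponents ↥X → x ∈ U) ∧
      IsOpenImmersion (U.ι ≫ f) := by
  have hmaps : ∀ x : X, closure {x} ∈ irreducibleComponents ↥X →
      closure {f.base x} ∈ irreducibleComponents ↥Y := fun x hx => hbij.mapsTo hx
  have hinj : ∀ x x' : X, closure {x} ∈ irreducibleComponents ↥X →
      closure {x'} ∈ irreducibleComponents ↥X → f.base x = f.base x' → x = x' :=
    fun a b ha hb hab => hbij.injOn ha hb hab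
  refine exists_isOpenImmersion_of_forall_generic f hYfin hmaps hinj fun x hx => ?_
  have : IsIso (f.stalkMap x) := hiso x hx
  rcases hf with ⟨hft, hred⟩ | hfp
  · have hfib : ∀ x₁ : X, f.base x₁ = f.base x → x₁ = x := fun x₁ h1 =>
      fiber_eq_singleton f hmaps hinj x hx x₁ h1
    have hgen : ∀ y' : Y, y' ⤳ f.base x → y' = f.base x :=
      (Groth.Agent.S7658.mem_irreducibleComponents_iff (f.base x)).mp (hmaps x hx)
    obtain ⟨W, hW, hxW, hdom⟩ := exists_affine_domain_nhd hYfin (f.base x) (hmaps x hx)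
    exact exists_isOpenImmersion_of_lft_domain f x hfib hgen W hW hxW
  · exact exists_isOpenImmersion_of_lfp f x

end Groth.Agent.H49.Birational
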