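import Mathlib
import Groth.Agent.H49.BiratGlobal

/-!
# Birational morphisms: `f⁻¹(V) → V` is an isomorphism for a dense open `V`
(quasi-compact or separated case)
-/

set_option autoImplicit false
universe u
open CategoryTheory CategoryTheory.Limits AlgebraicGeometry TopologicalSpace

namespace Groth.Agent.H49.Birational

variable {X Y : Scheme.{u}}

/-- If `f` restricted to `U` is an open immersion, `V` lies in its image and `f⁻¹ V ⊆ U`, then
`f⁻¹ V → V` is an isomorphism. -/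
theorem isIso_morphismRestrict_of_le (f : X ⟶ Y) (U : X.Opens) [IsOpenImmersion (U.ι ≫ f)]
    (V : Y.Opens) (hV : V ≤ (U.ι ≫ f).opensRange) (hpre : f ⁻¹ᵁ V ≤ U) : IsIso (f ∣_ V) := by
  have h1 : (f ⁻¹ᵁ V).ι ≫ f = X.homOfLE hpre ≫ U.ι ≫ f := by
    rw [Scheme.homOfLE_ι_assoc]
  have himm : IsOpenImmersion ((f ⁻¹ᵁ V).ι ≫ f) := by
    rw [h1]; infer_instance
  have hr : Set.range ((f ⁻¹ᵁ V).ι ≫ f).base = Set.range (V.ι).base := by
    rw [Scheme.Opens.range_ι]
    ext p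
    constructor
    · rintro ⟨z, rfl⟩
      exact z.2
    · intro hp
      obtain ⟨u, hu⟩ := hV hp
      have hu' : f.base u.1 = p := hu
      exact ⟨⟨u.1, by show f.base u.1 ∈ V; rw [hu']; exact hp⟩, hu'⟩
  have h2 : f ∣_ V = (IsOpenImmersion.isoOfRangeEq ((f ⁻¹ᵁ V).ι ≫ f) V.ι hr).hom := by
    rw [← cancel_mono V.ι, morphismRestrict_ι, IsOpenImmersion.isoOfRangeEq_hom_fac]
  rw [h2]
  infer_instance

/-- Ring level: a minimal prime in the closure of the image of a closed set is in the image. -/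
theorem exists_comap_eq_of_mem_closure {R S : Type*} [CommRing R] [CommRing S] (φ : R →+* S)
    (C : Set (PrimeSpectrum S)) (hC : IsClosed C) (q : PrimeSpectrum R)
    (hmin : ∀ p' : Ideal R, p'.IsPrime → p' ≤ q.asIdeal → p' = q.asIdeal)
    (hq : q ∈ closure (PrimeSpectrum.comap φ '' C)) : ∃ c ∈ C, PrimeSpectrum.comap φ c = q := by
  have hCz : C = PrimeSpectrum.zeroLocus (PrimeSpectrum.vanishingIdeal C : Set S) := by
    rw [PrimeSpectrum.zeroLocus_vanishingIdeal_eq_closure, hC.closure_eq]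
  rw [hCz, PrimeSpectrum.closure_image_comap_zeroLocus] at hq
  have hle : (PrimeSpectrum.vanishingIdeal C).comap φ ≤ q.asIdeal := hq
  have hmem : q.asIdeal ∈ ((PrimeSpectrum.vanishingIdeal C).comap φ).minimalPrimes :=
    ⟨⟨q.2, hle⟩, fun b hb hbq => (hmin b hb.1 hbq).ge⟩
  obtain ⟨p', hp', hIp', hcomap⟩ := Ideal.exists_comap_eq_of_mem_minimalPrimes φ _ hmem
  refine ⟨⟨p', hp'⟩, ?_, PrimeSpectrum.ext hcomap⟩
  rw [hCz]
  exact hIp'

/-- For a quasi-compact morphism, a point without proper generalizations lying in the closure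
of the image of a closed set lies in the image. -/
theorem exists_mem_of_mem_closure_image (f : X ⟶ Y) [QuasiCompact f] (Z : Set X)
    (hZ : IsClosed Z) (y : Y) (hgen : ∀ y' : Y, y' ⤳ y → y' = y)
    (hy : y ∈ closure (f.base '' Z)) : ∃ z ∈ Z, f.base z = y := by
  obtain ⟨_, ⟨W, hW, rfl⟩, hyW, -⟩ :=
    Y.isBasis_affineOpens.exists_subset_of_mem_open (Set.mem_univ y) isOpen_univ
  have hcomp : IsCompact (f ⁻¹ᵁ W : Set X) := f.isCompact_preimage hW.isCompact
  obtain ⟨s, hsfin, hs⟩ := (isCompact_and_isOpen_iff_finite_and_eq_biUnion_affineOpens).mp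
    ⟨hcomp, (f ⁻¹ᵁ W).2⟩
  have h1 : y ∈ closure ((W : Set Y) ∩ f.base '' Z) := W.2.inter_closure ⟨hyW, hy⟩
  have h2 : (W : Set Y) ∩ f.base '' Z ⊆ ⋃ i ∈ s, f.base '' (Z ∩ (i : Set X)) := by
    rintro _ ⟨hpW, z, hz, rfl⟩
    have hz' : z ∈ (f ⁻¹ᵁ W : Set X) := hpW
    rw [hs] at hz'
    obtain ⟨i, hi, hzi⟩ := Set.mem_iUnion₂.mp hz'
    exact Set.mem_iUnion₂.mpr ⟨i, hi, z, ⟨hz, hzi⟩, rfl⟩
  have h3 := closure_mono h2 h1
  rw [hsfin.closure_biUnion] at h3
  obtain ⟨i, hi, hyi⟩ := Set.mem_iUnion₂.mp h3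
  have e : i.1 ≤ f ⁻¹ᵁ W := by
    intro z hz
    have : z ∈ ⋃ j ∈ s, ((j : X.Opens) : Set X) := Set.mem_iUnion₂.mpr ⟨i, hi, hz⟩
    rw [← hs] at this
    exact this
  have hUi : IsAffineOpen i.1 := i.2
  obtain ⟨q, hq⟩ : ∃ q : PrimeSpectrum Γ(Y, W), q = hW.primeIdealOf ⟨y, hyW⟩ := ⟨_, rfl⟩
  have hP : hW.fromSpec.base q = y := by
    rw [hq]; exact hW.fromSpec_primeIdealOf ⟨y, hyW⟩
  have hmin : ∀ p' : Ideal Γ(Y, W), p'.IsPrime → p' ≤ q.asIdeal → p' = q.asIdeal := by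
    intro p' hp' hle
    have hsp : (⟨p', hp'⟩ : PrimeSpectrum Γ(Y, W)) ⤳ q :=
      (PrimeSpectrum.le_iff_specializes _ _).mp hle
    have h1 : hW.fromSpec.base ⟨p', hp'⟩ ⤳ y := by
      have := hsp.map hW.fromSpec.continuous
      rwa [hP] at this
    have h2 := hgen _ h1
    have h3 : (⟨p', hp'⟩ : PrimeSpectrum Γ(Y, W)) = q := by
      apply hW.fromSpec.isOpenEmbedding.injective
      rw [hP]; exact h2
    exact congrArg PrimeSpectrum.asIdeal h3
  let C : Set (PrimeSpectrum Γ(X, i.1)) := hUi.fromSpec.base ⁻¹' Z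
  have hC : IsClosed C := hZ.preimage hUi.fromSpec.continuous
  have hcomm : ∀ c : PrimeSpectrum Γ(X, i.1),
      hW.fromSpec.base (PrimeSpectrum.comap (f.appLE W i.1 e).hom c) =
        f.base (hUi.fromSpec.base c) := by
    intro c
    have h0 : (Spec.map (f.appLE W i.1 e) ≫ hW.fromSpec).base c =
        (hUi.fromSpec ≫ f).base c := by
      rw [IsAffineOpen.SpecMap_appLE_fromSpec f hW hUi e]
    exact h0
  have hsub : f.base '' (Z ∩ (i : Set X)) ⊆
      hW.fromSpec.base '' (PrimeSpectrum.comap (f.appLE W i.1 e).hom '' C) := by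
    rintro _ ⟨z, ⟨hzZ, hzi⟩, rfl⟩
    refine ⟨_, ⟨hUi.primeIdealOf ⟨z, hzi⟩, ?_, rfl⟩, ?_⟩
    · show hUi.fromSpec.base (hUi.primeIdealOf ⟨z, hzi⟩) ∈ Z
      rw [hUi.fromSpec_primeIdealOf ⟨z, hzi⟩]
      exact hzZ
    · rw [hcomm, hUi.fromSpec_primeIdealOf ⟨z, hzi⟩]
  have hq' : q ∈ closure (PrimeSpectrum.comap (f.appLE W i.1 e).hom '' C) := by
    have hq'' : q ∈ hW.fromSpec.base ⁻¹' closure (hW.fromSpec.base ''
        (PrimeSpectrum.comap (f.appLE W i.1 e).hom '' C)) := by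
      show hW.fromSpec.base q ∈ closure (hW.fromSpec.base ''
        (PrimeSpectrum.comap (f.appLE W i.1 e).hom '' C))
      rw [hP]
      exact closure_mono hsub hyi
    have hcl := hW.fromSpec.isOpenEmbedding.isInducing.closure_eq_preimage_closure_image
      (PrimeSpectrum.comap (f.appLE W i.1 e).hom '' C)
    exact (Set.ext_iff.mp hcl q).mpr hq''
  obtain ⟨c, hcC, hcq⟩ := exists_comap_eq_of_mem_closure _ C hC q hmin hq'
  refine ⟨hUi.fromSpec.base c, hcC, ?_⟩
  rw [← hcomm, hcq, hP]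

/-- The final statement: for a birational `f` that is quasi-compact or separated, there is a
dense open `V` with `f⁻¹ V → V` an isomorphism. -/
theorem exists_dense_isIso_morphismRestrict (f : X ⟶ Y)
    (hYfin : (irreducibleComponents ↥Y).Finite)
    (hbij : Set.BijOn (fun x : X => f.base x) {x : X | closure {x} ∈ irreducibleComponents ↥X}
      {y : Y | closure {y} ∈ irreducibleComponents ↥Y})
    (hiso : ∀ x : X, closure {x} ∈ irreducibleComponents ↥X → IsIso (f.stalkMap x))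
    (hf₁ : QuasiCompact f ∨ IsSeparated f)
    (hf₂ : (LocallyOfFiniteType f ∧ IsReduced Y) ∨ LocallyOfFinitePresentation f) :
    ∃ V : Y.Opens, Dense (V : Set ↥Y) ∧ IsIso (f ∣_ V) := by
  obtain ⟨U, hU, hUimm⟩ := exists_open_of_birational f hYfin hbij hiso hf₂
  have hmaps : ∀ x : X, closure {x} ∈ irreducibleComponents ↥X →
      closure {f.base x} ∈ irreducibleComponents ↥Y := fun x hx => hbij.mapsTo hx
  have hinj : ∀ x x' : X, closure {x} ∈ irreducibleComponents ↥X →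
      closure {x'} ∈ irreducibleComponents ↥X → f.base x = f.base x' → x = x' :=
    fun a b ha hb hab => hbij.injOn ha hb hab
  have hsurj : ∀ y : Y, closure {y} ∈ irreducibleComponents ↥Y →
      ∃ x : X, closure {x} ∈ irreducibleComponents ↥X ∧ f.base x = y := by
    intro y hy
    obtain ⟨x, hx, hxy⟩ := hbij.surjOn hy
    exact ⟨x, hx, hxy⟩
  obtain ⟨V₀, hUV, -, hdV, hisoUV, hV₀⟩ := exists_dense_isIso_resLE f hsurj U hU
  rcases hf₁ with hqc | hsep
  · -- quasi-compact case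
    let T : Set Y := closure (f.base '' (U : Set X)ᶜ)
    have hTcl : IsClosed T := isClosed_closure
    let V : Y.Opens := V₀ ⊓ ⟨Tᶜ, hTcl.isOpen_compl⟩
    have hgenV : ∀ y : Y, closure {y} ∈ irreducibleComponents ↥Y → y ∈ V := by
      intro y hy
      obtain ⟨x, hx, rfl⟩ := hsurj y hy
      refine ⟨hUV (hU x hx), ?_⟩
      intro hyT
      have hgen : ∀ y' : Y, y' ⤳ f.base x → y' = f.base x :=
        (Groth.Agent.S7658.mem_irreducibleComponents_iff (f.base x)).mp hy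
      obtain ⟨z, hzU, hz⟩ := exists_mem_of_mem_closure_image f _ U.2.isClosed_compl _ hgen hyT
      have : IsIso (f.stalkMap x) := hiso x hx
      have hzx : z = x := fiber_eq_singleton f hmaps hinj x hx z hz
      exact hzU (hzx ▸ hU x hx)
    refine ⟨V, dense_of_forall_generic_mem hgenV, ?_⟩
    refine isIso_morphismRestrict_of_le f U V (hV₀ ▸ inf_le_left) ?_
    intro z hz
    by_contra hzU
    exact hz.2 (subset_closure ⟨z, hzU, rfl⟩)
  · -- separated case
    refine ⟨V₀, hdV, ?_⟩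
    refine isIso_morphismRestrict_of_le f U V₀ hV₀.le ?_
    have hcl : IsClosedImmersion (X.homOfLE hUV) := by
      have h1 : IsClosedImmersion (X.homOfLE hUV ≫ f ∣_ V₀) := by
        have : X.homOfLE hUV ≫ f ∣_ V₀ = f.resLE V₀ U hUV := rfl
        rw [this]; infer_instance
      exact IsClosedImmersion.of_comp (X.homOfLE hUV) (f ∣_ V₀)
    have hclosed : IsClosed (Set.range (X.homOfLE hUV).base) :=
      (X.homOfLE hUV).isClosedEmbedding.isClosed_range
    intro t ht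
    obtain ⟨ξ, hξ, hξgen⟩ := Groth.Agent.S7658.exists_generic_specializes t
    have hξU : ξ ∈ U := hU ξ ((Groth.Agent.S7658.mem_irreducibleComponents_iff ξ).mpr hξgen)
    have hξX₀ : ξ ∈ f ⁻¹ᵁ V₀ := hUV hξU
    have hsp : (⟨ξ, hξX₀⟩ : ↥(f ⁻¹ᵁ V₀)) ⤳ ⟨t, ht⟩ := by
      rw [subtype_specializes_iff]; exact hξ
    have hmem : (⟨ξ, hξX₀⟩ : ↥(f ⁻¹ᵁ V₀)) ∈ Set.range (X.homOfLE hUV).base :=
      ⟨⟨ξ, hξU⟩, Scheme.homOfLE_apply' _ _ _⟩
    obtain ⟨u, hu⟩ := hsp.mem_closed hclosed hmem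
    have h5 : ((X.homOfLE hUV).base u).1 = t := congrArg Subtype.val hu
    rw [Scheme.homOfLE_apply] at h5
    exact h5 ▸ u.2

end Groth.Agent.H49.Birational
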