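import Mathlib
import Groth.Agent.H49.FibreCritFib
import Groth.Prelude.Def_MoreMor

/-!
# Flatness and thickenings of the base (S1381), modulo the fibrewise criterion `Core`
-/

set_option autoImplicit false
set_option linter.style.haveILetI false

universe u

open AlgebraicGeometry CategoryTheory Limits

namespace Groth.Agent.H49.Deform

variable {X X' Y Y' S S' : Scheme.{u}}

/-- The residue field map of a closed immersion is an isomorphism. -/
theorem isIso_residueFieldMap (i : S ⟶ S') [IsClosedImmersion i] (s : S) :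
    IsIso (i.residueFieldMap s) := by
  have hsurj : Function.Surjective (i.residueFieldMap s).hom := by
    intro y
    obtain ⟨b, rfl⟩ := IsLocalRing.residue_surjective y
    obtain ⟨a, rfl⟩ := i.stalkMap_surjective s b
    exact ⟨IsLocalRing.residue _ a, rfl⟩
  have hbij : Function.Bijective (i.residueFieldMap s).hom :=
    ⟨(i.residueFieldMap s).hom.injective, hsurj⟩
  exact (RingEquiv.ofBijective _ hbij).toCommRingCatIso.isIso_hom

/-- For a closed immersion `iS : S ⟶ S'`, the morphism of fibres of `X' ⟶ Y' ⟶ S'` over `iS s` is a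
base change of `f : X ⟶ Y`, where `X, Y` are the base changes of `X', Y'` to `S`. -/
theorem isPullback_fiberMap (iX : X ⟶ X') (iY : Y ⟶ Y') (iS : S ⟶ S')
    (f : X ⟶ Y) (f' : X' ⟶ Y') (g : Y ⟶ S) (g' : Y' ⟶ S') [IsClosedImmersion iS]
    (hcX : IsPullback iX (f ≫ g) (f' ≫ g') iS) (hcY : IsPullback iY g g' iS)
    (w : iX ≫ f' = f ≫ iY) (s : S) :
    ∃ (aX : (f' ≫ g').fiber (iS s) ⟶ X) (aY : g'.fiber (iS s) ⟶ Y),
      IsPullback aX (MoreMor.fiberMap f' g' (iS s)) f aY := by
  haveI := isIso_residueFieldMap iS s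
  let k : Spec (S'.residueField (iS s)) ⟶ S :=
    Spec.map (inv (iS.residueFieldMap s)) ≫ S.fromSpecResidueField s
  have hk : k ≫ iS = S'.fromSpecResidueField (iS s) := by
    change (Spec.map (inv (iS.residueFieldMap s)) ≫ S.fromSpecResidueField s) ≫ iS = _
    rw [Category.assoc, ← Scheme.Hom.SpecMap_residueFieldMap_fromSpecResidueField,
      ← Spec.map_comp_assoc, IsIso.hom_inv_id, Spec.map_id, Category.id_comp]
  have hfacX : (f' ≫ g').fiberι (iS s) ≫ f' ≫ g' =
      ((f' ≫ g').fiberToSpecResidueField (iS s) ≫ k) ≫ iS := by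
    rw [Category.assoc, hk]; exact (f' ≫ g').fiber_fac (iS s)
  have hfacY : g'.fiberι (iS s) ≫ g' = (g'.fiberToSpecResidueField (iS s) ≫ k) ≫ iS := by
    rw [Category.assoc, hk]; exact g'.fiber_fac (iS s)
  let aX : (f' ≫ g').fiber (iS s) ⟶ X := hcX.lift _ _ hfacX
  let aY : g'.fiber (iS s) ⟶ Y := hcY.lift _ _ hfacY
  have haX1 : aX ≫ iX = (f' ≫ g').fiberι (iS s) := hcX.lift_fst _ _ hfacX
  have haX2 : aX ≫ f ≫ g = (f' ≫ g').fiberToSpecResidueField (iS s) ≫ k :=
    hcX.lift_snd _ _ hfacX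
  have haY1 : aY ≫ iY = g'.fiberι (iS s) := hcY.lift_fst _ _ hfacY
  have haY2 : aY ≫ g = g'.fiberToSpecResidueField (iS s) ≫ k := hcY.lift_snd _ _ hfacY
  have hm1 : MoreMor.fiberMap f' g' (iS s) ≫ g'.fiberι (iS s) = (f' ≫ g').fiberι (iS s) ≫ f' :=
    pullback.lift_fst _ _ _
  have hm2 : MoreMor.fiberMap f' g' (iS s) ≫ g'.fiberToSpecResidueField (iS s) =
      (f' ≫ g').fiberToSpecResidueField (iS s) := pullback.lift_snd _ _ _
  -- bottom square
  have hbotY : IsPullback aY (g'.fiberToSpecResidueField (iS s)) g k := by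
    refine IsPullback.of_right ?_ haY2 hcY
    rw [haY1, hk]
    exact IsPullback.of_hasPullback g' (S'.fromSpecResidueField (iS s))
  have hbotX : IsPullback aX ((f' ≫ g').fiberToSpecResidueField (iS s)) (f ≫ g) k := by
    refine IsPullback.of_right ?_ haX2 hcX
    rw [haX1, hk]
    exact IsPullback.of_hasPullback (f' ≫ g') (S'.fromSpecResidueField (iS s))
  have hp : aX ≫ f = MoreMor.fiberMap f' g' (iS s) ≫ aY := by
    apply hcY.hom_ext
    · rw [Category.assoc, Category.assoc, haY1, hm1, ← w, ← Category.assoc, haX1]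
    · rw [Category.assoc, Category.assoc, haY2, reassoc_of% hm2, haX2]
  refine ⟨aX, aY, IsPullback.of_bot ?_ hp hbotY⟩
  rw [hm2]
  exact hbotX

/-- **Flatness deforms along thickenings of the base** (given the fibrewise criterion). -/
theorem flat_iff (H : Groth.Agent.H49.FibreCrit.Core.{u})
    (iX : X ⟶ X') (iY : Y ⟶ Y') (iS : S ⟶ S')
    (f : X ⟶ Y) (f' : X' ⟶ Y') (g : Y ⟶ S) (g' : Y' ⟶ S')
    (hS : MoreMor.IsThickening iS) (hcX : IsPullback iX (f ≫ g) (f' ≫ g') iS)
    (hcY : IsPullback iY g g' iS)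
    (w : iX ≫ f' = f ≫ iY) [Flat (f' ≫ g')] [LocallyOfFinitePresentation (f' ≫ g')]
    [LocallyOfFiniteType g'] :
    Flat f ↔ Flat f' := by
  haveI : IsClosedImmersion iS := hS.1
  haveI : Surjective iS := hS.2
  have hsq : IsPullback iX f f' iY :=
    (IsPullback.of_right hcX.flip w.symm hcY.flip).flip
  constructor
  · intro hf
    haveI := hf
    have hfib : ∀ s' : S', Flat (MoreMor.fiberMap f' g' s') := by
      intro s'
      obtain ⟨s, rfl⟩ := iS.surjective s'
      obtain ⟨aX, aY, hpb⟩ := isPullback_fiberMap iX iY iS f f' g g' hcX hcY w s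
      exact MorphismProperty.of_isPullback (P := @Flat) hpb hf
    rw [Flat.iff_flat_stalkMap]
    intro x'
    have h1 := (Groth.Agent.H49.FibreCrit.critere_structure H f' g').1 x'
    haveI := hfib (g' (f' x'))
    exact (h1.mp ⟨Flat.stalkMap (f' ≫ g') x',
      Flat.stalkMap (MoreMor.fiberMap f' g' (g' (f' x'))) _⟩).2
  · intro hf'
    exact MorphismProperty.of_isPullback (P := @Flat) hsq hf'

end Groth.Agent.H49.Deform
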