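import Mathlib.AlgebraicGeometry.Morphisms.UniversallyOpen
import Mathlib.AlgebraicGeometry.PullbackCarrier

set_option autoImplicit false
universe u

namespace Groth.Agent.H49

open AlgebraicGeometry CategoryTheory Limits

/-- Dominance is preserved by base change along an open map. -/
theorem isDominant_snd_of_isOpenMap {X Y U : Scheme.{u}} (f : X ⟶ Y) (g : U ⟶ Y)
    (hg : IsOpenMap g.base) [hf : IsDominant f] : IsDominant (pullback.snd f g) := by
  refine ⟨?_⟩
  rw [DenseRange, dense_iff_inter_open]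
  rintro V hV ⟨v, hv⟩
  have hopen : IsOpen (g.base '' V) := hg _ hV
  obtain ⟨_, ⟨⟨v', hv', rfl⟩, ⟨x, hx⟩⟩⟩ :=
    (dense_iff_inter_open.mp hf.denseRange) _ hopen ⟨g.base v, v, hv, rfl⟩
  obtain ⟨z, _, hz⟩ := Scheme.Pullback.exists_preimage_pullback (f := f) (g := g) x v' hx
  exact ⟨v', hv', z, hz⟩

/-- Dominance descends along a surjective base change. -/
theorem isDominant_of_snd_of_surjective {X Y U : Scheme.{u}} (f : X ⟶ Y) (g : U ⟶ Y)
    (hg : Function.Surjective g.base) [hdom : IsDominant (pullback.snd f g)] : IsDominant f := by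
  refine ⟨?_⟩
  rw [DenseRange, dense_iff_inter_open]
  rintro W hW ⟨y, hy⟩
  obtain ⟨u, rfl⟩ := hg y
  obtain ⟨_, hu', ⟨z, rfl⟩⟩ := (dense_iff_inter_open.mp hdom.denseRange) _
    (hW.preimage g.continuous) ⟨u, hy⟩
  refine ⟨g.base ((pullback.snd f g).base z), hu', (pullback.fst f g).base z, ?_⟩
  rw [← Scheme.Hom.comp_apply, pullback.condition, Scheme.Hom.comp_apply]

end Groth.Agent.H49
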