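import Mathlib
import Groth.Agent.H49.SliceSmoothRing

/-!
# Étale slices: local algebra (towards S0413)

Let `T` be a local `R`-algebra, formally smooth over `R`, with finitely generated module of
differentials, whose residue field is formally unramified over `R`.  Then there are finitely many
elements of the maximal ideal of `T` such that the quotient of `T` by them is formally étale over `R`.
-/

set_option autoImplicit false
set_option linter.style.haveILetI false

universe u

open TensorProduct KaehlerDifferential

namespace Groth.Agent.H49.EtaleSlice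

/-- An element of a projective module over a local ring outside `𝔪 M` is sent to a unit by some
linear functional. -/
theorem exists_functional_isUnit (T M : Type u) [CommRing T] [IsLocalRing T] [AddCommGroup M]
    [Module T M] [Module.Projective T M] (x : M)
    (hx : x ∉ IsLocalRing.maximalIdeal T • (⊤ : Submodule T M)) :
    ∃ φ : M →ₗ[T] T, IsUnit (φ x) := by
  by_contra hcon
  push Not at hcon
  obtain ⟨s, hs⟩ := Module.projective_def'.mp (inferInstance : Module.Projective T M)
  apply hx
  have h1 : x = Finsupp.linearCombination T id (s x) := by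
    have := LinearMap.congr_fun hs x
    simpa using this.symm
  rw [h1, Finsupp.linearCombination_apply, Finsupp.sum]
  refine Submodule.sum_mem _ fun m _ => ?_
  refine Submodule.smul_mem_smul ?_ trivial
  exact (IsLocalRing.mem_maximalIdeal _).mpr (hcon ((Finsupp.lapply m).comp s))

/-- If the residue field of the local `R`-algebra `T` is formally unramified over `R`, the module of
differentials is generated by the differentials of finitely many elements of the maximal ideal. -/
theorem exists_list_span_D (R T : Type u) [CommRing R] [CommRing T] [Algebra R T] [IsLocalRing T]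
    [Module.Finite T Ω[T⁄R]]
    [Algebra.FormallyUnramified R (IsLocalRing.ResidueField T)] :
    ∃ L : List T, (∀ h ∈ L, h ∈ IsLocalRing.maximalIdeal T) ∧
      Submodule.span T ((D R T) '' {h | h ∈ L}) = ⊤ := by
  classical
  have hsurj : Function.Surjective (algebraMap T (IsLocalRing.ResidueField T)) :=
    IsLocalRing.residue_surjective
  have hex := KaehlerDifferential.exact_kerCotangentToTensor_mapBaseChange R T
    (IsLocalRing.ResidueField T) hsurj
  have key : ∀ y : IsLocalRing.ResidueField T ⊗[T] Ω[T⁄R], ∃ h ∈ IsLocalRing.maximalIdeal T,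
      (1 : IsLocalRing.ResidueField T) ⊗ₜ[T] D R T h = y := by
    intro y
    have h0 : KaehlerDifferential.mapBaseChange R T (IsLocalRing.ResidueField T) y = 0 :=
      Subsingleton.elim _ _
    obtain ⟨c, hc⟩ := (hex y).mp h0
    obtain ⟨⟨h, hh⟩, rfl⟩ := Ideal.toCotangent_surjective _ c
    refine ⟨h, ?_, ?_⟩
    · have := RingHom.mem_ker.mp hh
      exact (IsLocalRing.residue_eq_zero_iff h).mp this
    · rw [← hc, KaehlerDifferential.kerCotangentToTensor_toCotangent]
  let b := Module.finBasis (IsLocalRing.ResidueField T) (IsLocalRing.ResidueField T ⊗[T] Ω[T⁄R])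
  choose hfun hmem heq using fun i => key (b i)
  have hspan := IsLocalRing.span_eq_top_of_tmul_eq_basis (R := T) (fun i => D R T (hfun i)) b heq
  refine ⟨List.ofFn hfun, ?_, ?_⟩
  · intro h hh
    obtain ⟨i, rfl⟩ := (List.mem_ofFn' _ _).mp hh
    exact hmem i
  · rw [← hspan]
    congr 1
    ext ω
    simp only [Set.mem_image, Set.mem_ofPred_eq, List.mem_ofFn', Set.mem_range]
    constructor
    · rintro ⟨_, ⟨i, rfl⟩, rfl⟩
      exact ⟨i, rfl⟩
    · rintro ⟨i, rfl⟩
      exact ⟨_, ⟨i, rfl⟩, rfl⟩


/-- Surjectivity of `Ω[T⁄R] → Ω[(T⧸I)⁄R]` transports generators. -/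
theorem span_D_quotient (R T : Type u) [CommRing R] [CommRing T] [Algebra R T] (h : T)
    (L₀ : List T)
    (hspan : Submodule.span T ((D R T) '' {h' | h' ∈ h :: L₀}) = ⊤) :
    Submodule.span (T ⧸ Ideal.span {h}) ((D R (T ⧸ Ideal.span {h})) ''
      {h' | h' ∈ L₀.map (Ideal.Quotient.mk (Ideal.span {h}))}) = ⊤ := by
  rw [eq_top_iff]
  intro ω _
  obtain ⟨ω', rfl⟩ := KaehlerDifferential.map_surjective_of_surjective R R T (T ⧸ Ideal.span {h})
    (Ideal.Quotient.mk_surjective (I := Ideal.span {h})) ω
  have hω' : ω' ∈ Submodule.span T ((D R T) '' {h' | h' ∈ h :: L₀}) := by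
    rw [hspan]; trivial
  refine Submodule.span_induction ?_ ?_ ?_ ?_ hω'
  · rintro _ ⟨h', hh', rfl⟩
    rw [KaehlerDifferential.map_D]
    rcases List.mem_cons.mp hh' with rfl | hh''
    · have : algebraMap T (T ⧸ Ideal.span {h'}) h' = 0 :=
        Ideal.Quotient.eq_zero_iff_mem.mpr (Ideal.subset_span rfl)
      rw [this, map_zero]
      exact Submodule.zero_mem _
    · exact Submodule.subset_span ⟨_, List.mem_map_of_mem hh'', rfl⟩
  · rw [map_zero]; exact Submodule.zero_mem _
  · intro a b _ _ ha hb
    rw [map_add]; exact Submodule.add_mem _ ha hb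
  · intro t a _ ha
    rw [map_smul, ← algebraMap_smul (T ⧸ Ideal.span {h}) t]
    exact Submodule.smul_mem _ _ ha


set_option maxHeartbeats 1600000 in
/-- The inductive step machine: slicing by generators of the module of differentials. -/
theorem exists_list_formallyEtale_aux (R : Type u) [CommRing R] :
    ∀ (n : ℕ) (T : Type u) [CommRing T] [IsLocalRing T] [Algebra R T]
      [Algebra.FormallySmooth R T] [Module.Finite T Ω[T⁄R]] (L : List T), L.length = n →
      (∀ h ∈ L, h ∈ IsLocalRing.maximalIdeal T) →
      Submodule.span T ((D R T) '' {h | h ∈ L}) = ⊤ →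
      ∃ L' : List T, (∀ h ∈ L', h ∈ IsLocalRing.maximalIdeal T) ∧
        Algebra.FormallyEtale R (T ⧸ Ideal.span {h | h ∈ L'}) := by
  intro n
  induction n with
  | zero =>
    intro T _ _ _ _ _ L hlen hmem hspan
    have hL : L = [] := List.length_eq_zero_iff.mp hlen
    subst hL
    have htop : (⊥ : Submodule T Ω[T⁄R]) = ⊤ := by
      rw [← hspan]; simp
    haveI : Subsingleton Ω[T⁄R] := by
      rw [← Submodule.subsingleton_iff T]
      exact subsingleton_of_bot_eq_top htop
    haveI : Algebra.FormallyUnramified R T := ⟨inferInstance⟩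
    haveI : Algebra.FormallyEtale R T :=
      Algebra.FormallyEtale.iff_formallyUnramified_and_formallySmooth.mpr ⟨inferInstance, inferInstance⟩
    refine ⟨[], by simp, ?_⟩
    have hbot : Ideal.span {h : T | h ∈ ([] : List T)} = ⊥ := by simp
    exact Algebra.FormallyEtale.of_equiv
      ((Ideal.quotientEquivAlgOfEq R hbot).trans (AlgEquiv.quotientBot R T)).symm
  | succ n ih =>
    intro T _ _ _ _ _ L hlen hmem hspan
    obtain ⟨h, L₀, rfl⟩ : ∃ h L₀, L = h :: L₀ := by
      cases L with
      | nil => simp at hlen
      | cons h L₀ => exact ⟨h, L₀, rfl⟩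
    have hlen₀ : L₀.length = n := by simpa using hlen
    by_cases hcase : D R T h ∈ IsLocalRing.maximalIdeal T • (⊤ : Submodule T Ω[T⁄R])
    · -- the element is redundant: drop it
      refine ih T L₀ hlen₀ (fun h' hh' => hmem h' (List.mem_cons_of_mem _ hh')) ?_
      have hle : (⊤ : Submodule T Ω[T⁄R]) ≤ Submodule.span T ((D R T) '' {h | h ∈ L₀}) ⊔
          IsLocalRing.maximalIdeal T • ⊤ := by
        intro ω _
        have hω : ω ∈ Submodule.span T ((D R T) '' {h' | h' ∈ h :: L₀}) := by
          rw [hspan]; trivial
        refine (Submodule.span_le.mpr ?_) hω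
        rintro _ ⟨h', hh', rfl⟩
        rcases List.mem_cons.mp hh' with rfl | hh''
        · exact Submodule.mem_sup_right hcase
        · exact Submodule.mem_sup_left (Submodule.subset_span ⟨h', hh'', rfl⟩)
      exact top_le_iff.mp (Submodule.le_of_le_smul_of_le_jacobson_bot Module.Finite.fg_top
        (by rw [IsLocalRing.jacobson_eq_maximalIdeal ⊥ bot_ne_top]) hle)
    · -- slice by `h`
      obtain ⟨φ, hφ⟩ := exists_functional_isUnit T Ω[T⁄R] (D R T h) hcase
      have hhm : h ∈ IsLocalRing.maximalIdeal T := hmem h List.mem_cons_self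
      have hne : Ideal.span {h} ≠ ⊤ := by
        intro htop
        have h1 : Ideal.span {h} ≤ IsLocalRing.maximalIdeal T :=
          (Ideal.span_singleton_le_iff_mem _).mpr hhm
        rw [htop] at h1
        exact (IsLocalRing.maximalIdeal.isMaximal T).ne_top (top_le_iff.mp h1)
      haveI : Nontrivial (T ⧸ Ideal.span {h}) := Ideal.Quotient.nontrivial_iff.mpr hne
      haveI : IsLocalRing (T ⧸ Ideal.span {h}) :=
        IsLocalRing.of_surjective' (Ideal.Quotient.mk (Ideal.span {h}))
          Ideal.Quotient.mk_surjective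
      haveI : IsLocalHom (Ideal.Quotient.mk (Ideal.span {h})) :=
        IsLocalHom.of_surjective _ Ideal.Quotient.mk_surjective
      haveI : Algebra.FormallyEtale T T := inferInstance
      haveI hfs : Algebra.FormallySmooth R (T ⧸ Ideal.span {h}) :=
        Groth.Agent.H49.SliceSmooth.formallySmooth_quotient_of_functional R T T h φ hφ
      haveI : Module.Finite T Ω[(T ⧸ Ideal.span {h})⁄R] :=
        Module.Finite.of_surjective (KaehlerDifferential.map R R T (T ⧸ Ideal.span {h}))
          (KaehlerDifferential.map_surjective_of_surjective R R T (T ⧸ Ideal.span {h})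
            (Ideal.Quotient.mk_surjective (I := Ideal.span {h})))
      haveI : Module.Finite (T ⧸ Ideal.span {h}) Ω[(T ⧸ Ideal.span {h})⁄R] :=
        Module.Finite.of_restrictScalars_finite T _ _
      have hmem₁ : ∀ t ∈ L₀.map (Ideal.Quotient.mk (Ideal.span {h})),
          t ∈ IsLocalRing.maximalIdeal (T ⧸ Ideal.span {h}) := by
        intro t ht
        obtain ⟨t', ht', rfl⟩ := List.mem_map.mp ht
        have h1 : t' ∈ IsLocalRing.maximalIdeal T := hmem t' (List.mem_cons_of_mem _ ht')
        rw [IsLocalRing.mem_maximalIdeal, mem_nonunits_iff] at h1 ⊢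
        intro hu
        exact h1 ((isUnit_map_iff (Ideal.Quotient.mk (Ideal.span {h})) t').mp hu)
      obtain ⟨L₁, hL₁m, hL₁⟩ := ih (T ⧸ Ideal.span {h})
        (L₀.map (Ideal.Quotient.mk (Ideal.span {h}))) (by simpa using hlen₀) hmem₁
        (span_D_quotient R T h L₀ hspan)
      -- lift the list
      let sInv : T ⧸ Ideal.span {h} → T :=
        Function.surjInv (Ideal.Quotient.mk_surjective (I := Ideal.span {h}))
      have hsInv : ∀ t, Ideal.Quotient.mk (Ideal.span {h}) (sInv t) = t :=
        Function.surjInv_eq _
      refine ⟨h :: L₁.map sInv, ?_, ?_⟩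
      · intro t ht
        rcases List.mem_cons.mp ht with rfl | ht'
        · exact hhm
        · obtain ⟨t₁, ht₁, rfl⟩ := List.mem_map.mp ht'
          have h1 := hL₁m t₁ ht₁
          rw [IsLocalRing.mem_maximalIdeal, mem_nonunits_iff] at h1 ⊢
          intro hu
          apply h1
          have := hu.map (Ideal.Quotient.mk (Ideal.span {h}))
          rwa [hsInv] at this
      · have hJ : (Ideal.span {t | t ∈ L₁.map sInv}).map
            (Ideal.Quotient.mkₐ R (Ideal.span {h})) = Ideal.span {t | t ∈ L₁} := by
          rw [Ideal.map_span]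
          congr 1
          ext t
          simp only [Set.mem_image, Set.mem_ofPred_eq, List.mem_map]
          constructor
          · rintro ⟨_, ⟨t₁, ht₁, rfl⟩, rfl⟩
            rw [Ideal.Quotient.mkₐ_eq_mk, hsInv]
            exact ht₁
          · intro ht
            exact ⟨sInv t, ⟨t, ht, rfl⟩, by rw [Ideal.Quotient.mkₐ_eq_mk, hsInv]⟩
        have hIJ : Ideal.span {h} ⊔ Ideal.span {t | t ∈ L₁.map sInv} =
            Ideal.span {t | t ∈ h :: L₁.map sInv} := by
          rw [← Ideal.span_union]
          congr 1
          ext t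
          simp [Set.mem_ofPred_eq]
        have e1 := DoubleQuot.quotQuotEquivQuotSupₐ R (Ideal.span {h})
          (Ideal.span {t | t ∈ L₁.map sInv})
        have e2 := Ideal.quotientEquivAlgOfEq R hJ
        have e3 := Ideal.quotientEquivAlgOfEq R hIJ
        exact Algebra.FormallyEtale.of_equiv ((e2.symm.trans e1).trans e3)


/-- Local form of the étale slice: finitely many elements of the maximal ideal cut out a formally
étale quotient. -/
theorem exists_list_formallyEtale (R T : Type u) [CommRing R] [CommRing T] [Algebra R T]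
    [IsLocalRing T] [Algebra.FormallySmooth R T] [Module.Finite T Ω[T⁄R]]
    [Algebra.FormallyUnramified R (IsLocalRing.ResidueField T)] :
    ∃ L' : List T, (∀ h ∈ L', h ∈ IsLocalRing.maximalIdeal T) ∧
      Algebra.FormallyEtale R (T ⧸ Ideal.span {h | h ∈ L'}) := by
  obtain ⟨L, hLm, hL⟩ := exists_list_span_D R T
  exact exists_list_formallyEtale_aux R L.length T L rfl hLm hL

/-- Numerators of a finite list of elements of a localization. -/
theorem exists_numerators {B T : Type u} [CommRing B] [CommRing T] [Algebra B T]
    (M : Submonoid B) [IsLocalization M T] (L' : List T) :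
    ∃ Lb : List B, (Ideal.span {b | b ∈ Lb}).map (algebraMap B T) = Ideal.span {t | t ∈ L'} ∧
      ∀ b ∈ Lb, ∃ t ∈ L', ∃ s : M, t * algebraMap B T s = algebraMap B T b := by
  induction L' with
  | nil => exact ⟨[], by simp, by simp⟩
  | cons t L'' ih =>
    obtain ⟨Lb'', h1, h2⟩ := ih
    have hsec := IsLocalization.sec_spec M t
    refine ⟨(IsLocalization.sec M t).1 :: Lb'', ?_, ?_⟩
    · have e1 : {b | b ∈ (IsLocalization.sec M t).1 :: Lb''} =
          {(IsLocalization.sec M t).1} ∪ {b | b ∈ Lb''} := by
        ext b; simp [Set.mem_ofPred_eq]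
      have e2 : {x | x ∈ t :: L''} = {t} ∪ {x | x ∈ L''} := by
        ext b; simp [Set.mem_ofPred_eq]
      rw [e1, e2, Ideal.span_union, Ideal.span_union, Ideal.map_sup, h1, Ideal.map_span,
        Set.image_singleton, ← hsec,
        Ideal.span_singleton_mul_right_unit (IsLocalization.map_units T _)]
    · intro b hb
      rcases List.mem_cons.mp hb with rfl | hb'
      · exact ⟨t, List.mem_cons_self, (IsLocalization.sec M t).2, hsec⟩
      · obtain ⟨t', ht', s, hs⟩ := h2 b hb'
        exact ⟨t', List.mem_cons_of_mem _ ht', s, hs⟩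

end Groth.Agent.H49.EtaleSlice
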