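import Mathlib
import Groth.Agent.H49.EtaleSliceLocal

/-!
# Étale slices: affine charts (towards S0413)
-/

set_option autoImplicit false
set_option linter.style.haveILetI false

universe u

open TensorProduct KaehlerDifferential

namespace Groth.Agent.H49.EtaleSlice

set_option maxHeartbeats 1600000 in
/-- Affine form of the étale slice: if `B` is smooth over `A` and the residue field at the prime `q`
of `B` is formally unramified over `A`, then finitely many elements of `q` cut out a quotient which
is étale over `A` near `q`. -/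
theorem exists_etale_slice (A B T : Type u) [CommRing A] [CommRing B] [CommRing T] [Algebra A B]
    [Algebra B T] [Algebra A T] [IsScalarTower A B T]
    [Algebra.Smooth A B] (q : Ideal B) [q.IsPrime] [IsLocalization.AtPrime T q] [IsLocalRing T]
    [Algebra.FormallyUnramified A (IsLocalRing.ResidueField T)] :
    ∃ Lb : List B, (∀ b ∈ Lb, b ∈ q) ∧ ∃ g : B, g ∉ q ∧
      Algebra.Etale A (Localization.Away (Ideal.Quotient.mk (Ideal.span {b | b ∈ Lb}) g)) := by
  haveI : Algebra.FormallySmooth B T :=
    Algebra.FormallySmooth.of_isLocalization q.primeCompl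
  haveI : Algebra.FormallySmooth A T :=
    Algebra.FormallySmooth.comp A B T
  haveI : Algebra.EssFiniteType B T := Algebra.EssFiniteType.of_isLocalization T q.primeCompl
  haveI : Algebra.EssFiniteType A T :=
    Algebra.EssFiniteType.comp A B T
  obtain ⟨L', hL'm, hL'⟩ := exists_list_formallyEtale A T
  obtain ⟨Lb, hLb, hLb2⟩ := exists_numerators (T := T) q.primeCompl L'
  have hLbq : ∀ b ∈ Lb, b ∈ q := by
    intro b hb
    obtain ⟨t, ht, s, hs⟩ := hLb2 b hb
    rw [← IsLocalization.AtPrime.to_map_mem_maximal_iff T q, ← hs]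
    exact Ideal.mul_mem_right _ _ (hL'm t ht)
  refine ⟨Lb, hLbq, ?_⟩
  classical
  have hIq : Ideal.span {b | b ∈ Lb} ≤ q := Ideal.span_le.mpr hLbq
  have hIfg : (Ideal.span {b | b ∈ Lb}).FG := ⟨Lb.toFinset, by rw [List.coe_toFinset]⟩
  generalize Ideal.span {b | b ∈ Lb} = I at hLb hIq hIfg
  haveI hfe1 : Algebra.FormallyEtale A
      (T ⧸ I.map (algebraMap B T)) :=
    Algebra.FormallyEtale.of_equiv (Ideal.quotientEquivAlgOfEq A hLb.symm)
  haveI hq'prime : (q.map (Ideal.Quotient.mk I)).IsPrime :=
    Ideal.map_isPrime_of_surjective Ideal.Quotient.mk_surjective (by rwa [Ideal.mk_ker])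
  have hsub : Algebra.algebraMapSubmonoid (B ⧸ I) q.primeCompl =
      (q.map (Ideal.Quotient.mk I)).primeCompl := by
    ext y
    constructor
    · rintro ⟨b, hb, rfl⟩
      intro hmem
      obtain ⟨b', hb', hbb'⟩ :=
        (Ideal.mem_map_iff_of_surjective _ Ideal.Quotient.mk_surjective).mp hmem
      have h1 : b' - b ∈ I := Ideal.Quotient.eq.mp hbb'
      apply hb
      have h2 := q.sub_mem hb' (hIq h1)
      rwa [sub_sub_cancel] at h2
    · intro hy
      obtain ⟨b, rfl⟩ := Ideal.Quotient.mk_surjective y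
      exact ⟨b, fun hb => hy (Ideal.mem_map_of_mem _ hb), rfl⟩
  haveI hloc : IsLocalization.AtPrime
      (T ⧸ I.map (algebraMap B T))
      (q.map (Ideal.Quotient.mk I)) := by
    have h0 : IsLocalization (Algebra.algebraMapSubmonoid (B ⧸ I) q.primeCompl)
        (T ⧸ I.map (algebraMap B T)) := inferInstance
    rw [hsub] at h0
    exact h0
  haveI : IsScalarTower A (B ⧸ I)
      (T ⧸ I.map (algebraMap B T)) :=
    IsScalarTower.of_algebraMap_eq fun a => by
      rw [IsScalarTower.algebraMap_apply A B (B ⧸ I), Ideal.Quotient.algebraMap_eq,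
        Ideal.Quotient.algebraMap_quotient_map_quotient,
        ← IsScalarTower.algebraMap_apply A B T]
      rfl
  let e : (T ⧸ I.map (algebraMap B T)) ≃ₐ[B ⧸ I]
      Localization.AtPrime (q.map (Ideal.Quotient.mk I)) :=
    IsLocalization.algEquiv (q.map (Ideal.Quotient.mk I)).primeCompl _ _
  haveI : Algebra.IsEtaleAt A (q.map (Ideal.Quotient.mk I)) :=
    Algebra.FormallyEtale.of_equiv (e.restrictScalars A)
  haveI : Algebra.FinitePresentation A (B ⧸ I) := Algebra.FinitePresentation.quotient hIfg
  obtain ⟨g', hg'q, hg'⟩ := Algebra.exists_etale_of_isEtaleAt (R := A) (q.map (Ideal.Quotient.mk I))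
  obtain ⟨g, rfl⟩ := Ideal.Quotient.mk_surjective g'
  exact ⟨g, fun hgq => hg'q (Ideal.mem_map_of_mem _ hgq), hg'⟩

end Groth.Agent.H49.EtaleSlice
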