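import Mathlib
import Groth.Agent.H49.SliceSmoothRing
import Groth.Agent.H49.SmoothFibre
import Groth.Agent.H49.SliceSch

/-!
# Smooth slices: scheme level (S9725)
-/

set_option autoImplicit false
set_option linter.style.haveILetI false

universe u

open AlgebraicGeometry CategoryTheory Limits TensorProduct

namespace Groth.Agent.H49.SliceSmooth

variable {X S : Scheme.{u}}

/-- Smoothness of the ring maps of charts inside an open on which the morphism is smooth. -/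
theorem smooth_appLE_of_le (f : X ⟶ S) (Wo : X.Opens) (hW : Smooth (Wo.ι ≫ f)) {V : S.Opens}
    (hV : IsAffineOpen V) {U₀ : X.Opens} (hU₀ : IsAffineOpen U₀) (hle : U₀ ≤ Wo)
    (e : U₀ ≤ f ⁻¹ᵁ V) : (f.appLE V U₀ e).hom.Smooth := by
  have hU' : IsAffineOpen (Wo.ι ⁻¹ᵁ U₀) :=
    hU₀.preimage_of_isOpenImmersion Wo.ι (by rw [Scheme.Opens.opensRange_ι]; exact hle)
  have e' : Wo.ι ⁻¹ᵁ U₀ ≤ (Wo.ι ≫ f) ⁻¹ᵁ V := fun z hz => e hz
  have h1 := (Wo.ι ≫ f).smooth_appLE hV hU' e'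
  have h2 : f.appLE V U₀ e ≫ Wo.ι.appLE U₀ (Wo.ι ⁻¹ᵁ U₀) le_rfl =
      (Wo.ι ≫ f).appLE V (Wo.ι ⁻¹ᵁ U₀) e' := Scheme.Hom.appLE_comp_appLE _ _ _ _ _ _ _
  rw [← h2] at h1
  haveI : IsIso (Wo.ι.appLE U₀ (Wo.ι ⁻¹ᵁ U₀) le_rfl) := by
    rw [← Scheme.Hom.app_eq_appLE]
    exact Wo.ι.isIso_app U₀ (by rw [Scheme.Opens.opensRange_ι]; exact hle)
  exact (RingHom.Smooth.respectsIso.cancel_right_isIso _ _).mp h1

/-- Stalk level consequences of smoothness near a point. -/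
theorem stalk_facts (f : X ⟶ S) (x : X) (Wo : X.Opens) (hxW : x ∈ Wo) (hW : Smooth (Wo.ι ≫ f)) :
    (f.stalkMap x).hom.Flat ∧ (f.stalkMap x).hom.FormallySmooth ∧
      (f.stalkMap x).hom.EssFiniteType := by
  refine ⟨?_, ?_, ?_⟩
  · exact (Groth.Agent.H49.SmoothFibre.stalkMap_prop_comp_left RingHom.Flat.respectsIso Wo.ι f ⟨x, hxW⟩).mp
      (AlgebraicGeometry.Flat.stalkMap (Wo.ι ≫ f) ⟨x, hxW⟩)
  · have h1 : (⟨x, hxW⟩ : Wo) ∈ (Wo.ι ≫ f).smoothLocus := by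
      rw [Scheme.Hom.smoothLocus_eq_top]; trivial
    exact (Groth.Agent.H49.SmoothFibre.stalkMap_prop_comp_left RingHom.FormallySmooth.respectsIso Wo.ι f
      ⟨x, hxW⟩).mp (Scheme.Hom.mem_smoothLocus.mp h1)
  · exact (Groth.Agent.H49.SmoothFibre.stalkMap_prop_comp_left RingHom.EssFiniteType.respectsIso Wo.ι f
      ⟨x, hxW⟩).mp (LocallyOfFiniteType.stalkMap (Wo.ι ≫ f) ⟨x, hxW⟩)

set_option maxHeartbeats 1600000 in
/-- Statement of S9725: slicing a smooth morphism by an element with nonvanishing differential. -/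
theorem slice_smooth (f : X ⟶ S) (x : X) (Wo : X.Opens) (hxW : x ∈ Wo) (hW : Smooth (Wo.ι ≫ f))
    (h : X.presheaf.stalk x)
    (hd : letI := (f.stalkMap x).hom.toAlgebra
      (1 : IsLocalRing.ResidueField ↑(X.presheaf.stalk x)) ⊗ₜ[↑(X.presheaf.stalk x)]
          (KaehlerDifferential.D ↑(S.presheaf.stalk (f x)) ↑(X.presheaf.stalk x) h) ≠ 0) :
    ∃ (U : X.Opens) (hU : IsAffineOpen U) (hx : x ∈ U) (h' : Γ(X, U)),
      X.presheaf.germ U x hx h' = h ∧ h' ∈ nonZeroDivisors Γ(X, U) ∧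
      Smooth (Spec.map (CommRingCat.ofHom (Ideal.Quotient.mk (Ideal.span {h'}))) ≫
        hU.fromSpec ≫ f) := by
  obtain ⟨hflat, hfs, heft⟩ := stalk_facts f x Wo hxW hW
  letI algx : Algebra (S.presheaf.stalk (f x)) (X.presheaf.stalk x) :=
    (f.stalkMap x).hom.toAlgebra
  haveI : IsLocalHom (algebraMap (S.presheaf.stalk (f x)) (X.presheaf.stalk x)) :=
    inferInstanceAs (IsLocalHom (f.stalkMap x).hom)
  haveI : Module.Flat (S.presheaf.stalk (f x)) (X.presheaf.stalk x) := hflat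
  haveI : Algebra.FormallySmooth (S.presheaf.stalk (f x)) (X.presheaf.stalk x) := hfs
  haveI : Algebra.EssFiniteType (S.presheaf.stalk (f x)) (X.presheaf.stalk x) := heft
  -- Step A: regularity on the fibre
  haveI hdom := isDomain_fibre (S.presheaf.stalk (f x)) (X.presheaf.stalk x)
  have hnot : h ∉ (IsLocalRing.maximalIdeal (S.presheaf.stalk (f x))).map
      (algebraMap (S.presheaf.stalk (f x)) (X.presheaf.stalk x)) :=
    fun hh => hd (tmul_D_eq_zero_of_mem _ _ h hh)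
  have hreg : Ideal.Quotient.mk ((IsLocalRing.maximalIdeal (S.presheaf.stalk (f x))).map
      (algebraMap (S.presheaf.stalk (f x)) (X.presheaf.stalk x))) h ∈ nonZeroDivisors _ :=
    mem_nonZeroDivisors_of_ne_zero (by rwa [Ne, Ideal.Quotient.eq_zero_iff_mem])
  -- charts
  obtain ⟨V, hV, hxV, -⟩ :=
    exists_isAffineOpen_mem_and_subset (x := f x) (U := (⊤ : S.Opens)) trivial
  obtain ⟨W', hxW', s, hs⟩ := TopCat.Presheaf.exists_germ_eq X.presheaf h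
  obtain ⟨U₀, hU₀, hxU₀, hU₀le⟩ :=
    exists_isAffineOpen_mem_and_subset (x := x) (U := f ⁻¹ᵁ V ⊓ W' ⊓ Wo) ⟨⟨hxV, hxW'⟩, hxW⟩
  have hU₀V : U₀ ≤ f ⁻¹ᵁ V := hU₀le.trans (inf_le_left.trans inf_le_left)
  have hU₀W' : U₀ ≤ W' := hU₀le.trans (inf_le_left.trans inf_le_right)
  have hU₀Wo : U₀ ≤ Wo := hU₀le.trans inf_le_right
  let h₀ : Γ(X, U₀) := X.presheaf.map (homOfLE hU₀W').op s
  have hh₀ : X.presheaf.germ U₀ x hxU₀ h₀ = h := by
    rw [TopCat.Presheaf.germ_res_apply]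
    exact hs
  have hsm := smooth_appLE_of_le f Wo hW hV hU₀ hU₀Wo hU₀V
  -- algebra set-up
  letI : Algebra Γ(S, V) Γ(X, U₀) := (f.appLE V U₀ hU₀V).hom.toAlgebra
  haveI : Algebra.Smooth Γ(S, V) Γ(X, U₀) := hsm
  haveI : Algebra.FinitePresentation Γ(S, V) Γ(X, U₀) := inferInstance
  haveI : Algebra.FormallySmooth Γ(S, V) Γ(X, U₀) := inferInstance
  letI : Algebra Γ(S, V) (S.presheaf.stalk (f x)) := S.presheaf.algebra_section_stalk ⟨f x, hxV⟩
  letI : Algebra Γ(X, U₀) (X.presheaf.stalk x) := X.presheaf.algebra_section_stalk ⟨x, hxU₀⟩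
  letI : Algebra Γ(S, V) (X.presheaf.stalk x) :=
    ((algebraMap (S.presheaf.stalk (f x)) (X.presheaf.stalk x)).comp
      (algebraMap Γ(S, V) (S.presheaf.stalk (f x)))).toAlgebra
  haveI : IsScalarTower Γ(S, V) (S.presheaf.stalk (f x)) (X.presheaf.stalk x) :=
    .of_algebraMap_eq fun _ => rfl
  haveI : IsScalarTower Γ(S, V) Γ(X, U₀) (X.presheaf.stalk x) := .of_algebraMap_eq fun a => by
    change (f.stalkMap x).hom (S.presheaf.germ V (f x) hxV a) =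
      X.presheaf.germ U₀ x hxU₀ ((f.appLE V U₀ hU₀V).hom a)
    exact Groth.Agent.H57.stalkMap_germ_appLE f hU₀V x hxU₀ a
  haveI := hV.isLocalization_stalk ⟨f x, hxV⟩
  haveI := hU₀.isLocalization_stalk ⟨x, hxU₀⟩
  have halg : algebraMap Γ(X, U₀) (X.presheaf.stalk x) h₀ = h := hh₀
  -- spreading out regularity
  obtain ⟨g, hgq, hkill⟩ := exists_kill Γ(S, V) (S.presheaf.stalk (f x)) Γ(X, U₀)
    (X.presheaf.stalk x) (hV.primeIdealOf ⟨f x, hxV⟩).asIdeal (hU₀.primeIdealOf ⟨x, hxU₀⟩).asIdeal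
    congr($(IsAffineOpen.comap_primeIdealOf_appLE V hV U₀ hU₀ hU₀V hxU₀).1).symm h₀
    (by rw [halg]; exact hreg)
  -- the functional
  haveI : Module.Projective Γ(X, U₀) Ω[Γ(X, U₀)⁄Γ(S, V)] := inferInstance
  obtain ⟨φ, hφ⟩ := exists_functional Γ(S, V) (S.presheaf.stalk (f x)) Γ(X, U₀)
    (X.presheaf.stalk x) h₀ (by rw [halg]; exact hd)
  have hg₁q : φ (KaehlerDifferential.D Γ(S, V) Γ(X, U₀) h₀) ∉
      (hU₀.primeIdealOf ⟨x, hxU₀⟩).asIdeal := by
    intro hmem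
    exact ((IsLocalization.AtPrime.isUnit_to_map_iff (X.presheaf.stalk x)
      (hU₀.primeIdealOf ⟨x, hxU₀⟩).asIdeal _).mp hφ) hmem
  -- the basic open
  have hggq : g * φ (KaehlerDifferential.D Γ(S, V) Γ(X, U₀) h₀) ∉
      (hU₀.primeIdealOf ⟨x, hxU₀⟩).asIdeal := fun hmem =>
    (Ideal.IsPrime.mem_or_mem inferInstance hmem).elim hgq hg₁q
  have hxg : x ∈ X.basicOpen (g * φ (KaehlerDifferential.D Γ(S, V) Γ(X, U₀) h₀)) :=
    (Groth.Agent.H8.mem_basicOpen_iff_notMem_primeIdealOf hU₀ x hxU₀ _).mpr hggq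
  generalize hg₁ : φ (KaehlerDifferential.D Γ(S, V) Γ(X, U₀) h₀) = g₁ at hφ hg₁q hggq hxg
  have hU : IsAffineOpen (X.basicOpen (g * g₁)) := hU₀.basicOpen (g * g₁)
  haveI : IsLocalization.Away (g * g₁) Γ(X, X.basicOpen (g * g₁)) :=
    hU₀.isLocalization_basicOpen (g * g₁)
  have hUV : X.basicOpen (g * g₁) ≤ f ⁻¹ᵁ V := (X.basicOpen_le (g * g₁)).trans hU₀V
  letI : Algebra Γ(S, V) Γ(X, X.basicOpen (g * g₁)) :=
    (f.appLE V (X.basicOpen (g * g₁)) hUV).hom.toAlgebra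
  haveI : IsScalarTower Γ(S, V) Γ(X, U₀) Γ(X, X.basicOpen (g * g₁)) :=
    .of_algebraMap_eq fun a => by
      change (f.appLE V (X.basicOpen (g * g₁)) hUV).hom a =
        (X.presheaf.map (homOfLE (X.basicOpen_le (g * g₁))).op).hom ((f.appLE V U₀ hU₀V).hom a)
      rw [← Scheme.Hom.appLE_map f hU₀V (homOfLE (X.basicOpen_le (g * g₁))).op]
      rfl
  haveI : Algebra.FormallyEtale Γ(X, U₀) Γ(X, X.basicOpen (g * g₁)) :=
    Algebra.FormallyEtale.of_isLocalization (Submonoid.powers (g * g₁))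
  have hunit : IsUnit (algebraMap Γ(X, U₀) Γ(X, X.basicOpen (g * g₁)) g₁) := by
    have h1 : IsUnit (algebraMap Γ(X, U₀) Γ(X, X.basicOpen (g * g₁)) (g * g₁)) :=
      IsLocalization.Away.algebraMap_isUnit (g * g₁)
    rw [map_mul] at h1
    exact isUnit_of_mul_isUnit_right h1
  have hfsq : Algebra.FormallySmooth Γ(S, V) (Γ(X, X.basicOpen (g * g₁)) ⧸
      Ideal.span {algebraMap Γ(X, U₀) Γ(X, X.basicOpen (g * g₁)) h₀}) :=
    formallySmooth_quotient_of_functional Γ(S, V) Γ(X, U₀) Γ(X, X.basicOpen (g * g₁)) h₀ φ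
      (by rw [hg₁]; exact hunit)
  haveI : Algebra.FinitePresentation Γ(X, U₀) Γ(X, X.basicOpen (g * g₁)) :=
    IsLocalization.Away.finitePresentation (g * g₁)
  haveI : Algebra.FinitePresentation Γ(S, V) Γ(X, X.basicOpen (g * g₁)) :=
    Algebra.FinitePresentation.trans Γ(S, V) Γ(X, U₀) Γ(X, X.basicOpen (g * g₁))
  have hfpq : Algebra.FinitePresentation Γ(S, V) (Γ(X, X.basicOpen (g * g₁)) ⧸
      Ideal.span {algebraMap Γ(X, U₀) Γ(X, X.basicOpen (g * g₁)) h₀}) :=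
    Algebra.FinitePresentation.quotient
      ⟨{algebraMap Γ(X, U₀) Γ(X, X.basicOpen (g * g₁)) h₀}, by rw [Finset.coe_singleton]⟩
  refine ⟨X.basicOpen (g * g₁), hU, hxg,
    algebraMap Γ(X, U₀) Γ(X, X.basicOpen (g * g₁)) h₀, ?_, ?_, ?_⟩
  · change X.presheaf.germ (X.basicOpen (g * g₁)) x hxg
      (X.presheaf.map (homOfLE (X.basicOpen_le (g * g₁))).op h₀) = h
    rw [TopCat.Presheaf.germ_res_apply]
    exact hh₀
  · refine Groth.Agent.H49.Slice.mem_nonZeroDivisors_away (g * g₁) h₀ (fun b hb => ?_)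
    obtain ⟨n, hn⟩ := hkill b hb
    exact ⟨n, by rw [mul_pow, mul_right_comm, hn, zero_mul]⟩
  · have hcomp : Spec.map (CommRingCat.ofHom (Ideal.Quotient.mk
          (Ideal.span {algebraMap Γ(X, U₀) Γ(X, X.basicOpen (g * g₁)) h₀}))) ≫ hU.fromSpec ≫ f =
        Spec.map (f.appLE V (X.basicOpen (g * g₁)) hUV ≫ CommRingCat.ofHom (Ideal.Quotient.mk
          (Ideal.span {algebraMap Γ(X, U₀) Γ(X, X.basicOpen (g * g₁)) h₀}))) ≫ hV.fromSpec := by
      rw [Spec.map_comp, Category.assoc, IsAffineOpen.SpecMap_appLE_fromSpec f hV hU hUV]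
    rw [hcomp]
    haveI : Smooth (Spec.map (f.appLE V (X.basicOpen (g * g₁)) hUV ≫ CommRingCat.ofHom
        (Ideal.Quotient.mk
          (Ideal.span {algebraMap Γ(X, U₀) Γ(X, X.basicOpen (g * g₁)) h₀})))) := by
      rw [HasRingHomProperty.Spec_iff (P := @Smooth)]
      have halgeq : (f.appLE V (X.basicOpen (g * g₁)) hUV ≫ CommRingCat.ofHom (Ideal.Quotient.mk
          (Ideal.span {algebraMap Γ(X, U₀) Γ(X, X.basicOpen (g * g₁)) h₀}))).hom.toAlgebra =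
          (inferInstance : Algebra Γ(S, V) (Γ(X, X.basicOpen (g * g₁)) ⧸
            Ideal.span {algebraMap Γ(X, U₀) Γ(X, X.basicOpen (g * g₁)) h₀})) :=
        Algebra.algebra_ext _ _ (fun a => rfl)
      change @Algebra.Smooth _ _ _ _ (f.appLE V (X.basicOpen (g * g₁)) hUV ≫
        CommRingCat.ofHom (Ideal.Quotient.mk
          (Ideal.span {algebraMap Γ(X, U₀) Γ(X, X.basicOpen (g * g₁)) h₀}))).hom.toAlgebra
      rw [halgeq]
      exact ⟨hfsq, hfpq⟩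
    infer_instance

end Groth.Agent.H49.SliceSmooth
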