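import Mathlib
import Groth.Agent.H49.EtaleSliceRing
import Groth.Agent.H49.SliceSmoothSch

/-!
# Étale slices through a point of a smooth morphism (S0413)
-/

set_option autoImplicit false
set_option linter.style.haveILetI false

universe u

open AlgebraicGeometry CategoryTheory Limits TensorProduct

namespace Groth.Agent.H49.EtaleSlice

/-- An étale morphism is locally quasi-finite. -/
theorem locallyQuasiFinite_of_etale {X S : Scheme.{u}} (g : X ⟶ S) [Etale g] :
    LocallyQuasiFinite g := by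
  refine ⟨fun {U} hU {V} hV e => ?_⟩
  have h : (g.appLE U V e).hom.Etale := g.etale_appLE hU hV e
  algebraize [(g.appLE U V e).hom]
  show @Algebra.QuasiFinite _ _ _ _ (g.appLE U V e).hom.toAlgebra
  infer_instance

/-- Shrinking an immersed scheme, étale over the base, so that a given point becomes the only point
of its fibre. -/
theorem isolate {Z X S : Scheme.{u}} (i : Z ⟶ X) (f : X ⟶ S) [IsImmersion i] [Etale (i ≫ f)]
    (z : Z) :
    ∃ (Z' : Scheme.{u}) (i' : Z' ⟶ X) (z' : Z'), IsImmersion i' ∧ Etale (i' ≫ f) ∧ i' z' = i z ∧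
      ∀ w : Z', f (i' w) = f (i z) → w = z' := by
  haveI := locallyQuasiFinite_of_etale (i ≫ f)
  have hd := (i ≫ f).isDiscrete_preimage_singleton (f (i z))
  obtain ⟨u, hu, hus⟩ := isDiscrete_iff_forall_mem_exists_isOpen.mp hd z (by simp)
  let W : Z.Opens := ⟨u, hu⟩
  have hzW : z ∈ W := by
    have h1 : z ∈ u ∩ (i ≫ f) ⁻¹' {f (i z)} := by rw [hus]; rfl
    exact h1.1
  refine ⟨W, W.ι ≫ i, ⟨z, hzW⟩, inferInstance, ?_, rfl, ?_⟩
  · rw [Category.assoc]; infer_instance
  · intro w hw
    have h1 : W.ι w ∈ u ∩ (i ≫ f) ⁻¹' {f (i z)} := ⟨w.2, by simpa using hw⟩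
    rw [hus] at h1
    exact Subtype.ext h1


set_option maxHeartbeats 1600000 in
/-- An immersed scheme through `x`, étale over the base, for a smooth morphism and a point with
separable residue field extension. -/
theorem etale_slice_aux {X S : Scheme.{u}} (f : X ⟶ S) [Smooth f] (x : X)
    (hsep : @Algebra.IsSeparable (S.residueField (f x)) (X.residueField x) _ _
      (f.residueFieldMap x).hom.toAlgebra) :
    ∃ (Z : Scheme.{u}) (i : Z ⟶ X) (z : Z), IsImmersion i ∧ Etale (i ≫ f) ∧ i z = x := by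
  obtain ⟨V, hV, hxV, -⟩ :=
    exists_isAffineOpen_mem_and_subset (x := f x) (U := (⊤ : S.Opens)) trivial
  obtain ⟨U₀, hU₀, hxU₀, hU₀V⟩ :=
    exists_isAffineOpen_mem_and_subset (x := x) (U := f ⁻¹ᵁ V) hxV
  have hsm := f.smooth_appLE hV hU₀ hU₀V
  letI algx : Algebra (S.presheaf.stalk (f x)) (X.presheaf.stalk x) :=
    (f.stalkMap x).hom.toAlgebra
  haveI : IsLocalHom (algebraMap (S.presheaf.stalk (f x)) (X.presheaf.stalk x)) :=
    inferInstanceAs (IsLocalHom (f.stalkMap x).hom)
  letI : Algebra Γ(S, V) Γ(X, U₀) := (f.appLE V U₀ hU₀V).hom.toAlgebra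
  haveI : Algebra.Smooth Γ(S, V) Γ(X, U₀) := hsm
  letI : Algebra Γ(S, V) (S.presheaf.stalk (f x)) := S.presheaf.algebra_section_stalk ⟨f x, hxV⟩
  letI : Algebra Γ(X, U₀) (X.presheaf.stalk x) := X.presheaf.algebra_section_stalk ⟨x, hxU₀⟩
  letI : Algebra Γ(S, V) (X.presheaf.stalk x) :=
    ((algebraMap (S.presheaf.stalk (f x)) (X.presheaf.stalk x)).comp
      (algebraMap Γ(S, V) (S.presheaf.stalk (f x)))).toAlgebra
  haveI : IsScalarTower Γ(S, V) (S.presheaf.stalk (f x)) (X.presheaf.stalk x) :=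
    .of_algebraMap_eq fun _ => rfl
  haveI : IsScalarTower Γ(S, V) Γ(X, U₀) (X.presheaf.stalk x) := .of_algebraMap_eq fun a => by
    change (f.stalkMap x).hom (S.presheaf.germ V (f x) hxV a) =
      X.presheaf.germ U₀ x hxU₀ ((f.appLE V U₀ hU₀V).hom a)
    exact Groth.Agent.H57.stalkMap_germ_appLE f hU₀V x hxU₀ a
  haveI := hV.isLocalization_stalk ⟨f x, hxV⟩
  haveI := hU₀.isLocalization_stalk ⟨x, hxU₀⟩
  -- the residue field at `x` is formally unramified over the base chart
  haveI hunr : Algebra.FormallyUnramified Γ(S, V)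
      (IsLocalRing.ResidueField (X.presheaf.stalk x)) := by
    letI algκ : Algebra (IsLocalRing.ResidueField (S.presheaf.stalk (f x)))
        (IsLocalRing.ResidueField (X.presheaf.stalk x)) := (f.residueFieldMap x).hom.toAlgebra
    haveI h1 : Algebra.IsSeparable (IsLocalRing.ResidueField (S.presheaf.stalk (f x)))
        (IsLocalRing.ResidueField (X.presheaf.stalk x)) := hsep
    haveI : Algebra.FormallyUnramified (IsLocalRing.ResidueField (S.presheaf.stalk (f x)))
        (IsLocalRing.ResidueField (X.presheaf.stalk x)) :=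
      Algebra.FormallyUnramified.of_isSeparable _ _
    haveI : Algebra.FormallyUnramified (S.presheaf.stalk (f x))
        (IsLocalRing.ResidueField (S.presheaf.stalk (f x))) :=
      Algebra.FormallyUnramified.of_surjective (Algebra.ofId _ _) IsLocalRing.residue_surjective
    haveI : Algebra.FormallyUnramified Γ(S, V) (S.presheaf.stalk (f x)) :=
      Algebra.FormallyUnramified.of_isLocalization
        (hV.primeIdealOf ⟨f x, hxV⟩).asIdeal.primeCompl
    haveI : Algebra.FormallyUnramified Γ(S, V)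
        (IsLocalRing.ResidueField (S.presheaf.stalk (f x))) :=
      Algebra.FormallyUnramified.comp _ (S.presheaf.stalk (f x)) _
    haveI : IsScalarTower Γ(S, V) (IsLocalRing.ResidueField (S.presheaf.stalk (f x)))
        (IsLocalRing.ResidueField (X.presheaf.stalk x)) := .of_algebraMap_eq fun a => rfl
    exact Algebra.FormallyUnramified.comp _
      (IsLocalRing.ResidueField (S.presheaf.stalk (f x))) _
  obtain ⟨Lb, hLbq, g, hgq, hEt⟩ := exists_etale_slice Γ(S, V) Γ(X, U₀) (X.presheaf.stalk x)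
    (hU₀.primeIdealOf ⟨x, hxU₀⟩).asIdeal
  classical
  have hIq : Ideal.span {b | b ∈ Lb} ≤ (hU₀.primeIdealOf ⟨x, hxU₀⟩).asIdeal :=
    Ideal.span_le.mpr hLbq
  generalize Ideal.span {b | b ∈ Lb} = I at hIq hEt
  generalize hq : (hU₀.primeIdealOf ⟨x, hxU₀⟩).asIdeal = q at hIq hgq
  haveI hqprime : q.IsPrime := hq ▸ (hU₀.primeIdealOf ⟨x, hxU₀⟩).isPrime
  haveI hq'prime : (q.map (Ideal.Quotient.mk I)).IsPrime :=
    Ideal.map_isPrime_of_surjective Ideal.Quotient.mk_surjective (by rwa [Ideal.mk_ker])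
  have hg' : Ideal.Quotient.mk I g ∉ q.map (Ideal.Quotient.mk I) := by
    intro hmem
    obtain ⟨b', hb', hbb'⟩ :=
      (Ideal.mem_map_iff_of_surjective _ Ideal.Quotient.mk_surjective).mp hmem
    have h1 : b' - g ∈ I := Ideal.Quotient.eq.mp hbb'
    apply hgq
    have h2 := q.sub_mem hb' (hIq h1)
    rwa [sub_sub_cancel] at h2
  have hdisj : Disjoint (Submonoid.powers (Ideal.Quotient.mk I g) : Set (Γ(X, U₀) ⧸ I))
      (q.map (Ideal.Quotient.mk I) : Set (Γ(X, U₀) ⧸ I)) :=
    (Ideal.disjoint_powers_iff_notMem _ (Ideal.IsPrime.isRadical inferInstance)).mpr hg'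
  have hzprime : ((q.map (Ideal.Quotient.mk I)).map (algebraMap (Γ(X, U₀) ⧸ I)
      (Localization.Away (Ideal.Quotient.mk I g)))).IsPrime :=
    IsLocalization.isPrime_of_isPrime_disjoint (Submonoid.powers (Ideal.Quotient.mk I g))
      (Localization.Away (Ideal.Quotient.mk I g)) _ inferInstance hdisj
  have hcomap1 : ((q.map (Ideal.Quotient.mk I)).map (algebraMap (Γ(X, U₀) ⧸ I)
      (Localization.Away (Ideal.Quotient.mk I g)))).comap (algebraMap (Γ(X, U₀) ⧸ I)
      (Localization.Away (Ideal.Quotient.mk I g))) = q.map (Ideal.Quotient.mk I) :=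
    IsLocalization.under_map_of_isPrime_disjoint (Submonoid.powers (Ideal.Quotient.mk I g))
      (Localization.Away (Ideal.Quotient.mk I g)) inferInstance hdisj
  have hcomap2 : (q.map (Ideal.Quotient.mk I)).comap (Ideal.Quotient.mk I) = q := by
    rw [Ideal.comap_map_of_surjective _ Ideal.Quotient.mk_surjective, ← RingHom.ker_eq_comap_bot,
      Ideal.mk_ker]
    exact sup_eq_left.mpr hIq
  refine ⟨Spec (CommRingCat.of (Localization.Away (Ideal.Quotient.mk I g))),
    (Spec.map (CommRingCat.ofHom (algebraMap (Γ(X, U₀) ⧸ I)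
      (Localization.Away (Ideal.Quotient.mk I g)))) ≫
      Spec.map (CommRingCat.ofHom (Ideal.Quotient.mk I))) ≫ hU₀.fromSpec,
    ⟨_, hzprime⟩, inferInstance, ?_, ?_⟩
  · have hcomp : ((Spec.map (CommRingCat.ofHom (algebraMap (Γ(X, U₀) ⧸ I)
          (Localization.Away (Ideal.Quotient.mk I g)))) ≫
          Spec.map (CommRingCat.ofHom (Ideal.Quotient.mk I))) ≫ hU₀.fromSpec) ≫ f =
        Spec.map (f.appLE V U₀ hU₀V ≫ CommRingCat.ofHom (Ideal.Quotient.mk I) ≫
          CommRingCat.ofHom (algebraMap (Γ(X, U₀) ⧸ I)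
            (Localization.Away (Ideal.Quotient.mk I g)))) ≫ hV.fromSpec := by
      rw [Spec.map_comp, Spec.map_comp, Category.assoc, Category.assoc, Category.assoc,
        IsAffineOpen.SpecMap_appLE_fromSpec f hV hU₀ hU₀V, Category.assoc]
    rw [hcomp]
    haveI : Etale (Spec.map (f.appLE V U₀ hU₀V ≫ CommRingCat.ofHom (Ideal.Quotient.mk I) ≫
          CommRingCat.ofHom (algebraMap (Γ(X, U₀) ⧸ I)
            (Localization.Away (Ideal.Quotient.mk I g))))) := by
      rw [HasRingHomProperty.Spec_iff (P := @Etale)]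
      have halgeq : (f.appLE V U₀ hU₀V ≫ CommRingCat.ofHom (Ideal.Quotient.mk I) ≫
          CommRingCat.ofHom (algebraMap (Γ(X, U₀) ⧸ I)
            (Localization.Away (Ideal.Quotient.mk I g)))).hom.toAlgebra =
          (inferInstance : Algebra Γ(S, V) (Localization.Away (Ideal.Quotient.mk I g))) :=
        Algebra.algebra_ext _ _ (fun a => rfl)
      change @Algebra.Etale _ _ _ _ (f.appLE V U₀ hU₀V ≫ CommRingCat.ofHom (Ideal.Quotient.mk I) ≫
          CommRingCat.ofHom (algebraMap (Γ(X, U₀) ⧸ I)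
            (Localization.Away (Ideal.Quotient.mk I g)))).hom.toAlgebra
      rw [halgeq]
      exact hEt
    infer_instance
  · change hU₀.fromSpec ((Spec.map (CommRingCat.ofHom (Ideal.Quotient.mk I)))
        ((Spec.map (CommRingCat.ofHom (algebraMap (Γ(X, U₀) ⧸ I)
          (Localization.Away (Ideal.Quotient.mk I g))))) ⟨_, hzprime⟩)) = x
    have h1 : (Spec.map (CommRingCat.ofHom (Ideal.Quotient.mk I)))
        ((Spec.map (CommRingCat.ofHom (algebraMap (Γ(X, U₀) ⧸ I)
          (Localization.Away (Ideal.Quotient.mk I g))))) ⟨_, hzprime⟩) =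
        hU₀.primeIdealOf ⟨x, hxU₀⟩ := by
      apply PrimeSpectrum.ext
      rw [hq]
      change Ideal.comap (Ideal.Quotient.mk I) (Ideal.comap (algebraMap (Γ(X, U₀) ⧸ I)
        (Localization.Away (Ideal.Quotient.mk I g))) _) = q
      rw [hcomap1, hcomap2]
    rw [h1]
    exact hU₀.fromSpec_primeIdealOf ⟨x, hxU₀⟩


/-- Statement of S0413: an étale slice through a point of a smooth morphism with separable residue
field extension, meeting the fibre only in that point. -/
theorem etale_slice {X S : Scheme.{u}} (f : X ⟶ S) [Smooth f] (x : X)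
    (hsep : @Algebra.IsSeparable (S.residueField (f x)) (X.residueField x) _ _
      (f.residueFieldMap x).hom.toAlgebra) :
    ∃ (Z : Scheme.{u}) (i : Z ⟶ X) (z : Z), IsImmersion i ∧ Etale (i ≫ f) ∧ i z = x ∧
      ∀ z' : ↑Z, f (i z') = f x → z' = z := by
  obtain ⟨Z, i, z, hi, hét, hz⟩ := etale_slice_aux f x hsep
  obtain ⟨Z', i', z', hi', hét', hz', huniq⟩ := isolate i f z
  refine ⟨Z', i', z', hi', hét', hz'.trans hz, fun w hw => huniq w ?_⟩
  rw [hw, hz]

end Groth.Agent.H49.EtaleSlice
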