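import Mathlib
import Groth.Agent.S1516
import Groth.Agent.H78.UT2
import Groth.Agent.H8.FormallyEtale
import Groth.Agent.H39.ConormalMono
import Groth.Prelude.Def_Omega3

/-!
# Formally étale morphisms and universal first order thickenings (S9750)
-/

set_option autoImplicit false
set_option linter.style.haveILetI false

universe u

open AlgebraicGeometry CategoryTheory Limits OmegaSh

namespace Groth.Agent.H49.FEtUniv

variable {X S : Scheme.{u}}

/-- The identity is a first order thickening. -/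
theorem firstOrder_id (X : Scheme.{u}) : MoreMor.IsFirstOrderThickening (𝟙 X) := by
  refine Groth.Agent.H78.UT2.firstOrder_of_closedImmersion (𝟙 X) ?_
  rw [Scheme.Hom.ker_eq_bot_of_isIso]
  exact mul_zero (0 : X.IdealSheafData)

/-- A formally étale morphism is its own universal first order thickening. -/
theorem isUniv_id_of_formallyEtale (f : X ⟶ S) (hf : MoreMor.IsFormallyEtaleHom f) :
    OmegaSh.IsUnivThickening f (𝟙 X) f := by
  refine ⟨firstOrder_id X, Category.id_comp f, fun T T' j b a hj hjb => ?_⟩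
  have := Groth.Agent.S1516.result f hf j hj a b hjb
  simpa only [Category.comp_id] using this

/-- A morphism which is its own universal first order thickening is formally étale. -/
theorem formallyEtale_of_isUniv_id (f : X ⟶ S) (hu : OmegaSh.IsUnivThickening f (𝟙 X) f) :
    MoreMor.IsFormallyEtaleHom f := by
  intro A _ I hI a b hab
  haveI : IsClosedImmersion (Spec.map (CommRingCat.ofHom (Ideal.Quotient.mk I))) :=
    IsClosedImmersion.spec_of_surjective _ Ideal.Quotient.mk_surjective
  have hj : MoreMor.IsFirstOrderThickening (Spec.map (CommRingCat.ofHom (Ideal.Quotient.mk I))) :=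
    Groth.Agent.H78.UT2.firstOrder_of_closedImmersion _
      (Groth.Agent.H8.ker_SpecMap_mk_mul_self A I hI)
  have := hu.2.2 _ _ (Spec.map (CommRingCat.ofHom (Ideal.Quotient.mk I))) b a hj hab
  simpa only [Category.comp_id] using this

/-- Transport of a universal thickening whose immersion is an isomorphism to the identity. -/
theorem isUniv_id_of_isIso (f : X ⟶ S) {X' : Scheme.{u}} (i : X ⟶ X') (h' : X' ⟶ S) [IsIso i]
    (hu : OmegaSh.IsUnivThickening f i h') : OmegaSh.IsUnivThickening f (𝟙 X) f := by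
  obtain ⟨-, hih, huniv⟩ := hu
  refine ⟨firstOrder_id X, Category.id_comp f, fun T T' j b a hj hjb => ?_⟩
  obtain ⟨a', ⟨ha1, ha2⟩, hauniq⟩ := huniv T T' j b a hj hjb
  refine ⟨a' ≫ inv i, ⟨?_, ?_⟩, ?_⟩
  · rw [← Category.assoc, ha1, Category.assoc, IsIso.hom_inv_id, Category.comp_id]
  · rw [← hih, Category.assoc, IsIso.inv_hom_id_assoc, ha2]
  · rintro a₁ ⟨h1, h2⟩
    have h3 : a₁ ≫ i = a' := by
      apply hauniq
      refine ⟨?_, ?_⟩
      · rw [← Category.assoc, h1, Category.comp_id]
      · rw [Category.assoc, hih, h2]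
    rw [← h3, Category.assoc, IsIso.hom_inv_id, Category.comp_id]

/-- Sections of a zero module vanish. -/
theorem eq_zero_of_isZero {Z : Scheme.{u}} {M : Z.Modules} (hM : IsZero M) (U : Z.Opens)
    (x : Γ(M, U)) : x = 0 := by
  have h1 : 𝟙 M = 0 := hM.eq_of_src _ _
  have h2 : (𝟙 M : M ⟶ M).app U x = (0 : M ⟶ M).app U x := by rw [h1]
  exact h2

/-- The conormal sheaf of an isomorphism vanishes. -/
theorem conormal_isZero_of_isIso {X' : Scheme.{u}} (i : X ⟶ X') [IsIso i] :
    IsZero (Omega.conormal i) := by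
  rw [IsZero.iff_id_eq_zero]
  apply Groth.Agent.H39.ConormalLocal.pullback_hom_ext i
  intro U x
  have hx : x = 0 := by
    apply Groth.Agent.H39.ConormalSect.idealSect_injective i.ker U
    rw [map_zero]
    have h1 := Groth.Agent.H39.ConormalLocal.app_idealSect i U x
    have hinj : Function.Injective (i.app U).hom :=
      (ConcreteCategory.bijective_of_isIso (i.app U)).injective
    apply hinj
    rw [h1, map_zero]
  rw [hx, map_zero]
  rfl

set_option maxHeartbeats 1600000 in
/-- If the conormal sheaf of a first order thickening vanishes, its ideal vanishes. -/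
theorem ker_eq_bot_of_conormal_isZero {X' : Scheme.{u}} (i : X ⟶ X') [IsClosedImmersion i]
    (hsq : i.ker * i.ker = ⊥) (h0 : IsZero (Omega.conormal i)) : i.ker = ⊥ := by
  apply Scheme.IdealSheafData.ext
  funext V
  obtain ⟨V₁, hV₁⟩ := V
  have hW : IsAffineOpen (i ⁻¹ᵁ V₁) := hV₁.preimage i
  have hsurj : Function.Surjective (i.app V₁) := i.app_surjective V₁ hV₁
  letI : Algebra Γ(X', V₁) Γ(X, i ⁻¹ᵁ V₁) := (i.appLE V₁ (i ⁻¹ᵁ V₁) le_rfl).hom.toAlgebra
  obtain ⟨Θ, -, -⟩ := Groth.Agent.H39.ConormalSect.exists_conormal_equiv i hV₁ hW hsurj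
  have hker : i.ker.ideal ⟨V₁, hV₁⟩ = RingHom.ker (algebraMap Γ(X', V₁) Γ(X, i ⁻¹ᵁ V₁)) := by
    rw [Scheme.Hom.ker_apply]
    show RingHom.ker (i.app V₁).hom = RingHom.ker (i.appLE V₁ (i ⁻¹ᵁ V₁) le_rfl).hom
    rw [← Scheme.Hom.app_eq_appLE]
  have hsub : Subsingleton (RingHom.ker (algebraMap Γ(X', V₁) Γ(X, i ⁻¹ᵁ V₁))).Cotangent := by
    refine ⟨fun c d => ?_⟩
    have hc : Θ.symm c = Θ.symm d :=
      (eq_zero_of_isZero h0 _ _).trans (eq_zero_of_isZero h0 _ _).symm
    exact Θ.symm.injective hc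
  have hidem := (Ideal.cotangent_subsingleton_iff _).mp hsub
  have h2 : (i.ker * i.ker).ideal ⟨V₁, hV₁⟩ = ⊥ := by rw [hsq]; rfl
  rw [Scheme.IdealSheafData.ideal_mul, Pi.mul_apply, hker] at h2
  rw [hker, Scheme.IdealSheafData.ideal_bot, Pi.bot_apply, ← h2]
  exact hidem.symm

/-- Statement of S9750. -/
theorem main (f : X ⟶ S) :
    (MoreMor.IsFormallyEtaleHom f ↔
      FormallyUnramified f ∧ OmegaSh.IsUnivThickening f (𝟙 X) f) ∧
    (∀ {X' : Scheme.{u}} (i : X ⟶ X') (h' : X' ⟶ S) [QuasiCompact i], FormallyUnramified f →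
      OmegaSh.IsUnivThickening f i h' →
        (MoreMor.IsFormallyEtaleHom f ↔ IsZero (Omega.conormal i))) := by
  refine ⟨⟨fun hf => ⟨Groth.Agent.H8.formallyUnramified_of_isFormallyEtaleHom f hf,
    isUniv_id_of_formallyEtale f hf⟩, fun h => formallyEtale_of_isUniv_id f h.2⟩, ?_⟩
  intro X' i h' _ _ hu
  constructor
  · intro hf
    obtain ⟨e, he, -⟩ := Groth.Agent.H78.UT2.exists_iso hu (isUniv_id_of_formallyEtale f hf)
    have hi : i = e.inv := by
      rw [← Category.comp_id i, ← e.hom_inv_id, ← Category.assoc, he, Category.id_comp]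
    haveI : IsIso i := by rw [hi]; infer_instance
    exact conormal_isZero_of_isIso i
  · intro h0
    haveI : IsClosedImmersion i := hu.1.1.1
    have hker := ker_eq_bot_of_conormal_isZero i hu.1.2 h0
    haveI : IsIso i := IsClosedImmersion.isIso_iff_ker_eq_bot.mpr hker
    exact formallyEtale_of_isUniv_id f (isUniv_id_of_isIso f i h' hu)

end Groth.Agent.H49.FEtUniv
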