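import Mathlib

/-!
# Avoidance of the primes of a fibre of an integral ring map (helper49)
-/

set_option autoImplicit false
universe u

namespace Groth.Agent.H49.FerrandAvoid

section avoid

variable {R : Type*} [CommRing R]

lemma exists_mem_inf_notMem (P : Finset (Ideal R)) (𝔭₀ : Ideal R) [h₀ : 𝔭₀.IsPrime]
    (h : ∀ 𝔭 ∈ P, ¬ 𝔭 ≤ 𝔭₀) : ∃ d : R, d ∉ 𝔭₀ ∧ ∀ 𝔭 ∈ P, d ∈ 𝔭 := by
  have h1 : ¬ P.inf id ≤ 𝔭₀ := by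
    rw [Ideal.IsPrime.inf_le' h₀]
    rintro ⟨𝔭, h𝔭, hle⟩
    exact h 𝔭 h𝔭 hle
  obtain ⟨d, hd1, hd2⟩ := SetLike.not_le_iff_exists.mp h1
  exact ⟨d, hd2, fun 𝔭 h𝔭 => (Finset.inf_le h𝔭 : P.inf id ≤ id 𝔭) hd1⟩

theorem exists_mem_forall_notMem (S : AddSubgroup R)
    (hS : ∀ x ∈ S, ∀ c : R, ∃ N : ℕ, x ^ N * c ∈ S)
    (P : Finset (Ideal R)) :
    (∀ 𝔭 ∈ P, 𝔭.IsPrime) → (∀ 𝔭 ∈ P, ∀ 𝔭' ∈ P, 𝔭 ≤ 𝔭' → 𝔭 = 𝔭') →
    (∀ 𝔭 ∈ P, ∃ x ∈ S, x ∉ 𝔭) → ∃ u ∈ S, ∀ 𝔭 ∈ P, u ∉ 𝔭 := by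
  classical
  induction P using Finset.induction_on with
  | empty => intro _ _ _; exact ⟨0, S.zero_mem, fun _ h => absurd h (Finset.notMem_empty _)⟩
  | insert 𝔭₀ P' hnot ih =>
    intro hpr hinc hex
    obtain ⟨u', hu'S, hu'⟩ := ih (fun 𝔭 h => hpr 𝔭 (Finset.mem_insert_of_mem h))
      (fun 𝔭 h 𝔭' h' => hinc 𝔭 (Finset.mem_insert_of_mem h) 𝔭' (Finset.mem_insert_of_mem h'))
      (fun 𝔭 h => hex 𝔭 (Finset.mem_insert_of_mem h))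
    haveI h₀ : 𝔭₀.IsPrime := hpr 𝔭₀ (Finset.mem_insert_self _ _)
    by_cases hu0 : u' ∈ 𝔭₀
    · obtain ⟨x, hxS, hx⟩ := hex 𝔭₀ (Finset.mem_insert_self _ _)
      obtain ⟨d, hd0, hd⟩ := exists_mem_inf_notMem P' 𝔭₀ (fun 𝔭 h𝔭 hle => by
        have := hinc 𝔭 (Finset.mem_insert_of_mem h𝔭) 𝔭₀ (Finset.mem_insert_self _ _) hle
        exact hnot (this ▸ h𝔭))
      obtain ⟨N, hN⟩ := hS x hxS d
      refine ⟨u' + x ^ N * d, S.add_mem hu'S hN, fun 𝔭 h𝔭 => ?_⟩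
      rcases Finset.mem_insert.mp h𝔭 with h𝔭0 | h𝔭'
      · rw [h𝔭0]
        intro hmem
        have h2 : x ^ N * d ∈ 𝔭₀ := (Ideal.add_mem_iff_right _ hu0).mp hmem
        rcases h₀.mem_or_mem h2 with h3 | h3
        · exact hx (h₀.mem_of_pow_mem _ h3)
        · exact hd0 h3
      · intro hmem
        have h2 : x ^ N * d ∈ 𝔭 := Ideal.mul_mem_left _ _ (hd 𝔭 h𝔭')
        exact hu' 𝔭 h𝔭' ((Ideal.add_mem_iff_left _ h2).mp hmem)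
    · refine ⟨u', hu'S, fun 𝔭 h𝔭 => ?_⟩
      rcases Finset.mem_insert.mp h𝔭 with h𝔭0 | h𝔭'
      · rw [h𝔭0]; exact hu0
      · exact hu' 𝔭 h𝔭'

end avoid

section main

variable {A A₁ B₁ : Type u} [CommRing A] [CommRing A₁] [CommRing B₁]

/-- the key avoidance statement: an element of `I` nonvanishing on the whole fibre over `𝔮` -/
theorem exists_avoid (ρ : A →+* A₁) (q : B₁ →+* A₁) (hq : q.IsIntegral) (I : Ideal A)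
    (H1 : ∀ t ∈ I, ∀ c : A₁, ∃ (N : ℕ) (a : A), a ∈ I ∧ ρ a = ρ t ^ N * c)
    (H2 : Ideal.map ρ I = ⊤) (𝔮 : Ideal B₁) [h𝔮 : 𝔮.IsPrime] :
    ∃ t ∈ I, ∀ 𝔭 : Ideal A₁, 𝔭.IsPrime → 𝔭.comap q = 𝔮 → ρ t ∉ 𝔭 := by
  classical
  letI : Algebra B₁ A₁ := q.toAlgebra
  haveI hint : Algebra.IsIntegral B₁ A₁ := ⟨hq⟩
  have h1 : (1 : A₁) ∈ Ideal.span (ρ '' (I : Set A)) := by
    have : Ideal.map ρ I = Ideal.span (ρ '' (I : Set A)) := rfl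
    rw [← this, H2]
    exact Submodule.mem_top
  obtain ⟨T, hTsub, hT1⟩ := Submodule.mem_span_finite_of_mem_span h1
  let A₂ : Subalgebra B₁ A₁ := Algebra.adjoin B₁ (T : Set A₁)
  haveI hfin : Module.Finite B₁ A₂ :=
    Algebra.finite_adjoin_of_finite_of_isIntegral T.finite_toSet
      (fun x _ => Algebra.IsIntegral.isIntegral x)
  haveI hint2 : Algebra.IsIntegral A₂ A₁ := Algebra.IsIntegral.tower_top (R := B₁)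
  haveI hint3 : Algebra.IsIntegral B₁ A₂ := inferInstance
  have hPfin : (𝔮.primesOver A₂).Finite := Algebra.QuasiFinite.finite_primesOver 𝔮
  let S₂ : AddSubgroup A₂ :=
    (I.toAddSubgroup.map ρ.toAddMonoidHom).comap A₂.val.toRingHom.toAddMonoidHom
  have hS₂ : ∀ x : A₂, x ∈ S₂ ↔ ∃ a ∈ I, ρ a = (x : A₁) := by
    intro x
    constructor
    · rintro ⟨a, ha, hax⟩
      exact ⟨a, ha, hax⟩
    · rintro ⟨a, ha, hax⟩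
      exact ⟨a, ha, hax⟩
  have hS : ∀ x ∈ S₂, ∀ c : A₂, ∃ N : ℕ, x ^ N * c ∈ S₂ := by
    intro x hx c
    obtain ⟨t, ht, htx⟩ := (hS₂ x).mp hx
    obtain ⟨N, a, ha, haN⟩ := H1 t ht (c : A₁)
    refine ⟨N, (hS₂ _).mpr ⟨a, ha, ?_⟩⟩
    rw [haN, htx]
    rfl
  have hpr : ∀ 𝔭 ∈ hPfin.toFinset, 𝔭.IsPrime := fun 𝔭 h => ((Set.Finite.mem_toFinset _).mp h).1
  have hinc : ∀ 𝔭 ∈ hPfin.toFinset, ∀ 𝔭' ∈ hPfin.toFinset, 𝔭 ≤ 𝔭' → 𝔭 = 𝔭' := by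
    intro 𝔭 h 𝔭' h' hle
    have h𝔭 := (Set.Finite.mem_toFinset _).mp h
    have h𝔭' := (Set.Finite.mem_toFinset _).mp h'
    haveI := h𝔭.1
    by_contra hne
    have hlt : 𝔭 < 𝔭' := lt_of_le_of_ne hle hne
    have := Ideal.IsIntegral.comap_lt_comap (R := B₁) hlt
    have e1 : 𝔭.comap (algebraMap B₁ A₂) = 𝔮 := h𝔭.2.over.symm
    have e2 : 𝔭'.comap (algebraMap B₁ A₂) = 𝔮 := h𝔭'.2.over.symm
    rw [e1, e2] at this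
    exact lt_irrefl _ this
  have hex : ∀ 𝔭 ∈ hPfin.toFinset, ∃ x ∈ S₂, x ∉ 𝔭 := by
    intro 𝔭' h
    have h𝔭' := (Set.Finite.mem_toFinset _).mp h
    haveI := h𝔭'.1
    obtain ⟨Q, -, hQpr, hQ⟩ := Ideal.exists_ideal_over_prime_of_isIntegral (R := A₂) (S := A₁)
      𝔭' ⊥ (by
        intro x hx
        have hx0 : algebraMap A₂ A₁ x = 0 := hx
        have : x = 0 := Subtype.ext hx0
        rw [this]
        exact 𝔭'.zero_mem)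
    have hTQ : ¬ (T : Set A₁) ⊆ Q := by
      intro hsub
      have : Ideal.span (T : Set A₁) ≤ Q := Ideal.span_le.mpr hsub
      exact hQpr.ne_top ((Ideal.eq_top_iff_one _).mpr (this hT1))
    obtain ⟨x, hxT, hxQ⟩ := Set.not_subset.mp hTQ
    refine ⟨⟨x, Algebra.subset_adjoin hxT⟩, ?_, ?_⟩
    · obtain ⟨a, ha, hax⟩ := hTsub hxT
      exact (hS₂ _).mpr ⟨a, ha, hax⟩
    · intro hmem
      rw [← hQ] at hmem
      exact hxQ hmem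
  obtain ⟨u, huS, hu⟩ := exists_mem_forall_notMem S₂ hS hPfin.toFinset hpr hinc hex
  obtain ⟨t, ht, htu⟩ := (hS₂ u).mp huS
  refine ⟨t, ht, fun 𝔭 h𝔭 h𝔭𝔮 => ?_⟩
  haveI := h𝔭
  have hmem : 𝔭.comap (algebraMap A₂ A₁) ∈ hPfin.toFinset := by
    rw [Set.Finite.mem_toFinset]
    refine ⟨inferInstance, ⟨?_⟩⟩
    show 𝔮 = Ideal.comap (algebraMap B₁ A₂) (Ideal.comap (algebraMap A₂ A₁) 𝔭)
    rw [Ideal.comap_comap, ← h𝔭𝔮]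
    rfl
  have := hu _ hmem
  rw [htu]
  exact this

/-- the functions defining a common basic neighbourhood -/
theorem exists_common_basic (ρ : A →+* A₁) (q : B₁ →+* A₁) (hq : q.IsIntegral) (I : Ideal A)
    (H1 : ∀ t ∈ I, ∀ c : A₁, ∃ (N : ℕ) (a : A), a ∈ I ∧ ρ a = ρ t ^ N * c)
    (H2 : Ideal.map ρ I = ⊤) (𝔮 : Ideal B₁) [h𝔮 : 𝔮.IsPrime] :
    ∃ h ∈ I, ∃ g : B₁, g ∉ 𝔮 ∧ ∀ 𝔭 : Ideal A₁, 𝔭.IsPrime → (ρ h ∈ 𝔭 ↔ q g ∈ 𝔭) := by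
  obtain ⟨t, ht, htav⟩ := exists_avoid ρ q hq I H1 H2 𝔮
  letI : Algebra B₁ A₁ := q.toAlgebra
  haveI hint : Algebra.IsIntegral B₁ A₁ := ⟨hq⟩
  have hnot : ¬ (Ideal.span {ρ t}).comap q ≤ 𝔮 := by
    intro hle
    obtain ⟨Q, hQge, hQpr, hQ⟩ := Ideal.exists_ideal_over_prime_of_isIntegral (R := B₁) (S := A₁)
      𝔮 (Ideal.span {ρ t}) hle
    exact htav Q hQpr hQ (hQge (Ideal.subset_span rfl))
  obtain ⟨g, hg1, hg2⟩ := SetLike.not_le_iff_exists.mp hnot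
  obtain ⟨c, hc⟩ := Ideal.mem_span_singleton'.mp (Ideal.mem_comap.mp hg1)
  obtain ⟨N, a, ha, haN⟩ := H1 t ht c
  refine ⟨t * a, I.mul_mem_left _ ha, g, hg2, fun 𝔭 h𝔭 => ?_⟩
  have e1 : ρ (t * a) = ρ t ^ (N + 1) * c := by rw [map_mul, haN]; ring
  rw [e1, ← hc]
  constructor
  · intro h
    rcases h𝔭.mem_or_mem h with h3 | h3
    · exact 𝔭.mul_mem_left _ (h𝔭.mem_of_pow_mem _ h3)
    · exact 𝔭.mul_mem_right _ h3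
  · intro h
    rcases h𝔭.mem_or_mem h with h3 | h3
    · exact 𝔭.mul_mem_left _ h3
    · exact 𝔭.mul_mem_right _ (𝔭.pow_mem_of_mem h3 _ (Nat.succ_pos _))

end main

end Groth.Agent.H49.FerrandAvoid
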