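import Mathlib
import Groth.Agent.H49.FerrandAvoid

/-!
# Coset prime avoidance (helper49)
-/

set_option autoImplicit false
universe u

namespace Groth.Agent.H49.FerrandAvoid

variable {R : Type*} [CommRing R]

/-- coset version of prime avoidance: no incomparability hypothesis is needed -/
theorem exists_add_forall_notMem (K : Ideal R) (u₀ : R) :
    ∀ (P : Finset (Ideal R)), (∀ 𝔭 ∈ P, 𝔭.IsPrime) → (∀ 𝔭 ∈ P, ¬ K ≤ 𝔭) →
      ∃ u ∈ K, ∀ 𝔭 ∈ P, u₀ + u ∉ 𝔭 := by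
  classical
  intro P
  induction' hn : P.card with n ih generalizing P
  · intro _ _
    have : P = ∅ := Finset.card_eq_zero.mp hn
    subst this
    exact ⟨0, K.zero_mem, fun _ h => absurd h (Finset.notMem_empty _)⟩
  · intro hpr hK
    have hne : P.Nonempty := by
      rw [← Finset.card_pos, hn]
      exact Nat.succ_pos _
    obtain ⟨𝔭₀, h𝔭₀, hmin⟩ := P.exists_minimal hne
    have hcard : (P.erase 𝔭₀).card = n := by
      rw [Finset.card_erase_of_mem h𝔭₀, hn]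
      rfl
    obtain ⟨u', hu'K, hu'⟩ := ih (P.erase 𝔭₀) hcard
      (fun 𝔭 h => hpr 𝔭 (Finset.mem_of_mem_erase h))
      (fun 𝔭 h => hK 𝔭 (Finset.mem_of_mem_erase h))
    haveI h₀ : 𝔭₀.IsPrime := hpr 𝔭₀ h𝔭₀
    by_cases hu0 : u₀ + u' ∈ 𝔭₀
    · obtain ⟨x, hxK, hx⟩ := SetLike.not_le_iff_exists.mp (hK 𝔭₀ h𝔭₀)
      obtain ⟨d, hd0, hd⟩ := exists_mem_inf_notMem (P.erase 𝔭₀) 𝔭₀ (fun 𝔭 h𝔭 hle => by
        have h1 : 𝔭 ∈ P := Finset.mem_of_mem_erase h𝔭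
        have h2 : 𝔭₀ ≤ 𝔭 := hmin h1 hle
        exact (Finset.ne_of_mem_erase h𝔭) (le_antisymm hle h2))
      refine ⟨u' + x * d, K.add_mem hu'K (K.mul_mem_right _ hxK), fun 𝔭 h𝔭 => ?_⟩
      have hring : u₀ + (u' + x * d) = (u₀ + u') + x * d := by ring
      rw [hring]
      by_cases h𝔭0 : 𝔭 = 𝔭₀
      · rw [h𝔭0]
        intro hmem
        have h2 := (Ideal.add_mem_iff_right _ hu0).mp hmem
        rcases h₀.mem_or_mem h2 with h3 | h3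
        · exact hx h3
        · exact hd0 h3
      · have h𝔭' : 𝔭 ∈ P.erase 𝔭₀ := Finset.mem_erase.mpr ⟨h𝔭0, h𝔭⟩
        intro hmem
        have h2 : x * d ∈ 𝔭 := Ideal.mul_mem_left _ _ (hd 𝔭 h𝔭')
        exact hu' 𝔭 h𝔭' ((Ideal.add_mem_iff_left _ h2).mp hmem)
    · refine ⟨u', hu'K, fun 𝔭 h𝔭 => ?_⟩
      by_cases h𝔭0 : 𝔭 = 𝔭₀
      · rw [h𝔭0]
        exact hu0
      · exact hu' 𝔭 (Finset.mem_erase.mpr ⟨h𝔭0, h𝔭⟩)

end Groth.Agent.H49.FerrandAvoid
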