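import Groth.Agent.H49.FerrandFiniteSet2

/-!
# Finite sets of points of a Ferrand pushout lie in an affine open (helper49)
-/

set_option autoImplicit false
universe u
open CategoryTheory CategoryTheory.Limits AlgebraicGeometry

namespace Groth.Agent.H49.Ferrand

open Groth.Agent.H24 Chart

variable {X Y Z : Scheme.{u}} (i : Z ⟶ X) (j : Z ⟶ Y) [IsClosedImmersion i] [IsIntegralHom j]

theorem exists_chart_finite (U₁ : X.Opens) (hU₁ : IsAffineOpen U₁) (U₂ : Y.Opens)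
    (hU₂ : IsAffineOpen U₂) (E₁ : Set X) (E₂ : Set Y)
    (hfin₁ : E₁.Finite) (hfin₂ : E₂.Finite) (hE₁ : E₁ ⊆ (U₁ : Set X)) (hE₂ : E₂ ⊆ (U₂ : Set Y))
    (hcompat : ∀ z : Z, i z ∈ E₁ ↔ j z ∈ E₂) :
    ∃ k : Chart i j, E₁ ⊆ (k.U : Set X) ∧ E₂ ⊆ (k.V : Set Y) := by
  obtain ⟨V₁, hV₁, -, hE₂V₁, hle⟩ := exists_shrink j U₂ hU₂ (i ⁻¹ᵁ U₁) E₂ hfin₂ hE₂
    (fun z hz => hE₁ ((hcompat z).mpr hz))
  exact exists_chart_of_le_finite i j U₁ hU₁ V₁ hV₁ hle E₁ E₂ hfin₁ hfin₂ hE₁ hE₂V₁ hcompat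

variable {i j}

lemma exists_aG_or_bG (hc : Covers i j) (p : Pglue i j) :
    (∃ x, aG hc x = p) ∨ (∃ y, bG hc y = p) := by
  obtain ⟨k, x, rfl⟩ := ιP_jointly_surjective p
  rcases k.exists_b_or_a x with ⟨v, rfl⟩ | ⟨u, rfl⟩
  · exact Or.inr ⟨v.1, bG_apply hc k v⟩
  · exact Or.inl ⟨u.1, aG_apply hc k u⟩

/-- a finite subset of a pushout of two closed immersions whose preimages lie in affine opens
lies in an affine open -/
theorem exists_affine_of_finite [IsClosedImmersion j] {P : Scheme.{u}} {a : X ⟶ P} {b : Y ⟶ P}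
    (hP : IsPushout i j a b) (E : Set P) (hE : E.Finite)
    (h₁ : ∃ U₁ : X.Opens, IsAffineOpen U₁ ∧ a ⁻¹' E ⊆ (U₁ : Set X))
    (h₂ : ∃ U₂ : Y.Opens, IsAffineOpen U₂ ∧ b ⁻¹' E ⊆ (U₂ : Set Y)) :
    ∃ U : P.Opens, IsAffineOpen U ∧ E ⊆ (U : Set P) := by
  have hc := covers_of_haff i j (haff_of_isClosedImmersion i j)
  obtain ⟨e, he1, he2⟩ := exists_iso_of_isPushout hc hP
  obtain ⟨U₁, hU₁, hE₁⟩ := h₁
  obtain ⟨U₂, hU₂, hE₂⟩ := h₂
  haveI := isClosedImmersion_aG hc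
  haveI := isClosedImmersion_bG hc
  have ha : ∀ x, a x = e.hom (aG hc x) := fun x => by
    rw [← Scheme.Hom.comp_apply, he1]
  have hb : ∀ y, b y = e.hom (bG hc y) := fun y => by
    rw [← Scheme.Hom.comp_apply, he2]
  have hinj : Function.Injective e.hom := (e.hom.homeomorph).injective
  have hainj : Function.Injective a := by
    intro x x' hxx'
    rw [ha, ha] at hxx'
    exact (aG hc).isClosedEmbedding.injective (hinj hxx')
  have hbinj : Function.Injective b := by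
    intro y y' hyy'
    rw [hb, hb] at hyy'
    exact (bG hc).isClosedEmbedding.injective (hinj hyy')
  have hfin₁ : (a ⁻¹' E).Finite := hE.preimage hainj.injOn
  have hfin₂ : (b ⁻¹' E).Finite := hE.preimage hbinj.injOn
  have hcompat : ∀ z : Z, i z ∈ a ⁻¹' E ↔ j z ∈ b ⁻¹' E := by
    intro z
    have : a (i z) = b (j z) := by
      rw [← Scheme.Hom.comp_apply, ← Scheme.Hom.comp_apply, hP.w]
    show a (i z) ∈ E ↔ b (j z) ∈ E
    rw [this]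
  obtain ⟨k, hk1, hk2⟩ := exists_chart_finite i j U₁ hU₁ U₂ hU₂ _ _ hfin₁ hfin₂ hE₁ hE₂ hcompat
  refine ⟨(ιP k ≫ e.hom).opensRange, isAffineOpen_opensRange _, ?_⟩
  intro x hx
  rcases exists_aG_or_bG hc (e.inv x) with ⟨x₁, hx₁⟩ | ⟨y₁, hy₁⟩
  · have hax : a x₁ = x := by
      rw [ha, hx₁, ← Scheme.Hom.comp_apply, e.inv_hom_id]
      rfl
    have hx₁U : x₁ ∈ k.U := hk1 (show a x₁ ∈ E from hax ▸ hx)
    refine ⟨k.a ⟨x₁, hx₁U⟩, ?_⟩
    rw [Scheme.Hom.comp_apply, ← aG_apply hc k ⟨x₁, hx₁U⟩, ← ha]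
    exact hax
  · have hby : b y₁ = x := by
      rw [hb, hy₁, ← Scheme.Hom.comp_apply, e.inv_hom_id]
      rfl
    have hy₁V : y₁ ∈ k.V := hk2 (show b y₁ ∈ E from hby ▸ hx)
    refine ⟨k.b ⟨y₁, hy₁V⟩, ?_⟩
    rw [Scheme.Hom.comp_apply, ← bG_apply hc k ⟨y₁, hy₁V⟩, ← hb]
    exact hby

end Groth.Agent.H49.Ferrand
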