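import Groth.Agent.H49.FerrandDom3
import Groth.Agent.H49.FerrandFiniteSet3

/-!
# Chart lemmas for arbitrary base change of Ferrand pushouts (helper49)
-/

set_option autoImplicit false
universe u
open CategoryTheory CategoryTheory.Limits AlgebraicGeometry

namespace Groth.Agent.H49.Ferrand

open Groth.Agent.H24 Chart

variable {X Y Z : Scheme.{u}} {i : Z ⟶ X} {j : Z ⟶ Y} [IsClosedImmersion i] [IsIntegralHom j]

lemma range_ιP_comp_subset (hc : Covers i j) {S : Scheme.{u}} (r : Pglue i j ⟶ S)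
    (k : Chart i j) (U : S.Opens) (hU1 : k.U ≤ (aG hc ≫ r) ⁻¹ᵁ U)
    (hV1 : k.V ≤ (bG hc ≫ r) ⁻¹ᵁ U) : Set.range (ιP k ≫ r) ⊆ (U : Set S) := by
  rintro _ ⟨x, rfl⟩
  rcases k.exists_b_or_a x with ⟨v, rfl⟩ | ⟨u, rfl⟩
  · have h1 : (ιP k ≫ r) (k.b v) = (bG hc ≫ r) v.1 := by
      rw [Scheme.Hom.comp_apply, Scheme.Hom.comp_apply, bG_apply hc k v]
    rw [h1]
    exact hV1 v.2
  · have h1 : (ιP k ≫ r) (k.a u) = (aG hc ≫ r) u.1 := by
      rw [Scheme.Hom.comp_apply, Scheme.Hom.comp_apply, aG_apply hc k u]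
    rw [h1]
    exact hU1 u.2

lemma flat_jk [Flat j] (k : Chart i j) : Flat k.jk := by
  have h1 : Flat (j.resLE k.V (j ⁻¹ᵁ k.V) le_rfl) := by
    rw [Scheme.Hom.resLE_eq_morphismRestrict]
    infer_instance
  exact (Scheme.Hom.resLE_congr (f := j) (e := k.h.le) rfl k.h @Flat).mpr h1

lemma surjective_jk [Surjective j] (k : Chart i j) : Surjective k.jk := by
  refine ⟨fun v => ?_⟩
  obtain ⟨z, hz⟩ := j.surjective v.1
  have hzW : z ∈ k.W := by
    rw [k.W_eq]
    show j z ∈ k.V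
    rw [hz]
    exact v.2
  refine ⟨⟨z, hzW⟩, Subtype.ext ?_⟩
  rw [k.jk_apply]
  exact hz

lemma jk_appTop_injective [Flat j] [Surjective j] (k : Chart i j) :
    Function.Injective k.jk.appTop.hom := by
  have h := (Flat.flat_and_surjective_iff_faithfullyFlat_of_isAffine k.jk).mp
    ⟨flat_jk k, surjective_jk k⟩
  exact h.injective

lemma a_appTop_injective_of_jk (k : Chart i j) (h : Function.Injective k.jk.appTop.hom) :
    Function.Injective k.a.appTop.hom := by
  have hM := milnor_appTop k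
  intro c c' hcc'
  refine hM.inj c c' (h ?_) hcc'
  rw [hM.comm c, hM.comm c', hcc']

/-- the ring map underlying `k.jk` in terms of the original morphism -/
lemma jk_appTop_topIso (k : Chart i j) :
    k.jk.appTop ≫ k.W.topIso.hom = k.V.topIso.hom ≫ j.appLE k.V k.W k.h.le := by
  have h1 : k.jk.appTop = k.V.topIso.hom ≫ j.appLE k.V k.W k.h.le ≫ k.W.topIso.inv :=
    Scheme.Hom.resLE_app_top _ _
  rw [h1, Category.assoc, Category.assoc, Iso.inv_hom_id, Category.comp_id]

lemma ik_appTop_topIso (k : Chart i j) :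
    k.ik.appTop ≫ k.W.topIso.hom = k.U.topIso.hom ≫ i.appLE k.U k.W le_rfl := by
  have h1 : k.ik.appTop = k.U.topIso.hom ≫ i.appLE k.U k.W le_rfl ≫ k.W.topIso.inv :=
    Scheme.Hom.resLE_app_top _ _
  rw [h1, Category.assoc, Category.assoc, Iso.inv_hom_id, Category.comp_id]

end Groth.Agent.H49.Ferrand
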