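import Groth.Agent.H49.FerrandBC
import Groth.Prelude.Def_W4c3jacimperfPinch

/-!
# Universal injectivity of the special charts from a projective cokernel (helper49)
-/

set_option autoImplicit false
universe u
open CategoryTheory CategoryTheory.Limits AlgebraicGeometry

namespace Groth.Agent.H49.Ferrand

open Groth.Agent.H24 Chart

variable {X Y Z : Scheme.{u}} {i : Z ⟶ X} {j : Z ⟶ Y} [IsClosedImmersion i] [IsIntegralHom j]

/-- the structure map of the functions on `W_k` over an affine open of the base -/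
lemma chart_base_ring (hc : Covers i j) {S : Scheme.{u}} (r : Pglue i j ⟶ S) (k : Chart i j)
    (U : S.Opens) (rK : k.P ⟶ U) (hrK : rK ≫ U.ι = ιP k ≫ r) (φ : Z ⟶ S)
    (hφ : i ≫ aG hc ≫ r = φ) (hle : k.W ≤ φ ⁻¹ᵁ U) :
    U.topIso.inv ≫ rK.appTop ≫ k.a.appTop ≫ k.ik.appTop ≫ k.W.topIso.hom =
      φ.appLE U k.W hle := by
  subst hφ
  have hm : k.ik ≫ k.a ≫ rK = (i ≫ aG hc ≫ r).resLE U k.W hle := by
    rw [← cancel_mono U.ι, Scheme.Hom.resLE_comp_ι, Category.assoc, Category.assoc, hrK,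
      ← Category.assoc k.a, ← ι_aG hc k, Category.assoc, ← Category.assoc k.ik, k.ik_ι,
      Category.assoc]
  have h1 : rK.appTop ≫ k.a.appTop ≫ k.ik.appTop =
      U.topIso.hom ≫ (i ≫ aG hc ≫ r).appLE U k.W hle ≫ k.W.topIso.inv := by
    rw [← Scheme.Hom.comp_appTop, ← Scheme.Hom.comp_appTop, Category.assoc, hm]
    exact Scheme.Hom.resLE_app_top _ _
  have h2 : rK.appTop ≫ k.a.appTop ≫ k.ik.appTop ≫ k.W.topIso.hom =
      (rK.appTop ≫ k.a.appTop ≫ k.ik.appTop) ≫ k.W.topIso.hom := by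
    simp only [Category.assoc]
  rw [h2, h1]
  simp only [Category.assoc, Iso.inv_hom_id, Category.comp_id, Iso.inv_hom_id_assoc]

/-- charts with empty `V` are universally injective -/
theorem univInjective_of_V_eq_bot {S : Scheme.{u}} (k : Chart i j) (hV : k.V = ⊥) (U : S.Opens)
    (hU : IsAffineOpen U) (rK : k.P ⟶ U) : UnivInjective k U rK := by
  haveI : IsEmpty (k.V : Scheme.{u}) := by
    rw [hV]
    exact ⟨fun x => Set.notMem_empty x.1 x.2⟩
  have hW : k.W = ⊥ := by
    rw [k.W_eq, hV]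
    rfl
  haveI : IsEmpty (k.W : Scheme.{u}) := by
    rw [hW]
    exact ⟨fun x => Set.notMem_empty x.1 x.2⟩
  have hM := milnor_appTop k
  have hjk : Function.Injective k.jk.appTop.hom := fun x y _ => Subsingleton.elim x y
  refine univInjective_of_flat_coker k U hU rK (Iso.refl _) PUnit.{u + 1} 0
    (fun _ => ⟨0, rfl⟩) (fun _ _ => rfl) (fun x => ⟨fun _ => ?_, fun _ => rfl⟩)
    (a_appTop_injective_of_jk k hjk)
  obtain ⟨c, -, hc2⟩ := hM.ex 0 x (Subsingleton.elim _ _)
  exact ⟨c, hc2⟩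

end Groth.Agent.H49.Ferrand
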