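import Groth.Agent.H49.FerrandBC2

/-!
# Universal injectivity of the special charts from a projective cokernel, II (helper49)
-/

set_option autoImplicit false
universe u
open CategoryTheory CategoryTheory.Limits AlgebraicGeometry

namespace Groth.Agent.H49.Ferrand

open Groth.Agent.H24 Chart

variable {X Y Z : Scheme.{u}} {i : Z ⟶ X} {j : Z ⟶ Y} [IsClosedImmersion i] [IsIntegralHom j]

theorem univInjective_special (hc : Covers i j) {S : Scheme.{u}} (r : Pglue i j ⟶ S)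
    (ψ : Y ⟶ S) (hψ : bG hc ≫ r = ψ) [Flat j] [Surjective j]
    (U : S.Opens) (hU : IsAffineOpen U) (VX : X.Opens) (hVX : IsAffineOpen VX)
    (hψU : IsAffineOpen (ψ ⁻¹ᵁ U)) (h : i ⁻¹ᵁ VX = j ⁻¹ᵁ (ψ ⁻¹ᵁ U))
    (rK : (Chart.mk VX (ψ ⁻¹ᵁ U) hVX hψU h : Chart i j).P ⟶ U)
    (hrK : rK ≫ U.ι = ιP (Chart.mk VX (ψ ⁻¹ᵁ U) hVX hψU h : Chart i j) ≫ r)
    (hv : @Pinch.CokerProjective Γ(S, U) Γ(Z, (j ≫ ψ) ⁻¹ᵁ U) Γ(Y, ψ ⁻¹ᵁ U) _ _ _
      ((j ≫ ψ).app U).hom.toAlgebra (j.app (ψ ⁻¹ᵁ U)).hom) :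
    UnivInjective (Chart.mk VX (ψ ⁻¹ᵁ U) hVX hψU h : Chart i j) U rK := by
  let K : Chart i j := Chart.mk VX (ψ ⁻¹ᵁ U) hVX hψU h
  have hφ : i ≫ aG hc ≫ r = j ≫ ψ := by
    rw [← hψ, ← Category.assoc, w_glue hc, Category.assoc]
  letI alg : Algebra Γ(S, U) Γ(Z, (j ≫ ψ) ⁻¹ᵁ U) := ((j ≫ ψ).app U).hom.toAlgebra
  let N : Submodule Γ(S, U) Γ(Z, (j ≫ ψ) ⁻¹ᵁ U) :=
    Submodule.span Γ(S, U) (Set.range (j.app (ψ ⁻¹ᵁ U)).hom)
  haveI hproj : Module.Projective Γ(S, U) (Γ(Z, (j ≫ ψ) ⁻¹ᵁ U) ⧸ N) := hv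
  have hN : ∀ b, b ∈ N ↔ b ∈ Set.range (j.app (ψ ⁻¹ᵁ U)).hom := by
    intro b
    constructor
    · intro hb
      induction hb using Submodule.span_induction with
      | mem x hx => exact hx
      | zero => exact ⟨0, map_zero _⟩
      | add x y _ _ hx hy =>
        obtain ⟨x', rfl⟩ := hx
        obtain ⟨y', rfl⟩ := hy
        exact ⟨x' + y', map_add _ _ _⟩
      | smul r x _ hx =>
        obtain ⟨x', rfl⟩ := hx
        refine ⟨(ψ.app U).hom r * x', ?_⟩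
        rw [map_mul, Algebra.smul_def]
        rfl
    · intro hb
      exact Submodule.subset_span hb
  have hWeq : (j ≫ ψ) ⁻¹ᵁ U = K.W := h.symm
  let ε : Γ((K.W : Scheme.{u}), ⊤) ⟶ Γ(Z, (j ≫ ψ) ⁻¹ᵁ U) :=
    K.W.topIso.hom ≫ Z.presheaf.map (eqToHom hWeq).op
  have hεbij : Function.Bijective ε.hom := ConcreteCategory.bijective_of_isIso ε
  let θ : Γ((K.U : Scheme.{u}), ⊤) ⟶ Γ(Z, (j ≫ ψ) ⁻¹ᵁ U) := K.ik.appTop ≫ ε
  have hθ : ∀ x, θ.hom x = ε.hom (K.ik.appTop.hom x) := fun x => rfl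
  have hθsurj : Function.Surjective θ.hom := by
    intro b
    obtain ⟨w, hw⟩ := hεbij.2 b
    obtain ⟨x, hx⟩ := K.ik_appTop_surjective w
    exact ⟨x, by rw [hθ, hx, hw]⟩
  -- the structure map
  have hρ : U.topIso.inv ≫ rK.appTop ≫ K.a.appTop ≫ θ = (j ≫ ψ).app U := by
    have h1 := chart_base_ring hc r K U rK hrK (j ≫ ψ) hφ hWeq.ge
    have h2 : U.topIso.inv ≫ rK.appTop ≫ K.a.appTop ≫ θ =
        (U.topIso.inv ≫ rK.appTop ≫ K.a.appTop ≫ K.ik.appTop ≫ K.W.topIso.hom) ≫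
          Z.presheaf.map (eqToHom hWeq).op := by
      simp only [θ, ε, Category.assoc]
    rw [h2, h1, Scheme.Hom.appLE_map, Scheme.Hom.app_eq_appLE]
  -- the map from `Γ(V)`
  have hjε : K.jk.appTop ≫ ε = K.V.topIso.hom ≫ j.app (ψ ⁻¹ᵁ U) := by
    have h1 := jk_appTop_topIso K
    have h2 : K.jk.appTop ≫ ε = (K.jk.appTop ≫ K.W.topIso.hom) ≫
        Z.presheaf.map (eqToHom hWeq).op := by
      simp only [ε, Category.assoc]
    rw [h2, h1, Category.assoc, Scheme.Hom.appLE_map, Scheme.Hom.app_eq_appLE]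
    rfl
  have hjε' : ∀ y, ε.hom (K.jk.appTop.hom y) = (j.app (ψ ⁻¹ᵁ U)).hom (K.V.topIso.hom.hom y) :=
    fun y => congrArg (fun m : Γ((K.V : Scheme.{u}), ⊤) ⟶ _ => m.hom y) hjε
  have hM := milnor_appTop K
  let f : Γ((K.U : Scheme.{u}), ⊤) →+ (Γ(Z, (j ≫ ψ) ⁻¹ᵁ U) ⧸ N) :=
    (N.mkQ : _ →ₗ[Γ(S, U)] _).toAddMonoidHom.comp θ.hom.toAddMonoidHom
  have hf : ∀ x, f x = Submodule.Quotient.mk (θ.hom x) := fun x => rfl
  refine univInjective_of_flat_coker K U hU rK U.topIso.symm (Γ(Z, (j ≫ ψ) ⁻¹ᵁ U) ⧸ N) f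
    ?_ ?_ ?_ (a_appTop_injective_of_jk K (jk_appTop_injective K))
  · intro b
    obtain ⟨b', rfl⟩ := Submodule.Quotient.mk_surjective N b
    obtain ⟨x, hx⟩ := hθsurj b'
    exact ⟨x, by rw [hf, hx]⟩
  · intro r₀ x
    rw [hf, hf, map_mul, ← Submodule.Quotient.mk_smul, Algebra.smul_def]
    congr 2
    exact congrArg (fun m : Γ(S, U) ⟶ _ => m.hom r₀) hρ
  · intro x
    rw [hf, Submodule.Quotient.mk_eq_zero, hN]
    constructor
    · rintro ⟨y₁, hy₁⟩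
      have h3 : K.jk.appTop.hom (K.V.topIso.inv.hom y₁) = K.ik.appTop.hom x := by
        apply hεbij.1
        rw [hjε', ← hθ, ← hy₁]
        congr 1
        exact congrArg (fun m : Γ(Y, K.V) ⟶ Γ(Y, K.V) => m.hom y₁) K.V.topIso.inv_hom_id
      obtain ⟨c, -, hc2⟩ := hM.ex _ _ h3
      exact ⟨c, hc2⟩
    · rintro ⟨c, rfl⟩
      refine ⟨K.V.topIso.hom.hom (K.b.appTop.hom c), ?_⟩
      rw [← hjε', hθ, hM.comm c]

end Groth.Agent.H49.Ferrand
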