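import Groth.Agent.H49.FerrandBC3

/-!
# Pinching commutes with arbitrary base change when the cokernel is projective (helper49)
-/

set_option autoImplicit false
universe u
open CategoryTheory CategoryTheory.Limits AlgebraicGeometry

namespace Groth.Agent.H49.Ferrand

open Groth.Agent.H24 Chart

section hyp

variable {X Y T Z : Scheme.{u}} (f : X ⟶ Y) (t : T ⟶ Y) (ξ : Z ⟶ T) (ι : Z ⟶ X)
  [IsAffineHom t] [IsClosedImmersion ι] [IsIntegralHom ξ] [Flat ξ] [Surjective ξ]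

/-- the chartwise hypothesis for scheme-theoretic dominance, from the projective cokernel -/
theorem exists_univInjective_chart (hsq : ι ≫ f = ξ ≫ t)
    (hstd : ∀ y : Y, ∃ U : Y.Opens, IsAffineOpen U ∧ y ∈ U ∧ ∃ V : X.Opens, IsAffineOpen V ∧
      V ≤ f ⁻¹ᵁ U ∧ ∀ z : Z, (ξ ≫ t).base z ∈ U → ι.base z ∈ V)
    (hv : ∀ U : Y.affineOpens, @Pinch.CokerProjective Γ(Y, U) Γ(Z, (ξ ≫ t) ⁻¹ᵁ U)
      Γ(T, t ⁻¹ᵁ U) _ _ _ ((ξ ≫ t).app U).hom.toAlgebra (ξ.app (t ⁻¹ᵁ U)).hom)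
    (hc : Covers ι ξ) (r : Pglue ι ξ ⟶ Y) (hr1 : aG hc ≫ r = f) (hr2 : bG hc ≫ r = t)
    (x : Pglue ι ξ) :
    ∃ k : Chart ι ξ, x ∈ Set.range (ιP k) ∧
      ∃ (U : Y.Opens) (rK : k.P ⟶ U), IsAffineOpen U ∧ rK ≫ U.ι = ιP k ≫ r ∧
        UnivInjective k U rK := by
  have caseB : ∀ t₀ : T, ∃ k : Chart ι ξ, bG hc t₀ ∈ Set.range (ιP k) ∧
      ∃ (U : Y.Opens) (rK : k.P ⟶ U), IsAffineOpen U ∧ rK ≫ U.ι = ιP k ≫ r ∧
        UnivInjective k U rK := by
    intro t₀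
    obtain ⟨U, hU, hyU, VX, hVX, hVXle, hz⟩ := hstd (t t₀)
    have hh : ι ⁻¹ᵁ VX = ξ ⁻¹ᵁ (t ⁻¹ᵁ U) := by
      ext z
      constructor
      · intro hzV
        have h1 : f (ι z) ∈ U := hVXle hzV
        show t (ξ z) ∈ U
        rw [← Scheme.Hom.comp_apply, ← hsq, Scheme.Hom.comp_apply]
        exact h1
      · intro hzU
        exact hz z hzU
    have htU : IsAffineOpen (t ⁻¹ᵁ U) := hU.preimage t
    let K : Chart ι ξ := ⟨VX, t ⁻¹ᵁ U, hVX, htU, hh⟩
    have hrange : Set.range (ιP K ≫ r) ⊆ (U : Set Y) :=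
      range_ιP_comp_subset hc r K U (by rw [hr1]; exact hVXle) (by rw [hr2])
    let rK : K.P ⟶ U := IsOpenImmersion.lift U.ι (ιP K ≫ r) (by
      rw [Scheme.Opens.range_ι]
      exact hrange)
    have hrK : rK ≫ U.ι = ιP K ≫ r := IsOpenImmersion.lift_fac _ _ _
    refine ⟨K, ⟨K.b ⟨t₀, hyU⟩, (bG_apply hc K ⟨t₀, hyU⟩).symm⟩, U, rK, hU, hrK, ?_⟩
    exact univInjective_special hc r t hr2 U hU VX hVX htU hh rK hrK (hv ⟨U, hU⟩)
  rcases exists_aG_or_bG hc x with ⟨x₁, rfl⟩ | ⟨t₀, rfl⟩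
  · by_cases hx₁ : x₁ ∈ Set.range ι
    · obtain ⟨z, rfl⟩ := hx₁
      have h1 : aG hc (ι z) = bG hc (ξ z) := by
        rw [← Scheme.Hom.comp_apply, ← Scheme.Hom.comp_apply, w_glue hc]
      rw [h1]
      exact caseB (ξ z)
    · obtain ⟨U, hU, hyU, -⟩ := hstd (f x₁)
      let O : X.Opens :=
        ⟨(Set.range ι)ᶜ, ι.isClosedEmbedding.isClosed_range.isOpen_compl⟩ ⊓ f ⁻¹ᵁ U
      obtain ⟨_, ⟨(UX : X.Opens), hUX, rfl⟩, hxUX, hUXle⟩ :=
        X.isBasis_affineOpens.exists_subset_of_mem_open (show x₁ ∈ O from ⟨hx₁, hyU⟩) O.isOpen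
      have hh : ι ⁻¹ᵁ UX = ξ ⁻¹ᵁ ⊥ := by
        ext z
        constructor
        · intro hzU
          exact absurd ⟨z, rfl⟩ (hUXle hzU).1
        · intro hz
          exact absurd hz (Set.notMem_empty _)
      let k : Chart ι ξ := ⟨UX, ⊥, hUX, isAffineOpen_bot T, hh⟩
      have hrange : Set.range (ιP k ≫ r) ⊆ (U : Set Y) :=
        range_ιP_comp_subset hc r k U (by
          rw [hr1]
          exact fun y hy => (hUXle hy).2) bot_le
      let rK : k.P ⟶ U := IsOpenImmersion.lift U.ι (ιP k ≫ r) (by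
        rw [Scheme.Opens.range_ι]
        exact hrange)
      have hrK : rK ≫ U.ι = ιP k ≫ r := IsOpenImmersion.lift_fac _ _ _
      exact ⟨k, ⟨k.a ⟨x₁, hxUX⟩, (aG_apply hc k ⟨x₁, hxUX⟩).symm⟩, U, rK, hU, hrK,
        univInjective_of_V_eq_bot k rfl U hU rK⟩
  · exact caseB t₀

end hyp

/-- **Pinching commutes with every base change when the cokernel is projective over the base.** -/
theorem isPushout_baseChange_of_cokerProjective {X Y T Z : Scheme.{u}} (f : X ⟶ Y) (t : T ⟶ Y)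
    (ξ : Z ⟶ T) (ι : Z ⟶ X) [IsAffineHom t] [IsClosedImmersion ι] (hsq : ι ≫ f = ξ ≫ t)
    (hstd : ∀ y : Y, ∃ U : Y.Opens, IsAffineOpen U ∧ y ∈ U ∧ ∃ V : X.Opens, IsAffineOpen V ∧
      V ≤ f ⁻¹ᵁ U ∧ ∀ z : Z, (ξ ≫ t).base z ∈ U → ι.base z ∈ V)
    [IsFinite ξ] {P : Scheme.{u}} (a : X ⟶ P) (b : T ⟶ P) (hP : IsPushout ι ξ a b)
    [Flat ξ] [Surjective ξ]
    (hv : ∀ U : Y.affineOpens, @Pinch.CokerProjective Γ(Y, U) Γ(Z, (ξ ≫ t) ⁻¹ᵁ U)
      Γ(T, t ⁻¹ᵁ U) _ _ _ ((ξ ≫ t).app U).hom.toAlgebra (ξ.app (t ⁻¹ᵁ U)).hom)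
    (p : P ⟶ Y) (hap : a ≫ p = f) (hbp : b ≫ p = t) {Y' : Scheme.{u}} (g : Y' ⟶ Y) :
    IsPushout ((Over.pullback g).map (Over.homMk ι hsq : Over.mk (ξ ≫ t) ⟶ Over.mk f)).left
      ((Over.pullback g).map (Over.homMk ξ rfl : Over.mk (ξ ≫ t) ⟶ Over.mk t)).left
      ((Over.pullback g).map (Over.homMk a hap : Over.mk f ⟶ Over.mk p)).left
      ((Over.pullback g).map (Over.homMk b hbp : Over.mk t ⟶ Over.mk p)).left := by
  haveI : IsIntegralHom ξ := inferInstance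
  have haff : ∀ y' : T, ∃ V : X.Opens, IsAffineOpen V ∧ ξ ⁻¹' {y'} ⊆ ι ⁻¹' (V : Set X) := by
    intro y'
    obtain ⟨U, -, hyU, V, hV, -, hz⟩ := hstd (t y')
    refine ⟨V, hV, ?_⟩
    intro z hzy
    have hzy' : ξ z = y' := hzy
    have h1 : (ξ ≫ t).base z ∈ U := by
      show (ξ ≫ t) z ∈ U
      rw [Scheme.Hom.comp_apply, hzy']
      exact hyU
    exact hz z h1
  have hc := covers_of_haff ι ξ haff
  obtain ⟨e, h1, h2⟩ := exists_iso_of_isPushout hc hP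
  let r : Pglue ι ξ ⟶ Y := e.hom ≫ p
  have hr1 : aG hc ≫ r = f := by rw [← Category.assoc, h1, hap]
  have hr2 : bG hc ≫ r = t := by rw [← Category.assoc, h2, hbp]
  have h1' : a ≫ e.inv = aG hc := by rw [← h1, Category.assoc, e.hom_inv_id, Category.comp_id]
  -- the pullback squares
  have hXsq := isPullback_overPullback_map g (Over.homMk a hap : Over.mk f ⟶ Over.mk p)
  have hTsq := isPullback_overPullback_map g (Over.homMk b hbp : Over.mk t ⟶ Over.mk p)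
  have hZsq := isPullback_overPullback_map g
    ((Over.homMk ι hsq : Over.mk (ξ ≫ t) ⟶ Over.mk f) ≫
      (Over.homMk a hap : Over.mk f ⟶ Over.mk p))
  rw [Functor.map_comp] at hZsq
  have hw : (Over.homMk ι hsq : Over.mk (ξ ≫ t) ⟶ Over.mk f) ≫
      (Over.homMk a hap : Over.mk f ⟶ Over.mk p) =
      (Over.homMk ξ rfl : Over.mk (ξ ≫ t) ⟶ Over.mk t) ≫
        (Over.homMk b hbp : Over.mk t ⟶ Over.mk p) := by
    ext
    exact hP.w
  have w' : ((Over.pullback g).map (Over.homMk ι hsq : Over.mk (ξ ≫ t) ⟶ Over.mk f)).left ≫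
      ((Over.pullback g).map (Over.homMk a hap : Over.mk f ⟶ Over.mk p)).left =
      ((Over.pullback g).map (Over.homMk ξ rfl : Over.mk (ξ ≫ t) ⟶ Over.mk t)).left ≫
        ((Over.pullback g).map (Over.homMk b hbp : Over.mk t ⟶ Over.mk p)).left := by
    rw [← Over.comp_left, ← Over.comp_left, ← Functor.map_comp, ← Functor.map_comp, hw]
  -- dominance
  haveI : IsSchemeTheoreticallyDominant
      ((Over.pullback g).map (Over.homMk a hap : Over.mk f ⟶ Over.mk p)).left := by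
    have hF : IsPullback (pullback.fst p g ≫ e.inv) (pullback.snd p g) r g :=
      IsPullback.of_iso (IsPullback.of_hasPullback p g) (Iso.refl _) e.symm (Iso.refl _)
        (Iso.refl _) (by simp) (by simp) (by simp [r]) (by simp)
    have hX' : IsPullback (pullback.fst f g)
        ((Over.pullback g).map (Over.homMk a hap : Over.mk f ⟶ Over.mk p)).left (aG hc)
        (pullback.fst p g ≫ e.inv) :=
      IsPullback.of_iso hXsq (Iso.refl _) (Iso.refl _) (Iso.refl _) e.symm (by simp) (by simp)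
        (by simp [h1']) (by simp)
    exact isSchemeTheoreticallyDominant_of_univInjective hc r g hF hX'
      (exists_univInjective_chart f t ξ ι hsq hstd hv hc r hr1 hr2)
  exact isPushout_baseChange_of_isPushout_of_dominant hc hP (pullback.fst p g) hXsq hTsq hZsq
    (overPullback_map_left_fst g _) (overPullback_map_left_fst g _) w'

end Groth.Agent.H49.Ferrand
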