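import Mathlib
import Groth.Agent.H24.MilnorRing

/-!
# Localising a Milnor square (helper49)

If `C = B ×_A A'` and `Cl = Bl ×_{Al} Al'` are Milnor squares, where `Bl`, `Al'`, `Al` are the
localisations of `B`, `A'`, `A` at the images of `c : C`, compatibly, then `Cl` is the
localisation of `C` at `c`.
-/

set_option autoImplicit false
universe u

namespace Groth.Agent.H49.MilnorLoc

open Groth.Agent.H24

variable {A A' B C : Type u} [CommRing A] [CommRing A'] [CommRing B] [CommRing C]
  {fst : C →+* B} {snd : C →+* A'} {q : B →+* A} {p : A' →+* A}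

theorem isLocalization_away (h : MilnorSq fst snd q p) (c : C)
    {Cl Bl Al' Al : Type u} [CommRing Cl] [CommRing Bl] [CommRing Al'] [CommRing Al]
    [Algebra C Cl] [Algebra B Bl] [Algebra A' Al'] [Algebra A Al]
    [IsLocalization.Away (fst c) Bl] [IsLocalization.Away (snd c) Al']
    [IsLocalization.Away (q (fst c)) Al]
    {fst' : Cl →+* Bl} {snd' : Cl →+* Al'} {q' : Bl →+* Al} {p' : Al' →+* Al}
    (h' : MilnorSq fst' snd' q' p')
    (hfst : fst'.comp (algebraMap C Cl) = (algebraMap B Bl).comp fst)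
    (hsnd : snd'.comp (algebraMap C Cl) = (algebraMap A' Al').comp snd)
    (hq : q'.comp (algebraMap B Bl) = (algebraMap A Al).comp q)
    (hp : p'.comp (algebraMap A' Al') = (algebraMap A Al).comp p) :
    IsLocalization.Away c Cl := by
  have hfst' : ∀ x, fst' (algebraMap C Cl x) = algebraMap B Bl (fst x) :=
    fun x => congrArg (fun f : C →+* Bl => f x) hfst
  have hsnd' : ∀ x, snd' (algebraMap C Cl x) = algebraMap A' Al' (snd x) :=
    fun x => congrArg (fun f : C →+* Al' => f x) hsnd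
  have hq' : ∀ b, q' (algebraMap B Bl b) = algebraMap A Al (q b) :=
    fun b => congrArg (fun f : B →+* Al => f b) hq
  have hp' : ∀ a, p' (algebraMap A' Al' a) = algebraMap A Al (p a) :=
    fun a => congrArg (fun f : A' →+* Al => f a) hp
  have uB : IsUnit (algebraMap B Bl (fst c)) := IsLocalization.Away.algebraMap_isUnit (fst c)
  have uA' : IsUnit (algebraMap A' Al' (snd c)) := IsLocalization.Away.algebraMap_isUnit (snd c)
  -- `c` becomes a unit
  have hunit : IsUnit (algebraMap C Cl c) := by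
    obtain ⟨b', hb'⟩ := uB.exists_right_inv
    obtain ⟨a'', ha''⟩ := uA'.exists_right_inv
    have hω : q' (algebraMap B Bl (fst c)) = p' (algebraMap A' Al' (snd c)) := by
      rw [hq', hp', h.comm]
    have e1 : q' (algebraMap B Bl (fst c)) * q' b' = 1 := by rw [← map_mul, hb', map_one]
    have e2 : p' (algebraMap A' Al' (snd c)) * p' a'' = 1 := by rw [← map_mul, ha'', map_one]
    have hcompat : q' b' = p' a'' := by
      calc q' b' = q' b' * (p' (algebraMap A' Al' (snd c)) * p' a'') := by rw [e2, mul_one]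
        _ = (q' (algebraMap B Bl (fst c)) * q' b') * p' a'' := by rw [← hω]; ring
        _ = p' a'' := by rw [e1, one_mul]
    obtain ⟨d, hd1, hd2⟩ := h'.ex b' a'' hcompat
    refine IsUnit.of_mul_eq_one d ?_
    apply h'.inj
    · rw [map_mul, hfst', hd1, hb', map_one]
    · rw [map_mul, hsnd', hd2, ha'', map_one]
  rw [IsLocalization.Away, isLocalization_iff]
  refine ⟨?_, ?_, ?_⟩
  · rintro ⟨_, n, rfl⟩
    simp only [map_pow]
    exact hunit.pow n
  · intro z
    obtain ⟨n₁, b₀, hb₀⟩ := IsLocalization.Away.surj (fst c) (fst' z)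
    obtain ⟨n₂, a₀, ha₀⟩ := IsLocalization.Away.surj (snd c) (snd' z)
    -- common exponent
    have hb₁ : fst' z * algebraMap B Bl (fst c) ^ (n₁ + n₂) =
        algebraMap B Bl (b₀ * (fst c) ^ n₂) := by
      rw [pow_add, ← mul_assoc, hb₀, map_mul, map_pow]
    have ha₁ : snd' z * algebraMap A' Al' (snd c) ^ (n₁ + n₂) =
        algebraMap A' Al' (a₀ * (snd c) ^ n₁) := by
      rw [pow_add, mul_comm (algebraMap A' Al' (snd c) ^ n₁), ← mul_assoc, ha₀, map_mul, map_pow]
    have hcomp : algebraMap A Al (q (b₀ * (fst c) ^ n₂)) =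
        algebraMap A Al (p (a₀ * (snd c) ^ n₁)) := by
      rw [← hq', ← hp', ← hb₁, ← ha₁, map_mul, map_mul, map_pow, map_pow, hq', hp', h'.comm,
        h.comm]
    obtain ⟨⟨_, m, rfl⟩, hm⟩ := (IsLocalization.eq_iff_exists
      (Submonoid.powers (q (fst c))) Al).mp hcomp
    have hm' : q ((fst c) ^ m * (b₀ * (fst c) ^ n₂)) = p ((snd c) ^ m * (a₀ * (snd c) ^ n₁)) := by
      rw [map_mul, map_mul p, map_pow, map_pow p, ← h.comm c]
      exact hm
    obtain ⟨x, hx1, hx2⟩ := h.ex _ _ hm'
    refine ⟨⟨x, ⟨c ^ (m + (n₁ + n₂)), _, rfl⟩⟩, ?_⟩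
    apply h'.inj
    · show fst' (z * algebraMap C Cl (c ^ (m + (n₁ + n₂)))) = fst' (algebraMap C Cl x)
      rw [map_mul, hfst', hfst', hx1, map_pow, map_pow, pow_add, map_mul (algebraMap B Bl),
        map_pow, ← hb₁]
      ring
    · show snd' (z * algebraMap C Cl (c ^ (m + (n₁ + n₂)))) = snd' (algebraMap C Cl x)
      rw [map_mul, hsnd', hsnd', hx2, map_pow, map_pow, pow_add, map_mul (algebraMap A' Al'),
        map_pow, ← ha₁]
      ring
  · intro x y hxy
    have h1 : algebraMap B Bl (fst x) = algebraMap B Bl (fst y) := by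
      rw [← hfst', ← hfst', hxy]
    have h2 : algebraMap A' Al' (snd x) = algebraMap A' Al' (snd y) := by
      rw [← hsnd', ← hsnd', hxy]
    obtain ⟨⟨_, m₁, rfl⟩, hm₁⟩ := (IsLocalization.eq_iff_exists
      (Submonoid.powers (fst c)) Bl).mp h1
    obtain ⟨⟨_, m₂, rfl⟩, hm₂⟩ := (IsLocalization.eq_iff_exists
      (Submonoid.powers (snd c)) Al').mp h2
    refine ⟨⟨c ^ (m₁ + m₂), _, rfl⟩, ?_⟩
    apply h.inj
    · show fst (c ^ (m₁ + m₂) * x) = fst (c ^ (m₁ + m₂) * y)
      rw [map_mul, map_mul, map_pow, pow_add, mul_comm (fst c ^ m₁), mul_assoc, mul_assoc]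
      congr 1
    · show snd (c ^ (m₁ + m₂) * x) = snd (c ^ (m₁ + m₂) * y)
      rw [map_mul, map_mul, map_pow, pow_add, mul_assoc, mul_assoc]
      congr 1

end Groth.Agent.H49.MilnorLoc
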