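import Mathlib
import Groth.Agent.H24.MilnorRing

/-!
# Primes in Milnor squares (helper49)

Ring-level facts about a Milnor square `C = B ×_A A'` (`p : A' → A` surjective):
integrality of `snd`, the square is cartesian on primes, fibres of `Spec A' → Spec C`,
a separation lemma, and stability of the fibre-product description under localisation.
-/

set_option autoImplicit false
universe u
open Polynomial

namespace Groth.Agent.H49.MilnorPrime

open Groth.Agent.H24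

variable {A A' B C : Type u} [CommRing A] [CommRing A'] [CommRing B] [CommRing C]
  {fst : C →+* B} {snd : C →+* A'} {q : B →+* A} {p : A' →+* A}

theorem exists_zero_snd (h : MilnorSq fst snd q p) (κ : A') (hκ : p κ = 0) :
    ∃ c, fst c = 0 ∧ snd c = κ :=
  h.ex 0 κ (by rw [map_zero, hκ])

theorem p_snd_eq_zero (h : MilnorSq fst snd q p) (c : C) (hc : fst c = 0) : p (snd c) = 0 := by
  rw [← h.comm, hc, map_zero]

/-- if `q` is integral then so is `snd` -/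
theorem isIntegral_snd (h : MilnorSq fst snd q p) (hq : q.IsIntegral) : snd.IsIntegral := by
  intro a'
  by_cases hB : Nontrivial B
  · obtain ⟨f, hf1, hf2⟩ := hq (p a')
    -- make the degree positive
    have hfX : (f * X).Monic := hf1.mul monic_X
    have hfX0 : eval₂ q (p a') (f * X) = 0 := by rw [eval₂_mul, hf2, zero_mul]
    obtain ⟨F, hF1, hF2, hF3⟩ := lifts_and_degree_eq_and_monic
      (mem_lifts_of_surjective h.fst_surjective (f * X)) hfX
    have hκ : p (eval₂ snd a' F) = 0 := by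
      rw [hom_eval₂]
      have e1 : p.comp snd = q.comp fst := by
        ext c; exact (h.comm c).symm
      rw [e1, ← eval₂_map, hF1]
      exact hfX0
    obtain ⟨c₀, hc1, hc2⟩ := exists_zero_snd h _ hκ
    have hdeg : (Polynomial.C c₀).degree < F.degree := by
      rw [hF2]
      refine lt_of_le_of_lt degree_C_le ?_
      rw [degree_mul_X]
      have : (0 : WithBot ℕ) ≤ f.degree := zero_le_degree_iff.mpr hf1.ne_zero
      calc (0 : WithBot ℕ) < 1 := by exact_mod_cast Nat.zero_lt_one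
        _ ≤ f.degree + 1 := le_add_of_nonneg_left this
    refine ⟨F - Polynomial.C c₀, hF3.sub_of_left hdeg, ?_⟩
    rw [eval₂_sub, eval₂_C, hc2, sub_self]
  · rw [not_nontrivial_iff_subsingleton] at hB
    have hA : ∀ x : A, x = 0 := by
      intro x
      have h1 : (1 : A) = 0 := by
        rw [← map_one q, Subsingleton.elim (1 : B) 0, map_zero]
      rw [← mul_one x, h1, mul_zero]
    obtain ⟨c₀, -, hc2⟩ := exists_zero_snd h a' (hA _)
    rw [← hc2]
    exact snd.isIntegralElem_map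

/-- the square is cartesian on primes -/
theorem exists_prime_pullback (h : MilnorSq fst snd q p) (𝔮 : Ideal A') [𝔮.IsPrime]
    (𝔭 : Ideal B) [𝔭.IsPrime] (he : 𝔮.comap snd = 𝔭.comap fst) :
    ∃ 𝔯 : Ideal A, 𝔯.IsPrime ∧ 𝔯.comap p = 𝔮 ∧ 𝔯.comap q = 𝔭 := by
  have hk : RingHom.ker p ≤ 𝔮 := by
    intro κ hκ
    obtain ⟨c₀, hc1, hc2⟩ := exists_zero_snd h κ hκ
    have : c₀ ∈ 𝔭.comap fst := by
      rw [Ideal.mem_comap, hc1]; exact zero_mem _
    rw [← he, Ideal.mem_comap, hc2] at this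
    exact this
  have hcm : (𝔮.map p).comap p = 𝔮 := by
    rw [Ideal.comap_map_of_surjective p h.surj]
    exact sup_eq_left.mpr (by rw [← RingHom.ker_eq_comap_bot]; exact hk)
  refine ⟨𝔮.map p, Ideal.map_isPrime_of_surjective h.surj hk, hcm, ?_⟩
  apply Ideal.comap_injective_of_surjective fst h.fst_surjective
  have e1 : q.comp fst = p.comp snd := by ext c; exact h.comm c
  calc ((𝔮.map p).comap q).comap fst = (𝔮.map p).comap (q.comp fst) := Ideal.comap_comap _ _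
    _ = (𝔮.map p).comap (p.comp snd) := by rw [e1]
    _ = ((𝔮.map p).comap p).comap snd := (Ideal.comap_comap _ _).symm
    _ = 𝔮.comap snd := by rw [hcm]
    _ = 𝔭.comap fst := he

/-- the fibres of `Spec A' → Spec C` -/
theorem comap_snd_eq_cases (h : MilnorSq fst snd q p) (𝔮 𝔮' : Ideal A') [𝔮.IsPrime] [𝔮'.IsPrime]
    (he : 𝔮.comap snd = 𝔮'.comap snd) :
    𝔮 = 𝔮' ∨ ∃ 𝔯 𝔯' : Ideal A, 𝔯.IsPrime ∧ 𝔯'.IsPrime ∧ 𝔯.comap p = 𝔮 ∧ 𝔯'.comap p = 𝔮' ∧
      𝔯.comap q = 𝔯'.comap q := by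
  have key : ∀ (𝔮₁ 𝔮₂ : Ideal A'), 𝔮₁.comap snd = 𝔮₂.comap snd → ∀ κ, p κ = 0 → κ ∈ 𝔮₁ → κ ∈ 𝔮₂ := by
    intro 𝔮₁ 𝔮₂ he κ hκ hκ1
    obtain ⟨c₀, hc1, hc2⟩ := exists_zero_snd h κ hκ
    have : c₀ ∈ 𝔮₁.comap snd := by rw [Ideal.mem_comap, hc2]; exact hκ1
    rw [he, Ideal.mem_comap, hc2] at this
    exact this
  by_cases hk : RingHom.ker p ≤ 𝔮
  · right
    have hk' : RingHom.ker p ≤ 𝔮' := fun κ hκ => key 𝔮 𝔮' he κ hκ (hk hκ)
    have hcm : (𝔮.map p).comap p = 𝔮 := by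
      rw [Ideal.comap_map_of_surjective p h.surj]
      exact sup_eq_left.mpr (by rw [← RingHom.ker_eq_comap_bot]; exact hk)
    have hcm' : (𝔮'.map p).comap p = 𝔮' := by
      rw [Ideal.comap_map_of_surjective p h.surj]
      exact sup_eq_left.mpr (by rw [← RingHom.ker_eq_comap_bot]; exact hk')
    refine ⟨𝔮.map p, 𝔮'.map p, Ideal.map_isPrime_of_surjective h.surj hk,
      Ideal.map_isPrime_of_surjective h.surj hk', hcm, hcm', ?_⟩
    apply Ideal.comap_injective_of_surjective fst h.fst_surjective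
    have e1 : q.comp fst = p.comp snd := by ext c; exact h.comm c
    have e2 : ∀ 𝔯 : Ideal A, (𝔯.comap q).comap fst = (𝔯.comap p).comap snd := by
      intro 𝔯
      calc (𝔯.comap q).comap fst = 𝔯.comap (q.comp fst) := Ideal.comap_comap _ _
        _ = 𝔯.comap (p.comp snd) := by rw [e1]
        _ = (𝔯.comap p).comap snd := (Ideal.comap_comap _ _).symm
    show ((𝔮.map p).comap q).comap fst = ((𝔮'.map p).comap q).comap fst
    rw [e2, e2, hcm, hcm', he]
  · left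
    obtain ⟨κ, hκ1, hκ2⟩ := Set.not_subset.mp hk
    have hκ1' : p κ = 0 := hκ1
    have hκ3 : κ ∉ 𝔮' := fun hc => hκ2 (key 𝔮' 𝔮 he.symm κ hκ1' hc)
    have key2 : ∀ (𝔮₁ 𝔮₂ : Ideal A') [𝔮₁.IsPrime] [𝔮₂.IsPrime], 𝔮₁.comap snd = 𝔮₂.comap snd →
        κ ∉ 𝔮₂ → 𝔮₁ ≤ 𝔮₂ := by
      intro 𝔮₁ 𝔮₂ _ _ he hκ a' ha'
      have h1 : κ * a' ∈ 𝔮₂ :=
        key 𝔮₁ 𝔮₂ he (κ * a') (by rw [map_mul, hκ1', zero_mul]) (Ideal.mul_mem_left _ _ ha')
      rcases Ideal.IsPrime.mem_or_mem inferInstance h1 with h2 | h2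
      · exact absurd h2 hκ
      · exact h2
    exact le_antisymm (key2 𝔮 𝔮' he hκ3) (key2 𝔮' 𝔮 he.symm hκ2)

section separation

variable (h : MilnorSq fst snd q p) (hq : q.IsIntegral) (IV : Ideal B) (IU : Ideal A')
  (H : ∀ 𝔯 : Ideal A, 𝔯.IsPrime → (IU ≤ 𝔯.comap p ↔ IV ≤ 𝔯.comap q))

include h hq H

theorem exists_over (𝔓 : Ideal C) [𝔓.IsPrime] (hle : IU.comap snd ≤ 𝔓) :
    ∃ 𝔔 : Ideal A', 𝔔.IsPrime ∧ IU ≤ 𝔔 ∧ 𝔔.comap snd = 𝔓 := by
  letI := snd.toAlgebra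
  haveI : Algebra.IsIntegral C A' := ⟨isIntegral_snd h hq⟩
  obtain ⟨𝔔, h1, h2, h3⟩ := Ideal.exists_ideal_over_prime_of_isIntegral 𝔓 IU hle
  exact ⟨𝔔, h2, h1, h3⟩

theorem exists_fst_notMem (𝔭 : Ideal B) [𝔭.IsPrime] (hV : ¬ IV ≤ 𝔭) :
    ∃ c, fst c ∈ IV ∧ snd c ∈ IU ∧ fst c ∉ 𝔭 := by
  by_contra hcon
  push_neg at hcon
  have hle : IV.comap fst ⊓ IU.comap snd ≤ 𝔭.comap fst := by
    intro c hc
    exact hcon c hc.1 hc.2
  rcases (Ideal.IsPrime.inf_le inferInstance).mp hle with h1 | h1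
  · apply hV
    intro b hb
    obtain ⟨c, rfl⟩ := h.fst_surjective b
    exact h1 hb
  · obtain ⟨𝔔, hQ1, hQ2, hQ3⟩ := exists_over h hq IV IU H (𝔭.comap fst) h1
    obtain ⟨𝔯, hr1, hr2, hr3⟩ := exists_prime_pullback h 𝔔 𝔭 hQ3
    apply hV
    rw [← hr3]
    exact (H 𝔯 hr1).mp (by rw [hr2]; exact hQ2)

theorem exists_snd_notMem (𝔮 : Ideal A') [𝔮.IsPrime] (hU : ¬ IU ≤ 𝔮) :
    ∃ c, fst c ∈ IV ∧ snd c ∈ IU ∧ snd c ∉ 𝔮 := by
  by_contra hcon
  push_neg at hcon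
  have hle : IV.comap fst ⊓ IU.comap snd ≤ 𝔮.comap snd := by
    intro c hc
    exact hcon c hc.1 hc.2
  rcases (Ideal.IsPrime.inf_le inferInstance).mp hle with h1 | h1
  · -- a prime of `B`
    have hker : RingHom.ker fst ≤ 𝔮.comap snd := by
      intro c hc
      apply h1
      rw [Ideal.mem_comap, (RingHom.mem_ker).mp hc]
      exact zero_mem _
    haveI hp : ((𝔮.comap snd).map fst).IsPrime :=
      Ideal.map_isPrime_of_surjective h.fst_surjective hker
    have hcm : ((𝔮.comap snd).map fst).comap fst = 𝔮.comap snd := by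
      rw [Ideal.comap_map_of_surjective fst h.fst_surjective]
      exact sup_eq_left.mpr (by rw [← RingHom.ker_eq_comap_bot]; exact hker)
    have hIV : IV ≤ (𝔮.comap snd).map fst := by
      intro b hb
      obtain ⟨c, rfl⟩ := h.fst_surjective b
      exact Ideal.mem_map_of_mem fst (h1 hb)
    obtain ⟨𝔯, hr1, hr2, hr3⟩ := exists_prime_pullback h 𝔮 _ hcm.symm
    apply hU
    rw [← hr2]
    exact (H 𝔯 hr1).mpr (by rw [hr3]; exact hIV)
  · obtain ⟨𝔔, hQ1, hQ2, hQ3⟩ := exists_over h hq IV IU H (𝔮.comap snd) h1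
    rcases comap_snd_eq_cases h 𝔔 𝔮 hQ3 with h2 | ⟨𝔯, 𝔯', hr, hr', e1, e2, e3⟩
    · apply hU
      rw [← h2]
      exact hQ2
    · apply hU
      rw [← e2]
      refine (H 𝔯' hr').mpr ?_
      rw [← e3]
      exact (H 𝔯 hr).mp (by rw [e1]; exact hQ2)

end separation

end Groth.Agent.H49.MilnorPrime
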