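import Mathlib
import Groth.Agent.H24.MilnorPushout
import Groth.Agent.H49.MilnorPrime
import Groth.Agent.H49.MilnorLoc

/-!
# Charts for Ferrand pushouts (helper49)

For a closed immersion `i : Z ⟶ X` and a morphism `j : Z ⟶ Y`, a chart is a pair of affine opens
`U ⊆ X`, `V ⊆ Y` with `i⁻¹ U = j⁻¹ V`.  The local pushout is `Spec (Γ(V) ×_{Γ(i⁻¹U)} Γ(U))`.
-/

set_option autoImplicit false
universe u
open CategoryTheory CategoryTheory.Limits AlgebraicGeometry

namespace Groth.Agent.H49.Ferrand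

open Groth.Agent.H24

variable {X Y Z : Scheme.{u}} (i : Z ⟶ X) (j : Z ⟶ Y)

/-- a chart: affine opens of `X` and `Y` with the same preimage in `Z` -/
structure Chart where
  U : X.Opens
  V : Y.Opens
  hU : IsAffineOpen U
  hV : IsAffineOpen V
  h : i ⁻¹ᵁ U = j ⁻¹ᵁ V

namespace Chart

variable {i j}

instance : Preorder (Chart i j) := Preorder.lift (fun k => (k.U, k.V))

lemma le_iff {k k' : Chart i j} : k ≤ k' ↔ k.U ≤ k'.U ∧ k.V ≤ k'.V := Iff.rfl

variable (k : Chart i j)

/-- the common preimage in `Z` -/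
abbrev W : Z.Opens := i ⁻¹ᵁ k.U

lemma W_eq : k.W = j ⁻¹ᵁ k.V := k.h

instance isAffine_U : IsAffine (k.U : Scheme.{u}) := k.hU

instance isAffine_V : IsAffine (k.V : Scheme.{u}) := k.hV

/-- restriction of `i` -/
noncomputable def ik : (k.W : Scheme.{u}) ⟶ k.U := i.resLE k.U k.W le_rfl

/-- restriction of `j` -/
noncomputable def jk : (k.W : Scheme.{u}) ⟶ k.V := j.resLE k.V k.W k.h.le

lemma ik_ι : k.ik ≫ k.U.ι = k.W.ι ≫ i := Scheme.Hom.resLE_comp_ι _ _

lemma jk_ι : k.jk ≫ k.V.ι = k.W.ι ≫ j := Scheme.Hom.resLE_comp_ι _ _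

lemma ik_apply (w : k.W) : (k.ik w).1 = i w.1 := Scheme.Hom.coe_resLE_apply _ _ _

lemma jk_apply (w : k.W) : (k.jk w).1 = j w.1 := Scheme.Hom.coe_resLE_apply _ _ _

instance isClosedImmersion_ik [IsClosedImmersion i] : IsClosedImmersion k.ik := by
  have : k.ik = i ∣_ k.U := Scheme.Hom.resLE_eq_morphismRestrict i
  rw [this]
  infer_instance

instance isAffine_W [IsClosedImmersion i] : IsAffine (k.W : Scheme.{u}) :=
  (IsClosedImmersion.isAffine_surjective_of_isAffine k.ik).1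

lemma ik_appTop_surjective [IsClosedImmersion i] : Function.Surjective k.ik.appTop.hom :=
  (IsClosedImmersion.isAffine_surjective_of_isAffine k.ik).2

instance isIntegralHom_jk [IsIntegralHom j] : IsIntegralHom k.jk := by
  have h1 : IsIntegralHom (j.resLE k.V (j ⁻¹ᵁ k.V) le_rfl) := by
    rw [Scheme.Hom.resLE_eq_morphismRestrict]
    infer_instance
  exact (Scheme.Hom.resLE_congr (f := j) (e := k.h.le) rfl k.h @IsIntegralHom).mpr h1

lemma jk_appTop_isIntegral [IsIntegralHom j] : k.jk.appTop.hom.IsIntegral :=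
  IsIntegralHom.isIntegral_app k.jk ⊤ (isAffineOpen_top _)

/-- the fibre product ring -/
noncomputable def RC : Subring (Γ((k.V : Scheme.{u}), ⊤) × Γ((k.U : Scheme.{u}), ⊤)) :=
  RingHom.eqLocus (k.jk.appTop.hom.comp (RingHom.fst _ _)) (k.ik.appTop.hom.comp (RingHom.snd _ _))

/-- projection to `Γ(V)` -/
noncomputable def fstC : k.RC →+* Γ((k.V : Scheme.{u}), ⊤) := (RingHom.fst _ _).comp k.RC.subtype

/-- projection to `Γ(U)` -/
noncomputable def sndC : k.RC →+* Γ((k.U : Scheme.{u}), ⊤) := (RingHom.snd _ _).comp k.RC.subtype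

lemma milnor [IsClosedImmersion i] :
    MilnorSq k.fstC k.sndC k.jk.appTop.hom k.ik.appTop.hom where
  comm c := c.2
  surj := k.ik_appTop_surjective
  ex b a' h := ⟨⟨(b, a'), h⟩, rfl, rfl⟩
  inj c c' h1 h2 := Subtype.ext (Prod.ext h1 h2)

/-- the local pushout -/
noncomputable abbrev P : Scheme.{u} := Spec (CommRingCat.of k.RC)

/-- `U ⟶ P` -/
noncomputable def a : (k.U : Scheme.{u}) ⟶ k.P :=
  (k.U : Scheme.{u}).toSpecΓ ≫ Spec.map (CommRingCat.ofHom k.sndC)

/-- `V ⟶ P` -/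
noncomputable def b : (k.V : Scheme.{u}) ⟶ k.P :=
  (k.V : Scheme.{u}).toSpecΓ ≫ Spec.map (CommRingCat.ofHom k.fstC)

lemma ring_w : CommRingCat.ofHom k.sndC ≫ k.ik.appTop = CommRingCat.ofHom k.fstC ≫ k.jk.appTop := by
  apply CommRingCat.hom_ext
  apply RingHom.ext
  intro c
  exact c.2.symm

lemma w : k.ik ≫ k.a = k.jk ≫ k.b := by
  have h1 : k.ik ≫ k.a = (k.W : Scheme.{u}).toSpecΓ ≫
      Spec.map (CommRingCat.ofHom k.sndC ≫ k.ik.appTop) := by
    rw [a, ← Category.assoc, Scheme.toSpecΓ_naturality, Category.assoc, Spec.map_comp]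
    rfl
  have h2 : k.jk ≫ k.b = (k.W : Scheme.{u}).toSpecΓ ≫
      Spec.map (CommRingCat.ofHom k.fstC ≫ k.jk.appTop) := by
    rw [b, ← Category.assoc, Scheme.toSpecΓ_naturality, Category.assoc, Spec.map_comp]
    rfl
  rw [h1, h2, ring_w]

section localpushout

variable [IsClosedImmersion i]

lemma isPushout_Spec : IsPushout (Spec.map k.ik.appTop) (Spec.map k.jk.appTop)
    (Spec.map (CommRingCat.ofHom k.sndC)) (Spec.map (CommRingCat.ofHom k.fstC)) :=
  isPushout_Spec_of_milnorSq (fst := CommRingCat.ofHom k.fstC) (snd := CommRingCat.ofHom k.sndC)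
    (q := k.jk.appTop) (p := k.ik.appTop) k.milnor k.ring_w

/-- the local pushout square -/
lemma isPushout : IsPushout k.ik k.jk k.a k.b := by
  refine IsPushout.of_iso k.isPushout_Spec (k.W : Scheme.{u}).isoSpec.symm
    (k.U : Scheme.{u}).isoSpec.symm (k.V : Scheme.{u}).isoSpec.symm (Iso.refl _) ?_ ?_ ?_ ?_
  · rw [Iso.symm_hom, Iso.symm_hom, Iso.eq_inv_comp, ← Category.assoc, Iso.comp_inv_eq]
    exact (Scheme.toSpecΓ_naturality k.ik).symm
  · rw [Iso.symm_hom, Iso.symm_hom, Iso.eq_inv_comp, ← Category.assoc, Iso.comp_inv_eq]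
    exact (Scheme.toSpecΓ_naturality k.jk).symm
  · rw [Iso.refl_hom, Category.comp_id, Iso.symm_hom, Iso.eq_inv_comp]
    rfl
  · rw [Iso.refl_hom, Category.comp_id, Iso.symm_hom, Iso.eq_inv_comp]
    rfl

/-- ring-level pushout: `A = A' ⊗_C B` -/
lemma isPushout_ring : IsPushout (CommRingCat.ofHom k.sndC) (CommRingCat.ofHom k.fstC)
    k.ik.appTop k.jk.appTop := by
  have hM := k.milnor
  refine ⟨⟨k.ring_w⟩, ⟨PushoutCocone.IsColimit.mk _ (fun s => ?_) (fun s => ?_) (fun s => ?_)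
    (fun s m h1 h2 => ?_)⟩⟩
  · -- the descent map
    refine CommRingCat.ofHom (RingHom.liftOfSurjective k.ik.appTop.hom hM.surj ⟨s.inl.hom, ?_⟩)
    intro κ hκ
    obtain ⟨c₀, hc1, hc2⟩ := MilnorPrime.exists_zero_snd hM κ hκ
    have := congrArg (fun f : CommRingCat.of k.RC ⟶ s.pt => f.hom c₀) s.condition
    simp only [CommRingCat.hom_comp, RingHom.comp_apply, CommRingCat.hom_ofHom] at this
    rw [hc1, hc2, map_zero] at this
    exact this
  · apply CommRingCat.hom_ext
    exact RingHom.liftOfSurjective_comp _ hM.surj _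
  · apply CommRingCat.hom_ext
    apply RingHom.ext
    intro b
    obtain ⟨a', ha'⟩ := hM.surj (k.jk.appTop.hom b)
    obtain ⟨c, hc1, hc2⟩ := hM.ex b a' ha'.symm
    have h3 := congrArg (fun f : CommRingCat.of k.RC ⟶ s.pt => f.hom c) s.condition
    simp only [CommRingCat.hom_comp, RingHom.comp_apply, CommRingCat.hom_ofHom] at h3
    rw [hc1, hc2] at h3
    show (RingHom.liftOfSurjective k.ik.appTop.hom hM.surj ⟨s.inl.hom, _⟩)
      (k.jk.appTop.hom b) = s.inr.hom b
    rw [← ha']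
    exact (RingHom.liftOfSurjective_comp_apply _ hM.surj _ a').trans h3
  · apply CommRingCat.hom_ext
    apply RingHom.ext
    intro x
    obtain ⟨a', rfl⟩ := hM.surj x
    show m.hom (k.ik.appTop.hom a') = (RingHom.liftOfSurjective k.ik.appTop.hom hM.surj
      ⟨s.inl.hom, _⟩) (k.ik.appTop.hom a')
    refine Eq.trans ?_ (RingHom.liftOfSurjective_comp_apply _ hM.surj _ a').symm
    exact congrArg (fun f : Γ((k.U : Scheme.{u}), ⊤) ⟶ s.pt => f.hom a') h1

lemma isPullback_Spec : IsPullback (Spec.map k.ik.appTop) (Spec.map k.jk.appTop)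
    (Spec.map (CommRingCat.ofHom k.sndC)) (Spec.map (CommRingCat.ofHom k.fstC)) :=
  isPullback_SpecMap_of_isPushout _ _ _ _ k.isPushout_ring

/-- the local square is cartesian -/
lemma isPullback : IsPullback k.ik k.jk k.a k.b := by
  refine IsPullback.of_iso k.isPullback_Spec (k.W : Scheme.{u}).isoSpec.symm
    (k.U : Scheme.{u}).isoSpec.symm (k.V : Scheme.{u}).isoSpec.symm (Iso.refl _) ?_ ?_ ?_ ?_
  · rw [Iso.symm_hom, Iso.symm_hom, Iso.eq_inv_comp, ← Category.assoc, Iso.comp_inv_eq]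
    exact (Scheme.toSpecΓ_naturality k.ik).symm
  · rw [Iso.symm_hom, Iso.symm_hom, Iso.eq_inv_comp, ← Category.assoc, Iso.comp_inv_eq]
    exact (Scheme.toSpecΓ_naturality k.jk).symm
  · rw [Iso.refl_hom, Category.comp_id, Iso.symm_hom, Iso.eq_inv_comp]
    rfl
  · rw [Iso.refl_hom, Category.comp_id, Iso.symm_hom, Iso.eq_inv_comp]
    rfl

instance isClosedImmersion_b : IsClosedImmersion k.b := by
  have h2 : IsClosedImmersion (Spec.map (CommRingCat.ofHom k.fstC)) :=
    IsClosedImmersion.spec_of_surjective _ k.milnor.fst_surjective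
  haveI : IsIso (k.V : Scheme.{u}).toSpecΓ := inferInstance
  have h1 : IsClosedImmersion (k.V : Scheme.{u}).toSpecΓ := inferInstance
  exact MorphismProperty.comp_mem (W := @IsClosedImmersion) _ _ h1 h2

instance isIntegralHom_a [IsIntegralHom j] : IsIntegralHom k.a := by
  have h2 : IsIntegralHom (Spec.map (CommRingCat.ofHom k.sndC)) :=
    IsIntegralHom.SpecMap_iff.mpr (MilnorPrime.isIntegral_snd k.milnor k.jk_appTop_isIntegral)
  haveI : IsIso (k.U : Scheme.{u}).toSpecΓ := inferInstance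
  have h1 : IsIntegralHom (k.U : Scheme.{u}).toSpecΓ := inferInstance
  exact MorphismProperty.comp_mem (W := @IsIntegralHom) _ _ h1 h2

end localpushout

end Chart

end Groth.Agent.H49.Ferrand
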