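import Groth.Agent.H49.FerrandGlue5
import Groth.Agent.H49.FerrandAvoid

/-!
# Existence of the covering by charts (helper49)
-/

set_option autoImplicit false
universe u
open CategoryTheory CategoryTheory.Limits AlgebraicGeometry

namespace Groth.Agent.H49.Ferrand

open Groth.Agent.H24

section L1

variable {T T₁ : Scheme.{u}} [IsAffine T] [IsAffine T₁] (ι₁ : T₁ ⟶ T) [IsOpenImmersion ι₁]

/-- sections on an affine open subscheme extend after multiplication by a power of a function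
whose nonvanishing locus lies in the subscheme -/
lemma exists_pow_mul_eq (t : Γ(T, ⊤)) (ht : T.basicOpen t ≤ ι₁.opensRange) (c : Γ(T₁, ⊤)) :
    ∃ (N : ℕ) (a : Γ(T, ⊤)), ι₁.appTop.hom a = ι₁.appTop.hom t ^ N * c := by
  let ιD : (T.basicOpen t : Scheme.{u}) ⟶ T := (T.basicOpen t).ι
  have hrange : Set.range ιD ⊆ Set.range ι₁ := by
    rintro _ ⟨d, rfl⟩
    exact ht d.2
  let lam : (T.basicOpen t : Scheme.{u}) ⟶ T₁ := IsOpenImmersion.lift ι₁ ιD hrange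
  have hfac : lam ≫ ι₁ = ιD := IsOpenImmersion.lift_fac ι₁ ιD hrange
  haveI : IsOpenImmersion (lam ≫ ι₁) := by rw [hfac]; infer_instance
  haveI : IsOpenImmersion lam := IsOpenImmersion.of_comp lam ι₁
  have hlamrange : lam.opensRange = T₁.basicOpen (ι₁.appTop.hom t) := by
    rw [← Scheme.preimage_basicOpen_top]
    ext x₁
    constructor
    · rintro ⟨d, rfl⟩
      show ι₁ (lam d) ∈ T.basicOpen t
      rw [← Scheme.Hom.comp_apply, hfac]
      exact d.2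
    · intro hx
      have hx' : ι₁ x₁ ∈ T.basicOpen t := hx
      refine ⟨⟨ι₁ x₁, hx'⟩, ?_⟩
      apply ι₁.isOpenEmbedding.injective
      rw [← Scheme.Hom.comp_apply, hfac]
      rfl
  have hstar : ∀ a : Γ(T, ⊤), lam.appTop.hom (ι₁.appTop.hom a) = ιD.appTop.hom a := by
    intro a
    have : (lam ≫ ι₁).appTop.hom a = ιD.appTop.hom a := by rw [hfac]
    rw [Scheme.Hom.comp_appTop] at this
    exact this
  -- first localization
  obtain ⟨N, a, ha⟩ : ∃ (N : ℕ) (a : Γ(T, ⊤)),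
      lam.appTop.hom c * ιD.appTop.hom t ^ N = ιD.appTop.hom a := by
    letI algT : Algebra Γ(T, ⊤) Γ((T.basicOpen t : Scheme.{u}), ⊤) := ιD.appTop.hom.toAlgebra
    haveI hT : IsLocalization.Away t Γ((T.basicOpen t : Scheme.{u}), ⊤) :=
      GQ3.isLocalization_of_isOpenImmersion (X := T) ιD t (Scheme.Opens.opensRange_ι _)
    exact IsLocalization.Away.surj t (lam.appTop.hom c)
  -- second localization
  letI algT₁ : Algebra Γ(T₁, ⊤) Γ((T.basicOpen t : Scheme.{u}), ⊤) := lam.appTop.hom.toAlgebra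
  haveI hT₁ : IsLocalization.Away (ι₁.appTop.hom t) Γ((T.basicOpen t : Scheme.{u}), ⊤) :=
    GQ3.isLocalization_of_isOpenImmersion (X := T₁) lam (ι₁.appTop.hom t) hlamrange
  have heq : algebraMap Γ(T₁, ⊤) Γ((T.basicOpen t : Scheme.{u}), ⊤) (c * ι₁.appTop.hom t ^ N) =
      algebraMap Γ(T₁, ⊤) Γ((T.basicOpen t : Scheme.{u}), ⊤) (ι₁.appTop.hom a) := by
    show lam.appTop.hom (c * ι₁.appTop.hom t ^ N) = lam.appTop.hom (ι₁.appTop.hom a)
    rw [map_mul, map_pow, hstar, hstar]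
    exact ha
  obtain ⟨⟨m, M, hM⟩, hm⟩ := (IsLocalization.eq_iff_exists (Submonoid.powers (ι₁.appTop.hom t))
    Γ((T.basicOpen t : Scheme.{u}), ⊤)).mp heq
  have hm' : ι₁.appTop.hom t ^ M * (c * ι₁.appTop.hom t ^ N) =
      ι₁.appTop.hom t ^ M * ι₁.appTop.hom a := by
    have := hm
    simp only [← hM] at this
    exact this
  refine ⟨M + N, t ^ M * a, ?_⟩
  rw [map_mul, map_pow, ← hm']
  ring

lemma exists_pow_mul_eq_idealOf (t : Γ(T, ⊤)) (ht : t ∈ idealOf ι₁.opensRange) (c : Γ(T₁, ⊤)) :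
    ∃ (N : ℕ) (a : Γ(T, ⊤)), a ∈ idealOf ι₁.opensRange ∧
      ι₁.appTop.hom a = ι₁.appTop.hom t ^ N * c := by
  obtain ⟨N, a, ha⟩ := exists_pow_mul_eq ι₁ t (basicOpen_le_of_mem_idealOf ht) c
  refine ⟨N + 1, t * a, Ideal.mul_mem_right _ _ ht, ?_⟩
  rw [map_mul, ha]
  ring

lemma map_idealOf_eq_top : Ideal.map ι₁.appTop.hom (idealOf ι₁.opensRange) = ⊤ := by
  by_contra hne
  obtain ⟨𝔪, h𝔪, hle⟩ := Ideal.exists_le_maximal _ hne
  haveI : 𝔪.IsPrime := h𝔪.isPrime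
  obtain ⟨x₁, hx₁⟩ := exists_pr_eq (T := T₁) 𝔪
  have h1 : idealOf ι₁.opensRange ≤ pr (ι₁ x₁) := by
    rw [pr_map, hx₁]
    exact Ideal.map_le_iff_le_comap.mp hle
  rw [idealOf_le_pr_iff] at h1
  exact h1 ⟨x₁, rfl⟩

end L1

section chart

lemma ι_image_resLE_preimage {X Z : Scheme.{u}} (f : Z ⟶ X) (U : X.Opens)
    (O : (U : Scheme.{u}).Opens) :
    (f ⁻¹ᵁ U).ι ''ᵁ ((f.resLE U (f ⁻¹ᵁ U) le_rfl) ⁻¹ᵁ O) = f ⁻¹ᵁ (U.ι ''ᵁ O) := by
  rw [Scheme.Hom.resLE_preimage, Scheme.Hom.image_preimage_eq_opensRange_inf,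
    Scheme.Opens.opensRange_ι]
  exact inf_eq_right.mpr (fun z hz => (Scheme.Opens.ι_image_le _ O) hz)

variable {X Y Z : Scheme.{u}} (i : Z ⟶ X) (j : Z ⟶ Y) [IsClosedImmersion i] [IsIntegralHom j]

theorem exists_chart_of_le (U : X.Opens) (hU : IsAffineOpen U) (V₁ : Y.Opens)
    (hV₁ : IsAffineOpen V₁) (hle : j ⁻¹ᵁ V₁ ≤ i ⁻¹ᵁ U) (y : Y) (hy : y ∈ V₁) :
    ∃ k : Chart i j, y ∈ k.V := by
  haveI : IsAffine (U : Scheme.{u}) := hU
  haveI : IsAffine (V₁ : Scheme.{u}) := hV₁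
  let W : Z.Opens := i ⁻¹ᵁ U
  let W₁ : Z.Opens := j ⁻¹ᵁ V₁
  let iU : (W : Scheme.{u}) ⟶ (U : Scheme.{u}) := i.resLE U W le_rfl
  let jV : (W₁ : Scheme.{u}) ⟶ (V₁ : Scheme.{u}) := j.resLE V₁ W₁ le_rfl
  let ι₁ : (W₁ : Scheme.{u}) ⟶ (W : Scheme.{u}) := Z.homOfLE hle
  haveI : IsClosedImmersion iU := by
    have : iU = i ∣_ U := Scheme.Hom.resLE_eq_morphismRestrict i
    rw [this]
    infer_instance
  haveI : IsIntegralHom jV := by
    have : jV = j ∣_ V₁ := Scheme.Hom.resLE_eq_morphismRestrict j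
    rw [this]
    infer_instance
  haveI : IsAffine (W : Scheme.{u}) := (IsClosedImmersion.isAffine_surjective_of_isAffine iU).1
  have hsurj : Function.Surjective iU.appTop.hom :=
    (IsClosedImmersion.isAffine_surjective_of_isAffine iU).2
  haveI : IsAffine (W₁ : Scheme.{u}) := isAffine_of_isAffineHom jV
  have hq : jV.appTop.hom.IsIntegral := IsIntegralHom.isIntegral_app jV ⊤ (isAffineOpen_top _)
  let yv : (V₁ : Scheme.{u}) := ⟨y, hy⟩
  obtain ⟨h, hI, g, hg, hiff⟩ := FerrandAvoid.exists_common_basic ι₁.appTop.hom jV.appTop.hom hq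
    (idealOf ι₁.opensRange) (fun t ht c => exists_pow_mul_eq_idealOf ι₁ t ht c)
    (map_idealOf_eq_top ι₁) (pr yv)
  obtain ⟨h', hh'⟩ := hsurj h
  have e1 : iU ⁻¹ᵁ ((U : Scheme.{u}).basicOpen h') = (W : Scheme.{u}).basicOpen h := by
    rw [Scheme.preimage_basicOpen_top, hh']
  have e2 : jV ⁻¹ᵁ ((V₁ : Scheme.{u}).basicOpen g) =
      (W₁ : Scheme.{u}).basicOpen (jV.appTop.hom g) := Scheme.preimage_basicOpen_top _ _
  have e3 : (W₁ : Scheme.{u}).basicOpen (jV.appTop.hom g) =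
      ι₁ ⁻¹ᵁ ((W : Scheme.{u}).basicOpen h) := by
    rw [Scheme.preimage_basicOpen_top]
    ext x
    rw [SetLike.mem_coe, SetLike.mem_coe, mem_basicOpen_iff, mem_basicOpen_iff]
    exact not_congr (hiff (pr x) inferInstance).symm
  have e4 : W₁.ι ''ᵁ (ι₁ ⁻¹ᵁ ((W : Scheme.{u}).basicOpen h)) =
      W.ι ''ᵁ ((W : Scheme.{u}).basicOpen h) := by
    have hι : W₁.ι = ι₁ ≫ W.ι := (Scheme.homOfLE_ι Z hle).symm
    have hpt : ∀ x₁ : (W₁ : Scheme.{u}), W₁.ι x₁ = W.ι (ι₁ x₁) := fun x₁ =>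
      congrArg (fun φ : (W₁ : Scheme.{u}) ⟶ Z => φ x₁) hι
    ext z
    constructor
    · rintro ⟨x₁, hx₁, rfl⟩
      exact ⟨ι₁ x₁, hx₁, (hpt x₁).symm⟩
    · rintro ⟨x, hx, rfl⟩
      obtain ⟨x₁, rfl⟩ := basicOpen_le_of_mem_idealOf hI hx
      exact ⟨x₁, hx, hpt x₁⟩
  refine ⟨{ U := U.ι ''ᵁ ((U : Scheme.{u}).basicOpen h')
            V := V₁.ι ''ᵁ ((V₁ : Scheme.{u}).basicOpen g)
            hU := ((isAffineOpen_top _).basicOpen _).image_of_isOpenImmersion U.ι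
            hV := ((isAffineOpen_top _).basicOpen _).image_of_isOpenImmersion V₁.ι
            h := ?_ }, ?_⟩
  · rw [← ι_image_resLE_preimage i U, ← ι_image_resLE_preimage j V₁]
    show W.ι ''ᵁ (iU ⁻¹ᵁ _) = W₁.ι ''ᵁ (jV ⁻¹ᵁ _)
    rw [e1, e2, e3, e4]
  · refine ⟨yv, ?_, rfl⟩
    show yv ∈ (V₁ : Scheme.{u}).basicOpen g
    rw [mem_basicOpen_iff]
    exact hg

end chart

end Groth.Agent.H49.Ferrand
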