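import Mathlib
import Groth.Agent.H49.MilnorFlat

/-!
# Flat base change of Milnor squares, categorical form (helper49)
-/

set_option autoImplicit false
universe u

namespace Groth.Agent.H49.MilnorFlat

open TensorProduct Groth.Agent.H24 CategoryTheory CategoryTheory.Limits

section equiv

variable {C B A' A B₂ A'₂ A₂ : Type u} [CommRing C] [CommRing B] [CommRing A'] [CommRing A]
  [CommRing B₂] [CommRing A'₂] [CommRing A₂]

theorem milnorSq_of_equiv {fst : C →+* B} {snd : C →+* A'} {q : B →+* A} {p : A' →+* A}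
    (hM : MilnorSq fst snd q p) (eB : B ≃+* B₂) (eA' : A' ≃+* A'₂) (eA : A ≃+* A₂)
    (fst₂ : C →+* B₂) (snd₂ : C →+* A'₂) (q₂ : B₂ →+* A₂) (p₂ : A'₂ →+* A₂)
    (h1 : ∀ c, fst₂ c = eB (fst c)) (h2 : ∀ c, snd₂ c = eA' (snd c))
    (h3 : ∀ b, q₂ (eB b) = eA (q b)) (h4 : ∀ a', p₂ (eA' a') = eA (p a')) :
    MilnorSq fst₂ snd₂ q₂ p₂ := by
  refine ⟨?_, ?_, ?_, ?_⟩
  · intro c
    rw [h1, h2, h3, h4, hM.comm]
  · intro z
    obtain ⟨a', ha'⟩ := hM.surj (eA.symm z)
    refine ⟨eA' a', ?_⟩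
    rw [h4, ha', RingEquiv.apply_symm_apply]
  · intro b₂ a'₂ hba
    have hb : b₂ = eB (eB.symm b₂) := (RingEquiv.apply_symm_apply _ _).symm
    have ha : a'₂ = eA' (eA'.symm a'₂) := (RingEquiv.apply_symm_apply _ _).symm
    rw [hb, ha, h3, h4] at hba
    obtain ⟨c, hc1, hc2⟩ := hM.ex _ _ (eA.injective hba)
    refine ⟨c, ?_, ?_⟩
    · rw [h1, hc1, RingEquiv.apply_symm_apply]
    · rw [h2, hc2, RingEquiv.apply_symm_apply]
  · intro c c' hc1 hc2
    rw [h1, h1] at hc1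
    rw [h2, h2] at hc2
    exact hM.inj c c' (eB.injective hc1) (eA'.injective hc2)

end equiv

section cat

variable {C B A' A C' B' A'' A₀ : CommRingCat.{u}} {fst : C ⟶ B} {snd : C ⟶ A'} {q : B ⟶ A}
  {p : A' ⟶ A}

/-- flat base change of a Milnor square, with the base changes given by pushout squares -/
theorem milnorSq_of_flat_of_isPushout (hM : MilnorSq fst.hom snd.hom q.hom p.hom) (φ : C ⟶ C')
    (hflat : φ.hom.Flat) {fst' : C' ⟶ B'} {snd' : C' ⟶ A''} {q' : B' ⟶ A₀} {p' : A'' ⟶ A₀}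
    {βB : B ⟶ B'} {βA' : A' ⟶ A''} {βA : A ⟶ A₀}
    (hB : IsPushout φ fst fst' βB) (hA' : IsPushout φ snd snd' βA')
    (hA : IsPushout φ (snd ≫ p) (snd' ≫ p') βA)
    (hq : βB ≫ q' = q ≫ βA) (hp : βA' ≫ p' = p ≫ βA) (hw' : fst' ≫ q' = snd' ≫ p') :
    MilnorSq fst'.hom snd'.hom q'.hom p'.hom := by
  letI algC' : Algebra C C' := φ.hom.toAlgebra
  letI algB : Algebra C B := fst.hom.toAlgebra
  letI algA' : Algebra C A' := snd.hom.toAlgebra
  letI algA : Algebra C A := (snd ≫ p).hom.toAlgebra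
  haveI : Module.Flat C C' := hflat
  let qAlg : B →ₐ[C] A := { q.hom with commutes' := fun c => hM.comm c }
  let pAlg : A' →ₐ[C] A := { p.hom with commutes' := fun c => rfl }
  have hM' : MilnorSq (algebraMap C B) (algebraMap C A') qAlg.toRingHom pAlg.toRingHom := hM
  have hT := milnorSq_tensor (C' := C') qAlg pAlg hM'
  have tB := CommRingCat.isPushout_tensorProduct C C' B
  have tA' := CommRingCat.isPushout_tensorProduct C C' A'
  have tA := CommRingCat.isPushout_tensorProduct C C' A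
  let eB : B' ≅ CommRingCat.of (C' ⊗[C] B) := hB.isoIsPushout _ _ tB
  let eA' : A'' ≅ CommRingCat.of (C' ⊗[C] A') := hA'.isoIsPushout _ _ tA'
  let eA : A₀ ≅ CommRingCat.of (C' ⊗[C] A) := hA.isoIsPushout _ _ tA
  have hB1 : fst' ≫ eB.hom = CommRingCat.ofHom Algebra.TensorProduct.includeLeftRingHom :=
    hB.inl_isoIsPushout_hom _ _ tB
  have hB2 : βB ≫ eB.hom = CommRingCat.ofHom Algebra.TensorProduct.includeRight.toRingHom :=
    hB.inr_isoIsPushout_hom _ _ tB
  have hA'1 : snd' ≫ eA'.hom = CommRingCat.ofHom Algebra.TensorProduct.includeLeftRingHom :=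
    hA'.inl_isoIsPushout_hom _ _ tA'
  have hA'2 : βA' ≫ eA'.hom = CommRingCat.ofHom Algebra.TensorProduct.includeRight.toRingHom :=
    hA'.inr_isoIsPushout_hom _ _ tA'
  have hA1 : (snd' ≫ p') ≫ eA.hom = CommRingCat.ofHom Algebra.TensorProduct.includeLeftRingHom :=
    hA.inl_isoIsPushout_hom _ _ tA
  have hA2 : βA ≫ eA.hom = CommRingCat.ofHom Algebra.TensorProduct.includeRight.toRingHom :=
    hA.inr_isoIsPushout_hom _ _ tA
  -- the maps of the tensor model as morphisms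
  let qT : CommRingCat.of (C' ⊗[C] B) ⟶ CommRingCat.of (C' ⊗[C] A) :=
    CommRingCat.ofHom (Algebra.TensorProduct.map (AlgHom.id C C') qAlg).toRingHom
  let pT : CommRingCat.of (C' ⊗[C] A') ⟶ CommRingCat.of (C' ⊗[C] A) :=
    CommRingCat.ofHom (Algebra.TensorProduct.map (AlgHom.id C C') pAlg).toRingHom
  have hqT : q' ≫ eA.hom = eB.hom ≫ qT := by
    apply hB.hom_ext
    · rw [← Category.assoc, hw', hA1, ← Category.assoc, hB1]
      ext c'
      show c' ⊗ₜ[C] (1 : A) = Algebra.TensorProduct.map (AlgHom.id C C') qAlg (c' ⊗ₜ[C] (1 : B))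
      rw [Algebra.TensorProduct.map_tmul, map_one]
      rfl
    · rw [← Category.assoc, hq, Category.assoc, hA2, ← Category.assoc, hB2]
      ext b
      show (1 : C') ⊗ₜ[C] (q.hom b) =
        Algebra.TensorProduct.map (AlgHom.id C C') qAlg ((1 : C') ⊗ₜ[C] b)
      rw [Algebra.TensorProduct.map_tmul, map_one]
      rfl
  have hpT : p' ≫ eA.hom = eA'.hom ≫ pT := by
    apply hA'.hom_ext
    · rw [← Category.assoc, hA1, ← Category.assoc, hA'1]
      ext c'
      show c' ⊗ₜ[C] (1 : A) = Algebra.TensorProduct.map (AlgHom.id C C') pAlg (c' ⊗ₜ[C] (1 : A'))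
      rw [Algebra.TensorProduct.map_tmul, map_one]
      rfl
    · rw [← Category.assoc, hp, Category.assoc, hA2, ← Category.assoc, hA'2]
      ext a'
      show (1 : C') ⊗ₜ[C] (p.hom a') =
        Algebra.TensorProduct.map (AlgHom.id C C') pAlg ((1 : C') ⊗ₜ[C] a')
      rw [Algebra.TensorProduct.map_tmul, map_one]
      rfl
  have hinv : ∀ {R S : CommRingCat.{u}} (e : R ≅ S) (x : S), e.hom.hom (e.inv.hom x) = x :=
    fun {R S} e x => congrArg (fun f : S ⟶ S => f.hom x) e.inv_hom_id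
  refine milnorSq_of_equiv hT eB.symm.commRingCatIsoToRingEquiv
    eA'.symm.commRingCatIsoToRingEquiv eA.symm.commRingCatIsoToRingEquiv
    fst'.hom snd'.hom q'.hom p'.hom ?_ ?_ ?_ ?_
  · intro c'
    show fst'.hom c' = eB.inv.hom (c' ⊗ₜ[C] (1 : B))
    have := congrArg (fun f : C' ⟶ _ => f.hom c') hB1
    have h2 : eB.hom.hom (fst'.hom c') = c' ⊗ₜ[C] (1 : B) := this
    rw [← h2]
    exact (congrArg (fun f : B' ⟶ B' => f.hom (fst'.hom c')) eB.hom_inv_id).symm
  · intro c'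
    show snd'.hom c' = eA'.inv.hom (c' ⊗ₜ[C] (1 : A'))
    have := congrArg (fun f : C' ⟶ _ => f.hom c') hA'1
    have h2 : eA'.hom.hom (snd'.hom c') = c' ⊗ₜ[C] (1 : A') := this
    rw [← h2]
    exact (congrArg (fun f : A'' ⟶ A'' => f.hom (snd'.hom c')) eA'.hom_inv_id).symm
  · intro x
    show q'.hom (eB.inv.hom x) = eA.inv.hom (qT.hom x)
    have h1 := congrArg (fun f : B' ⟶ _ => f.hom (eB.inv.hom x)) hqT
    have h2 : eA.hom.hom (q'.hom (eB.inv.hom x)) = qT.hom (eB.hom.hom (eB.inv.hom x)) := h1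
    rw [hinv] at h2
    rw [← h2]
    exact (congrArg (fun f : A₀ ⟶ A₀ => f.hom (q'.hom (eB.inv.hom x))) eA.hom_inv_id).symm
  · intro x
    show p'.hom (eA'.inv.hom x) = eA.inv.hom (pT.hom x)
    have h1 := congrArg (fun f : A'' ⟶ _ => f.hom (eA'.inv.hom x)) hpT
    have h2 : eA.hom.hom (p'.hom (eA'.inv.hom x)) = pT.hom (eA'.hom.hom (eA'.inv.hom x)) := h1
    rw [hinv] at h2
    rw [← h2]
    exact (congrArg (fun f : A₀ ⟶ A₀ => f.hom (p'.hom (eA'.inv.hom x))) eA.hom_inv_id).symm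

end cat

end Groth.Agent.H49.MilnorFlat
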