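import Mathlib
import Groth.Agent.H49.MilnorFlat2

/-!
# Base change of Milnor squares along maps keeping `C → A'` injective (helper49)
-/

set_option autoImplicit false
universe u

namespace Groth.Agent.H49.MilnorFlat

open TensorProduct Groth.Agent.H24 CategoryTheory CategoryTheory.Limits

section tensor

variable {C B A' A C' : Type u} [CommRing C] [CommRing B] [CommRing A'] [CommRing A]
  [CommRing C'] [Algebra C B] [Algebra C A'] [Algebra C A] [Algebra C C']
  (q : B →ₐ[C] A) (p : A' →ₐ[C] A)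

/-- the tensor model of the base change of a Milnor square along a ring map for which the
base change of `C → A'` stays injective -/
theorem milnorSq_tensor_of_injective
    (hinj : Function.Injective
      (Algebra.TensorProduct.includeLeftRingHom : C' →+* C' ⊗[C] A'))
    (hM : MilnorSq (algebraMap C B) (algebraMap C A') q.toRingHom p.toRingHom) :
    MilnorSq (Algebra.TensorProduct.includeLeftRingHom : C' →+* C' ⊗[C] B)
      (Algebra.TensorProduct.includeLeftRingHom : C' →+* C' ⊗[C] A')
      (Algebra.TensorProduct.map (AlgHom.id C C') q).toRingHom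
      (Algebra.TensorProduct.map (AlgHom.id C C') p).toRingHom := by
  -- the linear maps
  let f : C →ₗ[C] (B × A') := LinearMap.prod (Algebra.linearMap C B) (Algebra.linearMap C A')
  let g : (B × A') →ₗ[C] A :=
    q.toLinearMap ∘ₗ LinearMap.fst C B A' - p.toLinearMap ∘ₗ LinearMap.snd C B A'
  have hf1 : f 1 = (1, 1) := by
    show ((algebraMap C B) 1, (algebraMap C A') 1) = (1, 1)
    rw [map_one, map_one]
  have hexact : Function.Exact f g := by
    intro y
    constructor
    · intro hy
      have hy' : q y.1 - p y.2 = 0 := hy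
      obtain ⟨c, hc1, hc2⟩ := hM.ex y.1 y.2 (sub_eq_zero.mp hy')
      exact ⟨c, Prod.ext hc1 hc2⟩
    · rintro ⟨c, rfl⟩
      show q (algebraMap C B c) - p (algebraMap C A' c) = 0
      rw [sub_eq_zero]
      exact hM.comm c
  have hgsurj : Function.Surjective g := by
    intro z
    obtain ⟨a', ha'⟩ := hM.surj z
    refine ⟨(0, -a'), ?_⟩
    show q 0 - p (-a') = z
    rw [map_zero, map_neg, zero_sub, neg_neg]
    exact ha'
  have hexactT : Function.Exact (f.lTensor C') (g.lTensor C') :=
    lTensor_exact C' hexact hgsurj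
  -- components
  have hπ1 : ∀ (x : C' ⊗[C] B) (y : C' ⊗[C] A'),
      ((LinearMap.fst C B A').lTensor C') (((LinearMap.inl C B A').lTensor C') x +
        ((LinearMap.inr C B A').lTensor C') y) = x := by
    intro x y
    rw [map_add, ← LinearMap.comp_apply, ← LinearMap.comp_apply, ← LinearMap.lTensor_comp,
      ← LinearMap.lTensor_comp, LinearMap.fst_comp_inl, LinearMap.fst_comp_inr,
      LinearMap.lTensor_id, LinearMap.lTensor_zero]
    simp
  have hπ2 : ∀ (x : C' ⊗[C] B) (y : C' ⊗[C] A'),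
      ((LinearMap.snd C B A').lTensor C') (((LinearMap.inl C B A').lTensor C') x +
        ((LinearMap.inr C B A').lTensor C') y) = y := by
    intro x y
    rw [map_add, ← LinearMap.comp_apply, ← LinearMap.comp_apply, ← LinearMap.lTensor_comp,
      ← LinearMap.lTensor_comp, LinearMap.snd_comp_inl, LinearMap.snd_comp_inr,
      LinearMap.lTensor_id, LinearMap.lTensor_zero]
    simp
  have hg : ∀ (x : C' ⊗[C] B) (y : C' ⊗[C] A'),
      (g.lTensor C') (((LinearMap.inl C B A').lTensor C') x +
        ((LinearMap.inr C B A').lTensor C') y) =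
        (q.toLinearMap.lTensor C') x - (p.toLinearMap.lTensor C') y := by
    intro x y
    have e1 : g ∘ₗ LinearMap.inl C B A' = q.toLinearMap := by
      ext b
      show q b - p 0 = q b
      rw [map_zero, sub_zero]
    have e2 : g ∘ₗ LinearMap.inr C B A' = - p.toLinearMap := by
      ext a'
      show q 0 - p a' = - p a'
      rw [map_zero, zero_sub]
    rw [map_add, ← LinearMap.comp_apply, ← LinearMap.comp_apply, ← LinearMap.lTensor_comp,
      ← LinearMap.lTensor_comp, e1, e2, LinearMap.lTensor_neg, LinearMap.neg_apply,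
      sub_eq_add_neg]
  have hfT : ∀ c' : C', (f.lTensor C') (c' ⊗ₜ[C] (1 : C)) =
      ((LinearMap.inl C B A').lTensor C') (c' ⊗ₜ[C] (1 : B)) +
        ((LinearMap.inr C B A').lTensor C') (c' ⊗ₜ[C] (1 : A')) := by
    intro c'
    rw [LinearMap.lTensor_tmul, LinearMap.lTensor_tmul, LinearMap.lTensor_tmul, hf1,
      ← TensorProduct.tmul_add]
    congr 1
    show ((1 : B), (1 : A')) = ((1 : B), (0 : A')) + ((0 : B), (1 : A'))
    simp
  refine ⟨?_, ?_, ?_, ?_⟩
  · intro c'
    show Algebra.TensorProduct.map (AlgHom.id C C') q (c' ⊗ₜ[C] (1 : B)) =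
      Algebra.TensorProduct.map (AlgHom.id C C') p (c' ⊗ₜ[C] (1 : A'))
    rw [Algebra.TensorProduct.map_tmul, Algebra.TensorProduct.map_tmul, map_one, map_one]
  · intro z
    have hp : Function.Surjective p := hM.surj
    have : Function.Surjective (p.toLinearMap.lTensor C') :=
      LinearMap.lTensor_surjective C' hp
    obtain ⟨y, hy⟩ := this z
    exact ⟨y, (map_eq_lTensor p y).trans hy⟩
  · intro x y hxy
    have hxy' : Algebra.TensorProduct.map (AlgHom.id C C') q x =
        Algebra.TensorProduct.map (AlgHom.id C C') p y := hxy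
    rw [map_eq_lTensor, map_eq_lTensor] at hxy'
    have hz : (g.lTensor C') (((LinearMap.inl C B A').lTensor C') x +
        ((LinearMap.inr C B A').lTensor C') y) = 0 := by
      rw [hg, hxy', sub_self]
    obtain ⟨w, hw⟩ := (hexactT _).mp hz
    let c' : C' := TensorProduct.rid C C' w
    have hwc : w = c' ⊗ₜ[C] (1 : C) := by
      have := (TensorProduct.rid C C').symm_apply_apply w
      rw [← this]
      rfl
    refine ⟨c', ?_, ?_⟩
    · show c' ⊗ₜ[C] (1 : B) = x
      have h1 := hπ1 x y
      rw [← hw, hwc, hfT, hπ1] at h1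
      exact h1
    · show c' ⊗ₜ[C] (1 : A') = y
      have h2 := hπ2 x y
      rw [← hw, hwc, hfT, hπ2] at h2
      exact h2
  · intro c₁ c₂ _ h2
    exact hinj h2

end tensor

section cat

variable {C B A' A C' B' A'' A₀ : CommRingCat.{u}} {fst : C ⟶ B} {snd : C ⟶ A'} {q : B ⟶ A}
  {p : A' ⟶ A}

/-- base change of a Milnor square along a ring map for which the base change of `C → A'`
stays injective, with the base changes given by pushout squares -/
theorem milnorSq_of_injective_of_isPushout (hM : MilnorSq fst.hom snd.hom q.hom p.hom)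
    (φ : C ⟶ C') {fst' : C' ⟶ B'} {snd' : C' ⟶ A''} {q' : B' ⟶ A₀} {p' : A'' ⟶ A₀}
    {βB : B ⟶ B'} {βA' : A' ⟶ A''} {βA : A ⟶ A₀}
    (hB : IsPushout φ fst fst' βB) (hA' : IsPushout φ snd snd' βA')
    (hA : IsPushout φ (snd ≫ p) (snd' ≫ p') βA)
    (hq : βB ≫ q' = q ≫ βA) (hp : βA' ≫ p' = p ≫ βA) (hw' : fst' ≫ q' = snd' ≫ p')
    (hinj : Function.Injective snd'.hom) :
    MilnorSq fst'.hom snd'.hom q'.hom p'.hom := by
  letI algC' : Algebra C C' := φ.hom.toAlgebra
  letI algB : Algebra C B := fst.hom.toAlgebra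
  letI algA' : Algebra C A' := snd.hom.toAlgebra
  letI algA : Algebra C A := (snd ≫ p).hom.toAlgebra
  let qAlg : B →ₐ[C] A := { q.hom with commutes' := fun c => hM.comm c }
  let pAlg : A' →ₐ[C] A := { p.hom with commutes' := fun c => rfl }
  have hM' : MilnorSq (algebraMap C B) (algebraMap C A') qAlg.toRingHom pAlg.toRingHom := hM
  have tB := CommRingCat.isPushout_tensorProduct C C' B
  have tA' := CommRingCat.isPushout_tensorProduct C C' A'
  have tA := CommRingCat.isPushout_tensorProduct C C' A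
  let eB : B' ≅ CommRingCat.of (C' ⊗[C] B) := hB.isoIsPushout _ _ tB
  let eA' : A'' ≅ CommRingCat.of (C' ⊗[C] A') := hA'.isoIsPushout _ _ tA'
  let eA : A₀ ≅ CommRingCat.of (C' ⊗[C] A) := hA.isoIsPushout _ _ tA
  have hB1 : fst' ≫ eB.hom = CommRingCat.ofHom Algebra.TensorProduct.includeLeftRingHom :=
    hB.inl_isoIsPushout_hom _ _ tB
  have hB2 : βB ≫ eB.hom = CommRingCat.ofHom Algebra.TensorProduct.includeRight.toRingHom :=
    hB.inr_isoIsPushout_hom _ _ tB
  have hA'1 : snd' ≫ eA'.hom = CommRingCat.ofHom Algebra.TensorProduct.includeLeftRingHom :=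
    hA'.inl_isoIsPushout_hom _ _ tA'
  have hA'2 : βA' ≫ eA'.hom = CommRingCat.ofHom Algebra.TensorProduct.includeRight.toRingHom :=
    hA'.inr_isoIsPushout_hom _ _ tA'
  have hinjT : Function.Injective
      (Algebra.TensorProduct.includeLeftRingHom : C' →+* C' ⊗[C] A') := by
    have hcomp : ∀ c' : C', (Algebra.TensorProduct.includeLeftRingHom : C' →+* C' ⊗[C] A') c' =
        eA'.hom.hom (snd'.hom c') := by
      intro c'
      exact (congrArg (fun f : C' ⟶ _ => f.hom c') hA'1).symm
    intro c₁ c₂ h12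
    rw [hcomp, hcomp] at h12
    have hinjE : Function.Injective eA'.hom.hom := by
      intro x y hxy
      have := congrArg eA'.inv.hom hxy
      have hx : eA'.inv.hom (eA'.hom.hom x) = x :=
        congrArg (fun f : A'' ⟶ A'' => f.hom x) eA'.hom_inv_id
      have hy : eA'.inv.hom (eA'.hom.hom y) = y :=
        congrArg (fun f : A'' ⟶ A'' => f.hom y) eA'.hom_inv_id
      rw [hx, hy] at this
      exact this
    exact hinj (hinjE h12)
  have hT := milnorSq_tensor_of_injective (C' := C') qAlg pAlg hinjT hM'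
  have hA1 : (snd' ≫ p') ≫ eA.hom = CommRingCat.ofHom Algebra.TensorProduct.includeLeftRingHom :=
    hA.inl_isoIsPushout_hom _ _ tA
  have hA2 : βA ≫ eA.hom = CommRingCat.ofHom Algebra.TensorProduct.includeRight.toRingHom :=
    hA.inr_isoIsPushout_hom _ _ tA
  -- the maps of the tensor model as morphisms
  let qT : CommRingCat.of (C' ⊗[C] B) ⟶ CommRingCat.of (C' ⊗[C] A) :=
    CommRingCat.ofHom (Algebra.TensorProduct.map (AlgHom.id C C') qAlg).toRingHom
  let pT : CommRingCat.of (C' ⊗[C] A') ⟶ CommRingCat.of (C' ⊗[C] A) :=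
    CommRingCat.ofHom (Algebra.TensorProduct.map (AlgHom.id C C') pAlg).toRingHom
  have hqT : q' ≫ eA.hom = eB.hom ≫ qT := by
    apply hB.hom_ext
    · rw [← Category.assoc, hw', hA1, ← Category.assoc, hB1]
      ext c'
      show c' ⊗ₜ[C] (1 : A) = Algebra.TensorProduct.map (AlgHom.id C C') qAlg (c' ⊗ₜ[C] (1 : B))
      rw [Algebra.TensorProduct.map_tmul, map_one]
      rfl
    · rw [← Category.assoc, hq, Category.assoc, hA2, ← Category.assoc, hB2]
      ext b
      show (1 : C') ⊗ₜ[C] (q.hom b) =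
        Algebra.TensorProduct.map (AlgHom.id C C') qAlg ((1 : C') ⊗ₜ[C] b)
      rw [Algebra.TensorProduct.map_tmul, map_one]
      rfl
  have hpT : p' ≫ eA.hom = eA'.hom ≫ pT := by
    apply hA'.hom_ext
    · rw [← Category.assoc, hA1, ← Category.assoc, hA'1]
      ext c'
      show c' ⊗ₜ[C] (1 : A) = Algebra.TensorProduct.map (AlgHom.id C C') pAlg (c' ⊗ₜ[C] (1 : A'))
      rw [Algebra.TensorProduct.map_tmul, map_one]
      rfl
    · rw [← Category.assoc, hp, Category.assoc, hA2, ← Category.assoc, hA'2]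
      ext a'
      show (1 : C') ⊗ₜ[C] (p.hom a') =
        Algebra.TensorProduct.map (AlgHom.id C C') pAlg ((1 : C') ⊗ₜ[C] a')
      rw [Algebra.TensorProduct.map_tmul, map_one]
      rfl
  have hinv : ∀ {R S : CommRingCat.{u}} (e : R ≅ S) (x : S), e.hom.hom (e.inv.hom x) = x :=
    fun {R S} e x => congrArg (fun f : S ⟶ S => f.hom x) e.inv_hom_id
  refine milnorSq_of_equiv hT eB.symm.commRingCatIsoToRingEquiv
    eA'.symm.commRingCatIsoToRingEquiv eA.symm.commRingCatIsoToRingEquiv
    fst'.hom snd'.hom q'.hom p'.hom ?_ ?_ ?_ ?_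
  · intro c'
    show fst'.hom c' = eB.inv.hom (c' ⊗ₜ[C] (1 : B))
    have := congrArg (fun f : C' ⟶ _ => f.hom c') hB1
    have h2 : eB.hom.hom (fst'.hom c') = c' ⊗ₜ[C] (1 : B) := this
    rw [← h2]
    exact (congrArg (fun f : B' ⟶ B' => f.hom (fst'.hom c')) eB.hom_inv_id).symm
  · intro c'
    show snd'.hom c' = eA'.inv.hom (c' ⊗ₜ[C] (1 : A'))
    have := congrArg (fun f : C' ⟶ _ => f.hom c') hA'1
    have h2 : eA'.hom.hom (snd'.hom c') = c' ⊗ₜ[C] (1 : A') := this
    rw [← h2]
    exact (congrArg (fun f : A'' ⟶ A'' => f.hom (snd'.hom c')) eA'.hom_inv_id).symm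
  · intro x
    show q'.hom (eB.inv.hom x) = eA.inv.hom (qT.hom x)
    have h1 := congrArg (fun f : B' ⟶ _ => f.hom (eB.inv.hom x)) hqT
    have h2 : eA.hom.hom (q'.hom (eB.inv.hom x)) = qT.hom (eB.hom.hom (eB.inv.hom x)) := h1
    rw [hinv] at h2
    rw [← h2]
    exact (congrArg (fun f : A₀ ⟶ A₀ => f.hom (q'.hom (eB.inv.hom x))) eA.hom_inv_id).symm
  · intro x
    show p'.hom (eA'.inv.hom x) = eA.inv.hom (pT.hom x)
    have h1 := congrArg (fun f : A'' ⟶ _ => f.hom (eA'.inv.hom x)) hpT
    have h2 : eA.hom.hom (p'.hom (eA'.inv.hom x)) = pT.hom (eA'.hom.hom (eA'.inv.hom x)) := h1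
    rw [hinv] at h2
    rw [← h2]
    exact (congrArg (fun f : A₀ ⟶ A₀ => f.hom (p'.hom (eA'.inv.hom x))) eA.hom_inv_id).symm

end cat

end Groth.Agent.H49.MilnorFlat
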