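import Groth.Agent.H49.FerrandFlat5
import Groth.Agent.H49.MilnorInj

/-!
# Ferrand pushouts commute with base changes keeping `X → P` scheme-theoretically dominant
(helper49)
-/

set_option autoImplicit false
universe u
open CategoryTheory CategoryTheory.Limits AlgebraicGeometry

namespace Groth.Agent.H49.Ferrand

open Groth.Agent.H24 Chart Groth.Agent.H49.LocalPushout

variable {X Y Z : Scheme.{u}} {i : Z ⟶ X} {j : Z ⟶ Y} [IsClosedImmersion i] [IsIntegralHom j]
  (hc : Covers i j)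

section local_

variable {F X' Y' Z' : Scheme.{u}} (q : F ⟶ Pglue i j)
  {pX : X' ⟶ X} {a' : X' ⟶ F} (hX' : IsPullback pX a' (aG hc) q)
  {pY : Y' ⟶ Y} {b' : Y' ⟶ F} (hY' : IsPullback pY b' (bG hc) q)
  {pZ : Z' ⟶ Z} {i' : Z' ⟶ X'} {j' : Z' ⟶ Y'} (hZ' : IsPullback pZ (i' ≫ a') (i ≫ aG hc) q)
  (hi' : i' ≫ pX = pZ ≫ i) (hj' : j' ≫ pY = pZ ≫ j) (w' : i' ≫ a' = j' ≫ b')

include hX' hY' hZ' hi' hj' in
/-- the restricted square over an affine scheme mapping into a chart is a pushout as soon as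
the map on functions for the `X`-part is injective -/
theorem local_isPushout_of_injective {O : Scheme.{u}} [IsAffine O] (f : O ⟶ F) (k : Chart i j)
    (g : O ⟶ k.P) (hg : g ≫ ιP k = f ≫ q)
    (hinj : Function.Injective (pullback.snd a' f).appTop.hom) :
    IsPushout (iR f i' a') (jR f w') (pullback.snd a' f) (pullback.snd b' f) := by
  have pbU := isPullback_lft (isPullback_aG hc k) hX' f g hg
  have pbV := isPullback_lft (isPullback_bG hc k) hY' f g hg
  have pbW := isPullback_lft (isPullback_cG hc k) hZ' f g hg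
  haveI : IsAffine (pullback a' f) := .of_isIso pbU.isoPullback.hom
  haveI : IsAffine (pullback b' f) := .of_isIso pbV.isoPullback.hom
  haveI : IsAffine (pullback (i' ≫ a') f) := .of_isIso pbW.isoPullback.hom
  -- compatibilities
  have hcU : iR f i' a' ≫ lft (isPullback_aG hc k) hX' f g hg =
      lft (isPullback_cG hc k) hZ' f g hg ≫ k.ik := by
    rw [← cancel_mono k.U.ι, Category.assoc, Category.assoc, lft_ι, iR_fst_assoc, k.ik_ι,
      ← Category.assoc (lft _ _ _ _ _), lft_ι, Category.assoc, hi']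
  have hcV : jR f w' ≫ lft (isPullback_bG hc k) hY' f g hg =
      lft (isPullback_cG hc k) hZ' f g hg ≫ k.jk := by
    rw [← cancel_mono k.V.ι, Category.assoc, Category.assoc, lft_ι, jR_fst_assoc, k.jk_ι,
      ← Category.assoc (lft _ _ _ _ _), lft_ι, Category.assoc, hj']
  have hw'' : iR f i' a' ≫ pullback.snd a' f = jR f w' ≫ pullback.snd b' f := by
    rw [iR_snd, jR_snd]
  -- ring pushouts
  have rB := (AffinePushout.isPushout_appTop_of_isPullback pbV).flip
  have rA' := (AffinePushout.isPushout_appTop_of_isPullback pbU).flip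
  have rA0 := (AffinePushout.isPushout_appTop_of_isPullback pbW).flip
  have rA : IsPushout g.appTop (k.a.appTop ≫ k.ik.appTop)
      ((pullback.snd a' f).appTop ≫ (iR f i' a').appTop)
      (lft (isPullback_cG hc k) hZ' f g hg).appTop := by
    rw [← Scheme.Hom.comp_appTop, ← Scheme.Hom.comp_appTop, iR_snd]
    exact rA0
  have hM := MilnorFlat.milnorSq_of_injective_of_isPushout (milnor_appTop k) g.appTop rB rA' rA
    (by rw [← Scheme.Hom.comp_appTop, ← Scheme.Hom.comp_appTop, hcV])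
    (by rw [← Scheme.Hom.comp_appTop, ← Scheme.Hom.comp_appTop, hcU])
    (by rw [← Scheme.Hom.comp_appTop, ← Scheme.Hom.comp_appTop, hw'']) hinj
  exact AffinePushout.isPushout_of_affine_milnorSq _ _ _ _ hw'' hM

end local_

section global

variable {F X' Y' Z' : Scheme.{u}} (q : F ⟶ Pglue i j)
  {pX : X' ⟶ X} {a' : X' ⟶ F} (hX' : IsPullback pX a' (aG hc) q)
  {pY : Y' ⟶ Y} {b' : Y' ⟶ F} (hY' : IsPullback pY b' (bG hc) q)
  {pZ : Z' ⟶ Z} {i' : Z' ⟶ X'} {j' : Z' ⟶ Y'} (hZ' : IsPullback pZ (i' ≫ a') (i ≫ aG hc) q)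
  (hi' : i' ≫ pX = pZ ≫ i) (hj' : j' ≫ pY = pZ ≫ j) (w' : i' ≫ a' = j' ≫ b')

include hX' hY' hZ' hi' hj' w' in
/-- **Ferrand pushouts commute with every base change keeping `X → P` scheme-theoretically
dominant.** -/
theorem isPushout_baseChange_of_dominant [IsSchemeTheoreticallyDominant a'] :
    IsPushout i' j' a' b' := by
  haveI : IsIntegralHom (aG hc) := isIntegralHom_aG hc
  haveI : QuasiCompact a' :=
    MorphismProperty.of_isPullback (P := @QuasiCompact) hX' inferInstance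
  refine isPushout_of_local w' (BasisCover.cover (isGood_goodOpens (i := i) (j := j) q)) ?_
  rintro ⟨O, hO, k, hk⟩
  show IsPushout (iR O.ι i' a') (jR O.ι w') (pullback.snd a' O.ι) (pullback.snd b' O.ι)
  haveI : IsAffine (O : Scheme.{u}) := hO
  have hrange : Set.range (O.ι ≫ q) ⊆ Set.range (ιP k) := by
    rintro _ ⟨y, rfl⟩
    exact hk y.2
  let g : (O : Scheme.{u}) ⟶ k.P := IsOpenImmersion.lift (ιP k) (O.ι ≫ q) hrange
  have hg : g ≫ ιP k = O.ι ≫ q := IsOpenImmersion.lift_fac _ _ _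
  haveI : IsSchemeTheoreticallyDominant (pullback.snd a' O.ι) := inferInstance
  have hinj : Function.Injective (pullback.snd a' O.ι).appTop.hom :=
    (pullback.snd a' O.ι).app_injective ⊤
  exact local_isPushout_of_injective hc q hX' hY' hZ' hi' hj' w' O.ι k g hg hinj

end global

/-- the same for an arbitrary pushout of the pair -/
theorem isPushout_baseChange_of_isPushout_of_dominant (hc : Covers i j) {P : Scheme.{u}}
    {a : X ⟶ P} {b : Y ⟶ P} (hP : IsPushout i j a b) {F X' Y' Z' : Scheme.{u}} (q : F ⟶ P)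
    {pX : X' ⟶ X} {a' : X' ⟶ F} (hX' : IsPullback pX a' a q)
    {pY : Y' ⟶ Y} {b' : Y' ⟶ F} (hY' : IsPullback pY b' b q)
    {pZ : Z' ⟶ Z} {i' : Z' ⟶ X'} {j' : Z' ⟶ Y'} (hZ' : IsPullback pZ (i' ≫ a') (i ≫ a) q)
    (hi' : i' ≫ pX = pZ ≫ i) (hj' : j' ≫ pY = pZ ≫ j) (w' : i' ≫ a' = j' ≫ b')
    [IsSchemeTheoreticallyDominant a'] :
    IsPushout i' j' a' b' := by
  obtain ⟨e, h1, h2⟩ := exists_iso_of_isPushout hc hP
  have h1' : a ≫ e.inv = aG hc := by rw [← h1, Category.assoc, e.hom_inv_id, Category.comp_id]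
  have h2' : b ≫ e.inv = bG hc := by rw [← h2, Category.assoc, e.hom_inv_id, Category.comp_id]
  have hX'' : IsPullback pX a' (aG hc) (q ≫ e.inv) :=
    IsPullback.of_iso hX' (Iso.refl _) (Iso.refl _) (Iso.refl _) e.symm (by simp) (by simp)
      (by simp [h1']) (by simp)
  have hY'' : IsPullback pY b' (bG hc) (q ≫ e.inv) :=
    IsPullback.of_iso hY' (Iso.refl _) (Iso.refl _) (Iso.refl _) e.symm (by simp) (by simp)
      (by simp [h2']) (by simp)
  have hZ'' : IsPullback pZ (i' ≫ a') (i ≫ aG hc) (q ≫ e.inv) :=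
    IsPullback.of_iso hZ' (Iso.refl _) (Iso.refl _) (Iso.refl _) e.symm (by simp) (by simp)
      (by simp [h1']) (by simp)
  exact isPushout_baseChange_of_dominant hc (q ≫ e.inv) hX'' hY'' hZ'' hi' hj' w'

end Groth.Agent.H49.Ferrand
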