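import Groth.Agent.H49.FerrandDom

/-!
# Scheme-theoretic dominance of the base change of `X → P` from chartwise universal injectivity
(helper49)
-/

set_option autoImplicit false
universe u
open CategoryTheory CategoryTheory.Limits AlgebraicGeometry

namespace Groth.Agent.H49.Ferrand

open Groth.Agent.H24 Chart

section general

/-- scheme-theoretic dominance can be checked on an affine open cover -/
lemma isSchemeTheoreticallyDominant_of_local {X' F : Scheme.{u}} (a' : X' ⟶ F) [QuasiCompact a']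
    (h : ∀ x : F, ∃ E : F.Opens, IsAffineOpen E ∧ x ∈ E ∧ Function.Injective (a'.app E).hom) :
    IsSchemeTheoreticallyDominant a' := by
  choose E hE hxE hinj using h
  rw [isSchemeTheoreticallyDominant_iff]
  refine Scheme.IdealSheafData.ext_of_iSup_eq_top (fun x => ⟨E x, hE x⟩) ?_ ?_
  · rw [eq_top_iff]
    intro x _
    exact TopologicalSpace.Opens.mem_iSup.mpr ⟨x, hxE x⟩
  · intro x
    rw [Scheme.Hom.ker_apply, Scheme.IdealSheafData.ideal_bot, Pi.bot_apply]
    exact (RingHom.injective_iff_ker_eq_bot _).mp (hinj x)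

/-- injectivity on functions over the range of an open immersion from injectivity of the base
change -/
lemma app_injective_of_isPullback {X' F E₀ EX : Scheme.{u}} {a' : X' ⟶ F} {e : E₀ ⟶ F}
    [IsOpenImmersion e] {pE : EX ⟶ X'} {s : EX ⟶ E₀} (h : IsPullback pE s a' e)
    (hs : Function.Injective s.appTop.hom) :
    Function.Injective (a'.app e.opensRange).hom := by
  haveI : IsIso (e.app e.opensRange) := e.isIso_app _ le_rfl
  have htop : e ⁻¹ᵁ e.opensRange = ⊤ := e.preimage_opensRange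
  have hs' : Function.Injective (s.app (e ⁻¹ᵁ e.opensRange)).hom := by
    rw [htop]
    exact hs
  have h1 : a'.app e.opensRange ≫ pE.app (a' ⁻¹ᵁ e.opensRange) =
      (e.app e.opensRange ≫ s.app (e ⁻¹ᵁ e.opensRange)) ≫
        EX.presheaf.map (eqToHom (by
          rw [← Scheme.Hom.comp_preimage, ← Scheme.Hom.comp_preimage, h.w])).op := by
    rw [← Scheme.Hom.comp_app, ← Scheme.Hom.comp_app]
    exact Scheme.Hom.congr_app h.w e.opensRange
  have hinj : Function.Injective
      ((a'.app e.opensRange ≫ pE.app (a' ⁻¹ᵁ e.opensRange)).hom) := by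
    rw [h1]
    have hm : Function.Injective (EX.presheaf.map (eqToHom (by
        rw [← Scheme.Hom.comp_preimage, ← Scheme.Hom.comp_preimage, h.w] :
        pE ⁻¹ᵁ a' ⁻¹ᵁ e.opensRange = s ⁻¹ᵁ e ⁻¹ᵁ e.opensRange)).op).hom :=
      ((ConcreteCategory.bijective_of_isIso _).1)
    have he : Function.Injective (e.app e.opensRange).hom :=
      ((ConcreteCategory.bijective_of_isIso _).1)
    intro x y hxy
    exact he (hs' (hm hxy))
  intro x y hxy
  apply hinj
  show (pE.app _).hom ((a'.app e.opensRange).hom x) = (pE.app _).hom ((a'.app e.opensRange).hom y)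
  rw [hxy]

end general

variable {X Y Z : Scheme.{u}} {i : Z ⟶ X} {j : Z ⟶ Y} [IsClosedImmersion i] [IsIntegralHom j]
  (hc : Covers i j)

/-- the map `U_k → P_k` of a chart over an affine open `U` of a base stays injective on
functions after every affine base change over `U` -/
def UnivInjective {S : Scheme.{u}} (k : Chart i j) (U : S.Opens) (rK : k.P ⟶ U) : Prop :=
  ∀ (U'' : Scheme.{u}) [IsAffine U''] (h : U'' ⟶ U),
    Function.Injective (pullback.map (k.a ≫ rK) h rK h k.a (𝟙 _) (𝟙 _)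
      (by simp) (by simp)).appTop.hom

theorem isSchemeTheoreticallyDominant_of_univInjective {S S' F X' : Scheme.{u}}
    (r : Pglue i j ⟶ S) (g : S' ⟶ S) {q : F ⟶ Pglue i j} {p' : F ⟶ S'}
    (hF : IsPullback q p' r g) {pX : X' ⟶ X} {a' : X' ⟶ F} (hX' : IsPullback pX a' (aG hc) q)
    (H : ∀ x : Pglue i j, ∃ k : Chart i j, x ∈ Set.range (ιP k) ∧
      ∃ (U : S.Opens) (rK : k.P ⟶ U), IsAffineOpen U ∧ rK ≫ U.ι = ιP k ≫ r ∧
        UnivInjective k U rK) :
    IsSchemeTheoreticallyDominant a' := by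
  haveI : IsIntegralHom (aG hc) := isIntegralHom_aG hc
  haveI : QuasiCompact a' :=
    MorphismProperty.of_isPullback (P := @QuasiCompact) hX' inferInstance
  refine isSchemeTheoreticallyDominant_of_local a' fun x' => ?_
  obtain ⟨k, ⟨x₀, hx₀⟩, U, rK, hU, hrK, hinj⟩ := H (q x')
  have hgU : g (p' x') ∈ U := by
    have h1 : g (p' x') = r (q x') := by
      rw [← Scheme.Hom.comp_apply, ← Scheme.Hom.comp_apply, hF.w]
    rw [h1, ← hx₀, ← Scheme.Hom.comp_apply, ← hrK, Scheme.Hom.comp_apply]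
    exact (rK x₀).2
  obtain ⟨_, ⟨(U' : S'.Opens), hU', rfl⟩, hsU', hU'le⟩ :=
    S'.isBasis_affineOpens.exists_subset_of_mem_open
      (show p' x' ∈ (g ⁻¹ᵁ U : S'.Opens) from hgU) (g ⁻¹ᵁ U).isOpen
  haveI : IsAffine (U : Scheme.{u}) := hU
  haveI : IsAffine (U' : Scheme.{u}) := hU'
  have hrangeU' : Set.range (U'.ι ≫ g) ⊆ Set.range U.ι := by
    rintro _ ⟨y, rfl⟩
    rw [Scheme.Opens.range_ι]
    exact hU'le y.2
  let gU : (U' : Scheme.{u}) ⟶ U := IsOpenImmersion.lift U.ι (U'.ι ≫ g) hrangeU'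
  have hgU' : gU ≫ U.ι = U'.ι ≫ g := IsOpenImmersion.lift_fac _ _ _
  have hcond : (pullback.fst rK gU ≫ ιP k) ≫ r = (pullback.snd rK gU ≫ U'.ι) ≫ g := by
    rw [Category.assoc, ← hrK, ← Category.assoc, pullback.condition, Category.assoc, hgU',
      Category.assoc]
  let e : pullback rK gU ⟶ F :=
    hF.lift (pullback.fst rK gU ≫ ιP k) (pullback.snd rK gU ≫ U'.ι) hcond
  have he1 : e ≫ q = pullback.fst rK gU ≫ ιP k := hF.lift_fst _ _ _
  have he2 : e ≫ p' = pullback.snd rK gU ≫ U'.ι := hF.lift_snd _ _ _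
  have hmap : e ≫ hF.isoPullback.hom = pullback.map rK gU r g (ιP k) U'.ι U.ι hrK hgU' := by
    apply pullback.hom_ext
    · rw [Category.assoc, IsPullback.isoPullback_hom_fst, he1, pullback.lift_fst]
    · rw [Category.assoc, IsPullback.isoPullback_hom_snd, he2, pullback.lift_snd]
  haveI : IsOpenImmersion e := by
    have : e = pullback.map rK gU r g (ιP k) U'.ι U.ι hrK hgU' ≫ hF.isoPullback.inv := by
      rw [← hmap, Category.assoc, Iso.hom_inv_id, Category.comp_id]
    rw [this]
    infer_instance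
  have hx'E : x' ∈ e.opensRange := by
    have h1 : hF.isoPullback.hom x' ∈
        Set.range (pullback.map rK gU r g (ιP k) U'.ι U.ι hrK hgU') := by
      rw [Scheme.Pullback.range_map]
      refine ⟨?_, ?_⟩
      · show pullback.fst r g (hF.isoPullback.hom x') ∈ Set.range (ιP k)
        rw [← Scheme.Hom.comp_apply, IsPullback.isoPullback_hom_fst]
        exact ⟨x₀, hx₀⟩
      · show pullback.snd r g (hF.isoPullback.hom x') ∈ Set.range U'.ι
        rw [← Scheme.Hom.comp_apply, IsPullback.isoPullback_hom_snd]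
        exact ⟨⟨p' x', hsU'⟩, rfl⟩
    obtain ⟨z, hz⟩ := h1
    refine ⟨z, ?_⟩
    have h2 : hF.isoPullback.hom (e z) = hF.isoPullback.hom x' := by
      rw [← Scheme.Hom.comp_apply, hmap, hz]
    have h3 := congrArg hF.isoPullback.inv h2
    rw [← Scheme.Hom.comp_apply, ← Scheme.Hom.comp_apply, Iso.hom_inv_id] at h3
    simpa using h3
  refine ⟨e.opensRange, isAffineOpen_opensRange e, hx'E, ?_⟩
  let s : pullback (k.a ≫ rK) gU ⟶ pullback rK gU :=
    pullback.map (k.a ≫ rK) gU rK gU k.a (𝟙 _) (𝟙 _) (by simp) (by simp)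
  have hs_snd : s ≫ pullback.snd rK gU = pullback.snd (k.a ≫ rK) gU := by
    show pullback.lift _ _ _ ≫ _ = _
    rw [pullback.lift_snd, Category.comp_id]
  have hs_fst : s ≫ pullback.fst rK gU = pullback.fst (k.a ≫ rK) gU ≫ k.a := by
    show pullback.lift _ _ _ ≫ _ = _
    rw [pullback.lift_fst]
  have hs1 : IsPullback (pullback.fst (k.a ≫ rK) gU) s k.a (pullback.fst rK gU) := by
    refine IsPullback.of_bot ?_ hs_fst.symm (IsPullback.of_hasPullback rK gU)
    rw [hs_snd]
    exact IsPullback.of_hasPullback (k.a ≫ rK) gU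
  have hs2 : IsPullback (pullback.fst (k.a ≫ rK) gU ≫ k.U.ι) s (aG hc)
      (pullback.fst rK gU ≫ ιP k) := hs1.paste_horiz (isPullback_aG hc k)
  let pE : pullback (k.a ≫ rK) gU ⟶ X' :=
    hX'.lift (pullback.fst (k.a ≫ rK) gU ≫ k.U.ι) (s ≫ e) (by
      rw [Category.assoc (s), he1]
      exact hs2.w)
  have hpE1 : pE ≫ pX = pullback.fst (k.a ≫ rK) gU ≫ k.U.ι := hX'.lift_fst _ _ _
  have hpE2 : pE ≫ a' = s ≫ e := hX'.lift_snd _ _ _
  have hsq : IsPullback pE s a' e := by
    refine IsPullback.of_right ?_ hpE2 hX'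
    rw [hpE1, he1]
    exact hs2
  exact app_injective_of_isPullback hsq (hinj U' gU)

end Groth.Agent.H49.Ferrand
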