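import Groth.Agent.H49.FerrandDom2
import Groth.Agent.H49.FlatCokerInj

/-!
# Universal injectivity of a chart from a flat cokernel (helper49)
-/

set_option autoImplicit false
universe u
open CategoryTheory CategoryTheory.Limits AlgebraicGeometry

namespace Groth.Agent.H49.Ferrand

open Groth.Agent.H24 Chart

variable {X Y Z : Scheme.{u}} {i : Z ⟶ X} {j : Z ⟶ Y} [IsClosedImmersion i] [IsIntegralHom j]

lemma isPushout_precomp_iso {R₀ R A B D : CommRingCat.{u}} (σ : R₀ ≅ R) {f : R ⟶ A} {g : R ⟶ B}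
    {inl : A ⟶ D} {inr : B ⟶ D} (h : IsPushout f g inl inr) :
    IsPushout (σ.hom ≫ f) (σ.hom ≫ g) inl inr := by
  refine IsPushout.of_iso h σ.symm (Iso.refl _) (Iso.refl _) (Iso.refl _) ?_ ?_ ?_ ?_
  · simp
  · simp
  · simp
  · simp

/-- a chart over an affine open `U` of a base is universally injective as soon as the cokernel
of `Γ(P_k) → Γ(U_k)` is flat over (a ring isomorphic to) `Γ(U)` -/
theorem univInjective_of_flat_coker {S : Scheme.{u}} (k : Chart i j) (U : S.Opens)
    (hU : IsAffineOpen U) (rK : k.P ⟶ U) {R₀ : CommRingCat.{u}} (σ : R₀ ≅ Γ((U : Scheme.{u}), ⊤))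
    (Pm : Type u) [AddCommGroup Pm] [Module R₀ Pm] [Module.Flat R₀ Pm]
    (f : Γ((k.U : Scheme.{u}), ⊤) →+ Pm) (hf : Function.Surjective f)
    (hlin : ∀ (r : R₀) (x : Γ((k.U : Scheme.{u}), ⊤)),
      f ((σ.hom ≫ rK.appTop ≫ k.a.appTop).hom r * x) = r • f x)
    (hex : ∀ x, f x = 0 ↔ x ∈ Set.range k.a.appTop.hom)
    (hsnd : Function.Injective k.a.appTop.hom) :
    UnivInjective k U rK := by
  intro U'' _ h
  haveI : IsAffine (U : Scheme.{u}) := hU
  have h₁ := isPushout_precomp_iso σ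
    (AffinePushout.isPushout_appTop_of_isPullback (IsPullback.of_hasPullback rK h))
  have hX := isPushout_precomp_iso σ
    (AffinePushout.isPushout_appTop_of_isPullback (IsPullback.of_hasPullback (k.a ≫ rK) h))
  rw [Scheme.Hom.comp_appTop] at hX
  have hs_snd : pullback.map (k.a ≫ rK) h rK h k.a (𝟙 _) (𝟙 _) (by simp) (by simp) ≫
      pullback.snd rK h = pullback.snd (k.a ≫ rK) h := by
    show pullback.lift _ _ _ ≫ _ = _
    rw [pullback.lift_snd, Category.comp_id]
  have hs_fst : pullback.map (k.a ≫ rK) h rK h k.a (𝟙 _) (𝟙 _) (by simp) (by simp) ≫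
      pullback.fst rK h = pullback.fst (k.a ≫ rK) h ≫ k.a := by
    show pullback.lift _ _ _ ≫ _ = _
    rw [pullback.lift_fst]
  refine FlatCokerInj.injective_of_flat_coker (σ.hom ≫ rK.appTop) k.a.appTop (σ.hom ≫ h.appTop)
    h₁ (by rw [Category.assoc]; exact hX) _ ?_ ?_ Pm f hf ?_ hex hsnd
  · rw [← Scheme.Hom.comp_appTop, ← Scheme.Hom.comp_appTop, hs_fst]
  · rw [← Scheme.Hom.comp_appTop, hs_snd]
  · intro r x
    have := hlin r x
    rw [← Category.assoc] at this
    exact this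

end Groth.Agent.H49.Ferrand
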