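import Mathlib
import Groth.Agent.H49.MilnorPrime

/-!
# Finiteness in Milnor squares (helper49)
-/

set_option autoImplicit false
universe u

namespace Groth.Agent.H49.MilnorPrime

open Groth.Agent.H24

variable {A A' B C : Type u} [CommRing A] [CommRing A'] [CommRing B] [CommRing C]
  {fst : C →+* B} {snd : C →+* A'} {q : B →+* A} {p : A' →+* A}

/-- if `q` is finite then so is `snd` -/
theorem finite_snd (h : MilnorSq fst snd q p) (hq : q.Finite) : snd.Finite := by
  classical
  letI algq : Algebra B A := q.toAlgebra
  letI algs : Algebra C A' := snd.toAlgebra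
  haveI : Module.Finite B A := hq
  obtain ⟨G, hG⟩ := (Module.Finite.fg_top (R := B) (M := A))
  let lift : A → A' := Function.surjInv h.surj
  have hlift : ∀ a, p (lift a) = a := Function.surjInv_eq h.surj
  show Module.Finite C A'
  refine ⟨⟨insert 1 (G.image lift), ?_⟩⟩
  rw [eq_top_iff]
  rintro a' -
  have hpa : p a' ∈ Submodule.span B (G : Set A) := by rw [hG]; exact Submodule.mem_top
  obtain ⟨f, hf⟩ := Submodule.mem_span_finset'.mp hpa
  -- `hf : ∑ g : G, f g • g = p a'`
  choose cf hcf using fun g : G => h.fst_surjective (f g)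
  let a'' : A' := ∑ g : G, cf g • lift g.1
  have ha''mem : a'' ∈ Submodule.span C ((insert 1 (G.image lift) : Finset A') : Set A') := by
    refine Submodule.sum_mem _ fun g _ => Submodule.smul_mem _ _ (Submodule.subset_span ?_)
    rw [Finset.coe_insert]
    right
    exact Finset.mem_coe.mpr (Finset.mem_image.mpr ⟨g.1, g.2, rfl⟩)
  have hpa'' : p a'' = p a' := by
    rw [← hf, map_sum]
    refine Finset.sum_congr rfl fun g _ => ?_
    show p (snd (cf g) * lift g.1) = q (f g) * g.1
    rw [map_mul, hlift, ← h.comm, hcf]
  have hker : p (a' - a'') = 0 := by rw [map_sub, hpa'', sub_self]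
  obtain ⟨c₀, -, hc₀⟩ := exists_zero_snd h (a' - a'') hker
  have h1 : a' - a'' ∈ Submodule.span C ((insert 1 (G.image lift) : Finset A') : Set A') := by
    have : a' - a'' = c₀ • (1 : A') := by
      show a' - a'' = snd c₀ * 1
      rw [mul_one, hc₀]
    rw [this]
    refine Submodule.smul_mem _ _ (Submodule.subset_span ?_)
    rw [Finset.coe_insert]
    left
    rfl
  have : a' = (a' - a'') + a'' := by ring
  rw [this]
  exact Submodule.add_mem _ h1 ha''mem

end Groth.Agent.H49.MilnorPrime
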