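import Mathlib
import Groth.Agent.H49.MilnorFinite

/-!
# Finite type for Milnor squares over a noetherian ring (Artin–Tate) (helper49)
-/

set_option autoImplicit false
universe u

namespace Groth.Agent.H49.MilnorPrime

open Groth.Agent.H24

variable {A A' B C : Type u} [CommRing A] [CommRing A'] [CommRing B] [CommRing C]
  {fst : C →+* B} {snd : C →+* A'} {q : B →+* A} {p : A' →+* A}

/-- Artin–Tate for fibre products: if `B` and `A'` are of finite type over a noetherian ring and
`q : B → A` is finite, then `C = B ×_A A'` is of finite type -/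
theorem finiteType_of_milnorSq {R : Type u} [CommRing R] [IsNoetherianRing R]
    (h : MilnorSq fst snd q p) (hq : q.Finite) (ψ : R →+* C)
    (hB : (fst.comp ψ).FiniteType) (hA' : (snd.comp ψ).FiniteType) : ψ.FiniteType := by
  letI : Algebra R C := ψ.toAlgebra
  letI : Algebra C B := fst.toAlgebra
  letI : Algebra C A' := snd.toAlgebra
  letI : Algebra R B := (fst.comp ψ).toAlgebra
  letI : Algebra R A' := (snd.comp ψ).toAlgebra
  haveI : IsScalarTower R C B := IsScalarTower.of_algebraMap_eq (fun _ => rfl)
  haveI : IsScalarTower R C A' := IsScalarTower.of_algebraMap_eq (fun _ => rfl)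
  haveI hfinB : Module.Finite C B := RingHom.Finite.of_surjective fst h.fst_surjective
  haveI hfinA' : Module.Finite C A' := finite_snd h hq
  haveI : Algebra.FiniteType R B := hB
  haveI : Algebra.FiniteType R A' := hA'
  haveI : Algebra.FiniteType R (B × A') := inferInstance
  haveI : Module.Finite C (B × A') := inferInstance
  show Algebra.FiniteType R C
  refine ⟨fg_of_fg_of_fg R C (B × A') Algebra.FiniteType.out Module.Finite.fg_top ?_⟩
  intro c c' hcc'
  have h1 : (algebraMap C (B × A') c).1 = (algebraMap C (B × A') c').1 := by rw [hcc']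
  have h2 : (algebraMap C (B × A') c).2 = (algebraMap C (B × A') c').2 := by rw [hcc']
  exact h.inj c c' h1 h2

end Groth.Agent.H49.MilnorPrime
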