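import Groth.Agent.H49.FerrandFinite
import Groth.Agent.H49.MilnorFT

/-!
# Ferrand pushouts over a locally noetherian base are locally of finite type (helper49)
-/

set_option autoImplicit false
universe u
open CategoryTheory CategoryTheory.Limits AlgebraicGeometry

namespace Groth.Agent.H49.Ferrand

open Groth.Agent.H24 Chart

variable {X Y Z : Scheme.{u}} {i : Z ⟶ X} {j : Z ⟶ Y} [IsClosedImmersion i]

lemma a_appTop (k : Chart i j) :
    k.a.appTop = (Scheme.ΓSpecIso (CommRingCat.of k.RC)).hom ≫ CommRingCat.ofHom k.sndC := by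
  rw [Chart.a, Scheme.Hom.comp_appTop, Scheme.toSpecΓ_appTop, Scheme.ΓSpecIso_naturality]
  rfl

lemma b_appTop (k : Chart i j) :
    k.b.appTop = (Scheme.ΓSpecIso (CommRingCat.of k.RC)).hom ≫ CommRingCat.ofHom k.fstC := by
  rw [Chart.b, Scheme.Hom.comp_appTop, Scheme.toSpecΓ_appTop, Scheme.ΓSpecIso_naturality]
  rfl

variable [IsIntegralHom j]

/-- the cover of the glued pushout by the charts satisfying a predicate -/
noncomputable def coverPQ (Q : Chart i j → Prop)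
    (hQ : ∀ p : Pglue i j, ∃ k : Chart i j, Q k ∧ p ∈ Set.range (ιP k)) :
    (Pglue i j).OpenCover where
  I₀ := {k : Chart i j // Q k}
  X k := k.1.P
  f k := ιP k.1
  mem₀ := by
    rw [Scheme.presieve₀_mem_precoverage_iff]
    refine ⟨fun p => ?_, inferInstance⟩
    obtain ⟨k, hk, x, hx⟩ := hQ p
    exact ⟨⟨k, hk⟩, x, hx⟩

/-- charts mapping into an affine open of the base cover the pushout -/
lemma exists_chart_over_affine {S : Scheme.{u}} (r' : Pglue i j ⟶ S) (p : Pglue i j) :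
    ∃ k : Chart i j, (∃ S₀ : S.Opens, IsAffineOpen S₀ ∧
      Set.range (ιP k ≫ r') ⊆ (S₀ : Set S)) ∧ p ∈ Set.range (ιP k) := by
  obtain ⟨k, x, rfl⟩ := ιP_jointly_surjective p
  obtain ⟨_, ⟨S₀, hS₀, rfl⟩, hsS₀, -⟩ :=
    S.isBasis_affineOpens.exists_subset_of_mem_open (Set.mem_univ (r' (ιP k x))) isOpen_univ
  let O : (k.P).Opens := (ιP k ≫ r') ⁻¹ᵁ S₀
  have hxO : x ∈ O := by
    show (ιP k ≫ r') x ∈ S₀
    rw [Scheme.Hom.comp_apply]
    exact hsS₀
  obtain ⟨_, ⟨_, ⟨c, rfl⟩, rfl⟩, hxc, hcO⟩ :=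
    PrimeSpectrum.isBasis_basic_opens.exists_subset_of_mem_open hxO O.isOpen
  refine ⟨k.basic c, ⟨S₀, hS₀, ?_⟩, ?_⟩
  · rintro _ ⟨y, rfl⟩
    have hy : Fmap (k.basic_le c) y ∈
        (PrimeSpectrum.basicOpen c : Set (PrimeSpectrum k.RC)) := by
      rw [← range_Fmap_basic]
      exact ⟨y, rfl⟩
    have h1 : (ιP k ≫ r') (Fmap (k.basic_le c) y) ∈ S₀ := hcO hy
    have h2 : (ιP (k.basic c) ≫ r') y = (ιP k ≫ r') (Fmap (k.basic_le c) y) := by
      rw [← Fmap_ιP (k.basic_le c), Category.assoc, Scheme.Hom.comp_apply]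
    rw [h2]
    exact h1
  · have hxr : x ∈ Set.range (Fmap (k.basic_le c)) := by
      rw [range_Fmap_basic]
      exact hxc
    obtain ⟨y, rfl⟩ := hxr
    exact ⟨y, (Fmap_ιP_apply (k.basic_le c) y).symm⟩

/-- the glued pushout is locally of finite type over a locally noetherian base when `X` and `Y`
are and `j` is finite -/
theorem locallyOfFiniteType_glue [IsFinite j] (hc : Covers i j) {S : Scheme.{u}}
    [IsLocallyNoetherian S] (r' : Pglue i j ⟶ S) [hX : LocallyOfFiniteType (aG hc ≫ r')]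
    [hY : LocallyOfFiniteType (bG hc ≫ r')] : LocallyOfFiniteType r' := by
  refine IsZariskiLocalAtSource.of_openCover (P := @LocallyOfFiniteType)
    (coverPQ _ (exists_chart_over_affine r')) ?_
  rintro ⟨k, S₀, hS₀, hrange⟩
  show LocallyOfFiniteType (ιP k ≫ r')
  haveI : IsAffine (S₀ : Scheme.{u}) := hS₀
  have hrange' : Set.range (ιP k ≫ r') ⊆ Set.range S₀.ι := by
    rw [Scheme.Opens.range_ι]
    exact hrange
  let φ : k.P ⟶ (S₀ : Scheme.{u}) := IsOpenImmersion.lift S₀.ι (ιP k ≫ r') hrange'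
  have hφ : φ ≫ S₀.ι = ιP k ≫ r' := IsOpenImmersion.lift_fac _ _ _
  suffices hsuff : LocallyOfFiniteType φ by
    rw [← hφ]
    infer_instance
  haveI : IsNoetherianRing Γ((S₀ : Scheme.{u}), ⊤) :=
    IsLocallyNoetherian.component_noetherian ⟨⊤, isAffineOpen_top (S₀ : Scheme.{u})⟩
  -- the two restrictions are of finite type
  have hbφ : LocallyOfFiniteType (k.b ≫ φ) := by
    haveI : LocallyOfFiniteType ((k.b ≫ φ) ≫ S₀.ι) := by
      rw [Category.assoc, hφ, ← Category.assoc, ← ι_bG hc, Category.assoc]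
      infer_instance
    exact locallyOfFiniteType_of_comp (k.b ≫ φ) S₀.ι
  have haφ : LocallyOfFiniteType (k.a ≫ φ) := by
    haveI : LocallyOfFiniteType ((k.a ≫ φ) ≫ S₀.ι) := by
      rw [Category.assoc, hφ, ← Category.assoc, ← ι_aG hc, Category.assoc]
      infer_instance
    exact locallyOfFiniteType_of_comp (k.a ≫ φ) S₀.ι
  rw [HasRingHomProperty.iff_of_isAffine (P := @LocallyOfFiniteType)] at hbφ haφ ⊢
  let ψ : Γ((S₀ : Scheme.{u}), ⊤) →+* k.RC :=
    (Scheme.ΓSpecIso (CommRingCat.of k.RC)).hom.hom.comp φ.appTop.hom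
  have hB : (k.fstC.comp ψ).FiniteType := by
    have : (k.b ≫ φ).appTop.hom = k.fstC.comp ψ := by
      rw [Scheme.Hom.comp_appTop, b_appTop]
      rfl
    rw [← this]
    exact hbφ
  have hA' : (k.sndC.comp ψ).FiniteType := by
    have : (k.a ≫ φ).appTop.hom = k.sndC.comp ψ := by
      rw [Scheme.Hom.comp_appTop, a_appTop]
      rfl
    rw [← this]
    exact haφ
  haveI := isFinite_jk k
  have hfin : k.jk.appTop.hom.Finite := Scheme.Hom.finite_appTop k.jk
  have hψ : ψ.FiniteType := MilnorPrime.finiteType_of_milnorSq k.milnor hfin ψ hB hA'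
  have hinv : ((Scheme.ΓSpecIso (CommRingCat.of k.RC)).inv.hom).FiniteType :=
    RingHom.FiniteType.of_surjective _ (by
      intro z
      refine ⟨(Scheme.ΓSpecIso (CommRingCat.of k.RC)).hom.hom z, ?_⟩
      exact congrArg (fun f : Γ(k.P, ⊤) ⟶ Γ(k.P, ⊤) => f.hom z)
        (Scheme.ΓSpecIso (CommRingCat.of k.RC)).hom_inv_id)
  have hcomp : φ.appTop.hom = ((Scheme.ΓSpecIso (CommRingCat.of k.RC)).inv.hom).comp ψ := by
    ext z
    show φ.appTop.hom z = (Scheme.ΓSpecIso (CommRingCat.of k.RC)).inv.hom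
      ((Scheme.ΓSpecIso (CommRingCat.of k.RC)).hom.hom (φ.appTop.hom z))
    exact (congrArg (fun f : Γ(k.P, ⊤) ⟶ Γ(k.P, ⊤) => f.hom (φ.appTop.hom z))
      (Scheme.ΓSpecIso (CommRingCat.of k.RC)).hom_inv_id).symm
  rw [hcomp]
  exact hinv.comp hψ

end Groth.Agent.H49.Ferrand
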