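import Groth.Agent.H49.FerrandMain
import Groth.Agent.H49.MilnorFinite

/-!
# Ferrand pushouts: uniqueness transfer and finiteness (helper49)
-/

set_option autoImplicit false
universe u
open CategoryTheory CategoryTheory.Limits AlgebraicGeometry

namespace Groth.Agent.H49.Ferrand

open Groth.Agent.H24 Chart

variable {X Y Z : Scheme.{u}} {i : Z ⟶ X} {j : Z ⟶ Y} [IsClosedImmersion i] [IsIntegralHom j]

/-- any pushout is isomorphic to the glued one -/
theorem exists_iso_of_isPushout (hc : Covers i j) {P : Scheme.{u}} {a : X ⟶ P} {b : Y ⟶ P}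
    (hP : IsPushout i j a b) :
    ∃ e : Pglue i j ≅ P, aG hc ≫ e.hom = a ∧ bG hc ≫ e.hom = b :=
  ⟨(isPushout_glue hc).isoIsPushout _ _ hP, (isPushout_glue hc).inl_isoIsPushout_hom _ _ hP,
    (isPushout_glue hc).inr_isoIsPushout_hom _ _ hP⟩

/-- every pushout of a closed immersion and an integral morphism (with the affineness hypothesis)
is cartesian, with `a` integral and `b` a closed immersion -/
theorem props_of_isPushout (hc : Covers i j) {P : Scheme.{u}} {a : X ⟶ P} {b : Y ⟶ P}
    (hP : IsPushout i j a b) :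
    IsPullback i j a b ∧ IsIntegralHom a ∧ IsClosedImmersion b := by
  obtain ⟨e, h1, h2⟩ := exists_iso_of_isPushout hc hP
  refine ⟨?_, ?_, ?_⟩
  · refine IsPullback.of_iso (isPullback_glue hc) (Iso.refl Z) (Iso.refl X) (Iso.refl Y) e
      (by simp) (by simp) (by simp [h1]) (by simp [h2])
  · haveI := isIntegralHom_aG hc
    rw [← h1]
    infer_instance
  · haveI := isClosedImmersion_bG hc
    rw [← h2]
    infer_instance

lemma isFinite_jk [IsFinite j] (k : Chart i j) : IsFinite k.jk := by
  have h1 : IsFinite (j.resLE k.V (j ⁻¹ᵁ k.V) le_rfl) := by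
    rw [Scheme.Hom.resLE_eq_morphismRestrict]
    infer_instance
  exact (Scheme.Hom.resLE_congr (f := j) (e := k.h.le) rfl k.h @IsFinite).mpr h1

lemma isFinite_a [IsFinite j] (k : Chart i j) : IsFinite k.a := by
  haveI := isFinite_jk k
  have hfin : k.jk.appTop.hom.Finite := Scheme.Hom.finite_appTop k.jk
  have h2 : IsFinite (Spec.map (CommRingCat.ofHom k.sndC)) :=
    (IsFinite.SpecMap_iff _).mpr (MilnorPrime.finite_snd k.milnor hfin)
  haveI : IsIso (k.U : Scheme.{u}).toSpecΓ := inferInstance
  have h1 : IsFinite (k.U : Scheme.{u}).toSpecΓ := inferInstance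
  exact MorphismProperty.comp_mem (W := @IsFinite) _ _ h1 h2

lemma isFinite_aG [IsFinite j] (hc : Covers i j) : IsFinite (aG hc) :=
  aG_prop hc @IsFinite fun k => isFinite_a k

theorem isFinite_of_isPushout [IsFinite j] (hc : Covers i j) {P : Scheme.{u}} {a : X ⟶ P}
    {b : Y ⟶ P} (hP : IsPushout i j a b) : IsFinite a := by
  obtain ⟨e, h1, h2⟩ := exists_iso_of_isPushout hc hP
  haveI := isFinite_aG hc
  rw [← h1]
  infer_instance

end Groth.Agent.H49.Ferrand
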