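import Groth.Agent.H49.FerrandFinite
import Groth.Agent.H49.FerrandAvoid2

/-!
# Charts containing finite sets of points (helper49)
-/

set_option autoImplicit false
universe u
open CategoryTheory CategoryTheory.Limits AlgebraicGeometry

namespace Groth.Agent.H49.Ferrand

open Groth.Agent.H24

section affine

variable {T : Scheme.{u}} [IsAffine T]

lemma pr_injective : Function.Injective (pr : T → Ideal Γ(T, ⊤)) := by
  intro x y hxy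
  have h1 : T.toSpecΓ x = T.toSpecΓ y := PrimeSpectrum.ext hxy
  exact (T.isoSpec.hom.homeomorph).injective h1

/-- a function vanishing off an open set and nowhere on a finite subset of it -/
lemma avoid_finite (O : T.Opens) (Ef : Set T) (hfin : Ef.Finite) (hEO : Ef ⊆ (O : Set T)) :
    ∃ f ∈ idealOf O, ∀ x ∈ Ef, x ∈ T.basicOpen f := by
  classical
  obtain ⟨u, hu, huP⟩ := FerrandAvoid.exists_add_forall_notMem (idealOf O) 0
    (hfin.toFinset.image pr) (by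
      intro 𝔭 h𝔭
      obtain ⟨x, -, rfl⟩ := Finset.mem_image.mp h𝔭
      infer_instance) (by
      intro 𝔭 h𝔭
      obtain ⟨x, hx, rfl⟩ := Finset.mem_image.mp h𝔭
      rw [idealOf_le_pr_iff]
      exact fun h => h (hEO (hfin.mem_toFinset.mp hx)))
  refine ⟨u, hu, fun x hx => ?_⟩
  rw [mem_basicOpen_iff]
  have := huP (pr x) (Finset.mem_image.mpr ⟨x, hfin.mem_toFinset.mpr hx, rfl⟩)
  rwa [zero_add] at this

/-- coset version -/
lemma avoid_finite_coset (K : Ideal Γ(T, ⊤)) (h₀ : Γ(T, ⊤)) (Ef : Set T) (hfin : Ef.Finite) :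
    ∃ κ ∈ K, ∀ x ∈ Ef, ¬ K ≤ pr x → x ∈ T.basicOpen (h₀ + κ) := by
  classical
  obtain ⟨u, hu, huP⟩ := FerrandAvoid.exists_add_forall_notMem K h₀
    ((hfin.toFinset.image pr).filter (fun 𝔭 => ¬ K ≤ 𝔭)) (by
      intro 𝔭 h𝔭
      obtain ⟨x, -, rfl⟩ := Finset.mem_image.mp (Finset.mem_filter.mp h𝔭).1
      infer_instance) (by
      intro 𝔭 h𝔭
      exact (Finset.mem_filter.mp h𝔭).2)
  refine ⟨u, hu, fun x hx hK => ?_⟩
  rw [mem_basicOpen_iff]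
  exact huP (pr x) (Finset.mem_filter.mpr
    ⟨Finset.mem_image.mpr ⟨x, hfin.mem_toFinset.mpr hx, rfl⟩, hK⟩)

/-- points in the vanishing locus of the kernel of a surjection on functions lie in the image -/
lemma exists_of_ker_le {T' : Scheme.{u}} [IsAffine T'] (f : T' ⟶ T)
    (hsurj : Function.Surjective f.appTop.hom) (x : T)
    (hK : RingHom.ker f.appTop.hom ≤ pr x) : ∃ z : T', f z = x := by
  haveI : (Ideal.map f.appTop.hom (pr x)).IsPrime := Ideal.map_isPrime_of_surjective hsurj hK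
  obtain ⟨z, hz⟩ := exists_pr_eq (T := T') (Ideal.map f.appTop.hom (pr x))
  refine ⟨z, pr_injective ?_⟩
  rw [pr_map, hz, Ideal.comap_map_of_surjective _ hsurj]
  exact sup_eq_left.mpr hK

end affine

section affine2

variable {T : Scheme.{u}} [IsAffine T]

lemma avoid_finite_ideal (J : Ideal Γ(T, ⊤)) (Ef : Set T) (hfin : Ef.Finite)
    (hJ : ∀ x ∈ Ef, ¬ J ≤ pr x) : ∃ g ∈ J, ∀ x ∈ Ef, x ∈ T.basicOpen g := by
  classical
  obtain ⟨u, hu, huP⟩ := FerrandAvoid.exists_add_forall_notMem J 0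
    (hfin.toFinset.image pr) (by
      intro 𝔭 h𝔭
      obtain ⟨x, -, rfl⟩ := Finset.mem_image.mp h𝔭
      infer_instance) (by
      intro 𝔭 h𝔭
      obtain ⟨x, hx, rfl⟩ := Finset.mem_image.mp h𝔭
      exact hJ x (hfin.mem_toFinset.mp hx))
  refine ⟨u, hu, fun x hx => ?_⟩
  rw [mem_basicOpen_iff]
  have := huP (pr x) (Finset.mem_image.mpr ⟨x, hfin.mem_toFinset.mpr hx, rfl⟩)
  rwa [zero_add] at this

end affine2

section main

variable {X Y Z : Scheme.{u}} (i : Z ⟶ X) (j : Z ⟶ Y)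

lemma preimage_eq_of_basic (U : X.Opens) (V₁ : Y.Opens) (hle : j ⁻¹ᵁ V₁ ≤ i ⁻¹ᵁ U)
    (h' : Γ((U : Scheme.{u}), ⊤)) (g : Γ((V₁ : Scheme.{u}), ⊤))
    (hI : (i.resLE U (i ⁻¹ᵁ U) le_rfl).appTop.hom h' ∈ idealOf (Z.homOfLE hle).opensRange)
    (hiff : ∀ 𝔭 : Ideal Γ(((j ⁻¹ᵁ V₁ : Z.Opens) : Scheme.{u}), ⊤), 𝔭.IsPrime →
      ((Z.homOfLE hle).appTop.hom ((i.resLE U (i ⁻¹ᵁ U) le_rfl).appTop.hom h') ∈ 𝔭 ↔
        (j.resLE V₁ (j ⁻¹ᵁ V₁) le_rfl).appTop.hom g ∈ 𝔭)) :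
    i ⁻¹ᵁ (U.ι ''ᵁ ((U : Scheme.{u}).basicOpen h')) =
      j ⁻¹ᵁ (V₁.ι ''ᵁ ((V₁ : Scheme.{u}).basicOpen g)) := by
  let W : Z.Opens := i ⁻¹ᵁ U
  let W₁ : Z.Opens := j ⁻¹ᵁ V₁
  let iU : (W : Scheme.{u}) ⟶ (U : Scheme.{u}) := i.resLE U W le_rfl
  let jV : (W₁ : Scheme.{u}) ⟶ (V₁ : Scheme.{u}) := j.resLE V₁ W₁ le_rfl
  let ι₁ : (W₁ : Scheme.{u}) ⟶ (W : Scheme.{u}) := Z.homOfLE hle
  let h : Γ((W : Scheme.{u}), ⊤) := iU.appTop.hom h'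
  have e1 : iU ⁻¹ᵁ ((U : Scheme.{u}).basicOpen h') = (W : Scheme.{u}).basicOpen h :=
    Scheme.preimage_basicOpen_top _ _
  have e2 : jV ⁻¹ᵁ ((V₁ : Scheme.{u}).basicOpen g) =
      (W₁ : Scheme.{u}).basicOpen (jV.appTop.hom g) := Scheme.preimage_basicOpen_top _ _
  have e3 : (W₁ : Scheme.{u}).basicOpen (jV.appTop.hom g) =
      ι₁ ⁻¹ᵁ ((W : Scheme.{u}).basicOpen h) := by
    rw [Scheme.preimage_basicOpen_top]
    ext x
    rw [SetLike.mem_coe, SetLike.mem_coe, mem_basicOpen_iff, mem_basicOpen_iff]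
    exact not_congr (hiff (pr x) inferInstance).symm
  have e4 : W₁.ι ''ᵁ (ι₁ ⁻¹ᵁ ((W : Scheme.{u}).basicOpen h)) =
      W.ι ''ᵁ ((W : Scheme.{u}).basicOpen h) := by
    have hι : W₁.ι = ι₁ ≫ W.ι := (Scheme.homOfLE_ι Z hle).symm
    have hpt : ∀ x₁ : (W₁ : Scheme.{u}), W₁.ι x₁ = W.ι (ι₁ x₁) := fun x₁ =>
      congrArg (fun φ : (W₁ : Scheme.{u}) ⟶ Z => φ x₁) hι
    ext z
    constructor
    · rintro ⟨x₁, hx₁, rfl⟩
      exact ⟨ι₁ x₁, hx₁, (hpt x₁).symm⟩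
    · rintro ⟨x, hx, rfl⟩
      obtain ⟨x₁, rfl⟩ := basicOpen_le_of_mem_idealOf hI hx
      exact ⟨x₁, hx, hpt x₁⟩
  rw [← ι_image_resLE_preimage i U, ← ι_image_resLE_preimage j V₁]
  show W.ι ''ᵁ (iU ⁻¹ᵁ _) = W₁.ι ''ᵁ (jV ⁻¹ᵁ _)
  rw [e1, e2, e3, e4]

variable [IsClosedImmersion i] [IsIntegralHom j]

/-- shrink an affine open of `Y` around a finite set so that its preimage lies in a given open
of `Z` -/
lemma exists_shrink (V : Y.Opens) (hV : IsAffineOpen V) (W : Z.Opens) (E₂ : Set Y)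
    (hfin : E₂.Finite) (hE₂V : E₂ ⊆ (V : Set Y)) (hEW : ∀ z : Z, j z ∈ E₂ → z ∈ W) :
    ∃ V₁ : Y.Opens, IsAffineOpen V₁ ∧ V₁ ≤ V ∧ E₂ ⊆ (V₁ : Set Y) ∧ j ⁻¹ᵁ V₁ ≤ W := by
  haveI : IsAffine (V : Scheme.{u}) := hV
  have hC : IsClosed (j '' (W : Set Z)ᶜ) := j.isClosedMap _ W.isOpen.isClosed_compl
  let O : (V : Scheme.{u}).Opens := V.ι ⁻¹ᵁ ⟨(j '' (W : Set Z)ᶜ)ᶜ, hC.isOpen_compl⟩
  let Ef : Set (V : Scheme.{u}) := {v | v.1 ∈ E₂}
  have hEf : Ef.Finite := hfin.preimage Subtype.val_injective.injOn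
  have hEfO : Ef ⊆ (O : Set (V : Scheme.{u})) := by
    rintro v hv ⟨z, hz, hzv⟩
    have hzv' : j z = v.1 := hzv
    exact hz (hEW z (hzv' ▸ hv))
  obtain ⟨f, hf, hfE⟩ := avoid_finite O Ef hEf hEfO
  refine ⟨V.ι ''ᵁ ((V : Scheme.{u}).basicOpen f),
    ((isAffineOpen_top _).basicOpen _).image_of_isOpenImmersion V.ι,
    Scheme.Opens.ι_image_le _ _, ?_, ?_⟩
  · intro y hy
    exact ⟨⟨y, hE₂V hy⟩, hfE ⟨y, hE₂V hy⟩ hy, rfl⟩
  · rintro z ⟨v, hv, hvz⟩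
    by_contra hzW
    have hvz' : v.1 = j z := hvz
    exact (basicOpen_le_of_mem_idealOf hf hv) ⟨z, hzW, hvz'.symm⟩

end main

end Groth.Agent.H49.Ferrand
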