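import Groth.Agent.H49.FerrandFiniteSet

/-!
# Charts containing finite sets of points, II (helper49)
-/

set_option autoImplicit false
universe u
open CategoryTheory CategoryTheory.Limits AlgebraicGeometry

namespace Groth.Agent.H49.Ferrand

open Groth.Agent.H24

variable {X Y Z : Scheme.{u}} (i : Z ⟶ X) (j : Z ⟶ Y) [IsClosedImmersion i] [IsIntegralHom j]

theorem exists_chart_of_le_finite (U : X.Opens) (hU : IsAffineOpen U) (V₁ : Y.Opens)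
    (hV₁ : IsAffineOpen V₁) (hle : j ⁻¹ᵁ V₁ ≤ i ⁻¹ᵁ U) (E₁ : Set X) (E₂ : Set Y)
    (hfin₁ : E₁.Finite) (hfin₂ : E₂.Finite) (hE₁ : E₁ ⊆ (U : Set X)) (hE₂ : E₂ ⊆ (V₁ : Set Y))
    (hcompat : ∀ z : Z, i z ∈ E₁ ↔ j z ∈ E₂) :
    ∃ k : Chart i j, E₁ ⊆ (k.U : Set X) ∧ E₂ ⊆ (k.V : Set Y) := by
  haveI : IsAffine (U : Scheme.{u}) := hU
  haveI : IsAffine (V₁ : Scheme.{u}) := hV₁
  let W : Z.Opens := i ⁻¹ᵁ U
  let W₁ : Z.Opens := j ⁻¹ᵁ V₁
  let iU : (W : Scheme.{u}) ⟶ (U : Scheme.{u}) := i.resLE U W le_rfl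
  let jV : (W₁ : Scheme.{u}) ⟶ (V₁ : Scheme.{u}) := j.resLE V₁ W₁ le_rfl
  let ι₁ : (W₁ : Scheme.{u}) ⟶ (W : Scheme.{u}) := Z.homOfLE hle
  haveI : IsClosedImmersion iU := by
    have : iU = i ∣_ U := Scheme.Hom.resLE_eq_morphismRestrict i
    rw [this]
    infer_instance
  haveI : IsIntegralHom jV := by
    have : jV = j ∣_ V₁ := Scheme.Hom.resLE_eq_morphismRestrict j
    rw [this]
    infer_instance
  haveI : IsAffine (W : Scheme.{u}) := (IsClosedImmersion.isAffine_surjective_of_isAffine iU).1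
  have hsurj : Function.Surjective iU.appTop.hom :=
    (IsClosedImmersion.isAffine_surjective_of_isAffine iU).2
  haveI : IsAffine (W₁ : Scheme.{u}) := isAffine_of_isAffineHom jV
  have hq : jV.appTop.hom.IsIntegral := IsIntegralHom.isIntegral_app jV ⊤ (isAffineOpen_top _)
  have hiU : ∀ z : (W : Scheme.{u}), (iU z).1 = i z.1 := fun z =>
    Scheme.Hom.coe_resLE_apply _ _ _
  have hjV : ∀ z : (W₁ : Scheme.{u}), (jV z).1 = j z.1 := fun z =>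
    Scheme.Hom.coe_resLE_apply _ _ _
  have hι₁ : ∀ z : (W₁ : Scheme.{u}), (ι₁ z).1 = z.1 := fun z => Scheme.homOfLE_apply _ _
  -- the finite sets inside the affine schemes
  let F : Set (W : Scheme.{u}) := {z | i z.1 ∈ E₁}
  let E₁' : Set (U : Scheme.{u}) := {x | x.1 ∈ E₁}
  let E₂' : Set (V₁ : Scheme.{u}) := {y | y.1 ∈ E₂}
  have hF : F.Finite :=
    hfin₁.preimage (f := fun z : (W : Scheme.{u}) => i z.1)
      ((i.isClosedEmbedding.injective.comp Subtype.val_injective).injOn)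
  have hE₁' : E₁'.Finite := hfin₁.preimage Subtype.val_injective.injOn
  have hE₂' : E₂'.Finite := hfin₂.preimage Subtype.val_injective.injOn
  have hFrange : F ⊆ (ι₁.opensRange : Set (W : Scheme.{u})) := by
    intro z hz
    have h1 : j z.1 ∈ E₂ := (hcompat z.1).mp hz
    have hz₁ : z.1 ∈ W₁ := hE₂ h1
    exact ⟨⟨z.1, hz₁⟩, Subtype.ext (hι₁ _)⟩
  -- B1
  obtain ⟨t, htI, htF⟩ := avoid_finite ι₁.opensRange F hF hFrange
  -- B2
  have hclaim : ∀ y ∈ E₂', ¬ (Ideal.span {ι₁.appTop.hom t}).comap jV.appTop.hom ≤ pr y := by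
    intro y hy hle'
    letI : Algebra Γ((V₁ : Scheme.{u}), ⊤) Γ((W₁ : Scheme.{u}), ⊤) := jV.appTop.hom.toAlgebra
    haveI : Algebra.IsIntegral Γ((V₁ : Scheme.{u}), ⊤) Γ((W₁ : Scheme.{u}), ⊤) := ⟨hq⟩
    obtain ⟨Q, hQge, hQpr, hQ⟩ := Ideal.exists_ideal_over_prime_of_isIntegral
      (R := Γ((V₁ : Scheme.{u}), ⊤)) (S := Γ((W₁ : Scheme.{u}), ⊤)) (pr y)
      (Ideal.span {ι₁.appTop.hom t}) hle'
    haveI := hQpr
    obtain ⟨z₁, hz₁⟩ := exists_pr_eq (T := (W₁ : Scheme.{u})) Q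
    have hjz : jV z₁ = y := pr_injective (by rw [pr_map, hz₁]; exact hQ)
    have hF1 : ι₁ z₁ ∈ F := by
      show i (ι₁ z₁).1 ∈ E₁
      rw [hι₁, hcompat, ← hjV, hjz]
      exact hy
    have h2 := htF _ hF1
    rw [mem_basicOpen_iff, pr_map] at h2
    apply h2
    show ι₁.appTop.hom t ∈ pr z₁
    rw [hz₁]
    exact hQge (Ideal.subset_span rfl)
  obtain ⟨g, hgJ, hgE⟩ := avoid_finite_ideal _ E₂' hE₂' hclaim
  obtain ⟨c, hc⟩ := Ideal.mem_span_singleton'.mp (Ideal.mem_comap.mp hgJ)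
  -- B3
  obtain ⟨N, a, haI, haN⟩ := exists_pow_mul_eq_idealOf ι₁ t htI c
  have hI : t * a ∈ idealOf ι₁.opensRange := Ideal.mul_mem_left _ _ haI
  have hiff : ∀ 𝔭 : Ideal Γ((W₁ : Scheme.{u}), ⊤), 𝔭.IsPrime →
      (ι₁.appTop.hom (t * a) ∈ 𝔭 ↔ jV.appTop.hom g ∈ 𝔭) := by
    intro 𝔭 h𝔭
    have e1 : ι₁.appTop.hom (t * a) = ι₁.appTop.hom t ^ (N + 1) * c := by
      rw [map_mul, haN]; ring
    rw [e1, ← hc]
    constructor
    · intro h
      rcases h𝔭.mem_or_mem h with h3 | h3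
      · exact 𝔭.mul_mem_left _ (h𝔭.mem_of_pow_mem _ h3)
      · exact 𝔭.mul_mem_right _ h3
    · intro h
      rcases h𝔭.mem_or_mem h with h3 | h3
      · exact 𝔭.mul_mem_left _ h3
      · exact 𝔭.mul_mem_right _ (𝔭.pow_mem_of_mem h3 _ (Nat.succ_pos _))
  -- B4
  obtain ⟨h'₀, hh'₀⟩ := hsurj (t * a)
  obtain ⟨κ, hκ, hκE⟩ := avoid_finite_coset (RingHom.ker iU.appTop.hom) h'₀ E₁' hE₁'
  have hh' : iU.appTop.hom (h'₀ + κ) = t * a := by
    rw [map_add, hh'₀, (RingHom.mem_ker).mp hκ, add_zero]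
  have hE₁h : ∀ x ∈ E₁', x ∈ (U : Scheme.{u}).basicOpen (h'₀ + κ) := by
    intro x hx
    by_cases hK : RingHom.ker iU.appTop.hom ≤ pr x
    · obtain ⟨z, hz⟩ := exists_of_ker_le iU hsurj x hK
      have hzF : z ∈ F := by
        show i z.1 ∈ E₁
        rw [← hiU, hz]
        exact hx
      obtain ⟨z₁, hz₁⟩ := hFrange hzF
      have hz₁' : ι₁ z₁ = z := hz₁
      have hy : jV z₁ ∈ E₂' := by
        show (jV z₁).1 ∈ E₂
        rw [hjV, ← hcompat, ← hι₁, hz₁']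
        exact hzF
      have h3 := hgE _ hy
      rw [mem_basicOpen_iff, pr_map] at h3
      rw [mem_basicOpen_iff, ← hz, pr_map]
      show ¬ iU.appTop.hom (h'₀ + κ) ∈ pr z
      rw [hh', ← hz₁', pr_map]
      show ¬ ι₁.appTop.hom (t * a) ∈ pr z₁
      rw [hiff (pr z₁) inferInstance]
      exact h3
    · exact hκE x hx hK
  refine ⟨{ U := U.ι ''ᵁ ((U : Scheme.{u}).basicOpen (h'₀ + κ))
            V := V₁.ι ''ᵁ ((V₁ : Scheme.{u}).basicOpen g)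
            hU := ((isAffineOpen_top _).basicOpen _).image_of_isOpenImmersion U.ι
            hV := ((isAffineOpen_top _).basicOpen _).image_of_isOpenImmersion V₁.ι
            h := ?_ }, ?_, ?_⟩
  · refine preimage_eq_of_basic i j U V₁ hle (h'₀ + κ) g ?_ ?_
    · show iU.appTop.hom (h'₀ + κ) ∈ idealOf ι₁.opensRange
      rw [hh']
      exact hI
    · intro 𝔭 h𝔭
      show ι₁.appTop.hom (iU.appTop.hom (h'₀ + κ)) ∈ 𝔭 ↔ jV.appTop.hom g ∈ 𝔭
      rw [hh']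
      exact hiff 𝔭 h𝔭
  · intro x hx
    exact ⟨⟨x, hE₁ hx⟩, hE₁h ⟨x, hE₁ hx⟩ hx, rfl⟩
  · intro y hy
    exact ⟨⟨y, hE₂ hy⟩, hgE ⟨y, hE₂ hy⟩ hy, rfl⟩

end Groth.Agent.H49.Ferrand
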