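import Mathlib

/-!
# Pushout squares of schemes can be checked locally on the corner (helper49)
-/

set_option autoImplicit false
universe u
open CategoryTheory CategoryTheory.Limits AlgebraicGeometry

namespace Groth.Agent.H49.LocalPushout

variable {X Y Z P : Scheme.{u}} {i : Z ⟶ X} {j : Z ⟶ Y} {a : X ⟶ P} {b : Y ⟶ P}

section restr

variable {O : Scheme.{u}} (f : O ⟶ P)

/-- the restriction of `i` over `f` -/
noncomputable def iR (i : Z ⟶ X) (a : X ⟶ P) : pullback (i ≫ a) f ⟶ pullback a f :=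
  pullback.map (i ≫ a) f a f i (𝟙 O) (𝟙 P) (by simp) (by simp)

/-- the restriction of `j` over `f` -/
noncomputable def jR (w : i ≫ a = j ≫ b) : pullback (i ≫ a) f ⟶ pullback b f :=
  pullback.map (i ≫ a) f b f j (𝟙 O) (𝟙 P) (by rw [Category.comp_id, w]) (by simp)

@[reassoc]
lemma iR_snd : iR f i a ≫ pullback.snd a f = pullback.snd (i ≫ a) f := by
  show pullback.lift _ _ _ ≫ pullback.snd a f = _
  rw [pullback.lift_snd, Category.comp_id]

@[reassoc]
lemma iR_fst : iR f i a ≫ pullback.fst a f = pullback.fst (i ≫ a) f ≫ i := by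
  show pullback.lift _ _ _ ≫ pullback.fst a f = _
  rw [pullback.lift_fst]

@[reassoc]
lemma jR_snd (w : i ≫ a = j ≫ b) : jR f w ≫ pullback.snd b f = pullback.snd (i ≫ a) f := by
  show pullback.lift _ _ _ ≫ pullback.snd b f = _
  rw [pullback.lift_snd, Category.comp_id]

@[reassoc]
lemma jR_fst (w : i ≫ a = j ≫ b) : jR f w ≫ pullback.fst b f = pullback.fst (i ≫ a) f ≫ j := by
  show pullback.lift _ _ _ ≫ pullback.fst b f = _
  rw [pullback.lift_fst]

end restr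

variable (w : i ≫ a = j ≫ b) (𝒰 : P.OpenCover) [Category 𝒰.I₀] [𝒰.LocallyDirected]
  (hloc : ∀ α, IsPushout (iR (𝒰.f α) i a) (jR (𝒰.f α) w) (pullback.snd a (𝒰.f α))
    (pullback.snd b (𝒰.f α)))

section desc

variable {T : Scheme.{u}} (α' : X ⟶ T) (β' : Y ⟶ T) (hαβ : i ≫ α' = j ≫ β')

include hαβ in
lemma desc_cond (α : 𝒰.I₀) :
    iR (𝒰.f α) i a ≫ pullback.fst a (𝒰.f α) ≫ α' =
      jR (𝒰.f α) w ≫ pullback.fst b (𝒰.f α) ≫ β' := by
  rw [iR_fst_assoc, jR_fst_assoc, hαβ]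

/-- the local descended maps -/
noncomputable def γl (α : 𝒰.I₀) : 𝒰.X α ⟶ T :=
  (hloc α).desc (pullback.fst a (𝒰.f α) ≫ α') (pullback.fst b (𝒰.f α) ≫ β')
    (desc_cond w 𝒰 α' β' hαβ α)

lemma snd_γl (α : 𝒰.I₀) :
    pullback.snd a (𝒰.f α) ≫ γl w 𝒰 hloc α' β' hαβ α = pullback.fst a (𝒰.f α) ≫ α' :=
  (hloc α).inl_desc _ _ _

lemma snd_γl' (α : 𝒰.I₀) :
    pullback.snd b (𝒰.f α) ≫ γl w 𝒰 hloc α' β' hαβ α = pullback.fst b (𝒰.f α) ≫ β' :=
  (hloc α).inr_desc _ _ _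

lemma trans_γl {α β : 𝒰.I₀} (hαβ' : α ⟶ β) :
    𝒰.trans hαβ' ≫ γl w 𝒰 hloc α' β' hαβ β = γl w 𝒰 hloc α' β' hαβ α := by
  apply (hloc α).hom_ext
  · rw [snd_γl]
    have e : pullback.snd a (𝒰.f α) ≫ 𝒰.trans hαβ' =
        pullback.map a (𝒰.f α) a (𝒰.f β) (𝟙 X) (𝒰.trans hαβ') (𝟙 P) (by simp) (by simp) ≫
          pullback.snd a (𝒰.f β) := by
      show _ = pullback.lift _ _ _ ≫ pullback.snd a (𝒰.f β)
      rw [pullback.lift_snd]
    rw [← Category.assoc, e, Category.assoc, snd_γl, ← Category.assoc]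
    congr 1
    show pullback.lift _ _ _ ≫ pullback.fst a (𝒰.f β) = _
    rw [pullback.lift_fst, Category.comp_id]
  · rw [snd_γl']
    have e : pullback.snd b (𝒰.f α) ≫ 𝒰.trans hαβ' =
        pullback.map b (𝒰.f α) b (𝒰.f β) (𝟙 Y) (𝒰.trans hαβ') (𝟙 P) (by simp) (by simp) ≫
          pullback.snd b (𝒰.f β) := by
      show _ = pullback.lift _ _ _ ≫ pullback.snd b (𝒰.f β)
      rw [pullback.lift_snd]
    rw [← Category.assoc, e, Category.assoc, snd_γl', ← Category.assoc]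
    congr 1
    show pullback.lift _ _ _ ≫ pullback.fst b (𝒰.f β) = _
    rw [pullback.lift_fst, Category.comp_id]

/-- the glued descended map -/
noncomputable def γg : P ⟶ T :=
  𝒰.glueMorphismsOfLocallyDirected (fun α => γl w 𝒰 hloc α' β' hαβ α)
    (fun hαβ' => trans_γl w 𝒰 hloc α' β' hαβ hαβ')

lemma f_γg (α : 𝒰.I₀) : 𝒰.f α ≫ γg w 𝒰 hloc α' β' hαβ = γl w 𝒰 hloc α' β' hαβ α :=
  Scheme.OpenCover.map_glueMorphismsOfLocallyDirected 𝒰 _ _ α

lemma a_γg : a ≫ γg w 𝒰 hloc α' β' hαβ = α' := by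
  refine Scheme.Cover.hom_ext (𝒰.pullback₁ a) _ _ fun α => ?_
  show pullback.fst a (𝒰.f α) ≫ a ≫ γg w 𝒰 hloc α' β' hαβ = pullback.fst a (𝒰.f α) ≫ α'
  rw [← Category.assoc, pullback.condition, Category.assoc, f_γg, snd_γl]

lemma b_γg : b ≫ γg w 𝒰 hloc α' β' hαβ = β' := by
  refine Scheme.Cover.hom_ext (𝒰.pullback₁ b) _ _ fun α => ?_
  show pullback.fst b (𝒰.f α) ≫ b ≫ γg w 𝒰 hloc α' β' hαβ = pullback.fst b (𝒰.f α) ≫ β'
  rw [← Category.assoc, pullback.condition, Category.assoc, f_γg, snd_γl']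

lemma γg_uniq (m : P ⟶ T) (h1 : a ≫ m = α') (h2 : b ≫ m = β') :
    m = γg w 𝒰 hloc α' β' hαβ := by
  refine Scheme.Cover.hom_ext 𝒰 _ _ fun α => ?_
  rw [f_γg]
  apply (hloc α).hom_ext
  · rw [snd_γl, ← Category.assoc, ← pullback.condition, Category.assoc, h1]
  · rw [snd_γl', ← Category.assoc, ← pullback.condition, Category.assoc, h2]

end desc

include hloc in
/-- a commutative square of schemes which is a pushout square over each member of a locally
directed open cover of the corner is a pushout square -/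
theorem isPushout_of_local : IsPushout i j a b :=
  ⟨⟨w⟩, ⟨PushoutCocone.IsColimit.mk _
    (fun s => γg w 𝒰 hloc s.inl s.inr s.condition)
    (fun s => a_γg w 𝒰 hloc s.inl s.inr s.condition)
    (fun s => b_γg w 𝒰 hloc s.inl s.inr s.condition)
    (fun s m h1 h2 => γg_uniq w 𝒰 hloc s.inl s.inr s.condition m h1 h2)⟩⟩

end Groth.Agent.H49.LocalPushout
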