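import Groth.Agent.H49.FerrandFT
import Groth.Agent.H49.MilnorFlat2
import Groth.Agent.H49.AffinePushout
import Groth.Agent.H49.LocalPushout
import Groth.Agent.H49.BasisCover

/-!
# Ferrand pushouts commute with flat base change (helper49)
-/

set_option autoImplicit false
universe u
open CategoryTheory CategoryTheory.Limits AlgebraicGeometry

namespace Groth.Agent.H49.Ferrand

open Groth.Agent.H24 Chart

section paste

variable {X₀ T Pk P F X' O : Scheme.{u}} {ιT : T ⟶ X₀} {aT : T ⟶ Pk} {aGl : X₀ ⟶ P}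
  {ιk : Pk ⟶ P} (t : IsPullback ιT aT aGl ιk) {pX : X' ⟶ X₀} {a' : X' ⟶ F} {q : F ⟶ P}
  (hX' : IsPullback pX a' aGl q) (f : O ⟶ F) (g : O ⟶ Pk) (hg : g ≫ ιk = f ≫ q)

/-- the map from the restriction of a base change to the chart -/
noncomputable def lft : pullback a' f ⟶ T :=
  t.lift (pullback.fst a' f ≫ pX) (pullback.snd a' f ≫ g) (by
    rw [Category.assoc, hX'.w, ← Category.assoc, pullback.condition, Category.assoc,
      Category.assoc, hg])

lemma lft_ι : lft t hX' f g hg ≫ ιT = pullback.fst a' f ≫ pX := t.lift_fst _ _ _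

lemma lft_a : lft t hX' f g hg ≫ aT = pullback.snd a' f ≫ g := t.lift_snd _ _ _

lemma isPullback_lft : IsPullback (lft t hX' f g hg) (pullback.snd a' f) aT g := by
  have h1 : IsPullback (pullback.fst a' f ≫ pX) (pullback.snd a' f) aGl (f ≫ q) :=
    (IsPullback.of_hasPullback a' f).paste_horiz hX'
  rw [← hg, ← lft_ι t hX' f g hg] at h1
  exact IsPullback.of_right h1 (lft_a t hX' f g hg) t

end paste

section transport

variable {C C₂ B A' A : Type u} [CommRing C] [CommRing C₂] [CommRing B] [CommRing A']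
  [CommRing A]

lemma milnorSq_comp_equiv {fst : C →+* B} {snd : C →+* A'} {q : B →+* A} {p : A' →+* A}
    (hM : MilnorSq fst snd q p) (e : C₂ ≃+* C) :
    MilnorSq (fst.comp e.toRingHom) (snd.comp e.toRingHom) q p := by
  refine ⟨fun c => hM.comm (e c), hM.surj, ?_, ?_⟩
  · intro b a' hba
    obtain ⟨c, hc1, hc2⟩ := hM.ex b a' hba
    refine ⟨e.symm c, ?_, ?_⟩
    · show fst (e (e.symm c)) = b
      rw [RingEquiv.apply_symm_apply, hc1]
    · show snd (e (e.symm c)) = a'
      rw [RingEquiv.apply_symm_apply, hc2]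
  · intro c c' h1 h2
    exact e.injective (hM.inj (e c) (e c') h1 h2)

end transport

variable {X Y Z : Scheme.{u}} {i : Z ⟶ X} {j : Z ⟶ Y} [IsClosedImmersion i] [IsIntegralHom j]

lemma milnor_appTop (k : Chart i j) :
    MilnorSq k.b.appTop.hom k.a.appTop.hom k.jk.appTop.hom k.ik.appTop.hom := by
  have h := milnorSq_comp_equiv k.milnor
    (Scheme.ΓSpecIso (CommRingCat.of k.RC)).commRingCatIsoToRingEquiv
  have e1 : k.b.appTop.hom = k.fstC.comp
      (Scheme.ΓSpecIso (CommRingCat.of k.RC)).commRingCatIsoToRingEquiv.toRingHom := by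
    rw [b_appTop]
    rfl
  have e2 : k.a.appTop.hom = k.sndC.comp
      (Scheme.ΓSpecIso (CommRingCat.of k.RC)).commRingCatIsoToRingEquiv.toRingHom := by
    rw [a_appTop]
    rfl
  rw [e1, e2]
  exact h

variable (hc : Covers i j)

lemma isPullback_cG (k : Chart i j) : IsPullback k.W.ι (k.ik ≫ k.a) (i ≫ aG hc) (ιP k) := by
  have hik : k.ik = i ∣_ k.U := Scheme.Hom.resLE_eq_morphismRestrict i
  have hp : IsPullback k.W.ι k.ik i k.U.ι := by
    rw [hik]
    exact (isPullback_morphismRestrict i k.U).flip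
  exact hp.paste_vert (isPullback_aG hc k)

end Groth.Agent.H49.Ferrand
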