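import Groth.Agent.H49.FerrandFlat

/-!
# Ferrand pushouts commute with flat base change: the main theorem (helper49)
-/

set_option autoImplicit false
universe u
open CategoryTheory CategoryTheory.Limits AlgebraicGeometry

namespace Groth.Agent.H49.Ferrand

open Groth.Agent.H24 Chart Groth.Agent.H49.LocalPushout

variable {X Y Z : Scheme.{u}} {i : Z ⟶ X} {j : Z ⟶ Y} [IsClosedImmersion i] [IsIntegralHom j]
  (hc : Covers i j)

section local_

variable {F X' Y' Z' : Scheme.{u}} (q : F ⟶ Pglue i j)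
  {pX : X' ⟶ X} {a' : X' ⟶ F} (hX' : IsPullback pX a' (aG hc) q)
  {pY : Y' ⟶ Y} {b' : Y' ⟶ F} (hY' : IsPullback pY b' (bG hc) q)
  {pZ : Z' ⟶ Z} {i' : Z' ⟶ X'} {j' : Z' ⟶ Y'} (hZ' : IsPullback pZ (i' ≫ a') (i ≫ aG hc) q)
  (hi' : i' ≫ pX = pZ ≫ i) (hj' : j' ≫ pY = pZ ≫ j) (w' : i' ≫ a' = j' ≫ b')

include hX' hY' hZ' hi' hj' in
/-- the restricted square over an affine scheme mapping flatly into a chart is a pushout -/
theorem local_isPushout {O : Scheme.{u}} [IsAffine O] (f : O ⟶ F) (k : Chart i j)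
    (g : O ⟶ k.P) (hg : g ≫ ιP k = f ≫ q) [Flat g] :
    IsPushout (iR f i' a') (jR f w') (pullback.snd a' f) (pullback.snd b' f) := by
  have pbU := isPullback_lft (isPullback_aG hc k) hX' f g hg
  have pbV := isPullback_lft (isPullback_bG hc k) hY' f g hg
  have pbW := isPullback_lft (isPullback_cG hc k) hZ' f g hg
  haveI : IsAffine (pullback a' f) := .of_isIso pbU.isoPullback.hom
  haveI : IsAffine (pullback b' f) := .of_isIso pbV.isoPullback.hom
  haveI : IsAffine (pullback (i' ≫ a') f) := .of_isIso pbW.isoPullback.hom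
  -- compatibilities
  have hcU : iR f i' a' ≫ lft (isPullback_aG hc k) hX' f g hg =
      lft (isPullback_cG hc k) hZ' f g hg ≫ k.ik := by
    rw [← cancel_mono k.U.ι, Category.assoc, Category.assoc, lft_ι, iR_fst_assoc, k.ik_ι,
      ← Category.assoc (lft _ _ _ _ _), lft_ι, Category.assoc, hi']
  have hcV : jR f w' ≫ lft (isPullback_bG hc k) hY' f g hg =
      lft (isPullback_cG hc k) hZ' f g hg ≫ k.jk := by
    rw [← cancel_mono k.V.ι, Category.assoc, Category.assoc, lft_ι, jR_fst_assoc, k.jk_ι,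
      ← Category.assoc (lft _ _ _ _ _), lft_ι, Category.assoc, hj']
  have hw'' : iR f i' a' ≫ pullback.snd a' f = jR f w' ≫ pullback.snd b' f := by
    rw [iR_snd, jR_snd]
  -- ring pushouts
  have rB := (AffinePushout.isPushout_appTop_of_isPullback pbV).flip
  have rA' := (AffinePushout.isPushout_appTop_of_isPullback pbU).flip
  have rA0 := (AffinePushout.isPushout_appTop_of_isPullback pbW).flip
  have rA : IsPushout g.appTop (k.a.appTop ≫ k.ik.appTop)
      ((pullback.snd a' f).appTop ≫ (iR f i' a').appTop)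
      (lft (isPullback_cG hc k) hZ' f g hg).appTop := by
    rw [← Scheme.Hom.comp_appTop, ← Scheme.Hom.comp_appTop, iR_snd]
    exact rA0
  have hflat : g.appTop.hom.Flat := Scheme.Hom.flat_appTop g
  have hM := MilnorFlat.milnorSq_of_flat_of_isPushout (milnor_appTop k) g.appTop hflat rB rA' rA
    (by rw [← Scheme.Hom.comp_appTop, ← Scheme.Hom.comp_appTop, hcV])
    (by rw [← Scheme.Hom.comp_appTop, ← Scheme.Hom.comp_appTop, hcU])
    (by rw [← Scheme.Hom.comp_appTop, ← Scheme.Hom.comp_appTop, hw''])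
  exact AffinePushout.isPushout_of_affine_milnorSq _ _ _ _ hw'' hM

end local_

section global

variable {F X' Y' Z' : Scheme.{u}} (q : F ⟶ Pglue i j) [Flat q]
  {pX : X' ⟶ X} {a' : X' ⟶ F} (hX' : IsPullback pX a' (aG hc) q)
  {pY : Y' ⟶ Y} {b' : Y' ⟶ F} (hY' : IsPullback pY b' (bG hc) q)
  {pZ : Z' ⟶ Z} {i' : Z' ⟶ X'} {j' : Z' ⟶ Y'} (hZ' : IsPullback pZ (i' ≫ a') (i ≫ aG hc) q)
  (hi' : i' ≫ pX = pZ ≫ i) (hj' : j' ≫ pY = pZ ≫ j) (w' : i' ≫ a' = j' ≫ b')

/-- the affine opens of `F` mapping into a chart -/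
def goodOpens : Set F.Opens :=
  {O | IsAffineOpen O ∧ ∃ k : Chart i j, (O : Set F) ⊆ q ⁻¹' (Set.range (ιP k))}

omit [Flat q] in
lemma isGood_goodOpens : BasisCover.IsGood (goodOpens q) := by
  constructor
  · intro x
    obtain ⟨k, y, hy⟩ := ιP_jointly_surjective (q x)
    have hx : x ∈ (q ⁻¹ᵁ (ιP k).opensRange : F.Opens) := ⟨y, hy⟩
    obtain ⟨_, ⟨O, hO, rfl⟩, hxO, hOsub⟩ :=
      F.isBasis_affineOpens.exists_subset_of_mem_open hx (q ⁻¹ᵁ (ιP k).opensRange).isOpen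
    exact ⟨O, ⟨hO, k, hOsub⟩, hxO⟩
  · rintro O₁ ⟨hO₁, k₁, hk₁⟩ O₂ ⟨hO₂, k₂, hk₂⟩ x hx₁ hx₂
    obtain ⟨_, ⟨O, hO, rfl⟩, hxO, hOsub⟩ :=
      F.isBasis_affineOpens.exists_subset_of_mem_open (show x ∈ (O₁ ⊓ O₂ : F.Opens) from
        ⟨hx₁, hx₂⟩) (O₁ ⊓ O₂).isOpen
    exact ⟨O, ⟨hO, k₁, fun y hy => hk₁ (hOsub hy).1⟩, hxO, fun y hy => (hOsub hy).1,
      fun y hy => (hOsub hy).2⟩

include hX' hY' hZ' hi' hj' w' in
/-- **Ferrand pushouts commute with flat base change.** -/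
theorem isPushout_baseChange : IsPushout i' j' a' b' := by
  refine isPushout_of_local w' (BasisCover.cover (isGood_goodOpens (i := i) (j := j) q)) ?_
  rintro ⟨O, hO, k, hk⟩
  show IsPushout (iR O.ι i' a') (jR O.ι w') (pullback.snd a' O.ι) (pullback.snd b' O.ι)
  haveI : IsAffine (O : Scheme.{u}) := hO
  have hrange : Set.range (O.ι ≫ q) ⊆ Set.range (ιP k) := by
    rintro _ ⟨y, rfl⟩
    exact hk y.2
  let g : (O : Scheme.{u}) ⟶ k.P := IsOpenImmersion.lift (ιP k) (O.ι ≫ q) hrange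
  have hg : g ≫ ιP k = O.ι ≫ q := IsOpenImmersion.lift_fac _ _ _
  haveI : Flat (g ≫ ιP k) := by rw [hg]; infer_instance
  haveI : Flat g := MorphismProperty.of_postcomp (W := @Flat) (W' := @IsOpenImmersion) g (ιP k)
    inferInstance inferInstance
  exact local_isPushout hc q hX' hY' hZ' hi' hj' w' O.ι k g hg

end global

end Groth.Agent.H49.Ferrand
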