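import Groth.Agent.H49.FerrandFlat2

/-!
# Flat base change of an arbitrary Ferrand pushout (helper49)
-/

set_option autoImplicit false
universe u
open CategoryTheory CategoryTheory.Limits AlgebraicGeometry

namespace Groth.Agent.H49.Ferrand

variable {X Y Z : Scheme.{u}} {i : Z ⟶ X} {j : Z ⟶ Y} [IsClosedImmersion i] [IsIntegralHom j]

/-- **Pushouts of a closed immersion and an integral morphism commute with flat base change**
(for any pushout of the pair, under the affineness condition). -/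
theorem isPushout_baseChange_of_isPushout (hc : Covers i j) {P : Scheme.{u}} {a : X ⟶ P}
    {b : Y ⟶ P} (hP : IsPushout i j a b) {F X' Y' Z' : Scheme.{u}} (q : F ⟶ P) [Flat q]
    {pX : X' ⟶ X} {a' : X' ⟶ F} (hX' : IsPullback pX a' a q)
    {pY : Y' ⟶ Y} {b' : Y' ⟶ F} (hY' : IsPullback pY b' b q)
    {pZ : Z' ⟶ Z} {i' : Z' ⟶ X'} {j' : Z' ⟶ Y'} (hZ' : IsPullback pZ (i' ≫ a') (i ≫ a) q)
    (hi' : i' ≫ pX = pZ ≫ i) (hj' : j' ≫ pY = pZ ≫ j) (w' : i' ≫ a' = j' ≫ b') :
    IsPushout i' j' a' b' := by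
  obtain ⟨e, h1, h2⟩ := exists_iso_of_isPushout hc hP
  have h1' : a ≫ e.inv = aG hc := by rw [← h1, Category.assoc, e.hom_inv_id, Category.comp_id]
  have h2' : b ≫ e.inv = bG hc := by rw [← h2, Category.assoc, e.hom_inv_id, Category.comp_id]
  have hX'' : IsPullback pX a' (aG hc) (q ≫ e.inv) :=
    IsPullback.of_iso hX' (Iso.refl _) (Iso.refl _) (Iso.refl _) e.symm (by simp) (by simp)
      (by simp [h1']) (by simp)
  have hY'' : IsPullback pY b' (bG hc) (q ≫ e.inv) :=
    IsPullback.of_iso hY' (Iso.refl _) (Iso.refl _) (Iso.refl _) e.symm (by simp) (by simp)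
      (by simp [h2']) (by simp)
  have hZ'' : IsPullback pZ (i' ≫ a') (i ≫ aG hc) (q ≫ e.inv) :=
    IsPullback.of_iso hZ' (Iso.refl _) (Iso.refl _) (Iso.refl _) e.symm (by simp) (by simp)
      (by simp [h1']) (by simp)
  exact isPushout_baseChange hc (q ≫ e.inv) hX'' hY'' hZ'' hi' hj' w'

end Groth.Agent.H49.Ferrand
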