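import Groth.Agent.H49.FerrandFlat3

/-!
# Flat base change of Ferrand pushouts, in the `Over.pullback` form (helper49)
-/

set_option autoImplicit false
universe u
open CategoryTheory CategoryTheory.Limits AlgebraicGeometry

namespace Groth.Agent.H49.Ferrand

variable {X Y Z : Scheme.{u}} {i : Z ⟶ X} {j : Z ⟶ Y} [IsClosedImmersion i] [IsIntegralHom j]

theorem isPushout_overPullback (hc : Covers i j) {P : Scheme.{u}} {a : X ⟶ P}
    {b : Y ⟶ P} (hP : IsPushout i j a b) {F : Scheme.{u}} (q : F ⟶ P) [Flat q] :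
    IsPushout ((Over.pullback q).map (Over.homMk i rfl : Over.mk (i ≫ a) ⟶ Over.mk a)).left
      ((Over.pullback q).map (Over.homMk j hP.w.symm : Over.mk (i ≫ a) ⟶ Over.mk b)).left
      ((Over.pullback q).obj (Over.mk a)).hom ((Over.pullback q).obj (Over.mk b)).hom := by
  have hX' : IsPullback (pullback.fst a q) (pullback.snd a q) a q := IsPullback.of_hasPullback a q
  have hY' : IsPullback (pullback.fst b q) (pullback.snd b q) b q := IsPullback.of_hasPullback b q
  have hi1 : ((Over.pullback q).map (Over.homMk i rfl : Over.mk (i ≫ a) ⟶ Over.mk a)).left ≫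
      pullback.snd a q = pullback.snd (i ≫ a) q := pullback.lift_snd _ _ _
  have hi2 : ((Over.pullback q).map (Over.homMk i rfl : Over.mk (i ≫ a) ⟶ Over.mk a)).left ≫
      pullback.fst a q = pullback.fst (i ≫ a) q ≫ i := pullback.lift_fst _ _ _
  have hj1 : ((Over.pullback q).map (Over.homMk j hP.w.symm : Over.mk (i ≫ a) ⟶ Over.mk b)).left ≫
      pullback.snd b q = pullback.snd (i ≫ a) q := pullback.lift_snd _ _ _
  have hj2 : ((Over.pullback q).map (Over.homMk j hP.w.symm : Over.mk (i ≫ a) ⟶ Over.mk b)).left ≫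
      pullback.fst b q = pullback.fst (i ≫ a) q ≫ j := pullback.lift_fst _ _ _
  have hZ' : IsPullback (pullback.fst (i ≫ a) q)
      (((Over.pullback q).map (Over.homMk i rfl : Over.mk (i ≫ a) ⟶ Over.mk a)).left ≫
        pullback.snd a q) (i ≫ a) q := by
    rw [hi1]
    exact IsPullback.of_hasPullback (i ≫ a) q
  exact isPushout_baseChange_of_isPushout hc hP q hX' hY' hZ' hi2 hj2 (hi1.trans hj1.symm)

end Groth.Agent.H49.Ferrand
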