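import Groth.Agent.H49.FerrandFlat4

/-!
# Pinching along closed immersions commutes with flat base change, over a base (helper49)
-/

set_option autoImplicit false
universe u
open CategoryTheory CategoryTheory.Limits AlgebraicGeometry

namespace Groth.Agent.H49.Ferrand

section overS

variable {S S' : Scheme.{u}} (g : S' ⟶ S)

lemma overPullback_map_left_fst {A B : Over S} (φ : A ⟶ B) :
    ((Over.pullback g).map φ).left ≫ pullback.fst B.hom g = pullback.fst A.hom g ≫ φ.left :=
  pullback.lift_fst _ _ _

lemma overPullback_map_left_snd {A B : Over S} (φ : A ⟶ B) :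
    ((Over.pullback g).map φ).left ≫ pullback.snd B.hom g = pullback.snd A.hom g :=
  pullback.lift_snd _ _ _

lemma isPullback_overPullback_map {A B : Over S} (φ : A ⟶ B) :
    IsPullback (pullback.fst A.hom g) ((Over.pullback g).map φ).left φ.left
      (pullback.fst B.hom g) := by
  have big : IsPullback (pullback.fst A.hom g) (pullback.snd A.hom g) A.hom g :=
    IsPullback.of_hasPullback A.hom g
  have t : IsPullback (pullback.fst B.hom g) (pullback.snd B.hom g) B.hom g :=
    IsPullback.of_hasPullback B.hom g
  have s : IsPullback (pullback.fst A.hom g)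
      (((Over.pullback g).map φ).left ≫ pullback.snd B.hom g) (φ.left ≫ B.hom) g := by
    rw [overPullback_map_left_snd, Over.w φ]
    exact big
  exact IsPullback.of_bot s (overPullback_map_left_fst g φ).symm t

end overS

/-- **Pinching along a closed subscheme commutes with flat base change** -/
theorem isPushout_over_baseChange {S S' : Scheme.{u}} (g : S' ⟶ S) [Flat g]
    {Y X₁ X₂ X : Over S} (θ₁ : Y ⟶ X₁) (θ₂ : Y ⟶ X₂) [IsClosedImmersion θ₁.left]
    [IsClosedImmersion θ₂.left] (φ₁ : X₁ ⟶ X) (φ₂ : X₂ ⟶ X) (hX : IsPushout θ₁ θ₂ φ₁ φ₂) :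
    IsPushout ((Over.pullback g).map θ₁) ((Over.pullback g).map θ₂)
      ((Over.pullback g).map φ₁) ((Over.pullback g).map φ₂) := by
  haveI : PreservesColimitsOfSize.{0, 0} (Over.forget S) :=
    (Over.forgetAdjStar S).leftAdjoint_preservesColimits
  have hXs : IsPushout θ₁.left θ₂.left φ₁.left φ₂.left := hX.map (Over.forget S)
  haveI : IsIntegralHom θ₂.left := inferInstance
  have hc := covers_of_haff θ₁.left θ₂.left (haff_of_isClosedImmersion θ₁.left θ₂.left)
  have e : (Over.pullback g).map θ₁ ≫ (Over.pullback g).map φ₁ =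
      (Over.pullback g).map θ₂ ≫ (Over.pullback g).map φ₂ := by
    rw [← Functor.map_comp, ← Functor.map_comp, hX.w]
  refine IsPushout.of_map (Over.forget S') e ?_
  show IsPushout ((Over.pullback g).map θ₁).left ((Over.pullback g).map θ₂).left
    ((Over.pullback g).map φ₁).left ((Over.pullback g).map φ₂).left
  haveI : Flat (pullback.fst X.hom g) := inferInstance
  have hZ' : IsPullback (pullback.fst Y.hom g)
      (((Over.pullback g).map θ₁).left ≫ ((Over.pullback g).map φ₁).left)
      (θ₁.left ≫ φ₁.left) (pullback.fst X.hom g) := by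
    have := isPullback_overPullback_map g (θ₁ ≫ φ₁)
    rw [Functor.map_comp] at this
    exact this
  exact isPushout_baseChange_of_isPushout hc hXs (pullback.fst X.hom g)
    (isPullback_overPullback_map g φ₁) (isPullback_overPullback_map g φ₂) hZ'
    (overPullback_map_left_fst g θ₁) (overPullback_map_left_fst g θ₂)
    (congrArg (fun ψ : (Over.pullback g).obj Y ⟶ (Over.pullback g).obj X => ψ.left) e)

end Groth.Agent.H49.Ferrand
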