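import Mathlib

/-!
# Flatness of the cokernel of a faithfully flat ring map, and of kernels (helper49)
-/

set_option autoImplicit false
universe u

namespace Groth.Agent.H49.FlatCoker

open TensorProduct

section cokerFF

variable {A B : Type u} [CommRing A] [CommRing B] [Algebra A B] [Module.FaithfullyFlat A B]

/-- the cokernel of a faithfully flat ring map is flat -/
theorem flat_coker_of_faithfullyFlat :
    Module.Flat A (B ⧸ LinearMap.range (Algebra.linearMap A B)) := by
  let I : Submodule A B := LinearMap.range (Algebra.linearMap A B)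
  let π : B →ₗ[A] B ⧸ I := I.mkQ
  let u : A →ₗ[A] B := Algebra.linearMap A B
  have hπ : Function.Surjective π := I.mkQ_surjective
  have hex : Function.Exact u π := by
    intro b
    exact Submodule.Quotient.mk_eq_zero I
  have hπ1 : π 1 = 0 := (hex 1).mpr ⟨1, by simp [u]⟩
  show Module.Flat A (B ⧸ I)
  rw [Module.Flat.iff_lTensor_preserves_injective_linearMap]
  intro N P _ _ _ _ f hf
  rw [injective_iff_map_eq_zero]
  intro m hm
  obtain ⟨b, rfl⟩ := LinearMap.rTensor_surjective N hπ m
  have hcomm : (f.lTensor (B ⧸ I)) ((π.rTensor N) b) = (π.rTensor P) ((f.lTensor B) b) := by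
    rw [← LinearMap.comp_apply, ← LinearMap.comp_apply, LinearMap.lTensor_comp_rTensor,
      LinearMap.rTensor_comp_lTensor]
  rw [hcomm] at hm
  have hexP : Function.Exact (u.rTensor P) (π.rTensor P) := rTensor_exact P hex hπ
  obtain ⟨w, hw⟩ := (hexP _).mp hm
  let l : P := TensorProduct.lid A P w
  have hwl : (u.rTensor P) w = TensorProduct.mk A B P 1 l := by
    have h1 : w = (1 : A) ⊗ₜ[A] l := by
      rw [← (TensorProduct.lid A P).symm_apply_apply w]
      rfl
    rw [h1]
    simp [u]
  let ρ : P →ₗ[A] P ⧸ LinearMap.range f := (LinearMap.range f).mkQ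
  have hρf : ρ ∘ₗ f = 0 := LinearMap.range_mkQ_comp f
  have h0 : (ρ.lTensor B) ((f.lTensor B) b) = 0 := by
    rw [← LinearMap.comp_apply, ← LinearMap.lTensor_comp, hρf, LinearMap.lTensor_zero]
    rfl
  rw [← hw, hwl] at h0
  have h1 : TensorProduct.mk A B (P ⧸ LinearMap.range f) 1 (ρ l) = 0 := by
    simpa using h0
  have hl : ρ l = 0 := by
    have hinj := Module.FaithfullyFlat.tensorProduct_mk_injective (A := A) (B := B)
      (P ⧸ LinearMap.range f)
    exact hinj (by rw [h1, map_zero])
  obtain ⟨n, hn⟩ : l ∈ LinearMap.range f := (Submodule.Quotient.mk_eq_zero _).mp hl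
  have hb : b = TensorProduct.mk A B N 1 n := by
    apply Module.Flat.lTensor_preserves_injective_linearMap (M := B) f hf
    rw [← hw, hwl, ← hn]
    simp
  rw [hb]
  simp [hπ1]

end cokerFF

section kernel

variable {R K F M : Type u} [CommRing R] [AddCommGroup K] [AddCommGroup F] [AddCommGroup M]
  [Module R K] [Module R F] [Module R M]

/-- the kernel of a surjection of flat modules is flat -/
theorem flat_of_exact_of_flat (g : K →ₗ[R] F) (hg : Function.Injective g) (f : F →ₗ[R] M)
    (hf : Function.Surjective f) (H : Function.Exact g f) [Module.Flat R F] [Module.Flat R M] :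
    Module.Flat R K := by
  rw [Module.Flat.iff_lTensor_preserves_injective_linearMap]
  intro N P _ _ _ _ φ hφ
  have h1 : ∀ (L : Type u) [AddCommGroup L] [Module R L], Function.Injective (g.rTensor L) := by
    intro L _ _
    rw [← LinearMap.lTensor_inj_iff_rTensor_inj]
    exact LinearMap.lTensor_injective_of_exact_of_flat f hf g hg H L
  have h2 : Function.Injective (φ.lTensor F) :=
    Module.Flat.lTensor_preserves_injective_linearMap φ hφ
  have hcomm : (g.rTensor P) ∘ₗ (φ.lTensor K) = (φ.lTensor F) ∘ₗ (g.rTensor N) := by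
    rw [LinearMap.rTensor_comp_lTensor, LinearMap.lTensor_comp_rTensor]
  have h3 : Function.Injective ((g.rTensor P) ∘ₗ (φ.lTensor K)) := by
    rw [hcomm, LinearMap.coe_comp]
    exact h2.comp (h1 N)
  rw [LinearMap.coe_comp] at h3
  exact Function.Injective.of_comp h3

end kernel

end Groth.Agent.H49.FlatCoker
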