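import Groth.Agent.H49.FerrandBC
import Groth.Agent.H49.FlatCoker

/-!
# Pushouts along a faithfully flat finite morphism: flatness over a base and universal
injectivity of charts (helper49)
-/

set_option autoImplicit false
universe u
open CategoryTheory CategoryTheory.Limits AlgebraicGeometry

namespace Groth.Agent.H49.Ferrand

open Groth.Agent.H24 Chart

variable {X Y Z : Scheme.{u}} {i : Z ⟶ X} {j : Z ⟶ Y} [IsClosedImmersion i] [IsIntegralHom j]

section chart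

variable [Flat j] [Surjective j] {S : Scheme.{u}} (k : Chart i j) (U : S.Opens)
  (hU : IsAffineOpen U) (rK : k.P ⟶ U) (hYflat : (rK.appTop ≫ k.b.appTop).hom.Flat)

include hU hYflat in
/-- the key chart-level statement -/
theorem chart_flat_aux :
    UnivInjective k U rK ∧ ((rK.appTop ≫ k.a.appTop).hom.Flat → rK.appTop.hom.Flat) := by
  have hM := milnor_appTop k
  letI algAB : Algebra Γ((k.V : Scheme.{u}), ⊤) Γ((k.W : Scheme.{u}), ⊤) :=
    k.jk.appTop.hom.toAlgebra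
  haveI ff : Module.FaithfullyFlat Γ((k.V : Scheme.{u}), ⊤) Γ((k.W : Scheme.{u}), ⊤) :=
    (Flat.flat_and_surjective_iff_faithfullyFlat_of_isAffine k.jk).mp
      ⟨flat_jk k, surjective_jk k⟩
  let I : Submodule Γ((k.V : Scheme.{u}), ⊤) Γ((k.W : Scheme.{u}), ⊤) :=
    LinearMap.range (Algebra.linearMap Γ((k.V : Scheme.{u}), ⊤) Γ((k.W : Scheme.{u}), ⊤))
  haveI hflatA : Module.Flat Γ((k.V : Scheme.{u}), ⊤) (Γ((k.W : Scheme.{u}), ⊤) ⧸ I) :=
    FlatCoker.flat_coker_of_faithfullyFlat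
  letI algR₀A : Algebra Γ((U : Scheme.{u}), ⊤) Γ((k.V : Scheme.{u}), ⊤) :=
    (rK.appTop ≫ k.b.appTop).hom.toAlgebra
  haveI : Module.Flat Γ((U : Scheme.{u}), ⊤) Γ((k.V : Scheme.{u}), ⊤) := hYflat
  letI modPm : Module Γ((U : Scheme.{u}), ⊤) (Γ((k.W : Scheme.{u}), ⊤) ⧸ I) :=
    Module.compHom _ (algebraMap Γ((U : Scheme.{u}), ⊤) Γ((k.V : Scheme.{u}), ⊤))
  haveI : IsScalarTower Γ((U : Scheme.{u}), ⊤) Γ((k.V : Scheme.{u}), ⊤)
      (Γ((k.W : Scheme.{u}), ⊤) ⧸ I) :=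
    IsScalarTower.of_algebraMap_smul fun _ _ => rfl
  haveI hflatR : Module.Flat Γ((U : Scheme.{u}), ⊤) (Γ((k.W : Scheme.{u}), ⊤) ⧸ I) :=
    Module.Flat.trans Γ((U : Scheme.{u}), ⊤) Γ((k.V : Scheme.{u}), ⊤) _
  let f : Γ((k.U : Scheme.{u}), ⊤) →+ (Γ((k.W : Scheme.{u}), ⊤) ⧸ I) :=
    (I.mkQ : _ →ₗ[Γ((k.V : Scheme.{u}), ⊤)] _).toAddMonoidHom.comp
      k.ik.appTop.hom.toAddMonoidHom
  have hf : ∀ x, f x = Submodule.Quotient.mk (k.ik.appTop.hom x) := fun x => rfl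
  have hfsurj : Function.Surjective f := by
    intro m
    obtain ⟨w, rfl⟩ := Submodule.Quotient.mk_surjective I m
    obtain ⟨x, rfl⟩ := k.ik_appTop_surjective w
    exact ⟨x, rfl⟩
  have hlin : ∀ (r₀ : Γ((U : Scheme.{u}), ⊤)) (x : Γ((k.U : Scheme.{u}), ⊤)),
      f ((rK.appTop ≫ k.a.appTop).hom r₀ * x) = r₀ • f x := by
    intro r₀ x
    rw [hf, hf, map_mul]
    have h1 : k.ik.appTop.hom ((rK.appTop ≫ k.a.appTop).hom r₀) =
        k.jk.appTop.hom ((rK.appTop ≫ k.b.appTop).hom r₀) :=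
      (hM.comm (rK.appTop.hom r₀)).symm
    rw [h1]
    rfl
  have hex : ∀ x, f x = 0 ↔ x ∈ Set.range k.a.appTop.hom := by
    intro x
    rw [hf, Submodule.Quotient.mk_eq_zero]
    constructor
    · rintro ⟨a₀, ha₀⟩
      have h3 : k.jk.appTop.hom a₀ = k.ik.appTop.hom x := by
        rw [← ha₀]
        simp [Algebra.linearMap_apply, RingHom.algebraMap_toAlgebra]
      obtain ⟨c, -, hc2⟩ := hM.ex _ _ h3
      exact ⟨c, hc2⟩
    · rintro ⟨c, rfl⟩
      refine ⟨k.b.appTop.hom c, ?_⟩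
      rw [← hM.comm c]
      simp [Algebra.linearMap_apply, RingHom.algebraMap_toAlgebra]
  have hsnd : Function.Injective k.a.appTop.hom :=
    a_appTop_injective_of_jk k (jk_appTop_injective k)
  refine ⟨univInjective_of_flat_coker k U hU rK (Iso.refl _) _ f hfsurj (fun r₀ x => ?_) hex
    hsnd, ?_⟩
  · exact hlin r₀ x
  · intro hXflat
    letI algRP : Algebra Γ((U : Scheme.{u}), ⊤) Γ(k.P, ⊤) := rK.appTop.hom.toAlgebra
    letI algRX : Algebra Γ((U : Scheme.{u}), ⊤) Γ((k.U : Scheme.{u}), ⊤) :=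
      (rK.appTop ≫ k.a.appTop).hom.toAlgebra
    haveI : Module.Flat Γ((U : Scheme.{u}), ⊤) Γ((k.U : Scheme.{u}), ⊤) := hXflat
    let g : Γ(k.P, ⊤) →ₗ[Γ((U : Scheme.{u}), ⊤)] Γ((k.U : Scheme.{u}), ⊤) :=
      { toFun := k.a.appTop.hom
        map_add' := map_add _
        map_smul' := fun r₀ c => by
          rw [Algebra.smul_def, Algebra.smul_def, map_mul]
          rfl }
    let fL : Γ((k.U : Scheme.{u}), ⊤) →ₗ[Γ((U : Scheme.{u}), ⊤)]
        (Γ((k.W : Scheme.{u}), ⊤) ⧸ I) :=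
      { toFun := f
        map_add' := f.map_add
        map_smul' := fun r₀ x => by
          rw [Algebra.smul_def]
          exact hlin r₀ x }
    exact FlatCoker.flat_of_exact_of_flat g hsnd fL hfsurj (fun x => hex x)

end chart

end Groth.Agent.H49.Ferrand
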