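import Groth.Agent.H49.FerrandFlatBase

/-!
# Pushouts along a faithfully flat finite morphism: flatness over a base and arbitrary base change
(helper49)
-/

set_option autoImplicit false
universe u
open CategoryTheory CategoryTheory.Limits AlgebraicGeometry

namespace Groth.Agent.H49.Ferrand

open Groth.Agent.H24 Chart

variable {X Y Z : Scheme.{u}} {i : Z ⟶ X} {j : Z ⟶ Y} [IsClosedImmersion i] [IsIntegralHom j]

section global

variable (hc : Covers i j) {S : Scheme.{u}} (r : Pglue i j ⟶ S)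

lemma flat_b_comp [Flat (bG hc ≫ r)] (k : Chart i j) (S₀ : S.Opens) (hS₀ : IsAffineOpen S₀)
    (φ : k.P ⟶ S₀) (hφ : φ ≫ S₀.ι = ιP k ≫ r) : (φ.appTop ≫ k.b.appTop).hom.Flat := by
  haveI : IsAffine (S₀ : Scheme.{u}) := hS₀
  haveI : Flat ((k.b ≫ φ) ≫ S₀.ι) := by
    rw [Category.assoc, hφ, ← Category.assoc, ← ι_bG hc, Category.assoc]
    infer_instance
  haveI : Flat (k.b ≫ φ) := MorphismProperty.of_postcomp (W := @Flat) (W' := @IsOpenImmersion)
    (k.b ≫ φ) S₀.ι inferInstance inferInstance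
  rw [← Scheme.Hom.comp_appTop]
  exact Scheme.Hom.flat_appTop (k.b ≫ φ)

lemma flat_a_comp [Flat (aG hc ≫ r)] (k : Chart i j) (S₀ : S.Opens) (hS₀ : IsAffineOpen S₀)
    (φ : k.P ⟶ S₀) (hφ : φ ≫ S₀.ι = ιP k ≫ r) : (φ.appTop ≫ k.a.appTop).hom.Flat := by
  haveI : IsAffine (S₀ : Scheme.{u}) := hS₀
  haveI : Flat ((k.a ≫ φ) ≫ S₀.ι) := by
    rw [Category.assoc, hφ, ← Category.assoc, ← ι_aG hc, Category.assoc]
    infer_instance
  haveI : Flat (k.a ≫ φ) := MorphismProperty.of_postcomp (W := @Flat) (W' := @IsOpenImmersion)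
    (k.a ≫ φ) S₀.ι inferInstance inferInstance
  rw [← Scheme.Hom.comp_appTop]
  exact Scheme.Hom.flat_appTop (k.a ≫ φ)

variable [Flat j] [Surjective j] [Flat (bG hc ≫ r)]

include hc in
theorem exists_univInjective_chart_of_flat (x : Pglue i j) :
    ∃ k : Chart i j, x ∈ Set.range (ιP k) ∧
      ∃ (U : S.Opens) (rK : k.P ⟶ U), IsAffineOpen U ∧ rK ≫ U.ι = ιP k ≫ r ∧
        UnivInjective k U rK := by
  obtain ⟨k, ⟨S₀, hS₀, hrange⟩, hx⟩ := exists_chart_over_affine r x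
  have hrange' : Set.range (ιP k ≫ r) ⊆ Set.range S₀.ι := by
    rw [Scheme.Opens.range_ι]
    exact hrange
  let φ : k.P ⟶ (S₀ : Scheme.{u}) := IsOpenImmersion.lift S₀.ι (ιP k ≫ r) hrange'
  have hφ : φ ≫ S₀.ι = ιP k ≫ r := IsOpenImmersion.lift_fac _ _ _
  exact ⟨k, hx, S₀, φ, hS₀, hφ, (chart_flat_aux k S₀ hS₀ φ (flat_b_comp hc r k S₀ hS₀ φ hφ)).1⟩

/-- the glued pushout is flat over a base when `X` and `Y` are and `j` is faithfully flat -/
theorem flat_glue [Flat (aG hc ≫ r)] : Flat r := by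
  refine IsZariskiLocalAtSource.of_openCover (P := @Flat)
    (coverPQ _ (exists_chart_over_affine r)) ?_
  rintro ⟨k, S₀, hS₀, hrange⟩
  show Flat (ιP k ≫ r)
  haveI : IsAffine (S₀ : Scheme.{u}) := hS₀
  have hrange' : Set.range (ιP k ≫ r) ⊆ Set.range S₀.ι := by
    rw [Scheme.Opens.range_ι]
    exact hrange
  let φ : k.P ⟶ (S₀ : Scheme.{u}) := IsOpenImmersion.lift S₀.ι (ιP k ≫ r) hrange'
  have hφ : φ ≫ S₀.ι = ιP k ≫ r := IsOpenImmersion.lift_fac _ _ _
  suffices hsuff : Flat φ by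
    rw [← hφ]
    infer_instance
  rw [HasRingHomProperty.iff_of_isAffine (P := @Flat)]
  exact (chart_flat_aux k S₀ hS₀ φ (flat_b_comp hc r k S₀ hS₀ φ hφ)).2
    (flat_a_comp hc r k S₀ hS₀ φ hφ)

end global

/-- **Pushout along a finite faithfully flat morphism: flat over the base and commuting with
arbitrary base change.** -/
theorem flat_and_isPushout_baseChange {S X Y Y' P T XT YT Y'T PT : Scheme.{u}}
    (i : Y ⟶ X) [IsClosedImmersion i] (h : Y ⟶ Y') [IsFinite h] [Flat h] [Surjective h]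
    (q : X ⟶ P) [IsAffineHom q] (j : Y' ⟶ P) (hP : IsPushout i h q j)
    (sP : P ⟶ S) [Flat (q ≫ sP)] [Flat (j ≫ sP)] (g : T ⟶ S)
    (pP : PT ⟶ P) (sPT : PT ⟶ T) (hPT : IsPullback pP sPT sP g)
    (pX : XT ⟶ X) (qT : XT ⟶ PT) (hXT : IsPullback pX qT q pP)
    (pY' : Y'T ⟶ Y') (jT : Y'T ⟶ PT) (hY'T : IsPullback pY' jT j pP)
    (pY : YT ⟶ Y) (iT : YT ⟶ XT) (hYT : IsPullback pY iT i pX)
    (hT : YT ⟶ Y'T) (hhT₁ : hT ≫ pY' = pY ≫ h) (hhT₂ : hT ≫ jT = iT ≫ qT) :
    Flat sP ∧ IsPushout iT hT qT jT := by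
  haveI : IsIntegralHom h := inferInstance
  have haff : ∀ y' : Y', ∃ V : X.Opens, IsAffineOpen V ∧ h ⁻¹' {y'} ⊆ i ⁻¹' (V : Set X) := by
    intro y'
    obtain ⟨_, ⟨(W : P.Opens), hW, rfl⟩, hyW, -⟩ :=
      P.isBasis_affineOpens.exists_subset_of_mem_open (Set.mem_univ (j y')) isOpen_univ
    refine ⟨q ⁻¹ᵁ W, hW.preimage q, ?_⟩
    intro z hz
    have hz' : h z = y' := hz
    show q (i z) ∈ W
    rw [← Scheme.Hom.comp_apply, hP.w, Scheme.Hom.comp_apply, hz']
    exact hyW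
  have hc := covers_of_haff i h haff
  obtain ⟨e, h1, h2⟩ := exists_iso_of_isPushout hc hP
  let r : Pglue i h ⟶ S := e.hom ≫ sP
  haveI : Flat (aG hc ≫ r) := by
    have : aG hc ≫ r = q ≫ sP := by rw [← Category.assoc, h1]
    rw [this]
    infer_instance
  haveI : Flat (bG hc ≫ r) := by
    have : bG hc ≫ r = j ≫ sP := by rw [← Category.assoc, h2]
    rw [this]
    infer_instance
  constructor
  · haveI hr : Flat r := flat_glue hc r
    have : sP = e.inv ≫ r := by simp [r]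
    rw [this]
    infer_instance
  · have hZ' : IsPullback pY (iT ≫ qT) (i ≫ q) pP := hYT.paste_vert hXT
    have h1' : q ≫ e.inv = aG hc := by
      rw [← h1, Category.assoc, e.hom_inv_id, Category.comp_id]
    haveI : IsSchemeTheoreticallyDominant qT := by
      have hF : IsPullback (pP ≫ e.inv) sPT r g :=
        IsPullback.of_iso hPT (Iso.refl _) e.symm (Iso.refl _) (Iso.refl _) (by simp) (by simp)
          (by simp [r]) (by simp)
      have hX' : IsPullback pX qT (aG hc) (pP ≫ e.inv) :=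
        IsPullback.of_iso hXT (Iso.refl _) (Iso.refl _) (Iso.refl _) e.symm (by simp) (by simp)
          (by simp [h1']) (by simp)
      exact isSchemeTheoreticallyDominant_of_univInjective hc r g hF hX'
        (exists_univInjective_chart_of_flat hc r)
    exact isPushout_baseChange_of_isPushout_of_dominant hc hP pP hXT hY'T hZ' hYT.w.symm hhT₁
      hhT₂.symm

end Groth.Agent.H49.Ferrand
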