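import Groth.Agent.H49.FerrandLoc

/-!
# Gluing the local pushouts (helper49)
-/

set_option autoImplicit false
universe u
open CategoryTheory CategoryTheory.Limits AlgebraicGeometry

namespace Groth.Agent.H49.Ferrand

open Groth.Agent.H24

variable {X Y Z : Scheme.{u}} {i : Z ⟶ X} {j : Z ⟶ Y}

namespace Chart

section points

variable [IsClosedImmersion i] (k : Chart i j)

lemma exists_toSpecΓ_eq {T : Scheme.{u}} [IsAffine T] (z : Spec Γ(T, ⊤)) :
    ∃ x : T, T.toSpecΓ x = z :=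
  (T.isoSpec.hom.homeomorph).surjective z

/-- `U` and `V` jointly cover the local pushout -/
lemma exists_b_or_a (x : k.P) : (∃ v, k.b v = x) ∨ (∃ u, k.a u = x) := by
  rcases milnor_jointly_surjective (fst := CommRingCat.ofHom k.fstC)
    (snd := CommRingCat.ofHom k.sndC) (q := k.jk.appTop) (p := k.ik.appTop) k.milnor x with
    ⟨z, hz⟩ | ⟨y, hy⟩
  · left
    obtain ⟨v, rfl⟩ := exists_toSpecΓ_eq z
    exact ⟨v, hz⟩
  · right
    obtain ⟨u, rfl⟩ := exists_toSpecΓ_eq y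
    exact ⟨u, hy⟩

lemma b_mem_basicOpen (c : k.RC) (v : (k.V : Scheme.{u})) :
    k.b v ∈ (PrimeSpectrum.basicOpen c : Set (PrimeSpectrum k.RC)) ↔
      v ∈ (k.V : Scheme.{u}).basicOpen (k.fstC c) := by
  rw [mem_basicOpen_iff]
  exact Iff.rfl

lemma a_mem_basicOpen (c : k.RC) (u : (k.U : Scheme.{u})) :
    k.a u ∈ (PrimeSpectrum.basicOpen c : Set (PrimeSpectrum k.RC)) ↔
      u ∈ (k.U : Scheme.{u}).basicOpen (k.sndC c) := by
  rw [mem_basicOpen_iff]
  exact Iff.rfl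

end points

section key

variable [IsClosedImmersion i] [IsIntegralHom j] {k' k : Chart i j} (h : k' ≤ k)

include h in
lemma preimage_hyp :
    k.ik ⁻¹ᵁ (k.U.ι ⁻¹ᵁ k'.U) = k.jk ⁻¹ᵁ (k.V.ι ⁻¹ᵁ k'.V) := by
  rw [← Scheme.Hom.comp_preimage, ← Scheme.Hom.comp_preimage, k.ik_ι, k.jk_ι,
    Scheme.Hom.comp_preimage, Scheme.Hom.comp_preimage, k'.h]

lemma basic_le_of (c : k.RC)
    (hV : (k.V : Scheme.{u}).basicOpen (k.fstC c) ≤ k.V.ι ⁻¹ᵁ k'.V)
    (hU : (k.U : Scheme.{u}).basicOpen (k.sndC c) ≤ k.U.ι ⁻¹ᵁ k'.U) : k.basic c ≤ k' := by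
  constructor
  · rintro _ ⟨u, hu, rfl⟩
    exact hU hu
  · rintro _ ⟨v, hv, rfl⟩
    exact hV hv

/-- every point of a smaller local pushout lies in a basic chart inside the smaller chart -/
theorem exists_basic_le (x : k'.P) :
    ∃ c : k.RC, Fmap h x ∈ (PrimeSpectrum.basicOpen c : Set (PrimeSpectrum k.RC)) ∧
      k.basic c ≤ k' := by
  rcases k'.exists_b_or_a x with ⟨v, rfl⟩ | ⟨u, rfl⟩
  · obtain ⟨c, hc1, hc2, hc3⟩ := k.exists_basic_V _ _ (preimage_hyp h) (Y.homOfLE h.2 v) (by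
      show (Y.homOfLE h.2 v).1 ∈ k'.V
      rw [Scheme.homOfLE_apply]
      exact v.2)
    refine ⟨c, ?_, basic_le_of c hc2 hc3⟩
    have e : Fmap h (k'.b v) = k.b (Y.homOfLE h.2 v) := by
      rw [← Scheme.Hom.comp_apply, b_Fmap, Scheme.Hom.comp_apply]
    rw [e, b_mem_basicOpen]
    exact hc1
  · obtain ⟨c, hc1, hc2, hc3⟩ := k.exists_basic_U _ _ (preimage_hyp h) (X.homOfLE h.1 u) (by
      show (X.homOfLE h.1 u).1 ∈ k'.U
      rw [Scheme.homOfLE_apply]
      exact u.2)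
    refine ⟨c, ?_, basic_le_of c hc2 hc3⟩
    have e : Fmap h (k'.a u) = k.a (X.homOfLE h.1 u) := by
      rw [← Scheme.Hom.comp_apply, a_Fmap, Scheme.Hom.comp_apply]
    rw [e, a_mem_basicOpen]
    exact hc1

end key

section openimm

variable [IsClosedImmersion i] (k : Chart i j)

instance isOpenImmersion_Fmap_basic (c : k.RC) : IsOpenImmersion (Fmap (k.basic_le c)) :=
  isOpenImmersion_Fmap_of_basic (k.basic_le c) c (k.basic_U c) (k.basic_V c)

lemma range_Fmap_basic (c : k.RC) :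
    Set.range (Fmap (k.basic_le c)) = (PrimeSpectrum.basicOpen c : Set (PrimeSpectrum k.RC)) :=
  range_Fmap_of_basic (k.basic_le c) c (k.basic_U c) (k.basic_V c)

variable {k} {k' : Chart i j} (h : k' ≤ k)

/-- a basic chart of `k` contained in `k'` is a basic chart of `k'` -/
lemma basic_U_of_le (c : k.RC) (h'' : k.basic c ≤ k') :
    k'.U.ι ⁻¹ᵁ (k.basic c).U = (k'.U : Scheme.{u}).basicOpen (k'.sndC (rC h c)) := by
  rw [sndC_rC, ← Scheme.preimage_basicOpen_top, ← k.basic_U c, ← Scheme.Hom.comp_preimage,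
    Scheme.homOfLE_ι]

lemma basic_V_of_le (c : k.RC) (h'' : k.basic c ≤ k') :
    k'.V.ι ⁻¹ᵁ (k.basic c).V = (k'.V : Scheme.{u}).basicOpen (k'.fstC (rC h c)) := by
  rw [fstC_rC, ← Scheme.preimage_basicOpen_top, ← k.basic_V c, ← Scheme.Hom.comp_preimage,
    Scheme.homOfLE_ι]

include h in
lemma isOpenImmersion_Fmap_basic_of_le (c : k.RC) (h'' : k.basic c ≤ k') :
    IsOpenImmersion (Fmap h'') :=
  isOpenImmersion_Fmap_of_basic h'' (rC h c) (basic_U_of_le h c h'') (basic_V_of_le h c h'')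

lemma range_Fmap_basic_of_le (c : k.RC) (h'' : k.basic c ≤ k') :
    Set.range (Fmap h'') =
      (PrimeSpectrum.basicOpen (rC h c) : Set (PrimeSpectrum k'.RC)) :=
  range_Fmap_of_basic h'' (rC h c) (basic_U_of_le h c h'') (basic_V_of_le h c h'')

lemma Fmap_mem_basicOpen (c : k.RC) (x : k'.P) :
    Fmap h x ∈ (PrimeSpectrum.basicOpen c : Set (PrimeSpectrum k.RC)) ↔
      x ∈ (PrimeSpectrum.basicOpen (rC h c) : Set (PrimeSpectrum k'.RC)) := Iff.rfl

variable [IsIntegralHom j]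

lemma Fmap_injective : Function.Injective (Fmap h) := by
  intro x x' hxx'
  obtain ⟨c, hc1, h''⟩ := exists_basic_le h x
  have hx : x ∈ Set.range (Fmap h'') := by
    rw [range_Fmap_basic_of_le h c h'']
    exact (Fmap_mem_basicOpen h c x).mp hc1
  have hx' : x' ∈ Set.range (Fmap h'') := by
    rw [range_Fmap_basic_of_le h c h'']
    exact (Fmap_mem_basicOpen h c x').mp (hxx' ▸ hc1)
  obtain ⟨y, rfl⟩ := hx
  obtain ⟨y', rfl⟩ := hx'
  have e : Fmap (k.basic_le c) = Fmap h'' ≫ Fmap h := Fmap_trans h'' h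
  have : Fmap (k.basic_le c) y = Fmap (k.basic_le c) y' := by
    rw [e, Scheme.Hom.comp_apply, Scheme.Hom.comp_apply, hxx']
  rw [(Fmap (k.basic_le c)).isOpenEmbedding.injective this]

instance isOpenImmersion_Fmap : IsOpenImmersion (Fmap h) := by
  refine IsOpenImmersion.of_forall_source_exists _ (Fmap_injective h) fun x => ?_
  obtain ⟨c, hc1, h''⟩ := exists_basic_le h x
  haveI := isOpenImmersion_Fmap_basic_of_le h c h''
  refine ⟨(k.basic c).P, Fmap h'', inferInstance, ?_, ?_⟩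
  · show x ∈ Set.range (Fmap h'')
    rw [range_Fmap_basic_of_le h c h'']
    exact (Fmap_mem_basicOpen h c x).mp hc1
  · rw [← Fmap_trans]
    exact isOpenImmersion_Fmap_basic k c

end openimm

end Chart

end Groth.Agent.H49.Ferrand
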