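import Groth.Agent.H49.FerrandGlue

/-!
# The glued pushout (helper49)
-/

set_option autoImplicit false
universe u
open CategoryTheory CategoryTheory.Limits AlgebraicGeometry

namespace Groth.Agent.H49.Ferrand

open Groth.Agent.H24 Chart

variable {X Y Z : Scheme.{u}} (i : Z ⟶ X) (j : Z ⟶ Y)

/-- the diagram of local pushouts -/
noncomputable def F : Chart i j ⥤ Scheme.{u} where
  obj k := k.P
  map f := Chart.Fmap (leOfHom f)
  map_id k := Chart.Fmap_rfl k
  map_comp f g := Chart.Fmap_trans (leOfHom f) (leOfHom g)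

variable {i j}

lemma basic_mul_le_left (k : Chart i j) (c₁ c₂ : k.RC) : k.basic (c₁ * c₂) ≤ k.basic c₁ := by
  constructor
  · rintro _ ⟨u, hu, rfl⟩
    refine ⟨u, ?_, rfl⟩
    have hu' : u ∈ (k.U : Scheme.{u}).basicOpen (k.sndC (c₁ * c₂)) := hu
    rw [map_mul, Scheme.basicOpen_mul] at hu'
    exact hu'.1
  · rintro _ ⟨v, hv, rfl⟩
    refine ⟨v, ?_, rfl⟩
    have hv' : v ∈ (k.V : Scheme.{u}).basicOpen (k.fstC (c₁ * c₂)) := hv
    rw [map_mul, Scheme.basicOpen_mul] at hv'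
    exact hv'.1

lemma basic_mul_le_right (k : Chart i j) (c₁ c₂ : k.RC) : k.basic (c₁ * c₂) ≤ k.basic c₂ := by
  rw [mul_comm]
  exact basic_mul_le_left k c₂ c₁

variable [IsClosedImmersion i] [IsIntegralHom j]

instance {k' k : Chart i j} (f : k' ⟶ k) : IsOpenImmersion ((F i j).map f) :=
  Chart.isOpenImmersion_Fmap (leOfHom f)

instance : ((F i j) ⋙ Scheme.forget).IsLocallyDirected where
  cond {ki kj k} fi fj xi xj hx := by
    change ki.P at xi
    change kj.P at xj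
    change Fmap (leOfHom fi) xi = Fmap (leOfHom fj) xj at hx
    obtain ⟨c₁, hc₁, h₁⟩ := exists_basic_le (leOfHom fi) xi
    obtain ⟨c₂, hc₂, h₂⟩ := exists_basic_le (leOfHom fj) xj
    have hx12 : Fmap (leOfHom fi) xi ∈
        (PrimeSpectrum.basicOpen (c₁ * c₂) : Set (PrimeSpectrum k.RC)) := by
      rw [PrimeSpectrum.basicOpen_mul]
      exact ⟨hc₁, hx ▸ hc₂⟩
    rw [← range_Fmap_basic] at hx12
    obtain ⟨y, hy⟩ := hx12
    have hl1 : k.basic (c₁ * c₂) ≤ ki := (basic_mul_le_left k c₁ c₂).trans h₁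
    have hl2 : k.basic (c₁ * c₂) ≤ kj := (basic_mul_le_right k c₁ c₂).trans h₂
    refine ⟨k.basic (c₁ * c₂), homOfLE hl1, homOfLE hl2, y, ?_, ?_⟩
    · apply Fmap_injective (leOfHom fi)
      show Fmap (leOfHom fi) (Fmap hl1 y) = _
      rw [← Scheme.Hom.comp_apply, ← Fmap_trans]
      exact hy
    · apply Fmap_injective (leOfHom fj)
      show Fmap (leOfHom fj) (Fmap hl2 y) = _
      rw [← Scheme.Hom.comp_apply, ← Fmap_trans, ← hx]
      exact hy

variable (i j) in
/-- the glued pushout -/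
noncomputable abbrev Pglue : Scheme.{u} := colimit (F i j)

/-- the open immersions of the local pushouts -/
noncomputable abbrev ιP (k : Chart i j) : k.P ⟶ Pglue i j := colimit.ι (F i j) k

lemma Fmap_ιP {k' k : Chart i j} (h : k' ≤ k) : Fmap h ≫ ιP k = ιP k' :=
  colimit.w (F i j) (homOfLE h)

lemma Fmap_ιP_apply {k' k : Chart i j} (h : k' ≤ k) (x : k'.P) : ιP k (Fmap h x) = ιP k' x := by
  rw [← Scheme.Hom.comp_apply, Fmap_ιP]

lemma ιP_eq_iff {k k' : Chart i j} (x : k.P) (x' : k'.P) :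
    ιP k x = ιP k' x' ↔ ∃ (k'' : Chart i j) (h : k'' ≤ k) (h' : k'' ≤ k') (y : k''.P),
      Fmap h y = x ∧ Fmap h' y = x' := by
  refine (Scheme.IsLocallyDirected.ι_eq_ι_iff (F := F i j) (i := k) (j := k') (xi := x)
    (xj := x')).trans ?_
  constructor
  · rintro ⟨k'', fi, fj, y, h1, h2⟩
    exact ⟨k'', leOfHom fi, leOfHom fj, y, h1, h2⟩
  · rintro ⟨k'', h, h', y, h1, h2⟩
    exact ⟨k'', homOfLE h, homOfLE h', y, h1, h2⟩

lemma ιP_jointly_surjective (p : Pglue i j) : ∃ (k : Chart i j) (x : k.P), ιP k x = p :=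
  Scheme.IsLocallyDirected.ι_jointly_surjective (F i j) p

instance (k : Chart i j) : IsOpenImmersion (ιP k) :=
  inferInstanceAs (IsOpenImmersion (colimit.ι (F i j) k))

end Groth.Agent.H49.Ferrand
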