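import Groth.Agent.H49.FerrandGlue2

/-!
# The maps into the glued pushout (helper49)
-/

set_option autoImplicit false
universe u
open CategoryTheory CategoryTheory.Limits AlgebraicGeometry

namespace Groth.Agent.H49.Ferrand

open Groth.Agent.H24 Chart

variable {X Y Z : Scheme.{u}} {i : Z ⟶ X} {j : Z ⟶ Y}

variable (i j) in
/-- the charts cover `X` and `Y` -/
structure Covers : Prop where
  covX : ∀ x : X, ∃ k : Chart i j, x ∈ k.U
  covY : ∀ y : Y, ∃ k : Chart i j, y ∈ k.V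

variable [IsClosedImmersion i] [IsIntegralHom j]

lemma preimage_hyp' (k k' : Chart i j) :
    k.ik ⁻¹ᵁ (k.U.ι ⁻¹ᵁ k'.U) = k.jk ⁻¹ᵁ (k.V.ι ⁻¹ᵁ k'.V) := by
  rw [← Scheme.Hom.comp_preimage, ← Scheme.Hom.comp_preimage, k.ik_ι, k.jk_ι,
    Scheme.Hom.comp_preimage, Scheme.Hom.comp_preimage, k'.h]

lemma exists_le₂_U (k₁ k₂ : Chart i j) (x : X) (h1 : x ∈ k₁.U) (h2 : x ∈ k₂.U) :
    ∃ k₃ : Chart i j, k₃ ≤ k₁ ∧ k₃ ≤ k₂ ∧ x ∈ k₃.U := by
  obtain ⟨c, hc1, hc2, hc3⟩ := k₁.exists_basic_U _ _ (preimage_hyp' k₁ k₂) ⟨x, h1⟩ h2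
  exact ⟨k₁.basic c, k₁.basic_le c, basic_le_of c hc2 hc3, (k₁.mem_basic_U c ⟨x, h1⟩).mpr hc1⟩

lemma exists_le₂_V (k₁ k₂ : Chart i j) (y : Y) (h1 : y ∈ k₁.V) (h2 : y ∈ k₂.V) :
    ∃ k₃ : Chart i j, k₃ ≤ k₁ ∧ k₃ ≤ k₂ ∧ y ∈ k₃.V := by
  obtain ⟨c, hc1, hc2, hc3⟩ := k₁.exists_basic_V _ _ (preimage_hyp' k₁ k₂) ⟨y, h1⟩ h2
  exact ⟨k₁.basic c, k₁.basic_le c, basic_le_of c hc2 hc3, (k₁.mem_basic_V c ⟨y, h1⟩).mpr hc1⟩

variable (hc : Covers i j)

/-- the cover of `X` by the charts -/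
@[simps I₀ X f]
noncomputable def coverX : X.OpenCover where
  I₀ := Chart i j
  X k := k.U.toScheme
  f k := k.U.ι
  mem₀ := by
    rw [Scheme.presieve₀_mem_precoverage_iff]
    refine ⟨fun x => ?_, inferInstance⟩
    obtain ⟨k, hk⟩ := hc.covX x
    exact ⟨k, ⟨x, hk⟩, rfl⟩

instance : Preorder (coverX hc).I₀ := inferInstanceAs (Preorder (Chart i j))

noncomputable instance : Scheme.Cover.LocallyDirected (coverX hc) where
  trans {k k'} hkk' := X.homOfLE (leOfHom hkk' : k ≤ k').1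
  trans_id k := Scheme.homOfLE_rfl _ _
  trans_comp hij hjk := (Scheme.homOfLE_homOfLE _ _ _).symm
  w hij := Scheme.homOfLE_ι _ _
  directed {k k'} x := by
    let u : X := (pullback.fst ((coverX hc).f k) ((coverX hc).f k') ≫ (coverX hc).f k) x
    have hui : u ∈ k.U := (pullback.fst ((coverX hc).f k) ((coverX hc).f k') x).2
    have huj : u ∈ k'.U := by
      have : u = (pullback.snd ((coverX hc).f k) ((coverX hc).f k') ≫ (coverX hc).f k') x := by
        show (pullback.fst ((coverX hc).f k) ((coverX hc).f k') ≫ (coverX hc).f k) x = _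
        rw [pullback.condition]
      rw [this]
      exact (pullback.snd ((coverX hc).f k) ((coverX hc).f k') x).2
    obtain ⟨k₃, hle, hle', hu₃⟩ := exists_le₂_U k k' u hui huj
    refine ⟨k₃, homOfLE hle, homOfLE hle', ⟨u, hu₃⟩, ?_⟩
    apply (pullback.fst ((coverX hc).f k) ((coverX hc).f k') ≫
      (coverX hc).f k).isOpenEmbedding.injective
    rw [← Scheme.Hom.comp_apply, pullback.lift_fst_assoc]
    show (X.homOfLE _ ≫ k.U.ι) _ = u
    rw [Scheme.homOfLE_ι]
    rfl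
  property_trans hij := by
    show IsOpenImmersion (X.homOfLE _)
    infer_instance

/-- the cover of `Y` by the charts -/
@[simps I₀ X f]
noncomputable def coverY : Y.OpenCover where
  I₀ := Chart i j
  X k := k.V.toScheme
  f k := k.V.ι
  mem₀ := by
    rw [Scheme.presieve₀_mem_precoverage_iff]
    refine ⟨fun y => ?_, inferInstance⟩
    obtain ⟨k, hk⟩ := hc.covY y
    exact ⟨k, ⟨y, hk⟩, rfl⟩

instance : Preorder (coverY hc).I₀ := inferInstanceAs (Preorder (Chart i j))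

noncomputable instance : Scheme.Cover.LocallyDirected (coverY hc) where
  trans {k k'} hkk' := Y.homOfLE (leOfHom hkk' : k ≤ k').2
  trans_id k := Scheme.homOfLE_rfl _ _
  trans_comp hij hjk := (Scheme.homOfLE_homOfLE _ _ _).symm
  w hij := Scheme.homOfLE_ι _ _
  directed {k k'} x := by
    let u : Y := (pullback.fst ((coverY hc).f k) ((coverY hc).f k') ≫ (coverY hc).f k) x
    have hui : u ∈ k.V := (pullback.fst ((coverY hc).f k) ((coverY hc).f k') x).2
    have huj : u ∈ k'.V := by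
      have : u = (pullback.snd ((coverY hc).f k) ((coverY hc).f k') ≫ (coverY hc).f k') x := by
        show (pullback.fst ((coverY hc).f k) ((coverY hc).f k') ≫ (coverY hc).f k) x = _
        rw [pullback.condition]
      rw [this]
      exact (pullback.snd ((coverY hc).f k) ((coverY hc).f k') x).2
    obtain ⟨k₃, hle, hle', hu₃⟩ := exists_le₂_V k k' u hui huj
    refine ⟨k₃, homOfLE hle, homOfLE hle', ⟨u, hu₃⟩, ?_⟩
    apply (pullback.fst ((coverY hc).f k) ((coverY hc).f k') ≫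
      (coverY hc).f k).isOpenEmbedding.injective
    rw [← Scheme.Hom.comp_apply, pullback.lift_fst_assoc]
    show (Y.homOfLE _ ≫ k.V.ι) _ = u
    rw [Scheme.homOfLE_ι]
    rfl
  property_trans hij := by
    show IsOpenImmersion (Y.homOfLE _)
    infer_instance

lemma a_compat {k' k : Chart i j} (h : k' ≤ k) :
    X.homOfLE h.1 ≫ k.a ≫ ιP k = k'.a ≫ ιP k' := by
  rw [← Category.assoc, ← a_Fmap h, Category.assoc, Fmap_ιP]

lemma b_compat {k' k : Chart i j} (h : k' ≤ k) :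
    Y.homOfLE h.2 ≫ k.b ≫ ιP k = k'.b ≫ ιP k' := by
  rw [← Category.assoc, ← b_Fmap h, Category.assoc, Fmap_ιP]

/-- `X ⟶ P` -/
noncomputable def aG : X ⟶ Pglue i j :=
  (coverX hc).glueMorphismsOfLocallyDirected (fun (k : Chart i j) => k.a ≫ ιP k)
    (fun {k' k} hkk' => a_compat (k' := (k' : Chart i j)) (k := (k : Chart i j)) (leOfHom hkk'))

/-- `Y ⟶ P` -/
noncomputable def bG : Y ⟶ Pglue i j :=
  (coverY hc).glueMorphismsOfLocallyDirected (fun (k : Chart i j) => k.b ≫ ιP k)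
    (fun {k' k} hkk' => b_compat (k' := (k' : Chart i j)) (k := (k : Chart i j)) (leOfHom hkk'))

lemma ι_aG (k : Chart i j) : k.U.ι ≫ aG hc = k.a ≫ ιP k :=
  Scheme.OpenCover.map_glueMorphismsOfLocallyDirected (coverX hc)
    (fun (k : Chart i j) => k.a ≫ ιP k)
    (fun {k' k} hkk' => a_compat (k' := (k' : Chart i j)) (k := (k : Chart i j)) (leOfHom hkk')) k

lemma ι_bG (k : Chart i j) : k.V.ι ≫ bG hc = k.b ≫ ιP k :=
  Scheme.OpenCover.map_glueMorphismsOfLocallyDirected (coverY hc)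
    (fun (k : Chart i j) => k.b ≫ ιP k)
    (fun {k' k} hkk' => b_compat (k' := (k' : Chart i j)) (k := (k : Chart i j)) (leOfHom hkk')) k

lemma aG_apply (k : Chart i j) (u : (k.U : Scheme.{u})) : aG hc u.1 = ιP k (k.a u) := by
  have := congrArg (fun ψ : k.U.toScheme ⟶ Pglue i j => ψ u) (ι_aG hc k)
  exact this

lemma bG_apply (k : Chart i j) (v : (k.V : Scheme.{u})) : bG hc v.1 = ιP k (k.b v) := by
  have := congrArg (fun ψ : k.V.toScheme ⟶ Pglue i j => ψ v) (ι_bG hc k)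
  exact this

/-- the square commutes -/
lemma w_glue : i ≫ aG hc = j ≫ bG hc := by
  refine Scheme.hom_ext_of_forall _ _ fun z => ?_
  obtain ⟨k, hk⟩ := hc.covX (i z)
  refine ⟨k.W, hk, ?_⟩
  rw [← Category.assoc, ← Category.assoc, ← k.ik_ι, ← k.jk_ι, Category.assoc, Category.assoc,
    ι_aG, ι_bG, ← Category.assoc, ← Category.assoc, k.w]

end Groth.Agent.H49.Ferrand
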