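import Groth.Agent.H49.GQ6
import Mathlib

/-!
# The quotient morphism and its properties
-/

set_option autoImplicit false
universe u
open CategoryTheory CategoryTheory.Limits AlgebraicGeometry TensorProduct
open Grpd

namespace Groth.Agent.H49.GQ7

open Groth.Agent.H49.GQ1 Groth.Agent.H49.GQ2 Groth.Agent.H49.GQ3 Groth.Agent.H49.GQ4
  Groth.Agent.H49.GQ5 Groth.Agent.H49.GQ6 Groth.Agent.H49.FinGrpdLoc Groth.Agent.H49.FinGrpdSch
  Groth.Agent.H49.InvAffine

section general

/-- a property local at the target can be checked on pullback squares over an open cover -/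
lemma of_cover_isPullback {P : MorphismProperty Scheme.{u}} [IsZariskiLocalAtTarget P]
    {X Y : Scheme.{u}} (f : X ⟶ Y) (𝒰 : Y.OpenCover) (X' : 𝒰.I₀ → Scheme.{u})
    (a : ∀ i, X' i ⟶ X) (f' : ∀ i, X' i ⟶ 𝒰.X i)
    (h : ∀ i, IsPullback (a i) (f' i) f (𝒰.f i)) (H : ∀ i, P (f' i)) : P f := by
  refine IsZariskiLocalAtTarget.of_openCover 𝒰 fun i => ?_
  have e : (h i).isoPullback.hom ≫ pullback.snd f (𝒰.f i) = f' i := (h i).isoPullback_hom_snd
  have : P ((h i).isoPullback.hom ≫ pullback.snd f (𝒰.f i)) := by rw [e]; exact H i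
  exact (P.cancel_left_of_respectsIso (h i).isoPullback.hom _).mp this

/-- a monomorphism with local sections is an isomorphism -/
lemma isIso_of_local_sections {X Y : Scheme.{u}} (f : X ⟶ Y) [Mono f]
    (H : ∀ y : Y, ∃ (V : Y.Opens) (σ : V.toScheme ⟶ X), y ∈ V ∧ σ ≫ f = V.ι) : IsIso f := by
  choose V σ hy hσ using H
  let 𝒱 : Y.OpenCover :=
    { I₀ := Y, X := fun y => (V y).toScheme, f := fun y => (V y).ι,
      mem₀ := by
        rw [Scheme.presieve₀_mem_precoverage_iff]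
        exact ⟨fun y => ⟨y, ⟨y, hy y⟩, rfl⟩, inferInstance⟩ }
  let ρ : Y ⟶ X := 𝒱.glueMorphisms σ (fun i j => by
    rw [← cancel_mono f, Category.assoc, Category.assoc, hσ, hσ]
    exact pullback.condition)
  have h1 : ρ ≫ f = 𝟙 Y := by
    refine 𝒱.hom_ext _ _ fun i => ?_
    rw [← Category.assoc, Scheme.Cover.ι_glueMorphisms, Category.comp_id]
    exact hσ i
  have h2 : f ≫ ρ = 𝟙 X := by
    rw [← cancel_mono f, Category.assoc, h1, Category.comp_id, Category.id_comp]
  exact ⟨ρ, h2, h1⟩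

end general

variable {S : Scheme.{u}} {G : Grpd.GroupoidScheme S}
  [IsFinite G.s] [Flat G.s] [LocallyOfFinitePresentation G.s]

section q

include G in
omit [IsFinite G.s] [Flat G.s] [LocallyOfFinitePresentation G.s] in
lemma goodFamily_top_of
    (hcov : ∀ u : G.U, ∃ W : J G, u ∈ W.1) : GoodFamily (fun _ : J G => True) :=
  ⟨fun _ _ _ _ => trivial, fun u => by
    obtain ⟨W, hW⟩ := hcov u
    exact ⟨W, trivial, hW⟩⟩

lemma goodFamily_top
    (haff : ∀ x : G.U, ∃ V : G.U.Opens, IsAffineOpen V ∧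
      G.t.base '' (G.s.base ⁻¹' {x}) ⊆ (V : Set G.U)) :
    GoodFamily (fun _ : J G => True) :=
  goodFamily_top_of fun u => by
    obtain ⟨V, hV, hVu⟩ := haff u
    obtain ⟨W, hW1, hW2, hW3⟩ :=
      exists_invariant_affine G u V hV (fun r hr => hVu ⟨r, hr, rfl⟩)
    exact ⟨⟨W, hW1, hW3⟩, hW2⟩

variable (hT : GoodFamily (fun _ : J G => True))

lemma q_compat {W W' : J G} (h : W ≤ W') :
    G.U.homOfLE h ≫ (H G W').toQuot ≫ ιY W' = (H G W).toQuot ≫ ιY W := by
  rw [← Category.assoc, ← toQuot_Fmap, Category.assoc, Fmap_ιY]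

/-- the quotient morphism -/
noncomputable def q : G.U ⟶ Y G :=
  (coverU hT).glueMorphismsOfLocallyDirected
    (fun (W : {W : J G // True}) => (H G W.1).toQuot ≫ ιY W.1)
    (fun {i j} hij => q_compat (W := (i : {W : J G // True}).1)
      (W' := (j : {W : J G // True}).1) (leOfHom hij))

lemma ι_q (W : J G) : W.1.ι ≫ q hT = (H G W).toQuot ≫ ιY W :=
  Scheme.OpenCover.map_glueMorphismsOfLocallyDirected (coverU hT)
    (fun (W : {W : J G // True}) => (H G W.1).toQuot ≫ ιY W.1)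
    (fun {i j} hij => q_compat (W := (i : {W : J G // True}).1)
      (W' := (j : {W : J G // True}).1) (leOfHom hij)) ⟨W, trivial⟩

lemma q_apply (W : J G) (u : (H G W).U) : q hT u.1 = ιY W ((H G W).toQuot u) := by
  have := congrArg (fun ψ : W.1.toScheme ⟶ Y G => ψ u) (ι_q hT W)
  exact this

lemma s_q_eq_t_q : G.s ≫ q hT = G.t ≫ q hT := by
  refine Scheme.hom_ext_of_forall _ _ fun r => ?_
  obtain ⟨W, -, hW⟩ := hT.cov (G.s r)
  refine ⟨G.s ⁻¹ᵁ W.1, hW, ?_⟩
  rw [← Category.assoc, ← Category.assoc, ← GW_s_ι G W.1 W.2.2, ← GW_t_ι G W.1 W.2.2,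
    Category.assoc, Category.assoc, ι_q, ← Category.assoc, ← Category.assoc,
    toQuot_s_eq_t S (H G W)]

lemma q_surjective : Function.Surjective (q hT) := by
  intro y
  obtain ⟨W, x, rfl⟩ := ιY_jointly_surjective y
  obtain ⟨u, rfl⟩ := toQuot_surjective S (H G W) x
  exact ⟨u.1, q_apply hT W u⟩

lemma preimage_q (W : J G) : q hT ⁻¹ᵁ (ιY W).opensRange = W.1 := by
  apply le_antisymm
  · rintro u ⟨x, hx⟩
    obtain ⟨W', -, hu'⟩ := hT.cov u
    have h1 : ιY W x = ιY W' ((H G W').toQuot ⟨u, hu'⟩) := by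
      rw [← q_apply hT W' ⟨u, hu'⟩]
      exact hx
    obtain ⟨W'', h, h', y, hy1, hy2⟩ := (ιY_eq_iff _ _).mp h1
    obtain ⟨u'', rfl⟩ := toQuot_surjective S (H G W'') y
    rw [toQuot_Fmap_apply, toQuot_eq_iff'] at hy2
    obtain ⟨r, hr1, hr2⟩ := hy2
    rw [Scheme.homOfLE_apply] at hr1
    have : G.s r ∈ W''.1 := by
      rw [mem_iff_of_orbit, hr1]
      exact u''.2
    rw [hr2] at this
    exact h this
  · intro u hu
    exact ⟨(H G W).toQuot ⟨u, hu⟩, (q_apply hT W ⟨u, hu⟩).symm⟩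

lemma q_eq_iff (u u' : G.U) :
    q hT u = q hT u' ↔ ∃ r : G.R, G.s r = u ∧ G.t r = u' := by
  constructor
  · intro h
    obtain ⟨W, -, hu⟩ := hT.cov u
    have hu' : u' ∈ W.1 := by
      rw [← preimage_q hT W]
      show q hT u' ∈ (ιY W).opensRange
      rw [← h]
      exact ⟨_, (q_apply hT W ⟨u, hu⟩).symm⟩
    have h2 : ιY W ((H G W).toQuot ⟨u', hu'⟩) = ιY W ((H G W).toQuot ⟨u, hu⟩) := by
      rw [← q_apply hT W ⟨u, hu⟩, ← q_apply hT W ⟨u', hu'⟩]
      exact h.symm
    have h3 := (ιY W).isOpenEmbedding.injective h2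
    obtain ⟨r, hr1, hr2⟩ := (toQuot_eq_iff' W _ _).mp h3
    exact ⟨r, hr2, hr1⟩
  · rintro ⟨r, rfl, rfl⟩
    rw [← Scheme.Hom.comp_apply, ← Scheme.Hom.comp_apply, s_q_eq_t_q]

/-- the cartesian squares over the affine quotients -/
lemma isPullback_q (W : J G) : IsPullback W.1.ι (H G W).toQuot (q hT) (ιY W) :=
  (IsOpenImmersion.isPullback (H G W).toQuot W.1.ι (ιY W) (q hT) (ι_q hT W)
    (by rw [preimage_q, Scheme.Opens.opensRange_ι])).flip

/-- properties local at the target descend from the affine quotient maps -/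
lemma q_prop (P : MorphismProperty Scheme.{u}) [IsZariskiLocalAtTarget P]
    (H₀ : ∀ W : J G, P (H G W).toQuot) : P (q hT) :=
  of_cover_isPullback (q hT) (coverY hT) (fun W => W.1.1.toScheme) (fun W => W.1.1.ι)
    (fun W => (H G W.1).toQuot) (fun W => isPullback_q hT W.1) (fun W => H₀ W.1)

lemma isIntegralHom_q : IsIntegralHom (q hT) :=
  q_prop hT @IsIntegralHom fun W => isIntegralHom_toQuot S (H G W)

lemma isAffineHom_q : IsAffineHom (q hT) := by
  haveI := isIntegralHom_q hT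
  infer_instance

lemma surjective_q : Surjective (q hT) := ⟨q_surjective hT⟩

end q

end Groth.Agent.H49.GQ7
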