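import Groth.Agent.H49.FerrandGlue3
import Groth.Agent.H49.GQ7

/-!
# Properties of the maps into the glued pushout (helper49)
-/

set_option autoImplicit false
universe u
open CategoryTheory CategoryTheory.Limits AlgebraicGeometry

namespace Groth.Agent.H49.Ferrand

open Groth.Agent.H24 Chart

variable {X Y Z : Scheme.{u}} {i : Z ⟶ X} {j : Z ⟶ Y}
variable [IsClosedImmersion i] [IsIntegralHom j] (hc : Covers i j)

lemma preimage_aG (k : Chart i j) : aG hc ⁻¹ᵁ (ιP k).opensRange = k.U := by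
  apply le_antisymm
  · rintro x ⟨p, hp⟩
    obtain ⟨k', hx'⟩ := hc.covX x
    have h1 : ιP k p = ιP k' (k'.a ⟨x, hx'⟩) := by
      rw [← aG_apply hc k' ⟨x, hx'⟩]
      exact hp
    obtain ⟨k'', h, h', y, hy1, hy2⟩ := (ιP_eq_iff _ _).mp h1
    obtain ⟨c, hc1, hc2⟩ := exists_basic_le h' y
    rw [hy2, a_mem_basicOpen] at hc1
    have : x ∈ (k'.basic c).U := (k'.mem_basic_U c ⟨x, hx'⟩).mpr hc1
    exact h.1 (hc2.1 this)
  · intro x hx
    exact ⟨k.a ⟨x, hx⟩, (aG_apply hc k ⟨x, hx⟩).symm⟩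

lemma preimage_bG (k : Chart i j) : bG hc ⁻¹ᵁ (ιP k).opensRange = k.V := by
  apply le_antisymm
  · rintro x ⟨p, hp⟩
    obtain ⟨k', hx'⟩ := hc.covY x
    have h1 : ιP k p = ιP k' (k'.b ⟨x, hx'⟩) := by
      rw [← bG_apply hc k' ⟨x, hx'⟩]
      exact hp
    obtain ⟨k'', h, h', y, hy1, hy2⟩ := (ιP_eq_iff _ _).mp h1
    obtain ⟨c, hc1, hc2⟩ := exists_basic_le h' y
    rw [hy2, b_mem_basicOpen] at hc1
    have : x ∈ (k'.basic c).V := (k'.mem_basic_V c ⟨x, hx'⟩).mpr hc1
    exact h.2 (hc2.2 this)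
  · intro x hx
    exact ⟨k.b ⟨x, hx⟩, (bG_apply hc k ⟨x, hx⟩).symm⟩

lemma isPullback_aG (k : Chart i j) : IsPullback k.U.ι k.a (aG hc) (ιP k) :=
  (IsOpenImmersion.isPullback k.a k.U.ι (ιP k) (aG hc) (ι_aG hc k)
    (by rw [preimage_aG, Scheme.Opens.opensRange_ι])).flip

lemma isPullback_bG (k : Chart i j) : IsPullback k.V.ι k.b (bG hc) (ιP k) :=
  (IsOpenImmersion.isPullback k.b k.V.ι (ιP k) (bG hc) (ι_bG hc k)
    (by rw [preimage_bG, Scheme.Opens.opensRange_ι])).flip

/-- the cover of the glued pushout by the local pushouts -/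
noncomputable def coverP : (Pglue i j).OpenCover where
  I₀ := Chart i j
  X k := k.P
  f k := ιP k
  mem₀ := by
    rw [Scheme.presieve₀_mem_precoverage_iff]
    refine ⟨fun p => ?_, inferInstance⟩
    obtain ⟨k, x, rfl⟩ := ιP_jointly_surjective p
    exact ⟨k, x, rfl⟩

lemma aG_prop (P : MorphismProperty Scheme.{u}) [IsZariskiLocalAtTarget P]
    (H₀ : ∀ k : Chart i j, P k.a) : P (aG hc) :=
  GQ7.of_cover_isPullback (aG hc) (coverP (i := i) (j := j)) (fun k => (k.U : Scheme.{u}))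
    (fun k => k.U.ι) (fun k => k.a) (fun k => isPullback_aG hc k) (fun k => H₀ k)

lemma bG_prop (P : MorphismProperty Scheme.{u}) [IsZariskiLocalAtTarget P]
    (H₀ : ∀ k : Chart i j, P k.b) : P (bG hc) :=
  GQ7.of_cover_isPullback (bG hc) (coverP (i := i) (j := j)) (fun k => (k.V : Scheme.{u}))
    (fun k => k.V.ι) (fun k => k.b) (fun k => isPullback_bG hc k) (fun k => H₀ k)

lemma isIntegralHom_aG : IsIntegralHom (aG hc) :=
  aG_prop hc @IsIntegralHom fun k => inferInstance

lemma isClosedImmersion_bG : IsClosedImmersion (bG hc) :=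
  bG_prop hc @IsClosedImmersion fun k => inferInstance

lemma isClosedImmersion_jk [IsClosedImmersion j] (k : Chart i j) : IsClosedImmersion k.jk := by
  have h1 : IsClosedImmersion (j.resLE k.V (j ⁻¹ᵁ k.V) le_rfl) := by
    rw [Scheme.Hom.resLE_eq_morphismRestrict]
    infer_instance
  exact (Scheme.Hom.resLE_congr (f := j) (e := k.h.le) rfl k.h @IsClosedImmersion).mpr h1

lemma sndC_surjective [IsClosedImmersion j] (k : Chart i j) : Function.Surjective k.sndC := by
  haveI := isClosedImmersion_jk k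
  have hs : Function.Surjective k.jk.appTop.hom :=
    (IsClosedImmersion.isAffine_surjective_of_isAffine k.jk).2
  intro a'
  obtain ⟨b, hb⟩ := hs (k.ik.appTop.hom a')
  obtain ⟨c, -, hc⟩ := k.milnor.ex b a' hb
  exact ⟨c, hc⟩

/-- if `j` is a closed immersion, so is `k.a` -/
lemma isClosedImmersion_a [IsClosedImmersion j] (k : Chart i j) : IsClosedImmersion k.a := by
  have h2 : IsClosedImmersion (Spec.map (CommRingCat.ofHom k.sndC)) :=
    IsClosedImmersion.spec_of_surjective _ (sndC_surjective k)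
  haveI : IsIso (k.U : Scheme.{u}).toSpecΓ := inferInstance
  have h1 : IsClosedImmersion (k.U : Scheme.{u}).toSpecΓ := inferInstance
  exact MorphismProperty.comp_mem (W := @IsClosedImmersion) _ _ h1 h2

lemma isClosedImmersion_aG [IsClosedImmersion j] : IsClosedImmersion (aG hc) :=
  aG_prop hc @IsClosedImmersion fun k => isClosedImmersion_a k

end Groth.Agent.H49.Ferrand
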