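import Groth.Agent.H49.FerrandGlue4

/-!
# The glued square is a pushout and a pullback (helper49)
-/

set_option autoImplicit false
universe u
open CategoryTheory CategoryTheory.Limits AlgebraicGeometry

namespace Groth.Agent.H49.Ferrand

open Groth.Agent.H24 Chart

variable {X Y Z : Scheme.{u}} {i : Z ⟶ X} {j : Z ⟶ Y}
variable [IsClosedImmersion i] [IsIntegralHom j] (hc : Covers i j)

section desc

variable {T : Scheme.{u}} (α : X ⟶ T) (β : Y ⟶ T) (hαβ : i ≫ α = j ≫ β)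

include hαβ in
lemma desc_cond (k : Chart i j) : k.ik ≫ k.U.ι ≫ α = k.jk ≫ k.V.ι ≫ β := by
  rw [← Category.assoc, ← Category.assoc, k.ik_ι, k.jk_ι, Category.assoc, Category.assoc, hαβ]

/-- the local descended maps -/
noncomputable def γk (k : Chart i j) : k.P ⟶ T :=
  k.isPushout.desc (k.U.ι ≫ α) (k.V.ι ≫ β) (desc_cond α β hαβ k)

lemma a_γk (k : Chart i j) : k.a ≫ γk α β hαβ k = k.U.ι ≫ α :=
  k.isPushout.inl_desc _ _ _

lemma b_γk (k : Chart i j) : k.b ≫ γk α β hαβ k = k.V.ι ≫ β :=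
  k.isPushout.inr_desc _ _ _

lemma Fmap_γk {k' k : Chart i j} (h : k' ≤ k) : Fmap h ≫ γk α β hαβ k = γk α β hαβ k' := by
  apply k'.isPushout.hom_ext
  · rw [← Category.assoc, a_Fmap, Category.assoc, a_γk, a_γk, ← Category.assoc,
      Scheme.homOfLE_ι]
  · rw [← Category.assoc, b_Fmap, Category.assoc, b_γk, b_γk, ← Category.assoc,
      Scheme.homOfLE_ι]

/-- the descended map from the glued pushout -/
noncomputable def γ : Pglue i j ⟶ T :=
  colimit.desc (F i j)
    { pt := T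
      ι := { app := fun k => γk α β hαβ k
             naturality := fun k' k f => by
               show Fmap (leOfHom f) ≫ γk α β hαβ k = γk α β hαβ k' ≫ 𝟙 T
               rw [Category.comp_id, Fmap_γk] } }

lemma ιP_γ (k : Chart i j) : ιP k ≫ γ α β hαβ = γk α β hαβ k :=
  colimit.ι_desc _ _

lemma aG_γ : aG hc ≫ γ α β hαβ = α := by
  refine (coverX hc).hom_ext _ _ fun k => ?_
  show k.U.ι ≫ aG hc ≫ γ α β hαβ = k.U.ι ≫ α
  rw [← Category.assoc, ι_aG, Category.assoc, ιP_γ, a_γk]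

lemma bG_γ : bG hc ≫ γ α β hαβ = β := by
  refine (coverY hc).hom_ext _ _ fun k => ?_
  show k.V.ι ≫ bG hc ≫ γ α β hαβ = k.V.ι ≫ β
  rw [← Category.assoc, ι_bG, Category.assoc, ιP_γ, b_γk]

lemma γ_uniq (m : Pglue i j ⟶ T) (h1 : aG hc ≫ m = α) (h2 : bG hc ≫ m = β) :
    m = γ α β hαβ := by
  apply colimit.hom_ext
  intro k
  show ιP k ≫ m = ιP k ≫ γ α β hαβ
  rw [ιP_γ]
  apply k.isPushout.hom_ext
  · rw [a_γk, ← Category.assoc, ← ι_aG hc, Category.assoc, h1]
  · rw [b_γk, ← Category.assoc, ← ι_bG hc, Category.assoc, h2]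

end desc

/-- the glued square is a pushout -/
theorem isPushout_glue : IsPushout i j (aG hc) (bG hc) :=
  ⟨⟨w_glue hc⟩, ⟨PushoutCocone.IsColimit.mk _
    (fun s => γ s.inl s.inr s.condition)
    (fun s => aG_γ hc s.inl s.inr s.condition)
    (fun s => bG_γ hc s.inl s.inr s.condition)
    (fun s m h1 h2 => γ_uniq hc s.inl s.inr s.condition m h1 h2)⟩⟩

/-- the glued square is cartesian -/
theorem isPullback_glue : IsPullback i j (aG hc) (bG hc) := by
  refine Scheme.isPullback_of_openCover i j (aG hc) (bG hc) (coverX hc) fun k => ?_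
  change Chart i j at k
  have hik : k.ik = i ∣_ k.U := Scheme.Hom.resLE_eq_morphismRestrict i
  have hp : IsPullback k.W.ι k.ik i k.U.ι := by
    rw [hik]
    exact (isPullback_morphismRestrict i k.U).flip
  have h1 : IsPullback k.ik (k.jk ≫ k.V.ι) (k.a ≫ ιP k) (bG hc) :=
    k.isPullback.paste_vert (isPullback_bG hc k).flip
  refine IsPullback.of_iso h1 hp.isoPullback (Iso.refl _) (Iso.refl _) (Iso.refl _) ?_ ?_ ?_ ?_
  · show k.ik ≫ 𝟙 _ = hp.isoPullback.hom ≫ pullback.snd i k.U.ι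
    rw [Category.comp_id, hp.isoPullback_hom_snd]
  · show (k.jk ≫ k.V.ι) ≫ 𝟙 _ = hp.isoPullback.hom ≫ pullback.fst i k.U.ι ≫ j
    rw [Category.comp_id, ← Category.assoc, hp.isoPullback_hom_fst, k.jk_ι]
  · show (k.a ≫ ιP k) ≫ 𝟙 _ = 𝟙 _ ≫ k.U.ι ≫ aG hc
    rw [Category.comp_id, Category.id_comp, ι_aG]
  · simp

end Groth.Agent.H49.Ferrand
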