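import Mathlib

/-!
# Localization of an equalizer of ring maps
-/

set_option autoImplicit false
universe u

namespace Groth.Agent.H49.GQ2

/-- the equalizer of a pair of ring maps localizes -/
theorem isLocalization_eqLocus {A₂ A₁ B₂ B₁ : Type u} [CommRing A₂] [CommRing A₁] [CommRing B₂]
    [CommRing B₁] (s₂ t₂ : A₂ →+* B₂) (s₁ t₁ : A₁ →+* B₁) (f : A₂ →+* A₁) (g : B₂ →+* B₁)
    (hs : ∀ a, g (s₂ a) = s₁ (f a)) (ht : ∀ a, g (t₂ a) = t₁ (f a))
    (c : A₂) (hc : s₂ c = t₂ c)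
    (hA : letI := f.toAlgebra; IsLocalization.Away c A₁)
    (hB : letI := g.toAlgebra; IsLocalization.Away (s₂ c) B₁)
    (φ : RingHom.eqLocus s₂ t₂ →+* RingHom.eqLocus s₁ t₁) (hφ : ∀ a, (φ a : A₁) = f a) :
    letI := φ.toAlgebra
    IsLocalization.Away (⟨c, hc⟩ : RingHom.eqLocus s₂ t₂) (RingHom.eqLocus s₁ t₁) := by
  letI := φ.toAlgebra
  have hfc : IsUnit (f c) := by
    letI := f.toAlgebra
    exact IsLocalization.Away.algebraMap_isUnit (S := A₁) c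
  have hAsurj : ∀ z : A₁, ∃ (n : ℕ) (a : A₂), z * f c ^ n = f a := by
    letI := f.toAlgebra
    exact fun z => IsLocalization.Away.surj (S := A₁) c z
  have hAeq : ∀ a b : A₂, f a = f b → ∃ n : ℕ, c ^ n * a = c ^ n * b := by
    letI := f.toAlgebra
    exact fun a b h => IsLocalization.Away.exists_of_eq (S := A₁) c h
  have hBeq : ∀ a b : B₂, g a = g b → ∃ n : ℕ, s₂ c ^ n * a = s₂ c ^ n * b := by
    letI := g.toAlgebra
    exact fun a b h => IsLocalization.Away.exists_of_eq (S := B₁) (s₂ c) h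
  refine IsLocalization.Away.mk _ ?_ ?_ ?_
  · -- unit
    obtain ⟨v, hv⟩ := hfc
    have hinv : (↑v⁻¹ : A₁) ∈ RingHom.eqLocus s₁ t₁ := by
      show s₁ (↑v⁻¹ : A₁) = t₁ (↑v⁻¹ : A₁)
      have h1 : s₁ (f c) = t₁ (f c) := by rw [← hs, ← ht, hc]
      have hu : IsUnit (s₁ (f c)) := (hv ▸ v.isUnit).map s₁
      have e1 : s₁ (f c) * s₁ (↑v⁻¹ : A₁) = 1 := by
        rw [← map_mul, ← hv, Units.mul_inv, map_one]
      have e2 : s₁ (f c) * t₁ (↑v⁻¹ : A₁) = 1 := by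
        rw [h1, ← map_mul, ← hv, Units.mul_inv, map_one]
      exact hu.mul_left_cancel (e1.trans e2.symm)
    refine isUnit_iff_exists_inv.mpr ⟨⟨_, hinv⟩, Subtype.ext ?_⟩
    show (φ ⟨c, hc⟩ : A₁) * (↑v⁻¹ : A₁) = 1
    rw [hφ, ← hv, Units.mul_inv]
  · -- surjectivity
    intro y
    obtain ⟨n, a, ha⟩ := hAsurj y.1
    have hy : s₁ y.1 = t₁ y.1 := y.2
    have h1 : g (s₂ a) = g (t₂ a) := by
      rw [hs, ht, ← ha, map_mul, map_mul, map_pow, map_pow, hy]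
      congr 2
      rw [← hs, ← ht, hc]
    obtain ⟨m, hm⟩ := hBeq _ _ h1
    have hmem : c ^ m * a ∈ RingHom.eqLocus s₂ t₂ := by
      show s₂ (c ^ m * a) = t₂ (c ^ m * a)
      rw [map_mul, map_mul, map_pow, map_pow, ← hc]
      exact hm
    refine ⟨n + m, ⟨_, hmem⟩, Subtype.ext ?_⟩
    show y.1 * (φ ⟨c, hc⟩ : A₁) ^ (n + m) = (φ ⟨c ^ m * a, hmem⟩ : A₁)
    rw [hφ, hφ, map_mul, map_pow, ← ha]
    ring
  · -- injectivity up to powers
    intro a b hab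
    have h1 : f a.1 = f b.1 := by
      rw [← hφ, ← hφ]
      exact congrArg Subtype.val hab
    obtain ⟨n, hn⟩ := hAeq _ _ h1
    exact ⟨n, Subtype.ext hn⟩

end Groth.Agent.H49.GQ2
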