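import Groth.Agent.H49.GQ1
import Groth.Agent.H49.GQ2
import Mathlib

/-!
# Localization of the invariants, and invariant basic neighbourhoods
-/

set_option autoImplicit false
universe u
open CategoryTheory CategoryTheory.Limits AlgebraicGeometry TensorProduct
open Grpd

namespace Groth.Agent.H49.GQ3

open Groth.Agent.H49.GQ1 Groth.Agent.H49.GQ2 Groth.Agent.H49.FinGrpdLoc
  Groth.Agent.H49.FinGrpdSch

section general

/-- functions on an open subscheme of an affine scheme with image a basic open, as a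
localization -/
theorem isLocalization_of_isOpenImmersion {X V : Scheme.{u}} [IsAffine X] (j : V ⟶ X)
    [IsOpenImmersion j] (c : Γ(X, ⊤)) (hj : j.opensRange = X.basicOpen c) :
    letI := j.appTop.hom.toAlgebra
    IsLocalization.Away c Γ(V, ⊤) := by
  letI i1 := j.appTop.hom.toAlgebra
  letI i2 := (X.basicOpen c).ι.appTop.hom.toAlgebra
  haveI := isLocalization_away_ι c (X.basicOpen c) rfl
  have hrange : Set.range j = Set.range (X.basicOpen c).ι := by
    rw [Scheme.Opens.range_ι, ← hj]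
    rfl
  let e := IsOpenImmersion.isoOfRangeEq j (X.basicOpen c).ι hrange
  have he : e.hom ≫ (X.basicOpen c).ι = j := IsOpenImmersion.isoOfRangeEq_hom_fac _ _ _
  have h1 : e.hom.appTop ≫ e.inv.appTop = 𝟙 _ := by
    rw [← Scheme.Hom.comp_appTop, e.inv_hom_id]; rfl
  have h2 : e.inv.appTop ≫ e.hom.appTop = 𝟙 _ := by
    rw [← Scheme.Hom.comp_appTop, e.hom_inv_id]; rfl
  let E₀ : Γ((X.basicOpen c).toScheme, ⊤) ≃+* Γ(V, ⊤) :=
    RingEquiv.ofRingHom e.hom.appTop.hom e.inv.appTop.hom
      (by ext z; exact congrArg (fun φ => φ.hom z) h2)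
      (by ext z; exact congrArg (fun φ => φ.hom z) h1)
  let E : Γ((X.basicOpen c).toScheme, ⊤) ≃ₐ[Γ(X, ⊤)] Γ(V, ⊤) :=
    { E₀ with
      commutes' := fun z => by
        show e.hom.appTop.hom ((X.basicOpen c).ι.appTop.hom z) = j.appTop.hom z
        have : (e.hom ≫ (X.basicOpen c).ι).appTop.hom z = j.appTop.hom z := by rw [he]
        rw [Scheme.Hom.comp_appTop] at this
        exact this }
  exact IsLocalization.isLocalization_of_algEquiv (Submonoid.powers c) E

end general

section loc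

variable {S : Scheme.{u}} {G : Grpd.GroupoidScheme S}
  [IsFinite G.s] [Flat G.s] [LocallyOfFinitePresentation G.s]

/-- the invariants of a basic invariant open are a localization of the invariants -/
theorem isLocalization_rInv {W W' : J G} (h : W ≤ W') (c : (H G W').invariants)
    (hWc : W'.1.ι ⁻¹ᵁ W.1 = (H G W').U.basicOpen c.1) :
    letI := (rInv h).toAlgebra
    IsLocalization.Away c (H G W).invariants := by
  have hA := isLocalization_of_isOpenImmersion (X := (H G W').U) (G.U.homOfLE h) c.1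
    (by rw [Scheme.opensRange_homOfLE]; exact hWc)
  have hR : (G.R.homOfLE (preimage_le h)).opensRange =
      (H G W').R.basicOpen ((H G W').s.appTop.hom c.1) := by
    rw [Scheme.opensRange_homOfLE]
    have e1 : (H G W').s ⁻¹ᵁ (W'.1.ι ⁻¹ᵁ W.1) = (G.s ⁻¹ᵁ W'.1).ι ⁻¹ᵁ (G.s ⁻¹ᵁ W.1) := by
      rw [← Scheme.Hom.comp_preimage, ← Scheme.Hom.comp_preimage, GW_s_ι]
    rw [← e1, hWc]
    exact Scheme.preimage_basicOpen_top (H G W').s c.1
  have hB := isLocalization_of_isOpenImmersion (X := (H G W').R) (G.R.homOfLE (preimage_le h))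
    ((H G W').s.appTop.hom c.1) hR
  exact isLocalization_eqLocus (H G W').s.appTop.hom (H G W').t.appTop.hom
    (H G W).s.appTop.hom (H G W).t.appTop.hom (G.U.homOfLE h).appTop.hom
    (G.R.homOfLE (preimage_le h)).appTop.hom
    (fun a => (appTop_comm (res_s W.2.2 W'.2.2 h) a).symm)
    (fun a => (appTop_comm (res_t W.2.2 W'.2.2 h) a).symm) c.1 c.2 hA hB (rInv h)
    (fun a => rInv_coe h a)

end loc

section nbhd

open Groth.Agent.H49.FinGrpdIso

variable (S : Scheme.{u}) (G : Grpd.GroupoidScheme S) [IsAffine G.U] [IsAffine G.R]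
  [IsFinite G.s] [Flat G.s] [LocallyOfFinitePresentation G.s]
  [IsFinite G.t] [Flat G.t] [LocallyOfFinitePresentation G.t]

lemma isIntegralHom_toQuot : IsIntegralHom G.toQuot := by
  haveI := isIntegral_invariants S G
  haveI : IsIntegralHom (Spec.map (CommRingCat.ofHom G.invariants.subtype)) := by
    rw [IsIntegralHom.SpecMap_iff]
    exact fun x => Algebra.IsIntegral.isIntegral (R := G.invariants) x
  unfold Grpd.GroupoidScheme.toQuot
  infer_instance

omit [IsAffine G.U] [IsAffine G.R]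
  [IsFinite G.s] [Flat G.s] [LocallyOfFinitePresentation G.s]
  [IsFinite G.t] [Flat G.t] [LocallyOfFinitePresentation G.t] in
lemma mem_basicOpen_iff_toQuot (c : G.invariants) (u : G.U) :
    u ∈ G.U.basicOpen c.1 ↔ c ∉ (G.toQuot u).asIdeal := by
  have h1 : G.toQuot ⁻¹ᵁ ((Spec (CommRingCat.of G.invariants)).basicOpen
      ((Scheme.ΓSpecIso (CommRingCat.of G.invariants)).inv.hom c)) = G.U.basicOpen c.1 := by
    rw [Scheme.preimage_basicOpen_top]
    congr 1
    exact toQuot_appTop S G c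
  rw [← h1]
  show G.toQuot u ∈ (Spec (CommRingCat.of G.invariants)).basicOpen
      ((Scheme.ΓSpecIso (CommRingCat.of G.invariants)).inv.hom c) ↔ _
  rw [basicOpen_eq_of_affine]
  rfl

/-- a point of an invariant open has an invariant basic open neighbourhood inside it -/
theorem exists_basic_nbhd (O : G.U.Opens) (hO : ∀ r : G.R, G.s r ∈ O → G.t r ∈ O) (u : G.U)
    (hu : u ∈ O) :
    ∃ c : G.invariants, u ∈ G.U.basicOpen c.1 ∧ G.U.basicOpen c.1 ≤ O := by
  haveI := isIntegralHom_toQuot S G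
  have hcl : IsClosed (G.toQuot '' ((O : Set G.U)ᶜ)) :=
    G.toQuot.isClosedMap _ O.isOpen.isClosed_compl
  have hnot : G.toQuot u ∉ G.toQuot '' ((O : Set G.U)ᶜ) := by
    rintro ⟨z, hz, hzu⟩
    obtain ⟨r, hr1, hr2⟩ := (toQuot_eq_iff S G z u).mp hzu
    apply hz
    rw [← hr1]
    exact hO r (by rw [hr2]; exact hu)
  obtain ⟨_, ⟨c, rfl⟩, hc1, hc2⟩ :=
    PrimeSpectrum.isTopologicalBasis_basic_opens.exists_subset_of_mem_open
      (show G.toQuot u ∈ (G.toQuot '' ((O : Set G.U)ᶜ))ᶜ from hnot) hcl.isOpen_compl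
  refine ⟨c, ?_, ?_⟩
  · rw [mem_basicOpen_iff_toQuot]
    exact hc1
  · intro w hw
    rw [mem_basicOpen_iff_toQuot] at hw
    by_contra hwO
    exact hc2 hw ⟨w, hwO, rfl⟩

end nbhd

end Groth.Agent.H49.GQ3
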