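import Groth.Agent.H49.FerrandPts
import Groth.Agent.H49.GQ3

/-!
# Transition maps between the local pushouts (helper49)
-/

set_option autoImplicit false
universe u
open CategoryTheory CategoryTheory.Limits AlgebraicGeometry

namespace Groth.Agent.H49.Ferrand

open Groth.Agent.H24

variable {X Y Z : Scheme.{u}} {i : Z ⟶ X} {j : Z ⟶ Y}

namespace Chart

section restrict

variable {k' k : Chart i j} (h : k' ≤ k)

include h in
lemma W_le : k'.W ≤ k.W := fun _ hz => h.1 hz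

lemma ik_comm : Z.homOfLE (W_le h) ≫ k.ik = k'.ik ≫ X.homOfLE h.1 := by
  rw [ik, ik, Scheme.Hom.map_resLE, Scheme.Hom.resLE_map]

lemma jk_comm : Z.homOfLE (W_le h) ≫ k.jk = k'.jk ≫ Y.homOfLE h.2 := by
  rw [jk, jk, Scheme.Hom.map_resLE, Scheme.Hom.resLE_map]

lemma ik_comm_ring (a' : Γ((k.U : Scheme.{u}), ⊤)) :
    (Z.homOfLE (W_le h)).appTop.hom (k.ik.appTop.hom a') =
      k'.ik.appTop.hom ((X.homOfLE h.1).appTop.hom a') := by
  have := congrArg (fun φ : (k'.W : Scheme.{u}) ⟶ k.U => φ.appTop.hom a') (ik_comm h)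
  simp only [Scheme.Hom.comp_appTop, CommRingCat.hom_comp, RingHom.comp_apply] at this
  exact this

lemma jk_comm_ring (b : Γ((k.V : Scheme.{u}), ⊤)) :
    (Z.homOfLE (W_le h)).appTop.hom (k.jk.appTop.hom b) =
      k'.jk.appTop.hom ((Y.homOfLE h.2).appTop.hom b) := by
  have := congrArg (fun φ : (k'.W : Scheme.{u}) ⟶ k.V => φ.appTop.hom b) (jk_comm h)
  simp only [Scheme.Hom.comp_appTop, CommRingCat.hom_comp, RingHom.comp_apply] at this
  exact this

/-- restriction of the fibre product rings -/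
noncomputable def rC : k.RC →+* k'.RC :=
  (((Y.homOfLE h.2).appTop.hom.comp (RingHom.fst _ _)).prod
    ((X.homOfLE h.1).appTop.hom.comp (RingHom.snd _ _))).comp k.RC.subtype |>.codRestrict k'.RC
    (fun c => by
      show k'.jk.appTop.hom ((Y.homOfLE h.2).appTop.hom c.1.1) =
        k'.ik.appTop.hom ((X.homOfLE h.1).appTop.hom c.1.2)
      rw [← jk_comm_ring h, ← ik_comm_ring h]
      exact congrArg _ c.2)

lemma fstC_rC (c : k.RC) : k'.fstC (rC h c) = (Y.homOfLE h.2).appTop.hom (k.fstC c) := rfl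

lemma sndC_rC (c : k.RC) : k'.sndC (rC h c) = (X.homOfLE h.1).appTop.hom (k.sndC c) := rfl

/-- the transition map -/
noncomputable def Fmap : k'.P ⟶ k.P := Spec.map (CommRingCat.ofHom (rC h))

lemma a_Fmap : k'.a ≫ Fmap h = X.homOfLE h.1 ≫ k.a := by
  have e : CommRingCat.ofHom k.sndC ≫ (X.homOfLE h.1).appTop =
      CommRingCat.ofHom (rC h) ≫ CommRingCat.ofHom k'.sndC := by
    apply CommRingCat.hom_ext
    apply RingHom.ext
    intro c
    rfl
  have h1 : k'.a ≫ Fmap h = (k'.U : Scheme.{u}).toSpecΓ ≫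
      Spec.map (CommRingCat.ofHom (rC h) ≫ CommRingCat.ofHom k'.sndC) := by
    rw [a, Fmap, Category.assoc, Spec.map_comp]
  have h2 : X.homOfLE h.1 ≫ k.a = (k'.U : Scheme.{u}).toSpecΓ ≫
      Spec.map (CommRingCat.ofHom k.sndC ≫ (X.homOfLE h.1).appTop) := by
    rw [a, ← Category.assoc, Scheme.toSpecΓ_naturality, Category.assoc, Spec.map_comp]
    rfl
  rw [h1, h2, e]
  rfl

lemma b_Fmap : k'.b ≫ Fmap h = Y.homOfLE h.2 ≫ k.b := by
  have e : CommRingCat.ofHom k.fstC ≫ (Y.homOfLE h.2).appTop =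
      CommRingCat.ofHom (rC h) ≫ CommRingCat.ofHom k'.fstC := by
    apply CommRingCat.hom_ext
    apply RingHom.ext
    intro c
    rfl
  have h1 : k'.b ≫ Fmap h = (k'.V : Scheme.{u}).toSpecΓ ≫
      Spec.map (CommRingCat.ofHom (rC h) ≫ CommRingCat.ofHom k'.fstC) := by
    rw [b, Fmap, Category.assoc, Spec.map_comp]
  have h2 : Y.homOfLE h.2 ≫ k.b = (k'.V : Scheme.{u}).toSpecΓ ≫
      Spec.map (CommRingCat.ofHom k.fstC ≫ (Y.homOfLE h.2).appTop) := by
    rw [b, ← Category.assoc, Scheme.toSpecΓ_naturality, Category.assoc, Spec.map_comp]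
    rfl
  rw [h1, h2, e]
  rfl

end restrict

lemma rC_rfl (k : Chart i j) : rC (le_refl k) = RingHom.id _ := by
  apply RingHom.ext
  intro c
  apply Subtype.ext
  apply Prod.ext
  · show (Y.homOfLE (le_refl k.V)).appTop.hom c.1.1 = c.1.1
    have : Y.homOfLE (le_refl k.V) = 𝟙 _ := Scheme.homOfLE_rfl _ _
    rw [this]
    rfl
  · show (X.homOfLE (le_refl k.U)).appTop.hom c.1.2 = c.1.2
    have : X.homOfLE (le_refl k.U) = 𝟙 _ := Scheme.homOfLE_rfl _ _
    rw [this]
    rfl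

lemma rC_trans {k'' k' k : Chart i j} (h : k'' ≤ k') (h' : k' ≤ k) :
    rC (h.trans h') = (rC h).comp (rC h') := by
  apply RingHom.ext
  intro c
  apply Subtype.ext
  apply Prod.ext
  · show (Y.homOfLE (h.2.trans h'.2)).appTop.hom c.1.1 =
      (Y.homOfLE h.2).appTop.hom ((Y.homOfLE h'.2).appTop.hom c.1.1)
    have : Y.homOfLE (h.2.trans h'.2) = Y.homOfLE h.2 ≫ Y.homOfLE h'.2 :=
      (Scheme.homOfLE_homOfLE _ _ _).symm
    rw [this, Scheme.Hom.comp_appTop]
    rfl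
  · show (X.homOfLE (h.1.trans h'.1)).appTop.hom c.1.2 =
      (X.homOfLE h.1).appTop.hom ((X.homOfLE h'.1).appTop.hom c.1.2)
    have : X.homOfLE (h.1.trans h'.1) = X.homOfLE h.1 ≫ X.homOfLE h'.1 :=
      (Scheme.homOfLE_homOfLE _ _ _).symm
    rw [this, Scheme.Hom.comp_appTop]
    rfl

lemma Fmap_rfl (k : Chart i j) : Fmap (le_refl k) = 𝟙 k.P := by
  show Spec.map (CommRingCat.ofHom (rC (le_refl k))) = 𝟙 _
  rw [rC_rfl]
  exact Spec.map_id _

lemma Fmap_trans {k'' k' k : Chart i j} (h : k'' ≤ k') (h' : k' ≤ k) :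
    Fmap (h.trans h') = Fmap h ≫ Fmap h' := by
  show Spec.map (CommRingCat.ofHom (rC (h.trans h'))) = _
  rw [rC_trans, CommRingCat.ofHom_comp, Spec.map_comp]
  rfl

section basicChart

variable (k : Chart i j)

lemma ι_image_ik_preimage (O : (k.U : Scheme.{u}).Opens) :
    k.W.ι ''ᵁ (k.ik ⁻¹ᵁ O) = i ⁻¹ᵁ (k.U.ι ''ᵁ O) := by
  rw [ik, Scheme.Hom.resLE_preimage, Scheme.Hom.image_preimage_eq_opensRange_inf,
    Scheme.Opens.opensRange_ι]
  exact inf_eq_right.mpr (fun z hz => (Scheme.Opens.ι_image_le _ O) hz)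

lemma ι_image_jk_preimage (O : (k.V : Scheme.{u}).Opens) :
    k.W.ι ''ᵁ (k.jk ⁻¹ᵁ O) = j ⁻¹ᵁ (k.V.ι ''ᵁ O) := by
  rw [jk, Scheme.Hom.resLE_preimage, Scheme.Hom.image_preimage_eq_opensRange_inf,
    Scheme.Opens.opensRange_ι]
  refine inf_eq_right.mpr (fun z hz => ?_)
  have : z ∈ j ⁻¹ᵁ k.V := (Scheme.Opens.ι_image_le _ O) hz
  rw [← k.h] at this
  exact this

lemma ik_preimage_basicOpen (c : k.RC) :
    k.ik ⁻¹ᵁ ((k.U : Scheme.{u}).basicOpen (k.sndC c)) =
      k.jk ⁻¹ᵁ ((k.V : Scheme.{u}).basicOpen (k.fstC c)) := by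
  rw [Scheme.preimage_basicOpen_top, Scheme.preimage_basicOpen_top]
  congr 1
  exact c.2.symm

/-- the basic chart attached to an element of the fibre product ring -/
noncomputable def basic (c : k.RC) : Chart i j where
  U := k.U.ι ''ᵁ ((k.U : Scheme.{u}).basicOpen (k.sndC c))
  V := k.V.ι ''ᵁ ((k.V : Scheme.{u}).basicOpen (k.fstC c))
  hU := ((isAffineOpen_top _).basicOpen _).image_of_isOpenImmersion k.U.ι
  hV := ((isAffineOpen_top _).basicOpen _).image_of_isOpenImmersion k.V.ι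
  h := by rw [← ι_image_ik_preimage, ← ι_image_jk_preimage, ik_preimage_basicOpen]

lemma basic_le (c : k.RC) : k.basic c ≤ k :=
  ⟨Scheme.Opens.ι_image_le _ _, Scheme.Opens.ι_image_le _ _⟩

lemma basic_U (c : k.RC) :
    k.U.ι ⁻¹ᵁ (k.basic c).U = (k.U : Scheme.{u}).basicOpen (k.sndC c) :=
  Scheme.Hom.preimage_image_eq _ _

lemma basic_V (c : k.RC) :
    k.V.ι ⁻¹ᵁ (k.basic c).V = (k.V : Scheme.{u}).basicOpen (k.fstC c) :=
  Scheme.Hom.preimage_image_eq _ _

lemma mem_basic_U (c : k.RC) (u : (k.U : Scheme.{u})) :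
    u.1 ∈ (k.basic c).U ↔ u ∈ (k.U : Scheme.{u}).basicOpen (k.sndC c) := by
  rw [← basic_U]
  exact Iff.rfl

lemma mem_basic_V (c : k.RC) (v : (k.V : Scheme.{u})) :
    v.1 ∈ (k.basic c).V ↔ v ∈ (k.V : Scheme.{u}).basicOpen (k.fstC c) := by
  rw [← basic_V]
  exact Iff.rfl

end basicChart

section localization

variable [IsClosedImmersion i] {k' k : Chart i j} (h : k' ≤ k) (c : k.RC)
  (hU' : k.U.ι ⁻¹ᵁ k'.U = (k.U : Scheme.{u}).basicOpen (k.sndC c))
  (hV' : k.V.ι ⁻¹ᵁ k'.V = (k.V : Scheme.{u}).basicOpen (k.fstC c))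

include hU' in
lemma W_preimage_of_basic :
    k.W.ι ⁻¹ᵁ k'.W = (k.W : Scheme.{u}).basicOpen (k.jk.appTop.hom (k.fstC c)) := by
  have e1 : k.W.ι ⁻¹ᵁ k'.W = k.ik ⁻¹ᵁ (k.U.ι ⁻¹ᵁ k'.U) := by
    rw [← Scheme.Hom.comp_preimage, ← Scheme.Hom.comp_preimage, k.ik_ι]
  rw [e1, hU', Scheme.preimage_basicOpen_top]
  congr 1
  exact c.2.symm

include hU' hV' in
/-- the fibre product ring of a basic chart is a localization -/
theorem isLocalization_rC :
    letI := (rC h).toAlgebra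
    IsLocalization.Away c k'.RC := by
  letI iC := (rC h).toAlgebra
  letI iB := (Y.homOfLE h.2).appTop.hom.toAlgebra
  letI iA' := (X.homOfLE h.1).appTop.hom.toAlgebra
  letI iA := (Z.homOfLE (W_le h)).appTop.hom.toAlgebra
  haveI hB : IsLocalization.Away (k.fstC c) Γ((k'.V : Scheme.{u}), ⊤) :=
    GQ3.isLocalization_of_isOpenImmersion (X := (k.V : Scheme.{u})) (Y.homOfLE h.2) (k.fstC c)
      (by rw [Scheme.opensRange_homOfLE]; exact hV')
  haveI hA' : IsLocalization.Away (k.sndC c) Γ((k'.U : Scheme.{u}), ⊤) :=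
    GQ3.isLocalization_of_isOpenImmersion (X := (k.U : Scheme.{u})) (X.homOfLE h.1) (k.sndC c)
      (by rw [Scheme.opensRange_homOfLE]; exact hU')
  haveI hA : IsLocalization.Away (k.jk.appTop.hom (k.fstC c)) Γ((k'.W : Scheme.{u}), ⊤) :=
    GQ3.isLocalization_of_isOpenImmersion (X := (k.W : Scheme.{u})) (Z.homOfLE (W_le h))
      (k.jk.appTop.hom (k.fstC c))
      (by rw [Scheme.opensRange_homOfLE]; exact W_preimage_of_basic c hU')
  refine MilnorLoc.isLocalization_away k.milnor c k'.milnor ?_ ?_ ?_ ?_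
  · apply RingHom.ext; intro x; rfl
  · apply RingHom.ext; intro x; rfl
  · apply RingHom.ext; intro b; exact (jk_comm_ring h b).symm
  · apply RingHom.ext; intro a'; exact (ik_comm_ring h a').symm

include hU' hV' in
lemma isOpenImmersion_Fmap_of_basic : IsOpenImmersion (Fmap h) := by
  letI := (rC h).toAlgebra
  haveI := isLocalization_rC h c hU' hV'
  exact IsOpenImmersion.of_isLocalization (R := k.RC) (S := k'.RC) c

include hU' hV' in
lemma range_Fmap_of_basic :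
    Set.range (Fmap h) = (PrimeSpectrum.basicOpen c : Set (PrimeSpectrum k.RC)) := by
  letI := (rC h).toAlgebra
  haveI := isLocalization_rC h c hU' hV'
  exact PrimeSpectrum.localization_away_comap_range k'.RC c

end localization

end Chart

end Groth.Agent.H49.Ferrand
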