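import Mathlib

/-!
# Properties of a morphism checked on a jointly surjective pair (helper49)
-/

set_option autoImplicit false
universe u
open CategoryTheory CategoryTheory.Limits AlgebraicGeometry

namespace Groth.Agent.H49.JointSurj

section

variable {X T P Y : Scheme.{u}} (a : X ⟶ P) (b : T ⟶ P) (p : P ⟶ Y)
  (hsurj : ∀ x : P, (∃ x₁, a x₁ = x) ∨ (∃ t₀, b t₀ = x))

include hsurj

theorem quasiCompact_of_jointly_surjective [QuasiCompact (a ≫ p)] [QuasiCompact (b ≫ p)] :
    QuasiCompact p := by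
  constructor
  intro U hU hUc
  have h1 : IsCompact ((a ≫ p) ⁻¹' U) := QuasiCompact.isCompact_preimage U hU hUc
  have h2 : IsCompact ((b ≫ p) ⁻¹' U) := QuasiCompact.isCompact_preimage U hU hUc
  have h3 : p ⁻¹' U = a '' ((a ≫ p) ⁻¹' U) ∪ b '' ((b ≫ p) ⁻¹' U) := by
    ext x
    constructor
    · intro hx
      rcases hsurj x with ⟨x₁, rfl⟩ | ⟨t₀, rfl⟩
      · left
        refine ⟨x₁, ?_, rfl⟩
        show (a ≫ p) x₁ ∈ U
        rw [Scheme.Hom.comp_apply]
        exact hx
      · right
        refine ⟨t₀, ?_, rfl⟩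
        show (b ≫ p) t₀ ∈ U
        rw [Scheme.Hom.comp_apply]
        exact hx
    · rintro (⟨x₁, hx₁, rfl⟩ | ⟨t₀, ht₀, rfl⟩)
      · have : (a ≫ p) x₁ ∈ U := hx₁
        rw [Scheme.Hom.comp_apply] at this
        exact this
      · have : (b ≫ p) t₀ ∈ U := ht₀
        rw [Scheme.Hom.comp_apply] at this
        exact this
  rw [h3]
  exact (h1.image a.continuous).union (h2.image b.continuous)

theorem universallyClosed_of_jointly_surjective [UniversallyClosed (a ≫ p)]
    [UniversallyClosed (b ≫ p)] : UniversallyClosed p := by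
  constructor
  intro P' Y' i₁ i₂ p' H
  have sa : IsPullback (pullback.fst a i₁) (pullback.snd a i₁ ≫ p') (a ≫ p) i₂ :=
    (IsPullback.of_hasPullback a i₁).paste_vert H.flip
  have sb : IsPullback (pullback.fst b i₁) (pullback.snd b i₁ ≫ p') (b ≫ p) i₂ :=
    (IsPullback.of_hasPullback b i₁).paste_vert H.flip
  have ca : IsClosedMap (pullback.snd a i₁ ≫ p') :=
    UniversallyClosed.universally_isClosedMap _ _ _ sa.flip
  have cb : IsClosedMap (pullback.snd b i₁ ≫ p') :=
    UniversallyClosed.universally_isClosedMap _ _ _ sb.flip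
  intro C hC
  have h3 : p' '' C = (pullback.snd a i₁ ≫ p') '' ((pullback.snd a i₁) ⁻¹' C) ∪
      (pullback.snd b i₁ ≫ p') '' ((pullback.snd b i₁) ⁻¹' C) := by
    ext y
    constructor
    · rintro ⟨x', hx'C, rfl⟩
      rcases hsurj (i₁ x') with ⟨x₁, hx₁⟩ | ⟨t₀, ht₀⟩
      · obtain ⟨z, -, hz2⟩ := Scheme.Pullback.exists_preimage_pullback (f := a) (g := i₁) x₁ x' hx₁
        left
        refine ⟨z, ?_, ?_⟩
        · show pullback.snd a i₁ z ∈ C
          rw [hz2]
          exact hx'C
        · rw [Scheme.Hom.comp_apply, hz2]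
      · obtain ⟨z, -, hz2⟩ := Scheme.Pullback.exists_preimage_pullback (f := b) (g := i₁) t₀ x' ht₀
        right
        refine ⟨z, ?_, ?_⟩
        · show pullback.snd b i₁ z ∈ C
          rw [hz2]
          exact hx'C
        · rw [Scheme.Hom.comp_apply, hz2]
    · rintro (⟨z, hz, rfl⟩ | ⟨z, hz, rfl⟩)
      · exact ⟨pullback.snd a i₁ z, hz, (Scheme.Hom.comp_apply _ _ _).symm⟩
      · exact ⟨pullback.snd b i₁ z, hz, (Scheme.Hom.comp_apply _ _ _).symm⟩
  rw [h3]
  exact (ca _ (hC.preimage (pullback.snd a i₁).continuous)).union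
    (cb _ (hC.preimage (pullback.snd b i₁).continuous))

end

theorem isClosedImmersion_of_isClosed_range {X Y : Scheme.{u}} (f : X ⟶ Y) [IsImmersion f]
    (h : IsClosed (Set.range f)) : IsClosedImmersion f where
  isClosedEmbedding := ⟨f.isEmbedding, h⟩

section sep

variable {X T P Y : Scheme.{u}} (a : X ⟶ P) (b : T ⟶ P) (p : P ⟶ Y)
  (hsurj : ∀ x : P, (∃ x₁, a x₁ = x) ∨ (∃ t₀, b t₀ = x))

include hsurj in
theorem isSeparated_of_jointly_surjective [UniversallyClosed a] [UniversallyClosed b]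
    [IsSeparated (a ≫ p)] [IsSeparated (b ≫ p)] : IsSeparated p := by
  constructor
  apply isClosedImmersion_of_isClosed_range
  let aa : pullback (a ≫ p) (a ≫ p) ⟶ pullback p p :=
    pullback.map (a ≫ p) (a ≫ p) p p a a (𝟙 Y) ((Category.comp_id _).trans rfl)
      ((Category.comp_id _).trans rfl)
  let bb : pullback (b ≫ p) (b ≫ p) ⟶ pullback p p :=
    pullback.map (b ≫ p) (b ≫ p) p p b b (𝟙 Y) ((Category.comp_id _).trans rfl)
      ((Category.comp_id _).trans rfl)
  have haa : UniversallyClosed aa :=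
    MorphismProperty.pullbackMap (P := @UniversallyClosed) ‹_› ‹_› rfl rfl
  have hbb : UniversallyClosed bb :=
    MorphismProperty.pullbackMap (P := @UniversallyClosed) ‹_› ‹_› rfl rfl
  have haa1 : aa ≫ pullback.fst p p = pullback.fst (a ≫ p) (a ≫ p) ≫ a := pullback.lift_fst _ _ _
  have haa2 : aa ≫ pullback.snd p p = pullback.snd (a ≫ p) (a ≫ p) ≫ a := pullback.lift_snd _ _ _
  have hbb1 : bb ≫ pullback.fst p p = pullback.fst (b ≫ p) (b ≫ p) ≫ b := pullback.lift_fst _ _ _
  have hbb2 : bb ≫ pullback.snd p p = pullback.snd (b ≫ p) (b ≫ p) ≫ b := pullback.lift_snd _ _ _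
  have hda : pullback.diagonal (a ≫ p) ≫ aa = a ≫ pullback.diagonal p := by
    apply pullback.hom_ext
    · rw [Category.assoc, Category.assoc, pullback.diagonal_fst, Category.comp_id, haa1,
        ← Category.assoc, pullback.diagonal_fst, Category.id_comp]
    · rw [Category.assoc, Category.assoc, pullback.diagonal_snd, Category.comp_id, haa2,
        ← Category.assoc, pullback.diagonal_snd, Category.id_comp]
  have hdb : pullback.diagonal (b ≫ p) ≫ bb = b ≫ pullback.diagonal p := by
    apply pullback.hom_ext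
    · rw [Category.assoc, Category.assoc, pullback.diagonal_fst, Category.comp_id, hbb1,
        ← Category.assoc, pullback.diagonal_fst, Category.id_comp]
    · rw [Category.assoc, Category.assoc, pullback.diagonal_snd, Category.comp_id, hbb2,
        ← Category.assoc, pullback.diagonal_snd, Category.id_comp]
  have hra : IsClosed (Set.range (pullback.diagonal (a ≫ p))) :=
    (pullback.diagonal (a ≫ p)).isClosedEmbedding.isClosed_range
  have hrb : IsClosed (Set.range (pullback.diagonal (b ≫ p))) :=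
    (pullback.diagonal (b ≫ p)).isClosedEmbedding.isClosed_range
  have h3 : Set.range (pullback.diagonal p) = aa '' Set.range (pullback.diagonal (a ≫ p)) ∪
      bb '' Set.range (pullback.diagonal (b ≫ p)) := by
    ext y
    constructor
    · rintro ⟨x, rfl⟩
      rcases hsurj x with ⟨x₁, rfl⟩ | ⟨t₀, rfl⟩
      · left
        refine ⟨pullback.diagonal (a ≫ p) x₁, ⟨x₁, rfl⟩, ?_⟩
        rw [← Scheme.Hom.comp_apply, hda, Scheme.Hom.comp_apply]
      · right
        refine ⟨pullback.diagonal (b ≫ p) t₀, ⟨t₀, rfl⟩, ?_⟩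
        rw [← Scheme.Hom.comp_apply, hdb, Scheme.Hom.comp_apply]
    · rintro (⟨_, ⟨x₁, rfl⟩, rfl⟩ | ⟨_, ⟨t₀, rfl⟩, rfl⟩)
      · exact ⟨a x₁, by rw [← Scheme.Hom.comp_apply, ← Scheme.Hom.comp_apply, hda]⟩
      · exact ⟨b t₀, by rw [← Scheme.Hom.comp_apply, ← Scheme.Hom.comp_apply, hdb]⟩
  rw [h3]
  exact (aa.isClosedMap _ hra).union (bb.isClosedMap _ hrb)

end sep

end Groth.Agent.H49.JointSurj
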