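import Groth.Agent.H49.FerrandFiniteSet3
import Groth.Agent.H49.FerrandFT
import Groth.Agent.H49.JointSurj

/-!
# Finite type and properness of Ferrand pushouts over a base (helper49)
-/

set_option autoImplicit false
universe u
open CategoryTheory CategoryTheory.Limits AlgebraicGeometry

namespace Groth.Agent.H49.Ferrand

open Groth.Agent.H24 Chart

/-- the pinching is of finite type over a locally noetherian base, and proper if the pieces are -/
theorem finiteType_and_proper_of_isPushout {X Y T Z : Scheme.{u}} (f : X ⟶ Y) (t : T ⟶ Y)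
    (ξ : Z ⟶ T) (ι : Z ⟶ X) [IsClosedImmersion ι]
    (hstd : ∀ y : Y, ∃ U : Y.Opens, IsAffineOpen U ∧ y ∈ U ∧ ∃ V : X.Opens, IsAffineOpen V ∧
      V ≤ f ⁻¹ᵁ U ∧ ∀ z : Z, (ξ ≫ t).base z ∈ U → ι.base z ∈ V)
    [IsLocallyNoetherian Y] [LocallyOfFiniteType f] [QuasiCompact f] [LocallyOfFiniteType t]
    [QuasiCompact t] [IsFinite ξ] {P : Scheme.{u}} (a : X ⟶ P) (b : T ⟶ P)
    (hP : IsPushout ι ξ a b) (p : P ⟶ Y) (hap : a ≫ p = f) (hbp : b ≫ p = t) :
    (LocallyOfFiniteType p ∧ QuasiCompact p) ∧ (IsProper f → IsProper t → IsProper p) := by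
  haveI : IsIntegralHom ξ := inferInstance
  have haff : ∀ y' : T, ∃ V : X.Opens, IsAffineOpen V ∧ ξ ⁻¹' {y'} ⊆ ι ⁻¹' (V : Set X) := by
    intro y'
    obtain ⟨U, -, hyU, V, hV, -, hz⟩ := hstd (t y')
    refine ⟨V, hV, ?_⟩
    intro z hzy
    have hzy' : ξ z = y' := hzy
    have h1 : (ξ ≫ t).base z ∈ U := by
      show (ξ ≫ t) z ∈ U
      rw [Scheme.Hom.comp_apply, hzy']
      exact hyU
    exact hz z h1
  have hc := covers_of_haff ι ξ haff
  obtain ⟨e, h1, h2⟩ := exists_iso_of_isPushout hc hP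
  have hsurj : ∀ x : P, (∃ x₁, a x₁ = x) ∨ (∃ t₀, b t₀ = x) := by
    intro x
    have hx : e.hom (e.inv x) = x := by
      rw [← Scheme.Hom.comp_apply, e.inv_hom_id]
      rfl
    rcases exists_aG_or_bG hc (e.inv x) with ⟨x₁, hx₁⟩ | ⟨t₀, ht₀⟩
    · left
      refine ⟨x₁, ?_⟩
      rw [← h1, Scheme.Hom.comp_apply, hx₁, hx]
    · right
      refine ⟨t₀, ?_⟩
      rw [← h2, Scheme.Hom.comp_apply, ht₀, hx]
  have hlft : LocallyOfFiniteType p := by
    let r : Pglue ι ξ ⟶ Y := e.hom ≫ p
    haveI : LocallyOfFiniteType (aG hc ≫ r) := by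
      have : aG hc ≫ r = f := by rw [← Category.assoc, h1, hap]
      rw [this]
      infer_instance
    haveI : LocallyOfFiniteType (bG hc ≫ r) := by
      have : bG hc ≫ r = t := by rw [← Category.assoc, h2, hbp]
      rw [this]
      infer_instance
    haveI hr : LocallyOfFiniteType r := locallyOfFiniteType_glue hc r
    have : p = e.inv ≫ r := by simp [r]
    rw [this]
    infer_instance
  have hqc : QuasiCompact p := by
    haveI : QuasiCompact (a ≫ p) := by
      rw [hap]
      infer_instance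
    haveI : QuasiCompact (b ≫ p) := by
      rw [hbp]
      infer_instance
    exact JointSurj.quasiCompact_of_jointly_surjective a b p hsurj
  refine ⟨⟨hlft, hqc⟩, fun hf ht => ?_⟩
  obtain ⟨-, ha_int, hb_cl⟩ := props_of_isPushout hc hP
  haveI := ha_int
  haveI := hb_cl
  haveI : UniversallyClosed a := inferInstance
  haveI : UniversallyClosed b := inferInstance
  haveI : IsProper (a ≫ p) := by
    rw [hap]
    exact hf
  haveI : IsProper (b ≫ p) := by
    rw [hbp]
    exact ht
  haveI : IsSeparated p := JointSurj.isSeparated_of_jointly_surjective a b p hsurj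
  haveI : UniversallyClosed p := JointSurj.universallyClosed_of_jointly_surjective a b p hsurj
  exact { }

end Groth.Agent.H49.Ferrand
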