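import Groth.Agent.H49.FerrandChart

/-!
# Points of charts and basic neighbourhoods (helper49)
-/

set_option autoImplicit false
universe u
open CategoryTheory CategoryTheory.Limits AlgebraicGeometry

namespace Groth.Agent.H49.Ferrand

open Groth.Agent.H24

section affine

variable {T : Scheme.{u}}

/-- the prime of global functions vanishing at a point -/
noncomputable def pr (x : T) : Ideal Γ(T, ⊤) := (T.toSpecΓ x).asIdeal

instance (x : T) : (pr x).IsPrime := (T.toSpecΓ x).isPrime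

lemma mem_basicOpen_iff (f : Γ(T, ⊤)) (x : T) : x ∈ T.basicOpen f ↔ f ∉ pr x := by
  rw [← Scheme.toSpecΓ_preimage_basicOpen]
  exact Iff.rfl

lemma pr_map {T' : Scheme.{u}} (g : T ⟶ T') (x : T) :
    pr (g x) = Ideal.comap g.appTop.hom (pr x) := by
  have := congrArg (fun φ : T ⟶ Spec Γ(T', ⊤) => (φ x).asIdeal) (Scheme.toSpecΓ_naturality g)
  exact this

lemma exists_pr_eq [IsAffine T] (𝔯 : Ideal Γ(T, ⊤)) [h𝔯 : 𝔯.IsPrime] : ∃ x : T, pr x = 𝔯 := by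
  obtain ⟨x, hx⟩ := (T.isoSpec.hom.homeomorph).surjective ⟨𝔯, h𝔯⟩
  refine ⟨x, ?_⟩
  have : T.toSpecΓ x = ⟨𝔯, h𝔯⟩ := hx
  show (T.toSpecΓ x).asIdeal = 𝔯
  rw [this]

/-- the point of the prime spectrum of global functions -/
noncomputable def toPS (x : T) : PrimeSpectrum Γ(T, ⊤) := T.toSpecΓ x

lemma toPS_asIdeal (x : T) : (toPS x).asIdeal = pr x := rfl

/-- the ideal of functions vanishing off an open set -/
noncomputable def idealOf (O : T.Opens) : Ideal Γ(T, ⊤) :=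
  PrimeSpectrum.vanishingIdeal (toPS '' (O : Set T)ᶜ)

lemma idealOf_le_pr {O : T.Opens} {x : T} (hx : x ∉ O) : idealOf O ≤ pr x := by
  intro f hf
  rw [idealOf, PrimeSpectrum.mem_vanishingIdeal] at hf
  exact hf _ ⟨x, hx, rfl⟩

lemma basicOpen_le_of_mem_idealOf {O : T.Opens} {f : Γ(T, ⊤)} (hf : f ∈ idealOf O) :
    T.basicOpen f ≤ O := by
  intro x hx
  rw [mem_basicOpen_iff] at hx
  by_contra hxO
  exact hx (idealOf_le_pr hxO hf)

lemma idealOf_le_pr_iff [IsAffine T] (O : T.Opens) (x : T) : idealOf O ≤ pr x ↔ x ∉ O := by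
  refine ⟨fun h hx => ?_, idealOf_le_pr⟩
  let φ : T ≃ₜ PrimeSpectrum Γ(T, ⊤) := T.isoSpec.hom.homeomorph
  have hφ : ∀ y : T, φ y = toPS y := fun _ => rfl
  have himg : toPS '' (O : Set T)ᶜ = φ '' (O : Set T)ᶜ := rfl
  have hcl : IsClosed (toPS '' (O : Set T)ᶜ) := by
    rw [himg]
    exact φ.isClosedMap _ O.isOpen.isClosed_compl
  have hmem : toPS x ∈ PrimeSpectrum.zeroLocus
      (PrimeSpectrum.vanishingIdeal (toPS '' (O : Set T)ᶜ) : Set Γ(T, ⊤)) :=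
    (PrimeSpectrum.mem_zeroLocus _ _).mpr h
  rw [PrimeSpectrum.zeroLocus_vanishingIdeal_eq_closure, hcl.closure_eq] at hmem
  obtain ⟨y, hy, hyx⟩ := hmem
  have : y = x := φ.injective hyx
  exact hy (this ▸ hx)

end affine

variable {X Y Z : Scheme.{u}} {i : Z ⟶ X} {j : Z ⟶ Y}

namespace Chart

variable (k : Chart i j)

lemma pr_a (u : (k.U : Scheme.{u})) : (k.a u).asIdeal = Ideal.comap k.sndC (pr u) := rfl

lemma pr_b (v : (k.V : Scheme.{u})) : (k.b v).asIdeal = Ideal.comap k.fstC (pr v) := rfl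

section basic

variable [IsClosedImmersion i] [IsIntegralHom j]

lemma sep_hyp (OU : (k.U : Scheme.{u}).Opens) (OV : (k.V : Scheme.{u}).Opens)
    (hO : k.ik ⁻¹ᵁ OU = k.jk ⁻¹ᵁ OV) (𝔯 : Ideal Γ((k.W : Scheme.{u}), ⊤)) (h𝔯 : 𝔯.IsPrime) :
    idealOf OU ≤ 𝔯.comap k.ik.appTop.hom ↔ idealOf OV ≤ 𝔯.comap k.jk.appTop.hom := by
  obtain ⟨w, rfl⟩ := exists_pr_eq 𝔯
  rw [← pr_map, ← pr_map, idealOf_le_pr_iff, idealOf_le_pr_iff]
  have h1 : k.ik w ∈ OU ↔ w ∈ k.ik ⁻¹ᵁ OU := Iff.rfl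
  have h2 : k.jk w ∈ OV ↔ w ∈ k.jk ⁻¹ᵁ OV := Iff.rfl
  rw [h1, h2, hO]

theorem exists_basic_V (OU : (k.U : Scheme.{u}).Opens) (OV : (k.V : Scheme.{u}).Opens)
    (hO : k.ik ⁻¹ᵁ OU = k.jk ⁻¹ᵁ OV) (v : (k.V : Scheme.{u})) (hv : v ∈ OV) :
    ∃ c : k.RC, v ∈ (k.V : Scheme.{u}).basicOpen (k.fstC c) ∧
      (k.V : Scheme.{u}).basicOpen (k.fstC c) ≤ OV ∧
      (k.U : Scheme.{u}).basicOpen (k.sndC c) ≤ OU := by
  have hV : ¬ idealOf OV ≤ pr v := by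
    rw [idealOf_le_pr_iff]; exact fun h => h hv
  obtain ⟨c, hc1, hc2, hc3⟩ := MilnorPrime.exists_fst_notMem k.milnor k.jk_appTop_isIntegral
    (idealOf OV) (idealOf OU) (k.sep_hyp OU OV hO) (pr v) hV
  exact ⟨c, (mem_basicOpen_iff _ _).mpr hc3, basicOpen_le_of_mem_idealOf hc1,
    basicOpen_le_of_mem_idealOf hc2⟩

theorem exists_basic_U (OU : (k.U : Scheme.{u}).Opens) (OV : (k.V : Scheme.{u}).Opens)
    (hO : k.ik ⁻¹ᵁ OU = k.jk ⁻¹ᵁ OV) (u : (k.U : Scheme.{u})) (hu : u ∈ OU) :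
    ∃ c : k.RC, u ∈ (k.U : Scheme.{u}).basicOpen (k.sndC c) ∧
      (k.V : Scheme.{u}).basicOpen (k.fstC c) ≤ OV ∧
      (k.U : Scheme.{u}).basicOpen (k.sndC c) ≤ OU := by
  have hU : ¬ idealOf OU ≤ pr u := by
    rw [idealOf_le_pr_iff]; exact fun h => h hu
  obtain ⟨c, hc1, hc2, hc3⟩ := MilnorPrime.exists_snd_notMem k.milnor k.jk_appTop_isIntegral
    (idealOf OV) (idealOf OU) (k.sep_hyp OU OV hO) (pr u) hU
  exact ⟨c, (mem_basicOpen_iff _ _).mpr hc3, basicOpen_le_of_mem_idealOf hc1,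
    basicOpen_le_of_mem_idealOf hc2⟩

end basic

end Chart

end Groth.Agent.H49.Ferrand
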