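import Groth.Agent.H49.FerrandProper

/-!
# Separatedness and quasi-separatedness of Ferrand pushouts over a base (helper49)
-/

set_option autoImplicit false
universe u
open CategoryTheory CategoryTheory.Limits AlgebraicGeometry

namespace Groth.Agent.H49.Ferrand

open Groth.Agent.H24 Chart

theorem separated_and_quasiSeparated_of_isPushout {X Y Z P S : Scheme.{u}} (i : Z ⟶ X)
    (j : Z ⟶ Y) [IsClosedImmersion i] [IsIntegralHom j]
    (haff : ∀ y : Y, ∃ U : X.Opens, IsAffineOpen U ∧ j ⁻¹' {y} ⊆ (i ⁻¹ᵁ U : Set ↑Z))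
    (a : X ⟶ P) (b : Y ⟶ P) (hP : IsPushout i j a b) (p : X ⟶ S) (q : Y ⟶ S) (r : P ⟶ S)
    (hp : a ≫ r = p) (hq : b ≫ r = q) :
    ((IsSeparated p ∧ IsSeparated q) → IsSeparated r) ∧
      ((QuasiSeparated p ∧ QuasiSeparated q) → QuasiSeparated r) := by
  have hc := covers_of_haff i j haff
  obtain ⟨e, h1, h2⟩ := exists_iso_of_isPushout hc hP
  have hsurj : ∀ x : P, (∃ x₁, a x₁ = x) ∨ (∃ t₀, b t₀ = x) := by
    intro x
    have hx : e.hom (e.inv x) = x := by
      rw [← Scheme.Hom.comp_apply, e.inv_hom_id]
      rfl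
    rcases exists_aG_or_bG hc (e.inv x) with ⟨x₁, hx₁⟩ | ⟨t₀, ht₀⟩
    · left
      refine ⟨x₁, ?_⟩
      rw [← h1, Scheme.Hom.comp_apply, hx₁, hx]
    · right
      refine ⟨t₀, ?_⟩
      rw [← h2, Scheme.Hom.comp_apply, ht₀, hx]
  obtain ⟨-, ha_int, hb_cl⟩ := props_of_isPushout hc hP
  haveI := ha_int
  haveI := hb_cl
  haveI : UniversallyClosed a := inferInstance
  haveI : UniversallyClosed b := inferInstance
  refine ⟨?_, ?_⟩
  · rintro ⟨hps, hqs⟩
    haveI : IsSeparated (a ≫ r) := by rw [hp]; exact hps
    haveI : IsSeparated (b ≫ r) := by rw [hq]; exact hqs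
    exact JointSurj.isSeparated_of_jointly_surjective a b r hsurj
  · rintro ⟨hps, hqs⟩
    haveI : QuasiSeparated (a ≫ r) := by rw [hp]; exact hps
    haveI : QuasiSeparated (b ≫ r) := by rw [hq]; exact hqs
    constructor
    let aa : pullback (a ≫ r) (a ≫ r) ⟶ pullback r r :=
      pullback.map (a ≫ r) (a ≫ r) r r a a (𝟙 S) ((Category.comp_id _).trans rfl)
        ((Category.comp_id _).trans rfl)
    let bb : pullback (b ≫ r) (b ≫ r) ⟶ pullback r r :=
      pullback.map (b ≫ r) (b ≫ r) r r b b (𝟙 S) ((Category.comp_id _).trans rfl)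
        ((Category.comp_id _).trans rfl)
    haveI : QuasiCompact a := inferInstance
    haveI : QuasiCompact b := inferInstance
    have haa : QuasiCompact aa :=
      MorphismProperty.pullbackMap (P := @QuasiCompact) ‹_› ‹_› rfl rfl
    have hbb : QuasiCompact bb :=
      MorphismProperty.pullbackMap (P := @QuasiCompact) ‹_› ‹_› rfl rfl
    have ea : a ≫ pullback.diagonal r = pullback.diagonal (a ≫ r) ≫ aa := by
      apply pullback.hom_ext
      · rw [Category.assoc, pullback.diagonal_fst, Category.comp_id, Category.assoc]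
        show a = pullback.diagonal (a ≫ r) ≫ pullback.lift _ _ _ ≫ pullback.fst r r
        rw [pullback.lift_fst, pullback.diagonal_fst_assoc]
      · rw [Category.assoc, pullback.diagonal_snd, Category.comp_id, Category.assoc]
        show a = pullback.diagonal (a ≫ r) ≫ pullback.lift _ _ _ ≫ pullback.snd r r
        rw [pullback.lift_snd, pullback.diagonal_snd_assoc]
    have eb : b ≫ pullback.diagonal r = pullback.diagonal (b ≫ r) ≫ bb := by
      apply pullback.hom_ext
      · rw [Category.assoc, pullback.diagonal_fst, Category.comp_id, Category.assoc]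
        show b = pullback.diagonal (b ≫ r) ≫ pullback.lift _ _ _ ≫ pullback.fst r r
        rw [pullback.lift_fst, pullback.diagonal_fst_assoc]
      · rw [Category.assoc, pullback.diagonal_snd, Category.comp_id, Category.assoc]
        show b = pullback.diagonal (b ≫ r) ≫ pullback.lift _ _ _ ≫ pullback.snd r r
        rw [pullback.lift_snd, pullback.diagonal_snd_assoc]
    haveI : QuasiCompact (pullback.diagonal (a ≫ r)) := QuasiSeparated.quasiCompact_diagonal
    haveI : QuasiCompact (pullback.diagonal (b ≫ r)) := QuasiSeparated.quasiCompact_diagonal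
    haveI : QuasiCompact (a ≫ pullback.diagonal r) := by rw [ea]; infer_instance
    haveI : QuasiCompact (b ≫ pullback.diagonal r) := by rw [eb]; infer_instance
    exact JointSurj.quasiCompact_of_jointly_surjective a b (pullback.diagonal r) hsurj

end Groth.Agent.H49.Ferrand
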