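import Mathlib
import Groth.Agent.H49.FibreCritSch
import Groth.Agent.H8.LocFreeStalk

/-!
# Freeness near a point from flatness over the base and flatness of the fibre (S1393)
-/

set_option autoImplicit false
set_option linter.style.haveILetI false

universe u

open AlgebraicGeometry CategoryTheory Limits TensorProduct

namespace Groth.Agent.H49.FibreCrit

variable {X S : Scheme.{u}}

/-- Statement of S1393, assuming the local criterion `Core` (S2106). -/
theorem free_near_point (H : Core.{u}) (f : X ⟶ S) [LocallyOfFinitePresentation f]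
    (F : X.Modules) (hFq : Coh.IsQCoh F) (hFp : CohB1.IsFP F) (x : X)
    (h1 : FlatMod.IsFlatOverAt f F x)
    (h2 : Module.Flat (↑(X.presheaf.stalk x) ⧸ Ideal.map (f.stalkMap x).hom
        (IsLocalRing.maximalIdeal ↑(S.presheaf.stalk (f x))))
      (↑(F.presheaf.stalk x) ⧸ (Ideal.map (f.stalkMap x).hom
        (IsLocalRing.maximalIdeal ↑(S.presheaf.stalk (f x))) •
          (⊤ : Submodule ↑(X.presheaf.stalk x) ↑(F.presheaf.stalk x))))) :
    ∃ (U : X.Opens) (n : ℕ), x ∈ U ∧ Nonempty (F.restrict U.ι ≅ FlatMod.freeMod (↑U) n) := by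
  haveI : F.IsQuasicoherent := hFq
  haveI hfpx := finitePresentation_stalk F hFq hFp x
  have hfree : Module.Free (X.presheaf.stalk x) (F.presheaf.stalk x) := by
    by_cases hnt : Nontrivial (F.presheaf.stalk x)
    · letI alg : Algebra (S.presheaf.stalk (f x)) (X.presheaf.stalk x) :=
        (f.stalkMap x).hom.toAlgebra
      have hC := isEssFinitePresentation_stalk f x
      letI : Module (S.presheaf.stalk (f x)) (F.presheaf.stalk x) :=
        Module.compHom (F.presheaf.stalk x) (f.stalkMap x).hom
      haveI : IsScalarTower (S.presheaf.stalk (f x)) (X.presheaf.stalk x) (F.presheaf.stalk x) :=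
        ⟨fun a b m => by
          change ((f.stalkMap x).hom a * b) • m = (f.stalkMap x).hom a • (b • m)
          rw [mul_smul]⟩
      haveI : IsLocalHom (algebraMap (S.presheaf.stalk (f x)) (X.presheaf.stalk x)) :=
        inferInstanceAs (IsLocalHom (f.stalkMap x).hom)
      haveI : Module.Flat (S.presheaf.stalk (f x)) (F.presheaf.stalk x) := h1
      haveI : Module.Flat (X.presheaf.stalk x) (F.presheaf.stalk x) :=
        (H (R := S.presheaf.stalk (f x)) (S := X.presheaf.stalk x) (S' := X.presheaf.stalk x)
          (M := F.presheaf.stalk x) hC hC h2).2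
      exact Module.free_of_flat_of_isLocalRing
    · haveI : Subsingleton (F.presheaf.stalk x) := not_nontrivial_iff_subsingleton.mp hnt
      exact Module.Free.of_subsingleton _ _
  haveI := hfree
  obtain ⟨U, hU, hxU, -⟩ :=
    exists_isAffineOpen_mem_and_subset (x := x) (U := (⊤ : X.Opens)) trivial
  haveI : SheafOfModules.IsFinitePresentation (R := X.ringCatSheaf) F := hFp
  haveI : Module.FinitePresentation Γ(X, U) Γ(F, U) :=
    Groth.Agent.H8.finitePresentation_sections_of_isAffineOpen F hU
  obtain ⟨r, hxr, n, hn⟩ :=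
    Groth.Agent.H8.exists_basicOpen_restrict_iso_freeMod_of_free_stalk F hU x hxU
  exact ⟨X.basicOpen r, n, hxr, hn⟩

end Groth.Agent.H49.FibreCrit
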