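import Mathlib
import Groth.Prelude.Def_ega3
import Groth.Agent.H49.NearFibre

/-!
The locus where a morphism of proper flat finitely presented schemes is fibrewise an isomorphism
is open, and the morphism is an isomorphism over it (helper49).
-/

set_option autoImplicit false
universe u

open AlgebraicGeometry CategoryTheory Limits TensorProduct

namespace Groth.Agent.H49.FibreIso

/-- For a finite module `M` over `A` and a field `K` over `A` with kernel `q`:
`K ⊗ M ≠ 0` iff `q ∈ Supp M`. -/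
theorem nontrivial_tensor_field_iff {A : Type*} [CommRing A] (M : Type*) [AddCommGroup M]
    [Module A M] [Module.Finite A M] (K : Type*) [Field K] [Algebra A K] (q : PrimeSpectrum A)
    (hq : q.asIdeal = RingHom.ker (algebraMap A K)) :
    Nontrivial (K ⊗[A] M) ↔ q ∈ Module.support A M := by
  rw [Module.mem_support_iff_nontrivial_residueField_tensorProduct]
  let φ : q.asIdeal.ResidueField →+* K :=
    Ideal.ResidueField.lift q.asIdeal (algebraMap A K) (by rw [hq]) (by
      intro x hx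
      simp only [Submonoid.mem_comap, IsUnit.mem_submonoid_iff, isUnit_iff_ne_zero]
      intro h
      exact hx (by rw [hq]; exact h))
  letI : Algebra q.asIdeal.ResidueField K := φ.toAlgebra
  haveI : IsScalarTower A q.asIdeal.ResidueField K := .of_algebraMap_eq fun x =>
    (Ideal.ResidueField.lift_algebraMap _ _ _ _ x).symm
  let e : K ⊗[q.asIdeal.ResidueField] (q.asIdeal.ResidueField ⊗[A] M) ≃ₗ[K] K ⊗[A] M :=
    AlgebraTensorModule.cancelBaseChange A q.asIdeal.ResidueField K K M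
  rw [← e.nontrivial_congr]
  exact Module.FaithfullyFlat.nontrivial_tensorProduct_iff_right _ _

/-- The key algebraic lemma: if `B → A` is a surjection of `R`-algebras with `A` flat over `R`
and finitely generated kernel `I`, and `I` dies in `K ⊗[R] B`, then `I` is annihilated by an
element of `B` not vanishing at a given `L`-point lying over a `K`-point. -/
theorem exists_mul_eq_zero_of_tmul_eq_zero {R B A K L : Type*} [CommRing R] [CommRing B]
    [CommRing A] [CommRing K] [Field L]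
    [Algebra R B] [Algebra R A] [Algebra R K] [Algebra B L] [Algebra K L] [Algebra R L]
    [IsScalarTower R B L] [IsScalarTower R K L]
    (ψ : B →ₐ[R] A) (hψ : Function.Surjective ψ) [Module.Flat R A]
    (hI : (RingHom.ker ψ.toRingHom).FG)
    (hzero : ∀ i ∈ RingHom.ker ψ.toRingHom, ∀ k : K, k ⊗ₜ[R] i = (0 : K ⊗[R] B)) :
    ∃ b : B, algebraMap B L b ≠ 0 ∧ ∀ i ∈ RingHom.ker ψ.toRingHom, b * i = 0 := by
  set I : Ideal B := RingHom.ker ψ.toRingHom with hIdef
  have hex : Function.Exact ((Submodule.subtype I).restrictScalars R) ψ.toLinearMap := by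
    intro b
    constructor
    · intro hb
      exact ⟨⟨b, (RingHom.mem_ker).mpr (show ψ.toRingHom b = 0 from hb)⟩, rfl⟩
    · rintro ⟨i, rfl⟩
      exact (RingHom.mem_ker (f := ψ.toRingHom)).mp i.2
  have hinj : Function.Injective (((Submodule.subtype I).restrictScalars R).lTensor K) :=
    LinearMap.lTensor_injective_of_exact_of_flat ψ.toLinearMap hψ
      ((Submodule.subtype I).restrictScalars R) Subtype.val_injective hex K
  have h1 : ∀ (k : K) (i : I), k ⊗ₜ[R] i = (0 : K ⊗[R] I) := by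
    intro k i
    apply hinj
    rw [LinearMap.lTensor_tmul, map_zero]
    exact hzero i.1 i.2 k
  have hsm : ∀ (c : R) (k : K), algebraMap K L (c • k) = c • algebraMap K L k := fun c k => by
    rw [Algebra.smul_def c k, map_mul, ← IsScalarTower.algebraMap_apply R K L,
      Algebra.smul_def c (algebraMap K L k)]
  let Φ : K ⊗[R] I →ₗ[R] L ⊗[B] I :=
    TensorProduct.lift (LinearMap.mk₂ R (fun (k : K) (i : I) => (algebraMap K L k) ⊗ₜ[B] i)
      (fun k₁ k₂ i => by rw [map_add, TensorProduct.add_tmul])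
      (fun c k i => by rw [hsm, TensorProduct.smul_tmul'])
      (fun k i₁ i₂ => TensorProduct.tmul_add _ _ _)
      (fun c k i => by
        rw [← algebraMap_smul B c i, ← TensorProduct.smul_tmul, algebraMap_smul,
          TensorProduct.smul_tmul']))
  have h2 : ∀ i : I, (1 : L) ⊗ₜ[B] i = (0 : L ⊗[B] I) := fun i => by
    have e1 : Φ ((1 : K) ⊗ₜ[R] i) = (algebraMap K L 1) ⊗ₜ[B] i := TensorProduct.lift.tmul _ _
    rw [h1 1 i, map_zero, map_one] at e1
    exact e1.symm
  have hz : ∀ t : L ⊗[B] I, t = 0 := fun t => by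
    induction t using TensorProduct.induction_on with
    | zero => rfl
    | tmul l i =>
      have : l ⊗ₜ[B] i = l • ((1 : L) ⊗ₜ[B] i) := by
        rw [TensorProduct.smul_tmul', smul_eq_mul, mul_one]
      rw [this, h2, smul_zero]
    | add a b ha hb => rw [ha, hb, add_zero]
  have h3 : Subsingleton (L ⊗[B] I) := ⟨fun a b => by rw [hz a, hz b]⟩
  haveI : Module.Finite B I := Module.Finite.iff_fg.mpr hI
  let q : PrimeSpectrum B := ⟨RingHom.ker (algebraMap B L), RingHom.ker_isPrime _⟩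
  have hq : q ∉ Module.support B I := by
    rw [← nontrivial_tensor_field_iff I L q rfl]
    exact not_nontrivial_iff_subsingleton.mpr h3
  rw [Module.mem_support_iff_of_finite, SetLike.not_le_iff_exists] at hq
  obtain ⟨b, hb, hbq⟩ := hq
  refine ⟨b, fun h0 => hbq ((RingHom.mem_ker).mpr h0), fun i hi => ?_⟩
  have := (Module.mem_annihilator.mp hb) ⟨i, hi⟩
  exact congrArg Subtype.val this

/-- The key lemma in categorical clothing. -/
theorem exists_mul_eq_zero_of_isPushout {R B A K C : CommRingCat.{u}} {L : Type u} [Field L]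
    (φ : R ⟶ B) (ψ : B ⟶ A) (κ : R ⟶ K) (β : B ⟶ C) (γ : K ⟶ C) (ev : C →+* L)
    (hpo : IsPushout φ κ β γ)
    (hψ : Function.Surjective ψ.hom) (hflat : (φ ≫ ψ).hom.Flat)
    (hfpB : φ.hom.FinitePresentation) (hfpA : (φ ≫ ψ).hom.FinitePresentation)
    (hzero : ∀ i ∈ RingHom.ker ψ.hom, β.hom i = 0) :
    ∃ b : B, ev (β.hom b) ≠ 0 ∧ ∀ i ∈ RingHom.ker ψ.hom, b * i = 0 := by
  letI : Algebra R B := φ.hom.toAlgebra
  letI : Algebra R A := (φ ≫ ψ).hom.toAlgebra
  letI : Algebra R K := κ.hom.toAlgebra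
  letI : Algebra B C := β.hom.toAlgebra
  letI : Algebra K C := γ.hom.toAlgebra
  letI : Algebra R C := (β.hom.comp φ.hom).toAlgebra
  haveI : IsScalarTower R B C := .of_algebraMap_eq' rfl
  have hw : β.hom.comp φ.hom = γ.hom.comp κ.hom := by
    rw [← CommRingCat.hom_comp, ← CommRingCat.hom_comp, hpo.w]
  haveI : IsScalarTower R K C := .of_algebraMap_eq' hw
  haveI : Algebra.IsPushout R B K C := CommRingCat.isPushout_iff_isPushout.mp hpo
  haveI : Algebra.IsPushout R K B C := Algebra.IsPushout.symm inferInstance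
  letI : Algebra B L := (ev.comp β.hom).toAlgebra
  letI : Algebra K L := (ev.comp γ.hom).toAlgebra
  letI : Algebra R L := (ev.comp (β.hom.comp φ.hom)).toAlgebra
  haveI : IsScalarTower R B L := .of_algebraMap_eq' rfl
  haveI : IsScalarTower R K L := .of_algebraMap_eq' (by
    change ev.comp (β.hom.comp φ.hom) = (ev.comp γ.hom).comp κ.hom
    rw [hw, RingHom.comp_assoc])
  haveI : Module.Flat R A := hflat
  haveI : Algebra.FinitePresentation R B := hfpB
  haveI : Algebra.FinitePresentation R A := hfpA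
  let ψ' : B →ₐ[R] A := { ψ.hom with commutes' := fun r => rfl }
  have hI : (RingHom.ker ψ'.toRingHom).FG :=
    Algebra.FinitePresentation.ker_fG_of_surjective ψ' hψ
  obtain ⟨b, hb, hann⟩ := exists_mul_eq_zero_of_tmul_eq_zero (K := K) (L := L) ψ' hψ hI (by
    intro i hi k
    apply (Algebra.IsPushout.equiv R K B C).injective
    rw [map_zero, Algebra.IsPushout.equiv_tmul]
    have : algebraMap B C i = 0 := hzero i hi
    rw [this, mul_zero])
  exact ⟨b, hb, hann⟩

/-- Injectivity of a localized surjection whose kernel is killed by the localizing element. -/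
theorem injective_of_away {B A Bb Ab : Type*} [CommRing B] [CommRing A] [CommRing Bb]
    [CommRing Ab] (ψ : B →+* A) (b : B) (hann : ∀ i ∈ RingHom.ker ψ, b * i = 0)
    (ρ : B →+* Bb) (ρ' : A →+* Ab)
    (h₁ : @IsLocalization.Away B _ b Bb _ ρ.toAlgebra)
    (h₂ : @IsLocalization.Away A _ (ψ b) Ab _ ρ'.toAlgebra)
    (ψb : Bb →+* Ab) (hcomm : ψb.comp ρ = ρ'.comp ψ) : Function.Injective ψb := by
  letI := ρ.toAlgebra
  letI := ρ'.toAlgebra
  haveI : IsLocalization.Away b Bb := h₁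
  haveI : IsLocalization.Away (ψ b) Ab := h₂
  rw [injective_iff_map_eq_zero]
  intro c hc
  obtain ⟨⟨β, t⟩, hβ⟩ := IsLocalization.surj (Submonoid.powers b) c
  have h3 : algebraMap A Ab (ψ β) = 0 := by
    have := congrArg (fun r => r β) hcomm
    simp only [RingHom.comp_apply] at this
    change ρ' (ψ β) = 0
    rw [← this]
    change ψb (algebraMap B Bb β) = 0
    rw [← hβ, map_mul, hc, zero_mul]
  obtain ⟨⟨_, m, rfl⟩, hm⟩ :=
    (IsLocalization.map_eq_zero_iff (Submonoid.powers (ψ b)) Ab (ψ β)).mp h3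
  have h4 : b ^ m * β ∈ RingHom.ker ψ := by
    rw [RingHom.mem_ker, map_mul, map_pow]; exact hm
  have h5 : b * (b ^ m * β) = 0 := hann _ h4
  have h6 : algebraMap B Bb β = 0 := by
    rw [IsLocalization.map_eq_zero_iff (Submonoid.powers b) Bb β]
    exact ⟨⟨b ^ (m + 1), m + 1, rfl⟩, by
      show b ^ (m + 1) * β = 0
      rw [pow_succ', mul_assoc]; exact h5⟩
  rw [h6] at hβ
  exact (IsUnit.mul_left_eq_zero (IsLocalization.map_units Bb t)).mp hβ

section Scheme

variable {X Y S : Scheme.{u}}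

theorem bijective_hom_of_isIso {A B : CommRingCat.{u}} (t : A ⟶ B) [IsIso t] :
    Function.Bijective t.hom := ConcreteCategory.bijective_of_isIso t

theorem injective_appTop_morphismRestrict (f : X ⟶ Y) (U : Y.Opens)
    (H : Function.Injective (f.app U).hom) : Function.Injective (f ∣_ U).appTop.hom := by
  have : ∀ (U' : Y.Opens) (_ : U' = U), Function.Injective (f.app U').hom := by
    rintro _ rfl; exact H
  rw [morphismRestrict_appTop]
  exact Function.Injective.comp
    (g := (X.presheaf.map (eqToHom (image_morphismRestrict_preimage f U ⊤)).op).hom)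
    (f := (f.app (U.ι ''ᵁ ⊤)).hom) (bijective_hom_of_isIso _).1
    (this _ (Scheme.Opens.ι_image_top U))

theorem surjective_app_of_morphismRestrict (f : X ⟶ Y) (U : Y.Opens)
    (H : Function.Surjective (f ∣_ U).appTop.hom) : Function.Surjective (f.app U).hom := by
  rw [morphismRestrict_appTop] at H
  have h1 : Function.Surjective (f.app (U.ι ''ᵁ ⊤)).hom :=
    Function.Surjective.of_comp_left
      (f := (X.presheaf.map (eqToHom (image_morphismRestrict_preimage f U ⊤)).op).hom)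
      (g := (f.app (U.ι ''ᵁ ⊤)).hom) H (bijective_hom_of_isIso _).1
  have : ∀ (U' : Y.Opens) (_ : U' = U), Function.Surjective (f.app U').hom →
      Function.Surjective (f.app U).hom := by
    rintro _ rfl h; exact h
  exact this _ (Scheme.Opens.ι_image_top U) h1

/-- Sections along a commutative square of schemes. -/
theorem appLE_comp_app_eq_of_eq {P Q : Scheme.{u}} (a : P ⟶ Q) (ι₁ : Q ⟶ Y) (ι₂ : P ⟶ X)
    (f : X ⟶ Y) (w : a ≫ ι₁ = ι₂ ≫ f) (V : Y.Opens) (UQ : Q.Opens) (hUQ : UQ ≤ ι₁ ⁻¹ᵁ V)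
    (hle : a ⁻¹ᵁ UQ ≤ ι₂ ⁻¹ᵁ (f ⁻¹ᵁ V)) :
    ι₁.appLE V UQ hUQ ≫ a.app UQ = f.app V ≫ ι₂.appLE (f ⁻¹ᵁ V) (a ⁻¹ᵁ UQ) hle := by
  rw [Scheme.Hom.app_eq_appLE (f := a), Scheme.Hom.appLE_comp_appLE, ← Scheme.Hom.comp_appLE]
  have : ∀ (v : P ⟶ Y) (hv : v = ι₂ ≫ f) (e' : a ⁻¹ᵁ UQ ≤ v ⁻¹ᵁ V),
      v.appLE V (a ⁻¹ᵁ UQ) e' = (ι₂ ≫ f).appLE V (a ⁻¹ᵁ UQ) (by subst hv; exact e') := by
    rintro v rfl e'; rfl
  exact this _ w _

/-- The local statement: near a point of the fibre over `s`, a closed immersion `f` which is an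
isomorphism on the fibres over `s` is an isomorphism, provided the source is flat and of finite
presentation over the base. -/
theorem exists_isIso_morphismRestrict_of_fibre_iso (f : X ⟶ Y) (h : Y ⟶ S)
    [LocallyOfFinitePresentation (f ≫ h)] [Flat (f ≫ h)] [LocallyOfFinitePresentation h]
    (s : S) (W : Y.Opens) (hW : IsClosedImmersion (f ∣_ W))
    (e : (f ≫ h).fiber s ≅ h.fiber s) (he : e.hom ≫ h.fiberι s = (f ≫ h).fiberι s ≫ f)
    (y' : h.fiber s) (hyW : h.fiberι s y' ∈ W) :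
    ∃ V' : Y.Opens, h.fiberι s y' ∈ V' ∧ IsIso (f ∣_ V') := by
  have hys : h (h.fiberι s y') = s := by
    have : h.fiberι s y' ∈ Set.range (h.fiberι s) := ⟨y', rfl⟩
    rw [h.range_fiberι] at this
    exact this
  obtain ⟨US, hUS, hsUS, -⟩ :=
    exists_isAffineOpen_mem_and_subset (x := s) (U := (⊤ : S.Opens)) trivial
  have hyU : h.fiberι s y' ∈ h ⁻¹ᵁ US ⊓ W :=
    ⟨by show h (h.fiberι s y') ∈ US; rw [hys]; exact hsUS, hyW⟩
  obtain ⟨V, hV, hyV, hVle⟩ :=
    exists_isAffineOpen_mem_and_subset (x := h.fiberι s y') (U := h ⁻¹ᵁ US ⊓ W) hyU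
  have hVle' : V ≤ h ⁻¹ᵁ US ⊓ W := hVle
  have hVUS : V ≤ h ⁻¹ᵁ US := hVle'.trans inf_le_left
  have hVW : V ≤ W := hVle'.trans inf_le_right
  haveI hciV : IsClosedImmersion (f ∣_ V) :=
    Groth.Agent.H54.morphismRestrict_of_le @IsClosedImmersion f hVW hW
  haveI : IsAffine V.toScheme := hV
  have hXV : IsAffineOpen (f ⁻¹ᵁ V) := isAffine_of_isAffineHom (f ∣_ V)
  have hψ : Function.Surjective (f.app V).hom :=
    surjective_app_of_morphismRestrict f V
      (IsClosedImmersion.isAffine_surjective_of_isAffine (f ∣_ V)).2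
  have H : IsPullback (h.fiberι s) (h.fiberToSpecResidueField s) h (S.fromSpecResidueField s) :=
    IsPullback.of_hasPullback _ _
  have hUST : (⊤ : (Spec (S.residueField s)).Opens) ≤ (S.fromSpecResidueField s) ⁻¹ᵁ US := by
    intro p _
    show S.fromSpecResidueField s p ∈ US
    rw [Scheme.fromSpecResidueField_apply]; exact hsUS
  let UY : (h.fiber s).Opens := h.fiberι s ⁻¹ᵁ V ⊓ h.fiberToSpecResidueField s ⁻¹ᵁ ⊤
  have hy'UY : y' ∈ UY := ⟨hyV, trivial⟩
  have hpo := (isIso_pushoutSection_iff H hUST hVUS (rfl : UY = _)).mp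
    (isIso_pushoutSection_of_isAffineOpen H hUST hVUS rfl hUS (isAffineOpen_top _) hV)
  have hflat : (h.appLE US V hVUS ≫ f.app V).hom.Flat := by
    rw [Scheme.Hom.app_eq_appLE, Scheme.Hom.appLE_comp_appLE]
    exact (f ≫ h).flat_appLE hUS hXV _
  have hfpA : (h.appLE US V hVUS ≫ f.app V).hom.FinitePresentation := by
    rw [Scheme.Hom.app_eq_appLE, Scheme.Hom.appLE_comp_appLE]
    exact (f ≫ h).finitePresentation_appLE hUS hXV _
  have hfpB : (h.appLE US V hVUS).hom.FinitePresentation :=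
    h.finitePresentation_appLE hUS hV hVUS
  have hle : e.hom ⁻¹ᵁ UY ≤ ((f ≫ h).fiberι s) ⁻¹ᵁ (f ⁻¹ᵁ V) := by
    intro x hx
    have h1 : (h.fiberι s) (e.hom x) ∈ V := hx.1
    have h2 : (e.hom ≫ h.fiberι s) x = ((f ≫ h).fiberι s ≫ f) x := by rw [he]
    rw [Scheme.Hom.comp_apply, Scheme.Hom.comp_apply] at h2
    show f (((f ≫ h).fiberι s) x) ∈ V
    rw [← h2]; exact h1
  have hzero : ∀ i ∈ RingHom.ker (f.app V).hom,
      ((h.fiberι s).appLE V UY inf_le_left).hom i = 0 := by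
    intro i hi
    apply (bijective_hom_of_isIso (e.hom.app UY)).1
    rw [map_zero]
    have key := appLE_comp_app_eq_of_eq e.hom (h.fiberι s) ((f ≫ h).fiberι s) f he V UY
      inf_le_left hle
    have := congrArg (fun t => t.hom i) key
    simp only [CommRingCat.hom_comp, RingHom.comp_apply] at this
    rw [this, (RingHom.mem_ker).mp hi, map_zero]
  obtain ⟨b, hb, hann⟩ := exists_mul_eq_zero_of_isPushout (h.appLE US V hVUS) (f.app V)
    ((S.fromSpecResidueField s).appLE US ⊤ hUST) _ _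
    ((h.fiber s).evaluation UY y' hy'UY).hom hpo hψ hflat hfpB hfpA hzero
  have hyb : h.fiberι s y' ∈ Y.basicOpen b := by
    have h1 : y' ∈ (h.fiber s).basicOpen ((h.fiberι s).appLE V UY inf_le_left b) :=
      (Scheme.evaluation_ne_zero_iff_mem_basicOpen _ y' hy'UY _).mp hb
    rw [Scheme.basicOpen_appLE] at h1
    exact h1.2
  refine ⟨Y.basicOpen b, hyb, ?_⟩
  have hV'V : Y.basicOpen b ≤ V := Y.basicOpen_le b
  haveI : IsClosedImmersion (f ∣_ Y.basicOpen b) :=
    Groth.Agent.H54.morphismRestrict_of_le @IsClosedImmersion f (hV'V.trans hVW) hW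
  haveI : IsAffine (Y.basicOpen b).toScheme := hV.basicOpen b
  refine IsClosedImmersion.isIso_of_injective_of_isAffine
    (injective_appTop_morphismRestrict f _ ?_)
  have e' : f ⁻¹ᵁ Y.basicOpen b = X.basicOpen ((f.app V).hom b) := Scheme.preimage_basicOpen f b
  refine injective_of_away (f.app V).hom b hann (Y.presheaf.map (homOfLE hV'V).op).hom
    (X.presheaf.map (homOfLE (f.preimage_mono hV'V)).op).hom
    (hV.isLocalization_of_eq_basicOpen b (homOfLE hV'V) rfl)
    (hXV.isLocalization_of_eq_basicOpen ((f.app V).hom b) (homOfLE (f.preimage_mono hV'V)) e')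
    (f.app (Y.basicOpen b)).hom ?_
  rw [← CommRingCat.hom_comp, ← CommRingCat.hom_comp]
  congr 1
  exact f.naturality (homOfLE hV'V).op

/-- If `f` is an isomorphism over `h⁻¹ U`, then the fibre maps over points of `U` are
isomorphisms. -/
theorem fibre_iso_of_isIso_restrict (f : X ⟶ Y) (h : Y ⟶ S) (U : S.Opens)
    (hiso : IsIso (f ∣_ (h ⁻¹ᵁ U))) (s : S) (hs : s ∈ U) :
    ∃ e : (f ≫ h).fiber s ≅ h.fiber s, e.hom ≫ h.fiberι s = (f ≫ h).fiberι s ≫ f := by
  have HP := Groth.Agent.H49.NearFibre.isPullback_fiberMapOver f h s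
  have hrange : Set.range (h.fiberι s) ⊆ Set.range (h ⁻¹ᵁ U).ι := by
    rw [h.range_fiberι, Scheme.Opens.range_ι]
    intro y hy
    show h y ∈ U
    rw [hy]; exact hs
  let j : h.fiber s ⟶ (h ⁻¹ᵁ U).toScheme := IsOpenImmersion.lift (h ⁻¹ᵁ U).ι (h.fiberι s) hrange
  have hj : j ≫ (h ⁻¹ᵁ U).ι = h.fiberι s := IsOpenImmersion.lift_fac _ _ _
  have HR := isPullback_morphismRestrict f (h ⁻¹ᵁ U)
  have w : (CohIII.fiberMapOver f (f ≫ h) h rfl s ≫ j) ≫ (h ⁻¹ᵁ U).ι =
      (f ≫ h).fiberι s ≫ f := by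
    rw [Category.assoc, hj]; exact HP.w.symm
  let k := HR.lift _ _ w
  have hk₁ : k ≫ f ∣_ (h ⁻¹ᵁ U) = CohIII.fiberMapOver f (f ≫ h) h rfl s ≫ j :=
    HR.lift_fst _ _ w
  have hk₂ : k ≫ (f ⁻¹ᵁ (h ⁻¹ᵁ U)).ι = (f ≫ h).fiberι s := HR.lift_snd _ _ w
  have s' : IsPullback (k ≫ (f ⁻¹ᵁ (h ⁻¹ᵁ U)).ι) (CohIII.fiberMapOver f (f ≫ h) h rfl s) f
      (j ≫ (h ⁻¹ᵁ U).ι) := by
    rw [hk₂, hj]; exact HP
  have HL := IsPullback.of_right s' hk₁ HR.flip
  haveI := hiso
  haveI : IsIso (CohIII.fiberMapOver f (f ≫ h) h rfl s) := HL.isIso_snd_of_isIso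
  exact ⟨asIso (CohIII.fiberMapOver f (f ≫ h) h rfl s), HP.w.symm⟩

/-- The main theorem. -/
theorem main (f : X ⟶ Y) (h : Y ⟶ S) [IsProper (f ≫ h)] [LocallyOfFinitePresentation (f ≫ h)]
    [Flat (f ≫ h)] [IsProper h] [LocallyOfFinitePresentation h] :
    ∃ U : S.Opens, (∀ s : S, s ∈ U ↔
      ∃ e : (f ≫ h).fiber s ≅ h.fiber s, e.hom ≫ h.fiberι s = (f ≫ h).fiberι s ≫ f) ∧
      IsIso (f ∣_ (h ⁻¹ᵁ U)) := by
  have key : ∀ s : S, (∃ e : (f ≫ h).fiber s ≅ h.fiber s,
      e.hom ≫ h.fiberι s = (f ≫ h).fiberι s ≫ f) →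
      ∃ U : S.Opens, s ∈ U ∧ IsIso (f ∣_ (h ⁻¹ᵁ U)) := by
    rintro s ⟨e, he⟩
    have HP := Groth.Agent.H49.NearFibre.isPullback_fiberMapOver f h s
    have hfm : CohIII.fiberMapOver f (f ≫ h) h rfl s = e.hom := by
      rw [← cancel_mono (h.fiberι s), he]
      exact HP.w.symm
    have hci : IsClosedImmersion (CohIII.fiberMapOver f (f ≫ h) h rfl s) := by
      rw [hfm]; infer_instance
    obtain ⟨U₁, hsU₁, hU₁⟩ :=
      Groth.Agent.H49.NearFibre.exists_isClosedImmersion_near_fibre f h s hci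
    obtain ⟨U₂, hsU₂, hU₂⟩ := Groth.Agent.H49.NearFibre.exists_nhd_of_forall_fibre
      (MorphismProperty.isomorphisms Scheme) f h h.isClosedMap s (fun y hy => by
        obtain ⟨y', rfl⟩ : y ∈ Set.range (h.fiberι s) := by rw [h.range_fiberι]; exact hy
        exact exists_isIso_morphismRestrict_of_fibre_iso f h s (h ⁻¹ᵁ U₁) hU₁ e he y' (by
          show h _ ∈ U₁
          rw [hy]; exact hsU₁))
    exact ⟨U₂, hsU₂, hU₂⟩
  choose! Uof hUs hUiso using key
  let T : Set S := {s | ∃ e : (f ≫ h).fiber s ≅ h.fiber s,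
      e.hom ≫ h.fiberι s = (f ≫ h).fiberι s ≫ f}
  refine ⟨⨆ s : T, Uof s.1, ?_, ?_⟩
  · intro s
    constructor
    · intro hs
      rw [TopologicalSpace.Opens.mem_iSup] at hs
      obtain ⟨⟨s₀, hs₀⟩, hs⟩ := hs
      exact fibre_iso_of_isIso_restrict f h (Uof s₀) (hUiso s₀ hs₀) s hs
    · intro hs
      exact TopologicalSpace.Opens.mem_iSup.mpr ⟨⟨s, hs⟩, hUs s hs⟩
  · apply Groth.Agent.H49.NearFibre.morphismRestrict_of_forall_exists
      (MorphismProperty.isomorphisms Scheme)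
    intro y hy
    have hy' : h y ∈ ⨆ s : T, Uof s.1 := hy
    rw [TopologicalSpace.Opens.mem_iSup] at hy'
    obtain ⟨⟨s₀, hs₀⟩, hs⟩ := hy'
    exact ⟨h ⁻¹ᵁ Uof s₀, hs, hUiso s₀ hs₀⟩

/-- The induced map of base changes is a base change of `f`. -/
theorem isPullback_map_of_comp {T : Scheme.{u}} (f : X ⟶ Y) (h : Y ⟶ S) (σ : T ⟶ S)
    (w₁ : (f ≫ h) ≫ 𝟙 S = f ≫ h) (w₂ : σ ≫ 𝟙 S = 𝟙 T ≫ σ) :
    IsPullback (pullback.fst (f ≫ h) σ) (pullback.map (f ≫ h) σ h σ f (𝟙 T) (𝟙 S) w₁ w₂) f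
      (pullback.fst h σ) := by
  have t : IsPullback (pullback.snd h σ) (pullback.fst h σ) σ h :=
    (IsPullback.of_hasPullback h σ).flip
  have h1 : pullback.map (f ≫ h) σ h σ f (𝟙 T) (𝟙 S) w₁ w₂ ≫ pullback.snd h σ =
      pullback.snd (f ≫ h) σ := (pullback.lift_snd _ _ _).trans (Category.comp_id _)
  have o : IsPullback (pullback.map (f ≫ h) σ h σ f (𝟙 T) (𝟙 S) w₁ w₂ ≫ pullback.snd h σ)
      (pullback.fst (f ≫ h) σ) σ (f ≫ h) := by
    rw [h1]
    exact (IsPullback.of_hasPullback (f ≫ h) σ).flip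
  have p : pullback.map (f ≫ h) σ h σ f (𝟙 T) (𝟙 S) w₁ w₂ ≫ pullback.fst h σ =
      pullback.fst (f ≫ h) σ ≫ f := pullback.lift_fst _ _ _
  exact (IsPullback.of_right o p t).flip

/-- A base change of `f` along a map landing in an open over which `f` is an isomorphism is an
isomorphism. -/
theorem isIso_snd_of_isPullback_of_range_subset {P Z : Scheme.{u}} {fst : P ⟶ X} {snd : P ⟶ Z}
    {f : X ⟶ Y} {j : Z ⟶ Y} (HP : IsPullback fst snd f j) (V : Y.Opens)
    (hrange : Set.range j ⊆ (V : Set Y)) (hiso : IsIso (f ∣_ V)) : IsIso snd := by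
  have hrange' : Set.range j ⊆ Set.range V.ι := by
    rw [Scheme.Opens.range_ι]; exact hrange
  let j' : Z ⟶ V.toScheme := IsOpenImmersion.lift V.ι j hrange'
  have hj : j' ≫ V.ι = j := IsOpenImmersion.lift_fac _ _ _
  have HR := isPullback_morphismRestrict f V
  have w : (snd ≫ j') ≫ V.ι = fst ≫ f := by
    rw [Category.assoc, hj]; exact HP.w.symm
  let k := HR.lift _ _ w
  have hk₁ : k ≫ f ∣_ V = snd ≫ j' := HR.lift_fst _ _ w
  have hk₂ : k ≫ (f ⁻¹ᵁ V).ι = fst := HR.lift_snd _ _ w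
  have s' : IsPullback (k ≫ (f ⁻¹ᵁ V).ι) snd f (j' ≫ V.ι) := by
    rw [hk₂, hj]; exact HP
  have HL := IsPullback.of_right s' hk₁ HR.flip
  haveI := hiso
  exact HL.isIso_snd_of_isIso

end Scheme

end Groth.Agent.H49.FibreIso
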