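import Groth.Agent.H49.FinGrpdLoc
import Mathlib

/-!
# Invariant basic open neighbourhoods on which a family induces bases of the fibres of `s`
-/

set_option autoImplicit false
universe u
open CategoryTheory CategoryTheory.Limits AlgebraicGeometry TensorProduct
open Grpd

namespace Groth.Agent.H49.FinGrpdCover

open Groth.Agent.H49.FinGrpdRing Groth.Agent.H49.FinGrpdSch Groth.Agent.H49.BasisCond
  Groth.Agent.H49.FinGrpdQuot Groth.Agent.H49.FinGrpdBasis Groth.Agent.H49.FinGrpdLoc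

variable (S : Scheme.{u}) (G : Grpd.GroupoidScheme S) [IsAffine G.U] [IsAffine G.R]
  [IsFinite G.s] [Flat G.s] [LocallyOfFinitePresentation G.s]
  [IsFinite G.t] [Flat G.t] [LocallyOfFinitePresentation G.t]

lemma condAt_congr {R T : Type u} [CommRing R] [CommRing T] (f : R →+* T) {n : ℕ} (x : Fin n → T)
    (𝔫 𝔫' : Ideal R) [𝔫.IsPrime] [𝔫'.IsPrime] (h : 𝔫 = 𝔫') : CondAt f x 𝔫 ↔ CondAt f x 𝔫' := by
  subst h
  exact Iff.rfl

/-- two primes of `Γ(U)` with the same contraction to the invariants are related by a prime of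
`Γ(R)` -/
theorem exists_prime_over (𝔫 𝔫' : Ideal Γ(G.U, ⊤)) [𝔫.IsPrime] [𝔫'.IsPrime]
    (h : ∀ x ∈ G.invariants, x ∈ 𝔫 ↔ x ∈ 𝔫') :
    ∃ 𝔮 : Ideal Γ(G.R, ⊤), 𝔮.IsPrime ∧ 𝔮.comap G.s.appTop.hom = 𝔫 ∧
      𝔮.comap G.t.appTop.hom = 𝔫' := by
  obtain ⟨n, π, σ, hπσ, H1, H2⟩ := exists_data S G
  exact exists_prime_orbit G.s.appTop.hom G.t.appTop.hom G.e.appTop.hom
    (pullback.fst G.s G.t).appTop.hom (pullback.snd G.s G.t).appTop.hom G.c.appTop.hom
    (hes S G) (het S G) (hct S G) n π σ hπσ H1 H2 (finite_s S G) 𝔫 𝔫' h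

/-- every prime of `Γ(U)` has an invariant basic open neighbourhood on which some family induces
bases of all fibres of `s` -/
theorem exists_invariant_nbhd [Mono G.j] (𝔫 : Ideal Γ(G.U, ⊤)) [𝔫.IsPrime] :
    ∃ c ∈ G.invariants, c ∉ 𝔫 ∧ ∃ (n : ℕ) (a : Fin n → Γ(G.U, ⊤)),
      ∀ (𝔫' : Ideal Γ(G.U, ⊤)) [𝔫'.IsPrime], c ∉ 𝔫' →
        CondAt G.s.appTop.hom (fun i => G.t.appTop.hom (a i)) 𝔫' := by
  obtain ⟨n, a, ha⟩ := exists_family S G 𝔫
  letI := G.s.appTop.hom.toAlgebra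
  haveI := finite_s S G
  haveI := projective_s S G
  have hopen := isOpen_locus (R := Γ(G.U, ⊤)) (fun i => G.t.appTop.hom (a i))
  set Ω : Set (PrimeSpectrum Γ(G.U, ⊤)) :=
    {p | Function.Bijective (fib (fun i => G.t.appTop.hom (a i)) p.asIdeal)} with hΩdef
  have hΩ : ∀ p : PrimeSpectrum Γ(G.U, ⊤), p ∈ Ω ↔
      CondAt G.s.appTop.hom (fun i => G.t.appTop.hom (a i)) p.asIdeal := fun p =>
    (condAt_iff_bij G.s.appTop.hom (fun i => G.t.appTop.hom (a i)) p.asIdeal).symm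
  haveI := isIntegral_invariants S G
  have hint : (G.invariants.subtype).IsIntegral := fun x =>
    Algebra.IsIntegral.isIntegral (R := G.invariants) x
  have hcl := PrimeSpectrum.isClosedMap_comap_of_isIntegral G.invariants.subtype hint Ωᶜ
    hopen.isClosed_compl
  set p₀ : PrimeSpectrum Γ(G.U, ⊤) := ⟨𝔫, inferInstance⟩ with hp₀
  have hnot : PrimeSpectrum.comap G.invariants.subtype p₀ ∉
      PrimeSpectrum.comap G.invariants.subtype '' Ωᶜ := by
    rintro ⟨p', hp', hpp⟩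
    apply hp'
    rw [hΩ]
    have hiff : ∀ x ∈ G.invariants, x ∈ 𝔫 ↔ x ∈ p'.asIdeal := by
      intro x hx
      have h2 := congrArg PrimeSpectrum.asIdeal hpp
      have h3 : (⟨x, hx⟩ : G.invariants) ∈ (PrimeSpectrum.comap G.invariants.subtype p').asIdeal ↔
          (⟨x, hx⟩ : G.invariants) ∈ (PrimeSpectrum.comap G.invariants.subtype p₀).asIdeal := by
        rw [h2]
      exact h3.symm
    obtain ⟨𝔮, h𝔮, h𝔮s, h𝔮t⟩ := exists_prime_over S G 𝔫 p'.asIdeal hiff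
    have hinv := condAt_invariant S G a 𝔮
    exact (condAt_congr _ _ _ _ h𝔮t).mp (hinv.mp ((condAt_congr _ _ _ _ h𝔮s).mpr ha))
  obtain ⟨_, ⟨c', rfl⟩, hc'mem, hc'sub⟩ :=
    PrimeSpectrum.isTopologicalBasis_basic_opens.exists_subset_of_mem_open
      (show PrimeSpectrum.comap G.invariants.subtype p₀ ∈
        (PrimeSpectrum.comap G.invariants.subtype '' Ωᶜ)ᶜ from hnot) hcl.isOpen_compl
  refine ⟨c'.1, c'.2, hc'mem, n, a, fun 𝔫' _ hc𝔫' => ?_⟩
  have h1 : PrimeSpectrum.comap G.invariants.subtype ⟨𝔫', inferInstance⟩ ∈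
      (PrimeSpectrum.basicOpen c' : Set (PrimeSpectrum G.invariants)) := hc𝔫'
  have h2 := hc'sub h1
  have h3 : (⟨𝔫', inferInstance⟩ : PrimeSpectrum Γ(G.U, ⊤)) ∈ Ω := by
    by_contra hcon
    exact h2 ⟨_, hcon, rfl⟩
  exact (hΩ _).mp h3

end Groth.Agent.H49.FinGrpdCover
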