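import Mathlib

/-!
# Modules which are free of finite rank after localizing at a family generating the unit ideal
-/

set_option autoImplicit false
universe u
open TensorProduct

namespace Groth.Agent.H49.LocFreeCover

variable {C A : Type u} [CommRing C] [AddCommGroup A] [Module C A]

/-- the local criterion at one element -/
theorem bijective_localized_map (g : C) {n : ℕ} (a : Fin n → A)
    (h1 : ∀ x : A, ∃ (N : ℕ) (y : Fin n → C), g ^ N • x = ∑ i, y i • a i)
    (h2 : ∀ y : Fin n → C, ∑ i, y i • a i = 0 → ∃ N : ℕ, ∀ i, g ^ N * y i = 0) :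
    Function.Bijective
      (LocalizedModule.map (Submonoid.powers g) (Fintype.linearCombination C a)) := by
  have hψ : ∀ y, Fintype.linearCombination C a y = ∑ i, y i • a i :=
    fun y => Fintype.linearCombination_apply C a y
  constructor
  · rw [← LinearMap.ker_eq_bot, LinearMap.ker_eq_bot']
    intro x hx
    induction x using LocalizedModule.induction_on with
    | h y s =>
      rw [LocalizedModule.map_mk, ← LocalizedModule.zero_mk s, LocalizedModule.mk_eq] at hx
      obtain ⟨⟨u, ⟨M, rfl⟩⟩, hu⟩ := hx
      obtain ⟨s, ⟨k, rfl⟩⟩ := s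
      simp only [smul_zero] at hu
      have hu' : (g ^ M * g ^ k) • Fintype.linearCombination C a y = 0 := by
        rw [mul_smul]; exact hu
      rw [← map_smul, hψ] at hu'
      obtain ⟨N, hN⟩ := h2 _ hu'
      have : LocalizedModule.mk y (⟨g ^ k, k, rfl⟩ : Submonoid.powers g) =
          LocalizedModule.mk (0 : Fin n → C) (⟨g ^ k, k, rfl⟩ : Submonoid.powers g) := by
        rw [LocalizedModule.mk_eq]
        refine ⟨⟨g ^ (N + M), _, rfl⟩, ?_⟩
        rw [smul_zero, smul_zero]
        show g ^ (N + M) • g ^ k • y = 0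
        funext i
        have := hN i
        simp only [Pi.smul_apply, smul_eq_mul, Pi.zero_apply] at this ⊢
        rw [pow_add, mul_assoc, ← mul_assoc (g ^ M)]
        exact this
      rw [LocalizedModule.zero_mk] at this
      exact this
  · intro x
    induction x using LocalizedModule.induction_on with
    | h x₀ s =>
      obtain ⟨N, y, hy⟩ := h1 x₀
      refine ⟨LocalizedModule.mk y (⟨g ^ N, N, rfl⟩ * s), ?_⟩
      rw [LocalizedModule.map_mk, hψ, ← hy]
      exact LocalizedModule.mk_cancel_common_left (⟨g ^ N, N, rfl⟩ : Submonoid.powers g) s x₀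

/-- a module which is free of finite rank locally on a cover by basic opens is finitely presented
and flat -/
theorem fp_flat_of_cover
    (H : ∀ (𝔭 : Ideal C) [𝔭.IsPrime], ∃ c : C, c ∉ 𝔭 ∧ ∃ (n : ℕ) (a : Fin n → A),
      (∀ x : A, ∃ (N : ℕ) (y : Fin n → C), c ^ N • x = ∑ i, y i • a i) ∧
      (∀ y : Fin n → C, ∑ i, y i • a i = 0 → ∃ N : ℕ, ∀ i, c ^ N * y i = 0)) :
    Module.FinitePresentation C A ∧ Module.Flat C A := by
  set t : Set C := {c | ∃ (n : ℕ) (a : Fin n → A),
      (∀ x : A, ∃ (N : ℕ) (y : Fin n → C), c ^ N • x = ∑ i, y i • a i) ∧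
      (∀ y : Fin n → C, ∑ i, y i • a i = 0 → ∃ N : ℕ, ∀ i, c ^ N * y i = 0)} with ht
  have hspan : Ideal.span t = ⊤ := by
    by_contra hne
    obtain ⟨𝔪, h𝔪, hle⟩ := Ideal.exists_le_maximal _ hne
    obtain ⟨c, hc, n, a, h1, h2⟩ := H 𝔪
    exact hc (hle (Ideal.subset_span ⟨n, a, h1, h2⟩))
  have key : ∀ g : t, Module.Free (Localization.Away g.1) (LocalizedModule.Away g.1 A) ∧
      Module.Finite (Localization.Away g.1) (LocalizedModule.Away g.1 A) := by
    rintro ⟨g, n, a, h1, h2⟩
    have hb := bijective_localized_map g a h1 h2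
    let e := LinearEquiv.ofBijective _ hb
    haveI : Module.Free (Localization.Away g) (LocalizedModule.Away g (Fin n → C)) :=
      Module.free_of_isLocalizedModule (Submonoid.powers g)
        (LocalizedModule.mkLinearMap (Submonoid.powers g) (Fin n → C))
    exact ⟨Module.Free.of_equiv e, Module.Finite.equiv e⟩
  constructor
  · refine Module.FinitePresentation.of_localizationSpan t hspan (fun g => ?_)
    haveI := (key g).1
    haveI := (key g).2
    exact Module.finitePresentation_of_projective _ _
  · refine Module.flat_of_localized_span C A t hspan (fun g => ?_)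
    haveI := (key g).1
    exact Module.Flat.trans C (Localization.Away g.1) _

end Groth.Agent.H49.LocFreeCover
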