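import Groth.Agent.H49.FinGrpdCover
import Groth.Agent.H49.LocFreeCover
import Mathlib

/-!
# `U → Spec C` is finite locally free for a finite locally free equivalence relation
-/

set_option autoImplicit false
universe u
open CategoryTheory CategoryTheory.Limits AlgebraicGeometry TensorProduct
open Grpd

namespace Groth.Agent.H49.FinGrpdFlat

open Groth.Agent.H49.FinGrpdRing Groth.Agent.H49.FinGrpdSch Groth.Agent.H49.BasisCond
  Groth.Agent.H49.FinGrpdQuot Groth.Agent.H49.FinGrpdBasis Groth.Agent.H49.FinGrpdLoc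
  Groth.Agent.H49.FinGrpdCover Groth.Agent.H49.LocFreeCover

variable (S : Scheme.{u}) (G : Grpd.GroupoidScheme S) [IsAffine G.U] [IsAffine G.R]
  [IsFinite G.s] [Flat G.s] [LocallyOfFinitePresentation G.s]
  [IsFinite G.t] [Flat G.t] [LocallyOfFinitePresentation G.t]

/-- local bases of `Γ(U)` over the invariants -/
theorem exists_local_basis [Mono G.j] (𝔭 : Ideal G.invariants) [𝔭.IsPrime] :
    ∃ c : G.invariants, c ∉ 𝔭 ∧ ∃ (n : ℕ) (a : Fin n → Γ(G.U, ⊤)),
      (∀ x : Γ(G.U, ⊤), ∃ (N : ℕ) (y : Fin n → Γ(G.U, ⊤)), (∀ i, y i ∈ G.invariants) ∧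
        (c : Γ(G.U, ⊤)) ^ N * x = ∑ i, y i * a i) ∧
      (∀ x : Fin n → Γ(G.U, ⊤), ∑ i, G.s.appTop.hom (x i) * G.t.appTop.hom (a i) = 0 →
        ∃ N : ℕ, ∀ i, (c : Γ(G.U, ⊤)) ^ N * x i = 0) := by
  haveI := isIntegral_invariants S G
  obtain ⟨Q, -, hQ, hQm⟩ := Ideal.exists_ideal_over_prime_of_isIntegral 𝔭 (⊥ : Ideal Γ(G.U, ⊤))
    (by
      rw [Ideal.comap_bot_of_injective _ (Subtype.val_injective)]
      exact bot_le)
  obtain ⟨c, hc, hcQ, n, a, hΩ⟩ := exists_invariant_nbhd S G Q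
  refine ⟨⟨c, hc⟩, ?_, n, a, fun x => span_away S G c hc a hΩ x,
    fun x hx => inj_away S G c hc a hΩ x hx⟩
  intro hmem
  rw [← hQm] at hmem
  exact hcQ hmem

/-- `Γ(U)` is a finitely presented flat module over the invariants -/
theorem fp_flat_invariants [Mono G.j] :
    letI := G.invariants.subtype.toAlgebra
    Module.FinitePresentation G.invariants Γ(G.U, ⊤) ∧ Module.Flat G.invariants Γ(G.U, ⊤) := by
  letI := G.invariants.subtype.toAlgebra
  refine fp_flat_of_cover (fun 𝔭 _ => ?_)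
  obtain ⟨c, hc𝔭, n, a, h1, h2⟩ := exists_local_basis S G 𝔭
  refine ⟨c, hc𝔭, n, a, fun x => ?_, fun y hy => ?_⟩
  · obtain ⟨N, y, hyinv, hy⟩ := h1 x
    refine ⟨N, fun i => ⟨y i, hyinv i⟩, ?_⟩
    rw [Algebra.smul_def, map_pow]
    refine hy.trans (Finset.sum_congr rfl fun i _ => ?_)
    rw [Algebra.smul_def]
    rfl
  · have hy' : ∑ i, (y i : Γ(G.U, ⊤)) * a i = 0 := by
      rw [← hy]
      refine Finset.sum_congr rfl fun i _ => ?_
      rw [Algebra.smul_def]
      rfl
    have h3 : ∑ i, G.s.appTop.hom (y i : Γ(G.U, ⊤)) * G.t.appTop.hom (a i) = 0 := by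
      have h4 := congrArg G.t.appTop.hom hy'
      rw [map_sum, map_zero] at h4
      rw [← h4]
      refine Finset.sum_congr rfl fun i _ => ?_
      rw [map_mul, (y i).2]
    obtain ⟨N, hN⟩ := h2 (fun i => (y i : Γ(G.U, ⊤))) h3
    refine ⟨N, fun i => Subtype.ext ?_⟩
    exact hN i

/-- `U → Spec C` is finite locally free -/
theorem toQuot_props [Mono G.j] :
    IsFinite G.toQuot ∧ Flat G.toQuot ∧ LocallyOfFinitePresentation G.toQuot := by
  obtain ⟨hfp, hflat⟩ := fp_flat_invariants S G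
  haveI h1 : IsFinite (Spec.map (CommRingCat.ofHom G.invariants.subtype)) := by
    rw [IsFinite.SpecMap_iff]
    letI := G.invariants.subtype.toAlgebra
    show Module.Finite G.invariants Γ(G.U, ⊤)
    infer_instance
  haveI h2 : Flat (Spec.map (CommRingCat.ofHom G.invariants.subtype)) := by
    rw [Flat.SpecMap_iff]
    exact hflat
  haveI h3 : LocallyOfFinitePresentation (Spec.map (CommRingCat.ofHom G.invariants.subtype)) := by
    rw [LocallyOfFinitePresentation.SpecMap_iff]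
    letI := G.invariants.subtype.toAlgebra
    show Algebra.FinitePresentation G.invariants Γ(G.U, ⊤)
    infer_instance
  unfold Grpd.GroupoidScheme.toQuot
  exact ⟨inferInstance, inferInstance, inferInstance⟩

end Groth.Agent.H49.FinGrpdFlat
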