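import Groth.Agent.H49.FinGrpdBasis
import Mathlib

/-!
# Restriction of a finite locally free groupoid to an invariant basic open
-/

set_option autoImplicit false
universe u
open CategoryTheory CategoryTheory.Limits AlgebraicGeometry TensorProduct
open Grpd

namespace Groth.Agent.H49.FinGrpdLoc

open Groth.Agent.H49.FinGrpdRing Groth.Agent.H49.FinGrpdSch Groth.Agent.H49.BasisCond
  Groth.Agent.H49.FinGrpdQuot Groth.Agent.H49.FinGrpdBasis Groth.Agent.H49.GrpdRestrict

section general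

/-- global sections of a basic open of an affine scheme, as a localization -/
theorem isLocalization_away_ι {X : Scheme.{u}} [IsAffine X] (r : Γ(X, ⊤)) (V : X.Opens)
    (hV : V = X.basicOpen r) :
    letI := V.ι.appTop.hom.toAlgebra
    IsLocalization.Away r Γ(V.toScheme, ⊤) := by
  subst hV
  letI := (X.basicOpen r).ι.appTop.hom.toAlgebra
  let e : Γ(X, X.basicOpen r) ≃ₐ[Γ(X, ⊤)] Γ((X.basicOpen r).toScheme, ⊤) :=
    { (X.basicOpen r).topIso.symm.commRingCatIsoToRingEquiv with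
      commutes' := fun z => by
        show (X.basicOpen r).topIso.inv.hom
          ((X.presheaf.map (homOfLE (X.basicOpen_le r)).op).hom z) =
            (X.basicOpen r).ι.appTop.hom z
        have : X.presheaf.map (homOfLE (X.basicOpen_le r)).op ≫ (X.basicOpen r).topIso.inv =
            (X.basicOpen r).ι.appTop := by
          rw [Scheme.Opens.ι_appTop, Scheme.Opens.topIso_inv]
          exact (X.presheaf.map_comp _ _).symm
        exact congrArg (fun φ => φ.hom z) this }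
  exact IsLocalization.isLocalization_of_algEquiv (Submonoid.powers r) e

lemma appTop_comm {X Y Z W : Scheme.{u}} {f : X ⟶ Y} {g : Y ⟶ W} {h : X ⟶ Z} {k : Z ⟶ W}
    (e : f ≫ g = h ≫ k) (a : Γ(W, ⊤)) :
    f.appTop.hom (g.appTop.hom a) = h.appTop.hom (k.appTop.hom a) := by
  have h1 : (f ≫ g).appTop.hom a = (h ≫ k).appTop.hom a := by rw [e]
  rw [Scheme.Hom.comp_appTop, Scheme.Hom.comp_appTop] at h1
  exact h1

lemma common_pow {A : Type u} [CommRing A] (c : A) {n : ℕ} (x : Fin n → A)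
    (h : ∀ i, ∃ N : ℕ, c ^ N * x i = 0) : ∃ N : ℕ, ∀ i, c ^ N * x i = 0 := by
  choose N hN using h
  refine ⟨∑ i, N i, fun i => ?_⟩
  have h1 : N i ≤ ∑ i, N i := Finset.single_le_sum (fun _ _ => Nat.zero_le _) (Finset.mem_univ i)
  obtain ⟨k, hk⟩ := Nat.exists_eq_add_of_le h1
  rw [hk, pow_add, mul_comm (c ^ N i), mul_assoc, hN, mul_zero]

end general

section restrict

variable (S : Scheme.{u}) (G : Grpd.GroupoidScheme S) [IsAffine G.U] [IsAffine G.R]
  [IsFinite G.s] [Flat G.s] [LocallyOfFinitePresentation G.s]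
  [IsFinite G.t] [Flat G.t] [LocallyOfFinitePresentation G.t]
  (c : Γ(G.U, ⊤)) (hc : G.s.appTop.hom c = G.t.appTop.hom c)

lemma s_preimage : G.s ⁻¹ᵁ G.U.basicOpen c = G.R.basicOpen (G.s.appTop.hom c) :=
  Scheme.preimage_basicOpen_top G.s c

lemma t_preimage : G.t ⁻¹ᵁ G.U.basicOpen c = G.R.basicOpen (G.t.appTop.hom c) :=
  Scheme.preimage_basicOpen_top G.t c

include hc in
lemma hinv : G.s ⁻¹ᵁ G.U.basicOpen c = G.t ⁻¹ᵁ G.U.basicOpen c := by
  rw [s_preimage, t_preimage, hc]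

/-- the target map of the restricted groupoid -/
noncomputable def tW : (G.s ⁻¹ᵁ G.U.basicOpen c).toScheme ⟶ (G.U.basicOpen c).toScheme :=
  (G.R.isoOfEq (hinv S G c hc)).hom ≫ (G.t ∣_ G.U.basicOpen c)

lemma tW_ι : tW S G c hc ≫ (G.U.basicOpen c).ι = (G.s ⁻¹ᵁ G.U.basicOpen c).ι ≫ G.t := by
  unfold tW
  rw [Category.assoc, morphismRestrict_ι, ← Category.assoc, Scheme.isoOfEq_hom_ι]

/-- the restriction of the groupoid to the invariant basic open `D(c)` -/
noncomputable def Gc : Grpd.GroupoidScheme S :=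
  restrict G (G.U.basicOpen c).ι (G.s ⁻¹ᵁ G.U.basicOpen c).ι (G.s ∣_ G.U.basicOpen c)
    (tW S G c hc) (isPullback_morphismRestrict G.s (G.U.basicOpen c)).flip (tW_ι S G c hc)

instance : IsAffine (Gc S G c hc).U :=
  ((isAffineOpen_top G.U).basicOpen c : IsAffineOpen (G.U.basicOpen c))

instance : IsAffine (Gc S G c hc).R := by
  show IsAffine (G.s ⁻¹ᵁ G.U.basicOpen c).toScheme
  rw [s_preimage]
  exact ((isAffineOpen_top G.R).basicOpen _ : IsAffineOpen (G.R.basicOpen _))

instance : IsFinite (Gc S G c hc).s :=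
  MorphismProperty.of_isPullback (P := @IsFinite)
    (isPullback_morphismRestrict G.s (G.U.basicOpen c)).flip inferInstance

instance : Flat (Gc S G c hc).s :=
  MorphismProperty.of_isPullback (P := @Flat)
    (isPullback_morphismRestrict G.s (G.U.basicOpen c)).flip inferInstance

instance : LocallyOfFinitePresentation (Gc S G c hc).s :=
  MorphismProperty.of_isPullback (P := @LocallyOfFinitePresentation)
    (isPullback_morphismRestrict G.s (G.U.basicOpen c)).flip inferInstance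

instance : IsFinite (Gc S G c hc).t := by
  haveI : IsFinite (G.t ∣_ G.U.basicOpen c) := MorphismProperty.of_isPullback (P := @IsFinite)
    (isPullback_morphismRestrict G.t (G.U.basicOpen c)).flip inferInstance
  show IsFinite ((G.R.isoOfEq (hinv S G c hc)).hom ≫ (G.t ∣_ G.U.basicOpen c))
  infer_instance

instance : Flat (Gc S G c hc).t := by
  haveI : Flat (G.t ∣_ G.U.basicOpen c) := MorphismProperty.of_isPullback (P := @Flat)
    (isPullback_morphismRestrict G.t (G.U.basicOpen c)).flip inferInstance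
  show Flat ((G.R.isoOfEq (hinv S G c hc)).hom ≫ (G.t ∣_ G.U.basicOpen c))
  infer_instance

instance : LocallyOfFinitePresentation (Gc S G c hc).t := by
  haveI : LocallyOfFinitePresentation (G.t ∣_ G.U.basicOpen c) :=
    MorphismProperty.of_isPullback (P := @LocallyOfFinitePresentation)
      (isPullback_morphismRestrict G.t (G.U.basicOpen c)).flip inferInstance
  show LocallyOfFinitePresentation ((G.R.isoOfEq (hinv S G c hc)).hom ≫ (G.t ∣_ G.U.basicOpen c))
  infer_instance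

/-- restriction of functions on `U` -/
noncomputable abbrev resU : Γ(G.U, ⊤) →+* Γ((Gc S G c hc).U, ⊤) := (G.U.basicOpen c).ι.appTop.hom

/-- restriction of functions on `R` -/
noncomputable abbrev resR : Γ(G.R, ⊤) →+* Γ((Gc S G c hc).R, ⊤) :=
  (G.s ⁻¹ᵁ G.U.basicOpen c).ι.appTop.hom

lemma res_s (a : Γ(G.U, ⊤)) :
    (Gc S G c hc).s.appTop.hom (resU S G c hc a) = resR S G c hc (G.s.appTop.hom a) := by
  exact appTop_comm (morphismRestrict_ι G.s (G.U.basicOpen c)) a

lemma res_t (a : Γ(G.U, ⊤)) :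
    (Gc S G c hc).t.appTop.hom (resU S G c hc a) = resR S G c hc (G.t.appTop.hom a) := by
  exact appTop_comm (tW_ι S G c hc) a

end restrict

section loc

variable (S : Scheme.{u}) (G : Grpd.GroupoidScheme S) [IsAffine G.U] [IsAffine G.R]
  [IsFinite G.s] [Flat G.s] [LocallyOfFinitePresentation G.s]
  [IsFinite G.t] [Flat G.t] [LocallyOfFinitePresentation G.t]
  (c : Γ(G.U, ⊤)) (hc : G.s.appTop.hom c = G.t.appTop.hom c)

lemma locU : letI := (resU S G c hc).toAlgebra
    IsLocalization.Away c Γ((Gc S G c hc).U, ⊤) :=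
  isLocalization_away_ι c (G.U.basicOpen c) rfl

lemma locR : letI := (resR S G c hc).toAlgebra
    IsLocalization.Away (G.s.appTop.hom c) Γ((Gc S G c hc).R, ⊤) :=
  isLocalization_away_ι (G.s.appTop.hom c) (G.s ⁻¹ᵁ G.U.basicOpen c) (s_preimage S G c)

lemma isUnit_resU_c : IsUnit (resU S G c hc c) := by
  letI := (resU S G c hc).toAlgebra
  haveI := locU S G c hc
  exact IsLocalization.Away.algebraMap_isUnit (S := Γ((Gc S G c hc).U, ⊤)) c

lemma resU_eq_zero (x : Γ(G.U, ⊤)) (h : resU S G c hc x = 0) : ∃ N : ℕ, c ^ N * x = 0 := by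
  letI := (resU S G c hc).toAlgebra
  haveI := locU S G c hc
  have h' : algebraMap Γ(G.U, ⊤) Γ((Gc S G c hc).U, ⊤) x =
      algebraMap Γ(G.U, ⊤) Γ((Gc S G c hc).U, ⊤) 0 := by
    rw [map_zero]; exact h
  obtain ⟨N, hN⟩ := IsLocalization.Away.exists_of_eq (S := Γ((Gc S G c hc).U, ⊤)) c h'
  exact ⟨N, by rw [hN, mul_zero]⟩

lemma resR_eq_zero (b : Γ(G.R, ⊤)) (h : resR S G c hc b = 0) :
    ∃ N : ℕ, (G.s.appTop.hom c) ^ N * b = 0 := by
  letI := (resR S G c hc).toAlgebra
  haveI := locR S G c hc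
  have h' : algebraMap Γ(G.R, ⊤) Γ((Gc S G c hc).R, ⊤) b =
      algebraMap Γ(G.R, ⊤) Γ((Gc S G c hc).R, ⊤) 0 := by
    rw [map_zero]; exact h
  obtain ⟨N, hN⟩ := IsLocalization.Away.exists_of_eq (S := Γ((Gc S G c hc).R, ⊤))
    (G.s.appTop.hom c) h'
  exact ⟨N, by rw [hN, mul_zero]⟩

lemma resU_surj (x' : Γ((Gc S G c hc).U, ⊤)) :
    ∃ (N : ℕ) (z : Γ(G.U, ⊤)), resU S G c hc z = resU S G c hc c ^ N * x' := by
  letI := (resU S G c hc).toAlgebra
  haveI := locU S G c hc
  obtain ⟨N, z, hz⟩ := IsLocalization.Away.surj (S := Γ((Gc S G c hc).U, ⊤)) c x'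
  exact ⟨N, z, by rw [mul_comm]; exact hz.symm⟩

variable {n : ℕ} (a : Fin n → Γ(G.U, ⊤))
  (hΩ : ∀ (𝔫 : Ideal Γ(G.U, ⊤)) [𝔫.IsPrime], c ∉ 𝔫 →
    CondAt G.s.appTop.hom (fun i => G.t.appTop.hom (a i)) 𝔫)

include hΩ in
theorem allCond_Gc : AllCond S (Gc S G c hc) (fun i => resU S G c hc (a i)) := by
  intro 𝔫' _
  let ρ : Γ((Gc S G c hc).U, ⊤) →+* 𝔫'.ResidueField := algebraMap _ _
  have hk : RingHom.ker ρ = 𝔫' := Ideal.ker_algebraMap_residueField 𝔫'
  have hpb : IsPullback (G.s ⁻¹ᵁ G.U.basicOpen c).ι (G.s ∣_ G.U.basicOpen c) G.s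
      (G.U.basicOpen c).ι := (isPullback_morphismRestrict G.s (G.U.basicOpen c)).flip
  have p := isPushout_appTop_of_isPullback hpb
  have h1 := cond_of_isPushout p ρ (fun i => G.t.appTop.hom (a i))
  have k1 : RingHom.ker (ρ.comp (resU S G c hc)) = 𝔫'.comap (resU S G c hc) := by
    rw [← RingHom.comap_ker, hk]
  rw [← cond_iff_condAt _ _ ρ _ hk]
  have h2 : (fun i => (Gc S G c hc).t.appTop.hom (resU S G c hc (a i))) =
      fun i => resR S G c hc (G.t.appTop.hom (a i)) := funext fun i => res_t S G c hc (a i)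
  rw [h2]
  refine h1.mp ?_
  refine (cond_iff_condAt _ _ _ _ k1).mpr (hΩ _ ?_)
  intro hmem
  have hmem' : resU S G c hc c ∈ 𝔫' := hmem
  exact (Ideal.IsPrime.ne_top (I := 𝔫') inferInstance)
    (Ideal.eq_top_of_isUnit_mem _ hmem' (isUnit_resU_c S G c hc))

include hc hΩ in
/-- injectivity of `x ↦ ∑ s♯(x i) t♯(a i)` away from `c` -/
theorem inj_away (x : Fin n → Γ(G.U, ⊤))
    (h0 : ∑ i, G.s.appTop.hom (x i) * G.t.appTop.hom (a i) = 0) :
    ∃ N : ℕ, ∀ i, c ^ N * x i = 0 := by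
  apply common_pow
  have hb := (bijective_s S (Gc S G c hc) _ (allCond_Gc S G c hc a hΩ)).1
  have h1 : (fun y : Fin n → Γ((Gc S G c hc).U, ⊤) =>
      ∑ i, (Gc S G c hc).s.appTop.hom (y i) *
        (Gc S G c hc).t.appTop.hom (resU S G c hc (a i))) (fun i => resU S G c hc (x i)) =
      (fun y : Fin n → Γ((Gc S G c hc).U, ⊤) =>
      ∑ i, (Gc S G c hc).s.appTop.hom (y i) *
        (Gc S G c hc).t.appTop.hom (resU S G c hc (a i))) 0 := by
    simp only [Pi.zero_apply, map_zero, zero_mul, Finset.sum_const_zero]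
    have := congrArg (resR S G c hc) h0
    rw [map_sum, map_zero] at this
    rw [← this]
    refine Finset.sum_congr rfl fun i _ => ?_
    rw [map_mul, res_s, res_t]
  have h2 := hb h1
  intro i
  exact resU_eq_zero S G c hc (x i) (congrFun h2 i)

include hc in
lemma c_mem : c ∈ G.invariants := hc

/-- an invariant function on `D(c)` is, up to a power of `c`, the restriction of an invariant
function -/
lemma exists_invariant_lift (y' : Γ((Gc S G c hc).U, ⊤)) (hy' : y' ∈ (Gc S G c hc).invariants) :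
    ∃ N₀ : ℕ, ∀ N, N₀ ≤ N → ∃ z : Γ(G.U, ⊤), z ∈ G.invariants ∧
      resU S G c hc z = resU S G c hc c ^ N * y' := by
  obtain ⟨N₁, z₁, hz₁⟩ := resU_surj S G c hc y'
  have hy'' : (Gc S G c hc).s.appTop.hom y' = (Gc S G c hc).t.appTop.hom y' := hy'
  have h1 : resR S G c hc (G.s.appTop.hom z₁ - G.t.appTop.hom z₁) = 0 := by
    rw [map_sub, ← res_s, ← res_t, hz₁, map_mul, map_mul, map_pow, map_pow, res_s, res_t, ← hc,
      hy'', sub_self]
  obtain ⟨M, hM⟩ := resR_eq_zero S G c hc _ h1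
  have hinv : c ^ M * z₁ ∈ G.invariants := by
    show G.s.appTop.hom (c ^ M * z₁) = G.t.appTop.hom (c ^ M * z₁)
    rw [map_mul, map_mul, map_pow, map_pow, ← hc, ← sub_eq_zero, ← mul_sub]
    exact hM
  refine ⟨N₁ + M, fun N hN => ?_⟩
  obtain ⟨k, rfl⟩ := Nat.exists_eq_add_of_le hN
  refine ⟨c ^ k * (c ^ M * z₁), Subring.mul_mem _ (Subring.pow_mem _ (c_mem S G c hc) k) hinv, ?_⟩
  rw [map_mul, map_mul, map_pow, map_pow, hz₁]
  ring

include hc hΩ in
/-- every function is, up to a power of `c`, a combination of the `a i` with invariant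
coefficients -/
theorem span_away (x : Γ(G.U, ⊤)) :
    ∃ (N : ℕ) (y : Fin n → Γ(G.U, ⊤)), (∀ i, y i ∈ G.invariants) ∧
      c ^ N * x = ∑ i, y i * a i := by
  obtain ⟨y', hy'inv, hy'⟩ := exists_coeff S (Gc S G c hc) _ (allCond_Gc S G c hc a hΩ)
    (resU S G c hc x)
  choose N₀ hN₀ using fun i => exists_invariant_lift S G c hc (y' i) (hy'inv i)
  have hle : ∀ i, N₀ i ≤ ∑ i, N₀ i := fun i =>
    Finset.single_le_sum (fun _ _ => Nat.zero_le _) (Finset.mem_univ i)
  choose z hzinv hz using fun i => hN₀ i (∑ i, N₀ i) (hle i)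
  have h1 : resU S G c hc (c ^ (∑ i, N₀ i) * x - ∑ i, z i * a i) = 0 := by
    rw [map_sub, map_mul, map_pow, hy', map_sum, Finset.mul_sum, sub_eq_zero]
    refine Finset.sum_congr rfl fun i _ => ?_
    rw [map_mul, hz, mul_assoc]
  obtain ⟨M, hM⟩ := resU_eq_zero S G c hc _ h1
  refine ⟨M + ∑ i, N₀ i, fun i => c ^ M * z i,
    fun i => Subring.mul_mem _ (Subring.pow_mem _ (c_mem S G c hc) M) (hzinv i), ?_⟩
  rw [mul_sub, sub_eq_zero] at hM
  rw [pow_add, mul_assoc, hM, Finset.mul_sum]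
  exact Finset.sum_congr rfl fun i _ => (mul_assoc _ _ _).symm

end loc

end Groth.Agent.H49.FinGrpdLoc
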