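import Groth.Agent.H37.GrpdCalc
import Groth.Agent.H37.GrpdCalc2
import Mathlib

/-!
# Restriction of a groupoid scheme to an invariant subobject of `U`

Given monomorphisms `ιU : U' ⟶ G.U`, `ιR : R' ⟶ G.R` with `R' = s⁻¹(U')` (a pullback square) and a
morphism `t' : R' ⟶ U'` lifting `t`, the pair `(U', R')` carries a groupoid structure.
-/

set_option autoImplicit false
universe u
open CategoryTheory CategoryTheory.Limits AlgebraicGeometry
open Grpd

namespace Groth.Agent.H49.GrpdRestrict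

open Groth.Agent.H37.GrpdCalc

variable {S : Scheme.{u}} (G : Grpd.GroupoidScheme S) {U' R' : Scheme.{u}}
  (ιU : U' ⟶ G.U) (ιR : R' ⟶ G.R) (s' t' : R' ⟶ U')
  (hpb : IsPullback ιR s' G.s ιU) (ht : t' ≫ ιU = ιR ≫ G.t)

include hpb in
lemma hs : s' ≫ ιU = ιR ≫ G.s := hpb.w.symm

include hpb ht in
lemma comp_aux {T : Scheme.{u}} (α β : T ⟶ R') (h : α ≫ s' = β ≫ t') :
    (α ≫ ιR) ≫ G.s = (β ≫ ιR) ≫ G.t := by
  rw [Category.assoc, Category.assoc, ← hs G ιU ιR s' hpb, ← ht, ← Category.assoc, ← Category.assoc, h]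

/-- composition on the restriction -/
noncomputable def c' : pullback s' t' ⟶ R' :=
  hpb.lift (mul G (pullback.fst s' t' ≫ ιR) (pullback.snd s' t' ≫ ιR)) (pullback.snd s' t' ≫ s')
    (by
      rw [mul_s (comp_aux G ιU ιR s' t' hpb ht _ _ pullback.condition), Category.assoc,
        Category.assoc, hs G ιU ιR s' hpb])

lemma c'_ι : c' G ιU ιR s' t' hpb ht ≫ ιR =
    mul G (pullback.fst s' t' ≫ ιR) (pullback.snd s' t' ≫ ιR) := hpb.lift_fst _ _ _

lemma c'_s : c' G ιU ιR s' t' hpb ht ≫ s' = pullback.snd s' t' ≫ s' := hpb.lift_snd _ _ _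

lemma key {T : Scheme.{u}} (α β : T ⟶ R') (h : α ≫ s' = β ≫ t') :
    (pullback.lift α β h ≫ c' G ιU ιR s' t' hpb ht) ≫ ιR = mul G (α ≫ ιR) (β ≫ ιR) := by
  rw [Category.assoc, c'_ι,
    comp_mul _ (comp_aux G ιU ιR s' t' hpb ht _ _ pullback.condition)]
  simp only [pullback.lift_fst_assoc, pullback.lift_snd_assoc]

/-- identity on the restriction -/
noncomputable def e' : U' ⟶ R' :=
  hpb.lift (ιU ≫ G.e) (𝟙 U') (by rw [Category.assoc, G.e_s, Category.comp_id, Category.id_comp])

lemma e'_ι : e' G ιU ιR s' hpb ≫ ιR = ιU ≫ G.e := hpb.lift_fst _ _ _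
lemma e'_s : e' G ιU ιR s' hpb ≫ s' = 𝟙 U' := hpb.lift_snd _ _ _

/-- inverse on the restriction -/
noncomputable def i' : R' ⟶ R' :=
  hpb.lift (ιR ≫ G.i) t' (by rw [Category.assoc, G.i_s, ht])

lemma i'_ι : i' G ιU ιR s' t' hpb ht ≫ ιR = ιR ≫ G.i := hpb.lift_fst _ _ _
lemma i'_s : i' G ιU ιR s' t' hpb ht ≫ s' = t' := hpb.lift_snd _ _ _

variable [Mono ιU] [Mono ιR]

/-- the restricted groupoid scheme -/
noncomputable def restrict : Grpd.GroupoidScheme S where
  U := U'
  R := R'
  pU := ιU ≫ G.pU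
  pR := ιR ≫ G.pR
  s := s'
  t := t'
  e := e' G ιU ιR s' hpb
  i := i' G ιU ιR s' t' hpb ht
  c := c' G ιU ιR s' t' hpb ht
  s_over := by rw [← Category.assoc, hs G ιU ιR s' hpb, Category.assoc, G.s_over]
  t_over := by rw [← Category.assoc, ht, Category.assoc, G.t_over]
  comp_s := fun α β h => by
    rw [Category.assoc, c'_s, pullback.lift_snd_assoc]
  comp_t := fun α β h => by
    rw [← cancel_mono ιU, Category.assoc, ht, ← Category.assoc, key G ιU ιR s' t' hpb ht α β h,
      mul_t (comp_aux G ιU ιR s' t' hpb ht α β h), Category.assoc, Category.assoc, ht]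
  assoc := fun α β γ h₁ h₂ => by
    rw [← cancel_mono ιR, key, key, key, key]
    exact mul_assoc (comp_aux G ιU ιR s' t' hpb ht α β h₁) (comp_aux G ιU ιR s' t' hpb ht β γ h₂)
  e_s := e'_s G ιU ιR s' hpb
  e_t := by
    rw [← cancel_mono ιU, Category.assoc, ht, ← Category.assoc, e'_ι, Category.assoc, G.e_t,
      Category.comp_id, Category.id_comp]
  comp_e := fun α => by
    rw [← cancel_mono ιR, key]
    refine mul_e ?_
    simp only [Category.assoc, e'_ι]
    rw [← Category.assoc s', hs G ιU ιR s' hpb, Category.assoc]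
  e_comp := fun α => by
    rw [← cancel_mono ιR, key]
    refine e_mul ?_
    simp only [Category.assoc, e'_ι]
    rw [← Category.assoc t', ht, Category.assoc]
  i_s := i'_s G ιU ιR s' t' hpb ht
  i_t := by
    rw [← cancel_mono ιU, Category.assoc, ht, ← Category.assoc, i'_ι, Category.assoc, G.i_t,
      hs G ιU ιR s' hpb]
  comp_i := fun α => by
    rw [← cancel_mono ιR, key, mul_i (by simp only [Category.assoc, i'_ι])]
    simp only [Category.assoc, e'_ι]
    rw [← Category.assoc t', ht, Category.assoc]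
  i_comp := fun α => by
    rw [← cancel_mono ιR, key, i_mul (by simp only [Category.assoc, i'_ι])]
    simp only [Category.assoc, e'_ι]
    rw [← Category.assoc s', hs G ιU ιR s' hpb, Category.assoc]

end Groth.Agent.H49.GrpdRestrict
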