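import Groth.Agent.H49.FinGrpdSch
import Groth.Agent.H49.BasisCond
import Groth.Agent.H49.GrpdRestrict
import Mathlib

/-!
# Quotients of affine schemes by finite locally free equivalence relations
-/

set_option autoImplicit false
universe u
open CategoryTheory CategoryTheory.Limits AlgebraicGeometry TensorProduct
open Grpd

namespace Groth.Agent.H49.FinGrpdQuot

open Groth.Agent.H49.FinGrpdRing Groth.Agent.H49.FinGrpdSch Groth.Agent.H49.BasisCond

section

variable (S : Scheme.{u}) (G : Grpd.GroupoidScheme S) [IsAffine G.U] [IsAffine G.R]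
  [IsFinite G.s] [Flat G.s] [LocallyOfFinitePresentation G.s]
  [IsFinite G.t] [Flat G.t] [LocallyOfFinitePresentation G.t]

lemma projective_s : letI := G.s.appTop.hom.toAlgebra; Module.Projective Γ(G.U, ⊤) Γ(G.R, ⊤) := by
  letI := G.s.appTop.hom.toAlgebra
  haveI hfin : Module.Finite Γ(G.U, ⊤) Γ(G.R, ⊤) := G.s.finite_appTop
  haveI hflat : Module.Flat Γ(G.U, ⊤) Γ(G.R, ⊤) := G.s.flat_appTop
  haveI hfp : Algebra.FinitePresentation Γ(G.U, ⊤) Γ(G.R, ⊤) := G.s.finitePresentation_appTop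
  haveI : Module.FinitePresentation Γ(G.U, ⊤) Γ(G.R, ⊤) :=
    Module.FinitePresentation.of_finite_of_finitePresentation _ _
  exact Module.Flat.projective_of_finitePresentation

/-- Invariance of the basis condition along arrows. -/
theorem condAt_invariant {n : ℕ} (a : Fin n → Γ(G.U, ⊤)) (𝔮 : Ideal Γ(G.R, ⊤)) [𝔮.IsPrime] :
    CondAt G.s.appTop.hom (fun i => G.t.appTop.hom (a i)) (𝔮.comap G.s.appTop.hom) ↔
      CondAt G.s.appTop.hom (fun i => G.t.appTop.hom (a i)) (𝔮.comap G.t.appTop.hom) := by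
  have sq1 : IsPullback G.c (pullback.snd G.s G.t) G.s G.s := (Groth.Agent.S7457.result S G).2
  have sq2 := IsPullback.of_hasPullback G.s G.t
  have p1 := isPushout_appTop_of_isPullback sq1
  have p2 := isPushout_appTop_of_isPullback sq2
  let ρ : Γ(G.R, ⊤) →+* 𝔮.ResidueField := algebraMap _ _
  have hk : RingHom.ker ρ = 𝔮 := Ideal.ker_algebraMap_residueField 𝔮
  have h1 := cond_of_isPushout p1 ρ (fun i => G.t.appTop.hom (a i))
  have h2 := cond_of_isPushout p2 ρ (fun i => G.t.appTop.hom (a i))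
  have h3 : (fun i => G.c.appTop.hom (G.t.appTop.hom (a i))) =
      (fun i => (pullback.fst G.s G.t).appTop.hom (G.t.appTop.hom (a i))) := by
    funext i
    exact hct S G (a i)
  rw [h3] at h1
  have k1 : RingHom.ker (ρ.comp G.s.appTop.hom) = 𝔮.comap G.s.appTop.hom := by
    rw [← RingHom.comap_ker, hk]
  have k2 : RingHom.ker (ρ.comp G.t.appTop.hom) = 𝔮.comap G.t.appTop.hom := by
    rw [← RingHom.comap_ker, hk]
  rw [← cond_iff_condAt _ _ (ρ.comp G.s.appTop.hom) _ k1,
    ← cond_iff_condAt _ _ (ρ.comp G.t.appTop.hom) _ k2, h1, h2]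

/-- the ring map `Γ(U) ⊗ Γ(U) → Γ(R)`, `a ⊗ a' ↦ t♯(a) s♯(a')` -/
noncomputable def psi : Γ(G.U, ⊤) ⊗[ℤ] Γ(G.U, ⊤) →ₐ[ℤ] Γ(G.R, ⊤) :=
  Algebra.TensorProduct.productMap G.t.appTop.hom.toIntAlgHom G.s.appTop.hom.toIntAlgHom

lemma psi_tmul (a a' : Γ(G.U, ⊤)) :
    psi S G (a ⊗ₜ a') = G.t.appTop.hom a * G.s.appTop.hom a' := rfl

/-- If `j` is a monomorphism, `Γ(U) ⊗ Γ(U) → Γ(R)` is surjective. -/
theorem psi_surjective [Mono G.j] : Function.Surjective (psi S G) := by
  let f : CommRingCat.of (Γ(G.U, ⊤) ⊗[ℤ] Γ(G.U, ⊤)) ⟶ Γ(G.R, ⊤) :=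
    CommRingCat.ofHom (psi S G).toRingHom
  haveI : Epi f := by
    refine ⟨fun {T} g h hgh => ?_⟩
    have hgh' : ∀ z, g.hom (psi S G z) = h.hom (psi S G z) := fun z =>
      congrArg (fun φ => φ.hom z) hgh
    have ht : G.t.appTop ≫ g = G.t.appTop ≫ h := by
      ext a
      have := hgh' (a ⊗ₜ 1)
      rw [psi_tmul, map_one, mul_one] at this
      exact this
    have hs : G.s.appTop ≫ g = G.s.appTop ≫ h := by
      ext a
      have := hgh' (1 ⊗ₜ a)
      rw [psi_tmul, map_one, one_mul] at this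
      exact this
    have key : (Spec.map g ≫ G.R.isoSpec.inv) = (Spec.map h ≫ G.R.isoSpec.inv) := by
      rw [← cancel_mono G.j]
      apply pullback.hom_ext
      · simp only [Category.assoc, Groth.Agent.H37.GrpdCalc.j_fst]
        rw [← Scheme.isoSpec_inv_naturality,
          ← Spec.map_comp_assoc, ← Spec.map_comp_assoc, ht]
      · simp only [Category.assoc, Groth.Agent.H37.GrpdCalc.j_snd]
        rw [← Scheme.isoSpec_inv_naturality,
          ← Spec.map_comp_assoc, ← Spec.map_comp_assoc, hs]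
    rw [cancel_mono] at key
    exact Spec.map_injective key
  have hfin : RingHom.Finite f.hom := by
    have h1 : (G.s.appTop.hom).Finite := G.s.finite_appTop
    have h2 : G.s.appTop.hom = f.hom.comp
        (Algebra.TensorProduct.includeRight (R := ℤ) (A := Γ(G.U, ⊤)) (B := Γ(G.U, ⊤))).toRingHom := by
      ext a
      show _ = psi S G (1 ⊗ₜ a)
      rw [psi_tmul, map_one, one_mul]
    rw [h2] at h1
    exact RingHom.Finite.of_comp_finite h1
  exact RingHom.surjective_of_epi_of_finite f hfin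

/-- If `j` is a monomorphism, every prime of `Γ(U)` has a family `a` such that the `t♯ a i` induce a
basis of the fibre of `s` there. -/
theorem exists_family [Mono G.j] (𝔫 : Ideal Γ(G.U, ⊤)) [𝔫.IsPrime] :
    ∃ (n : ℕ) (a : Fin n → Γ(G.U, ⊤)),
      CondAt G.s.appTop.hom (fun i => G.t.appTop.hom (a i)) 𝔫 := by
  letI := G.s.appTop.hom.toAlgebra
  haveI hfin : Module.Finite Γ(G.U, ⊤) Γ(G.R, ⊤) := G.s.finite_appTop
  have hT : Submodule.span 𝔫.ResidueField
      (Set.range (fun y : Set.range G.t.appTop.hom =>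
        (1 : 𝔫.ResidueField) ⊗ₜ[Γ(G.U, ⊤)] (y : Γ(G.R, ⊤)))) = ⊤ := by
    rw [eq_top_iff]
    rintro v -
    have h1 : ∀ b : Γ(G.R, ⊤), (1 : 𝔫.ResidueField) ⊗ₜ[Γ(G.U, ⊤)] b ∈
        Submodule.span 𝔫.ResidueField
          (Set.range (fun y : Set.range G.t.appTop.hom =>
            (1 : 𝔫.ResidueField) ⊗ₜ[Γ(G.U, ⊤)] (y : Γ(G.R, ⊤)))) := by
      intro b
      obtain ⟨z, rfl⟩ := psi_surjective S G b
      induction z using TensorProduct.induction_on with
      | zero => rw [map_zero, TensorProduct.tmul_zero]; exact Submodule.zero_mem _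
      | add z w hz hw => rw [map_add, TensorProduct.tmul_add]; exact Submodule.add_mem _ hz hw
      | tmul a a' =>
        have e1 : psi S G (a ⊗ₜ a') = a' • G.t.appTop.hom a := by
          rw [psi_tmul, Algebra.smul_def, mul_comm]; rfl
        have e2 : (1 : 𝔫.ResidueField) ⊗ₜ[Γ(G.U, ⊤)] (a' • G.t.appTop.hom a) =
            (algebraMap _ 𝔫.ResidueField a') •
              ((1 : 𝔫.ResidueField) ⊗ₜ[Γ(G.U, ⊤)] G.t.appTop.hom a) := by
          rw [← TensorProduct.smul_tmul, TensorProduct.smul_tmul', Algebra.smul_def, smul_eq_mul]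
        rw [e1, e2]
        exact Submodule.smul_mem _ _ (Submodule.subset_span ⟨⟨_, a, rfl⟩, rfl⟩)
    induction v using TensorProduct.induction_on with
    | zero => exact Submodule.zero_mem _
    | add z w hz hw => exact Submodule.add_mem _ hz hw
    | tmul k b =>
      have : k ⊗ₜ[Γ(G.U, ⊤)] b = k • ((1 : 𝔫.ResidueField) ⊗ₜ[Γ(G.U, ⊤)] b) := by
        rw [TensorProduct.smul_tmul', smul_eq_mul, mul_one]
      rw [this]
      exact Submodule.smul_mem _ _ (h1 b)
  obtain ⟨n, x, hx, hbij⟩ := exists_family_of_span 𝔫 (Set.range G.t.appTop.hom) hT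
  choose a ha using hx
  refine ⟨n, a, ?_⟩
  rw [condAt_iff_bij]
  have : (fun i => G.t.appTop.hom (a i)) = x := funext ha
  simp only [ha]
  exact hbij

end

end Groth.Agent.H49.FinGrpdQuot
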