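import Groth.Agent.H49.FinGrpdRing
import Groth.Agent.H37.CharpolyBC
import Groth.Agent.H37.GrpdCalc2
import Groth.Agent.S7457
import Mathlib

/-!
# Finite locally free groupoids in affine schemes: orbits are the fibres of `U → Spec C`
-/

set_option autoImplicit false
universe u
open CategoryTheory CategoryTheory.Limits AlgebraicGeometry
open Grpd

namespace Groth.Agent.H49.FinGrpdSch

open Groth.Agent.H49.FinGrpdRing

section

variable (S : Scheme.{u}) (G : Grpd.GroupoidScheme S) [IsAffine G.U] [IsAffine G.R]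
  [IsFinite G.s] [Flat G.s] [LocallyOfFinitePresentation G.s]
  [IsFinite G.t] [Flat G.t] [LocallyOfFinitePresentation G.t]

lemma hes (a : Γ(G.U, ⊤)) : G.e.appTop.hom (G.s.appTop.hom a) = a := by
  have h := congrArg (fun φ => φ.appTop.hom a) G.e_s
  simpa using h

lemma het (a : Γ(G.U, ⊤)) : G.e.appTop.hom (G.t.appTop.hom a) = a := by
  have h := congrArg (fun φ => φ.appTop.hom a) G.e_t
  simpa using h

lemma hct (a : Γ(G.U, ⊤)) : G.c.appTop.hom (G.t.appTop.hom a) =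
    (pullback.fst G.s G.t).appTop.hom (G.t.appTop.hom a) := by
  have h := congrArg (fun φ => φ.appTop.hom a) (Groth.Agent.H37.GrpdCalc.c_t G)
  simpa using h

lemma hcs (a : Γ(G.U, ⊤)) : G.c.appTop.hom (G.s.appTop.hom a) =
    (pullback.snd G.s G.t).appTop.hom (G.s.appTop.hom a) := by
  have h := congrArg (fun φ => φ.appTop.hom a) (Groth.Agent.H37.GrpdCalc.c_s G)
  simpa using h

lemma hp (a : Γ(G.U, ⊤)) : (pullback.fst G.s G.t).appTop.hom (G.s.appTop.hom a) =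
    (pullback.snd G.s G.t).appTop.hom (G.t.appTop.hom a) := by
  have h := congrArg (fun φ => φ.appTop.hom a) (pullback.condition (f := G.s) (g := G.t))
  simpa using h

lemma finite_s : letI := G.s.appTop.hom.toAlgebra; Module.Finite Γ(G.U, ⊤) Γ(G.R, ⊤) :=
  G.s.finite_appTop

/-- The ring-level data attached to a finite locally free groupoid in affine schemes. -/
theorem exists_data :
    letI := G.s.appTop.hom.toAlgebra
    letI := (pullback.snd G.s G.t).appTop.hom.toAlgebra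
    ∃ (n : ℕ) (π : (Fin n → Γ(G.U, ⊤)) →ₗ[Γ(G.U, ⊤)] Γ(G.R, ⊤))
      (σ : Γ(G.R, ⊤) →ₗ[Γ(G.U, ⊤)] (Fin n → Γ(G.U, ⊤))), π ∘ₗ σ = LinearMap.id ∧
      (∀ x : Γ(G.R, ⊤), ∃ (π' : (Fin n → Γ(G.R, ⊤)) →ₗ[Γ(G.R, ⊤)] Γ(pullback G.s G.t, ⊤))
        (σ' : Γ(pullback G.s G.t, ⊤) →ₗ[Γ(G.R, ⊤)] (Fin n → Γ(G.R, ⊤))),
        π' ∘ₗ σ' = LinearMap.id ∧
        (σ' ∘ₗ Algebra.lmul Γ(G.R, ⊤) Γ(pullback G.s G.t, ⊤) (G.c.appTop.hom x) ∘ₗ π').charpoly =
          (σ ∘ₗ Algebra.lmul Γ(G.U, ⊤) Γ(G.R, ⊤) x ∘ₗ π).charpoly.map G.s.appTop.hom) ∧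
      (∀ x : Γ(G.R, ⊤), ∃ (π' : (Fin n → Γ(G.R, ⊤)) →ₗ[Γ(G.R, ⊤)] Γ(pullback G.s G.t, ⊤))
        (σ' : Γ(pullback G.s G.t, ⊤) →ₗ[Γ(G.R, ⊤)] (Fin n → Γ(G.R, ⊤))),
        π' ∘ₗ σ' = LinearMap.id ∧
        (σ' ∘ₗ Algebra.lmul Γ(G.R, ⊤) Γ(pullback G.s G.t, ⊤)
            ((pullback.fst G.s G.t).appTop.hom x) ∘ₗ π').charpoly =
          (σ ∘ₗ Algebra.lmul Γ(G.U, ⊤) Γ(G.R, ⊤) x ∘ₗ π).charpoly.map G.t.appTop.hom) := by
  letI := G.s.appTop.hom.toAlgebra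
  haveI hfin : Module.Finite Γ(G.U, ⊤) Γ(G.R, ⊤) := G.s.finite_appTop
  haveI hflat : Module.Flat Γ(G.U, ⊤) Γ(G.R, ⊤) := G.s.flat_appTop
  haveI hfp : Algebra.FinitePresentation Γ(G.U, ⊤) Γ(G.R, ⊤) := G.s.finitePresentation_appTop
  haveI : Module.FinitePresentation Γ(G.U, ⊤) Γ(G.R, ⊤) :=
    Module.FinitePresentation.of_finite_of_finitePresentation _ _
  haveI : Module.Projective Γ(G.U, ⊤) Γ(G.R, ⊤) := Module.Flat.projective_of_finitePresentation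
  obtain ⟨n, π, σ, -, -, hπσ⟩ :=
    Module.Finite.exists_comp_eq_id_of_projective Γ(G.U, ⊤) Γ(G.R, ⊤)
  have sq1 : IsPullback G.c (pullback.snd G.s G.t) G.s G.s := (Groth.Agent.S7457.result S G).2
  have sq2 := IsPullback.of_hasPullback G.s G.t
  have p1 := isPushout_appTop_of_isPullback sq1
  have p2 := isPushout_appTop_of_isPullback sq2
  exact ⟨n, π, σ, hπσ,
    fun x => Groth.Agent.H37.CharpolyBC.charpoly_of_isPushout p1 n π σ hπσ x,
    fun x => Groth.Agent.H37.CharpolyBC.charpoly_of_isPushout p2 n π σ hπσ x⟩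

/-- `Γ(U)` is integral over the invariants. -/
theorem isIntegral_invariants : Algebra.IsIntegral G.invariants Γ(G.U, ⊤) := by
  obtain ⟨n, π, σ, hπσ, H1, H2⟩ := exists_data S G
  exact isIntegral G.s.appTop.hom G.t.appTop.hom G.e.appTop.hom
    (pullback.fst G.s G.t).appTop.hom (pullback.snd G.s G.t).appTop.hom G.c.appTop.hom
    (hes S G) (het S G) (hct S G) n π σ hπσ H1 H2

end

section points

lemma isoSpec_apply {X Y : Scheme.{u}} [IsAffine X] [IsAffine Y] (f : X ⟶ Y) (x : X) :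
    Y.isoSpec.hom (f x) = Spec.map f.appTop (X.isoSpec.hom x) := by
  have h := Scheme.isoSpec_hom_naturality f
  have h2 := congrArg (fun φ => φ x) h
  simpa using h2.symm

lemma isoSpec_asIdeal {X Y : Scheme.{u}} [IsAffine X] [IsAffine Y] (f : X ⟶ Y) (x : X) :
    (Y.isoSpec.hom (f x)).asIdeal = Ideal.comap f.appTop.hom (X.isoSpec.hom x).asIdeal := by
  rw [isoSpec_apply]
  rfl

end points

section

variable (S : Scheme.{u}) (G : Grpd.GroupoidScheme S) [IsAffine G.U] [IsAffine G.R]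
  [IsFinite G.s] [Flat G.s] [LocallyOfFinitePresentation G.s]
  [IsFinite G.t] [Flat G.t] [LocallyOfFinitePresentation G.t]

lemma toQuot_asIdeal (u : G.U) :
    (G.toQuot u).asIdeal = Ideal.comap G.invariants.subtype (G.U.isoSpec.hom u).asIdeal := by
  rfl

lemma toQuot_s_eq_t : G.s ≫ G.toQuot = G.t ≫ G.toQuot := by
  unfold Grpd.GroupoidScheme.toQuot
  rw [← Category.assoc, ← Category.assoc, Scheme.toSpecΓ_naturality, Scheme.toSpecΓ_naturality,
    Category.assoc, Category.assoc, ← Spec.map_comp, ← Spec.map_comp]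
  congr 2
  ext x
  exact x.2

/-- Two points of `U` with the same image in `Spec C` are related by a point of `R`. -/
theorem exists_of_toQuot_eq (u₀ u₁ : G.U) (h : G.toQuot u₀ = G.toQuot u₁) :
    ∃ r : G.R, G.t r = u₀ ∧ G.s r = u₁ := by
  obtain ⟨n, π, σ, hπσ, H1, H2⟩ := exists_data S G
  have hI : ∀ x ∈ RingHom.eqLocus G.s.appTop.hom G.t.appTop.hom,
      x ∈ (G.U.isoSpec.hom u₁).asIdeal ↔ x ∈ (G.U.isoSpec.hom u₀).asIdeal := by
    intro x hx
    have h2 := congrArg PrimeSpectrum.asIdeal h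
    rw [toQuot_asIdeal, toQuot_asIdeal] at h2
    have h3 : (⟨x, hx⟩ : G.invariants) ∈ Ideal.comap G.invariants.subtype
        (G.U.isoSpec.hom u₀).asIdeal ↔ (⟨x, hx⟩ : G.invariants) ∈
          Ideal.comap G.invariants.subtype (G.U.isoSpec.hom u₁).asIdeal := by rw [h2]
    exact h3.symm
  obtain ⟨𝔮, h𝔮, h𝔮s, h𝔮t⟩ := exists_prime_orbit G.s.appTop.hom G.t.appTop.hom G.e.appTop.hom
    (pullback.fst G.s G.t).appTop.hom (pullback.snd G.s G.t).appTop.hom G.c.appTop.hom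
    (hes S G) (het S G) (hct S G) n π σ hπσ H1 H2 (finite_s S G)
    (G.U.isoSpec.hom u₁).asIdeal (G.U.isoSpec.hom u₀).asIdeal hI
  refine ⟨G.R.isoSpec.inv ⟨𝔮, h𝔮⟩, ?_, ?_⟩
  · apply G.U.isoSpec.hom.homeomorph.injective
    apply PrimeSpectrum.ext
    show (G.U.isoSpec.hom (G.t _)).asIdeal = _
    rw [isoSpec_asIdeal]
    have : G.R.isoSpec.hom (G.R.isoSpec.inv ⟨𝔮, h𝔮⟩) = ⟨𝔮, h𝔮⟩ := by
      rw [← Scheme.Hom.comp_apply, Iso.inv_hom_id]; rfl
    rw [this]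
    exact h𝔮t
  · apply G.U.isoSpec.hom.homeomorph.injective
    apply PrimeSpectrum.ext
    show (G.U.isoSpec.hom (G.s _)).asIdeal = _
    rw [isoSpec_asIdeal]
    have : G.R.isoSpec.hom (G.R.isoSpec.inv ⟨𝔮, h𝔮⟩) = ⟨𝔮, h𝔮⟩ := by
      rw [← Scheme.Hom.comp_apply, Iso.inv_hom_id]; rfl
    rw [this]
    exact h𝔮s

/-- The fibres of `U → Spec C` are the orbits. -/
theorem toQuot_eq_iff (u₀ u₁ : G.U) :
    G.toQuot u₀ = G.toQuot u₁ ↔ ∃ r : G.R, G.t r = u₀ ∧ G.s r = u₁ := by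
  refine ⟨exists_of_toQuot_eq S G u₀ u₁, ?_⟩
  rintro ⟨r, rfl, rfl⟩
  rw [← Scheme.Hom.comp_apply, ← Scheme.Hom.comp_apply, toQuot_s_eq_t]

/-- `U → Spec C` is surjective. -/
theorem toQuot_surjective : Function.Surjective G.toQuot := by
  haveI := isIntegral_invariants S G
  intro m
  obtain ⟨Q, -, hQ, hQm⟩ := Ideal.exists_ideal_over_prime_of_isIntegral m.asIdeal (⊥ : Ideal Γ(G.U, ⊤))
    (by
      rw [Ideal.comap_bot_of_injective _ (Subtype.val_injective)]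
      exact bot_le)
  refine ⟨G.U.isoSpec.inv ⟨Q, hQ⟩, ?_⟩
  apply PrimeSpectrum.ext
  rw [toQuot_asIdeal]
  have : G.U.isoSpec.hom (G.U.isoSpec.inv ⟨Q, hQ⟩) = ⟨Q, hQ⟩ := by
    rw [← Scheme.Hom.comp_apply, Iso.inv_hom_id]; rfl
  rw [this]
  exact hQm

end

end Groth.Agent.H49.FinGrpdSch
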