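import Mathlib
import Groth.Agent.H49.SmoothDescent

/-!
Flat + formally unramified + (essentially) finite type ⟹ formally étale, without finite
presentation (helper49).
-/

set_option autoImplicit false
universe u

open TensorProduct

namespace Groth.Agent.H49.FlatUnram

/-- A copy of `S` (remembering the base ring `R`), used to distinguish the two factors of
`S ⊗[R] S`. -/
@[nolint unusedArguments]
def Cp (_R : Type u) (S : Type u) : Type u := S

section

variable (R S : Type u) [CommRing R] [CommRing S] [Algebra R S]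

instance : CommRing (Cp R S) := inferInstanceAs (CommRing S)
instance : Algebra R (Cp R S) := inferInstanceAs (Algebra R S)
instance [Module.Flat R S] : Module.Flat R (Cp R S) := inferInstanceAs (Module.Flat R S)

/-- The identity as an `R`-algebra isomorphism `Cp R S ≃ₐ[R] S`. -/
def cpEquiv : Cp R S ≃ₐ[R] S := (AlgEquiv.refl : S ≃ₐ[R] S)

open Algebra in
theorem h1Cotangent_subsingleton_of_flat_of_formallyUnramified
    [Module.Flat R S] [Algebra.EssFiniteType R S] [Algebra.FormallyUnramified R S] :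
    Subsingleton (Algebra.H1Cotangent R S) := by
  obtain ⟨e, he, hsp⟩ : ∃ e, IsIdempotentElem e ∧
      KaehlerDifferential.ideal R S = Ideal.span {e} :=
    (Ideal.isIdempotentElem_iff_of_fg _ (KaehlerDifferential.ideal_fg R S)).mp <|
      (Ideal.cotangent_subsingleton_iff _).mp <| inferInstanceAs <| Subsingleton Ω[S⁄R]
  letI : Algebra S (Cp R S ⊗[R] S) := Algebra.TensorProduct.rightAlgebra
  let μ : Cp R S ⊗[R] S →ₐ[R] S := (Algebra.TensorProduct.lmul' R : S ⊗[R] S →ₐ[R] S)
  have hμ : ∀ (t : Cp R S) (s : S), μ (t ⊗ₜ s) = (cpEquiv R S t) * s := fun t s =>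
    Algebra.TensorProduct.lmul'_apply_tmul (R := R) (S := S) t s
  letI : Algebra (Cp R S ⊗[R] S) S := μ.toRingHom.toAlgebra
  haveI : IsScalarTower S (Cp R S ⊗[R] S) S := .of_algebraMap_eq fun s => by
    change s = μ (1 ⊗ₜ s)
    rw [hμ, map_one, one_mul]
  letI : Algebra (Cp R S) S := (cpEquiv R S).toAlgHom.toRingHom.toAlgebra
  haveI : IsScalarTower (Cp R S) (Cp R S ⊗[R] S) S := .of_algebraMap_eq fun t => by
    change cpEquiv R S t = μ (t ⊗ₜ 1)
    rw [hμ, mul_one]
  let e' : Cp R S ⊗[R] S := e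
  have he' : IsIdempotentElem (1 - e') := he.one_sub
  haveI : IsLocalization.Away (1 - e') S := by
    refine IsLocalization.away_of_isIdempotentElem he' ?_ ?_
    · rw [sub_sub_cancel]
      exact hsp
    · intro s
      exact ⟨(1 : Cp R S) ⊗ₜ s, by change μ (1 ⊗ₜ s) = s; rw [hμ, map_one, one_mul]⟩
  -- `S` is formally smooth over its copy
  haveI : Algebra.FormallySmooth (Cp R S) S := by
    let ε : Cp R S ≃ₐ[Cp R S] S := AlgEquiv.ofBijective (Algebra.ofId (Cp R S) S)
      ⟨(cpEquiv R S).injective, (cpEquiv R S).surjective⟩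
    exact Algebra.FormallySmooth.of_equiv ε
  have h0 : Subsingleton (H1Cotangent (Cp R S) S) :=
    ((Algebra.formallySmooth_iff (Cp R S) S).mp inferInstance).2
  let E1 : S ⊗[Cp R S ⊗[R] S] H1Cotangent (Cp R S) (Cp R S ⊗[R] S) ≃ₗ[S] H1Cotangent (Cp R S) S :=
    tensorH1CotangentOfIsLocalization (Cp R S) S (Submonoid.powers (1 - e'))
  let E2 : S ⊗[Cp R S ⊗[R] S] ((Cp R S ⊗[R] S) ⊗[S] H1Cotangent R S) ≃ₗ[S]
      S ⊗[Cp R S ⊗[R] S] H1Cotangent (Cp R S) (Cp R S ⊗[R] S) :=
    AlgebraTensorModule.congr (LinearEquiv.refl S S)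
      (Groth.Agent.H49.SmoothDescent.tensorH1CotangentOfFlatPushout R S (Cp R S) (Cp R S ⊗[R] S))
  let E3 : S ⊗[Cp R S ⊗[R] S] ((Cp R S ⊗[R] S) ⊗[S] H1Cotangent R S) ≃ₗ[S]
      S ⊗[S] H1Cotangent R S :=
    AlgebraTensorModule.cancelBaseChange S (Cp R S ⊗[R] S) S S (H1Cotangent R S)
  let E4 : S ⊗[S] H1Cotangent R S ≃ₗ[S] H1Cotangent R S := TensorProduct.lid S _
  exact (E4.symm.trans (E3.symm.trans (E2.trans E1))).toEquiv.subsingleton

theorem formallyEtale_of_flat_of_formallyUnramified
    [Module.Flat R S] [Algebra.EssFiniteType R S] [Algebra.FormallyUnramified R S] :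
    Algebra.FormallyEtale R S := by
  haveI : Algebra.FormallySmooth R S := by
    rw [Algebra.formallySmooth_iff]
    haveI : Subsingleton Ω[S⁄R] := inferInstance
    exact ⟨inferInstance, h1Cotangent_subsingleton_of_flat_of_formallyUnramified R S⟩
  exact Algebra.FormallyEtale.of_formallyUnramified_and_formallySmooth

end

end Groth.Agent.H49.FlatUnram
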