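import Mathlib.AlgebraicGeometry.Morphisms.UniversallyOpen
import Mathlib.AlgebraicGeometry.Sites.Fpqc
import Mathlib.CategoryTheory.MorphismProperty.Local

set_option autoImplicit false
universe u

namespace Groth.Agent.H49

open AlgebraicGeometry CategoryTheory Limits

/-- Unfolding membership in the precoverage attached to a morphism property. -/
theorem mem_precoverage_iff (P : MorphismProperty Scheme.{u}) {X : Scheme.{u}} {R : Presieve X} :
    R ∈ Scheme.precoverage P X ↔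
      (∀ x : X, ∃ (Y : Scheme.{u}) (g : Y ⟶ X), R g ∧ x ∈ Set.range g) ∧
        ∀ ⦃Y : Scheme.{u}⦄ ⦃g : Y ⟶ X⦄, R g → P g := by
  constructor
  · rintro ⟨h₁, h₂⟩
    refine ⟨fun x => ?_, fun Y g hg => h₂ hg⟩
    obtain ⟨Y, g, hg, hx⟩ :=
      (Presieve.mem_comap_jointlySurjectivePrecoverage_iff Scheme.forget).mp h₁ x
    exact ⟨Y, g, hg, hx⟩
  · rintro ⟨h₁, h₂⟩
    refine ⟨(Presieve.mem_comap_jointlySurjectivePrecoverage_iff Scheme.forget).mpr fun x => ?_,
      fun Y g hg => h₂ hg⟩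
    obtain ⟨Y, g, hg, hx⟩ := h₁ x
    exact ⟨Y, g, hg, hx⟩

theorem mem_fppfPrecoverage_iff {X : Scheme.{u}} {R : Presieve X} :
    R ∈ Scheme.fppfPrecoverage X ↔
      (∀ x : X, ∃ (Y : Scheme.{u}) (g : Y ⟶ X), R g ∧ x ∈ Set.range g) ∧
        ∀ ⦃Y : Scheme.{u}⦄ ⦃g : Y ⟶ X⦄, R g → Flat g ∧ LocallyOfFinitePresentation g :=
  mem_precoverage_iff _

end Groth.Agent.H49
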