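import Mathlib
import Groth.Agent.H49.SmoothFppf
import Groth.Agent.S0114
import Groth.Agent.S5938
import Groth.Agent.S2806

/-!
# lfp / lft / smooth / étale are fppf-local on the source (helper49)
-/

set_option autoImplicit false
universe u

open AlgebraicGeometry CategoryTheory Limits MorphismProperty

namespace Groth.Agent.H49.FppfSource

/-- Common chart lemma: for a jointly surjective family `e i : X i ⟶ Y` of flat morphisms locally
of finite presentation and `h : Y ⟶ Z`, every point of `Y` has an affine chart `V ⟶ U` of `h`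
together with an index `i` and an affine open `W` of `X i` such that
`Γ(Y, V) ⟶ Γ(X i, W)` is flat, finitely presented and surjective on spectra. -/
theorem exists_chart {ι : Type*} {X : ι → Scheme.{u}} {Y Z : Scheme.{u}}
    (e : ∀ i, X i ⟶ Y) (h : Y ⟶ Z) (he : ∀ i, Flat (e i))
    (he' : ∀ i, LocallyOfFinitePresentation (e i))
    (hs : ∀ y : Y, ∃ i, y ∈ Set.range (e i)) (y : Y) :
    ∃ (U : Z.affineOpens) (V : Y.affineOpens) (_ : y ∈ V.1) (eV : V.1 ≤ h ⁻¹ᵁ U.1)
      (i : ι) (W : (X i).affineOpens) (eW : W.1 ≤ (e i) ⁻¹ᵁ V.1),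
      ((e i).appLE V.1 W.1 eW).hom.Flat ∧ ((e i).appLE V.1 W.1 eW).hom.FinitePresentation ∧
      Function.Surjective (PrimeSpectrum.comap ((e i).appLE V.1 W.1 eW).hom) := by
  obtain ⟨i, x, rfl⟩ := hs y
  haveI := he i
  haveI := he' i
  obtain ⟨U, hU, hqU, -⟩ := TopologicalSpace.Opens.isBasis_iff_nbhd.mp Z.isBasis_affineOpens
    (TopologicalSpace.Opens.mem_top (h (e i x)))
  obtain ⟨V, hV, hyV, eV⟩ := TopologicalSpace.Opens.isBasis_iff_nbhd.mp Y.isBasis_affineOpens
    (show e i x ∈ h ⁻¹ᵁ U from hqU)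
  obtain ⟨W, hW, hxW, eW⟩ := TopologicalSpace.Opens.isBasis_iff_nbhd.mp (X i).isBasis_affineOpens
    (show x ∈ (e i) ⁻¹ᵁ V from hyV)
  let O : Y.Opens := ⟨(e i) '' (W : Set (X i)), (e i).isOpenMap _ W.2⟩
  obtain ⟨a, haO, hya⟩ := hV.exists_basicOpen_le (V := O) ⟨e i x, x, hxW, rfl⟩ hyV
  have hV' : IsAffineOpen (Y.basicOpen a) := hV.basicOpen a
  have hW' : IsAffineOpen ((X i).basicOpen ((e i).appLE V W eW a)) := hW.basicOpen _
  have hW'eq : (X i).basicOpen ((e i).appLE V W eW a) = W ⊓ (e i) ⁻¹ᵁ (Y.basicOpen a) :=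
    Scheme.basicOpen_appLE (e i) W V eW a
  have eW' : (X i).basicOpen ((e i).appLE V W eW a) ≤ (e i) ⁻¹ᵁ (Y.basicOpen a) :=
    hW'eq.le.trans inf_le_right
  have eV' : Y.basicOpen a ≤ h ⁻¹ᵁ U := (Y.basicOpen_le a).trans eV
  refine ⟨⟨U, hU⟩, ⟨Y.basicOpen a, hV'⟩, hya, eV', i, ⟨_, hW'⟩, eW', ?_, ?_, ?_⟩
  · exact (e i).flat_appLE hV' hW' eW'
  · exact (e i).finitePresentation_appLE hV' hW' eW'
  · intro 𝔭
    have hy' : hV'.fromSpec 𝔭 ∈ (Y.basicOpen a : Set Y) := by
      rw [← hV'.range_fromSpec]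
      exact Set.mem_range_self 𝔭
    obtain ⟨x', hx'W, hx'⟩ := haO hy'
    have hx'W' : x' ∈ ((X i).basicOpen ((e i).appLE V W eW a) : Set (X i)) := by
      rw [hW'eq]
      refine ⟨hx'W, ?_⟩
      show e i x' ∈ Y.basicOpen a
      rw [hx']
      exact hy'
    rw [← hW'.range_fromSpec] at hx'W'
    obtain ⟨𝔮, h𝔮⟩ := hx'W'
    refine ⟨𝔮, ?_⟩
    apply hV'.fromSpec.isOpenEmbedding.injective
    have key := IsAffineOpen.SpecMap_appLE_fromSpec (e i) hV' hW' eW'
    rw [← hx', ← h𝔮]
    exact congr($(key) 𝔮)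

/-- Local finite presentation descends on the source along jointly surjective fppf families. -/
theorem lfp_of_comp_of_fppf_family {ι : Type*} {X : ι → Scheme.{u}} {Y Z : Scheme.{u}}
    (e : ∀ i, X i ⟶ Y) (h : Y ⟶ Z) (he : ∀ i, Flat (e i))
    (he' : ∀ i, LocallyOfFinitePresentation (e i))
    (hs : ∀ y : Y, ∃ i, y ∈ Set.range (e i))
    (H : ∀ i, LocallyOfFinitePresentation (e i ≫ h)) : LocallyOfFinitePresentation h := by
  rw [HasRingHomProperty.iff_exists_appLE (P := @LocallyOfFinitePresentation)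
    (RingHom.finitePresentation_stableUnderComposition.stableUnderCompositionWithLocalizationAway
      RingHom.finitePresentation_holdsForLocalizationAway).1]
  intro y
  obtain ⟨U, V, hyV, eV, i, W, eW, h1, h2, h3⟩ := exists_chart e h he he' hs y
  refine ⟨U, V, hyV, eV, ?_⟩
  apply Groth.Agent.S0114.finitePresentation_of_comp (h.appLE U.1 V.1 eV).hom
    ((e i).appLE V.1 W.1 eW).hom h1 h2 h3
  rw [← CommRingCat.hom_comp, Scheme.Hom.appLE_comp_appLE]
  haveI := H i
  exact (e i ≫ h).finitePresentation_appLE U.2 W.2 _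

/-- Local finite type descends on the source along jointly surjective fppf families. -/
theorem lft_of_comp_of_fppf_family {ι : Type*} {X : ι → Scheme.{u}} {Y Z : Scheme.{u}}
    (e : ∀ i, X i ⟶ Y) (h : Y ⟶ Z) (he : ∀ i, Flat (e i))
    (he' : ∀ i, LocallyOfFinitePresentation (e i))
    (hs : ∀ y : Y, ∃ i, y ∈ Set.range (e i))
    (H : ∀ i, LocallyOfFiniteType (e i ≫ h)) : LocallyOfFiniteType h := by
  rw [HasRingHomProperty.iff_exists_appLE (P := @LocallyOfFiniteType)
    (RingHom.finiteType_stableUnderComposition.stableUnderCompositionWithLocalizationAway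
      RingHom.finiteType_holdsForLocalizationAway).1]
  intro y
  obtain ⟨U, V, hyV, eV, i, W, eW, h1, h2, h3⟩ := exists_chart e h he he' hs y
  refine ⟨U, V, hyV, eV, ?_⟩
  apply Groth.Agent.S5938.finiteType_of_comp (h.appLE U.1 V.1 eV).hom
    ((e i).appLE V.1 W.1 eW).hom h1 h2 h3
  rw [← CommRingCat.hom_comp, Scheme.Hom.appLE_comp_appLE]
  haveI := H i
  exact (e i ≫ h).finiteType_appLE U.2 W.2 _

/-- Smoothness descends on the source along jointly surjective fppf families. -/
theorem smooth_of_comp_of_fppf_family {ι : Type*} {X : ι → Scheme.{u}} {Y Z : Scheme.{u}}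
    (e : ∀ i, X i ⟶ Y) (h : Y ⟶ Z) (he : ∀ i, Flat (e i))
    (he' : ∀ i, LocallyOfFinitePresentation (e i))
    (hs : ∀ y : Y, ∃ i, y ∈ Set.range (e i))
    (H : ∀ i, Smooth (e i ≫ h)) : Smooth h := by
  haveI : LocallyOfFinitePresentation h :=
    lfp_of_comp_of_fppf_family e h he he' hs (fun i => by haveI := H i; infer_instance)
  rw [← Scheme.Hom.smoothLocus_eq_top_iff, ← top_le_iff]
  intro y _
  obtain ⟨i, x, rfl⟩ := hs y
  haveI := H i
  haveI := he i
  haveI : LocallyOfFinitePresentation (e i ≫ h) := inferInstance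
  exact Groth.Agent.H49.SmoothFppf.mem_smoothLocus_of_flat_of_comp h (e i) x
    (AlgebraicGeometry.Flat.stalkMap (e i) x)
    (by rw [Scheme.Hom.smoothLocus_eq_top]; trivial)

/-- Étaleness descends on the source along jointly surjective fppf families. -/
theorem etale_of_comp_of_fppf_family {ι : Type*} {X : ι → Scheme.{u}} {Y Z : Scheme.{u}}
    (e : ∀ i, X i ⟶ Y) (h : Y ⟶ Z) (he : ∀ i, Flat (e i))
    (he' : ∀ i, LocallyOfFinitePresentation (e i))
    (hs : ∀ y : Y, ∃ i, y ∈ Set.range (e i))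
    (H : ∀ i, Etale (e i ≫ h)) : Etale h := by
  haveI : LocallyOfFinitePresentation h :=
    lfp_of_comp_of_fppf_family e h he he' hs (fun i => by haveI := H i; infer_instance)
  have key : ∀ y : Y, ∃ V : Y.Opens, y ∈ V ∧ Etale (V.ι ≫ h) := by
    intro y
    obtain ⟨i, x, rfl⟩ := hs y
    haveI := H i
    haveI := he i
    haveI : LocallyOfFinitePresentation (e i ≫ h) := inferInstance
    exact Groth.Agent.S2806.result h (e i ≫ h) (e i) rfl x
      (AlgebraicGeometry.Flat.stalkMap (e i) x)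
      ⟨⊤, trivial, inferInstance⟩
  choose V hV hVh using key
  have hsup : iSup V = ⊤ := by
    rw [eq_top_iff]
    intro a _
    exact TopologicalSpace.Opens.mem_iSup.mpr ⟨a, hV a⟩
  exact (IsZariskiLocalAtSource.iff_of_iSup_eq_top (P := @Etale) _ hsup).mpr hVh

section Instances

theorem isLocalAtSource_of_family (Q P : MorphismProperty Scheme.{u}) [P.RespectsIso]
    (hQ : ∀ {X Y : Scheme.{u}} (g : X ⟶ Y), Q g → Flat g ∧ LocallyOfFinitePresentation g)
    (hcomp : ∀ {X Y Z : Scheme.{u}} (g : X ⟶ Y) (f : Y ⟶ Z), Q g → P f → P (g ≫ f))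
    (hdesc : ∀ {ι : Type (u + 1)} {X : ι → Scheme.{u}} {Y Z : Scheme.{u}}
      (e : ∀ i, X i ⟶ Y) (h : Y ⟶ Z), (∀ i, Flat (e i)) →
      (∀ i, LocallyOfFinitePresentation (e i)) → (∀ y : Y, ∃ i, y ∈ Set.range (e i)) →
      (∀ i, P (e i ≫ h)) → P h) :
    P.IsLocalAtSource (Scheme.precoverage Q) := by
  refine IsLocalAtSource.mk_of_iff_of_zeroHypercover fun {X Y} f 𝒰 => ?_
  have hmem := 𝒰.mem₀
  rw [Scheme.ofArrows_mem_precoverage_iff] at hmem
  constructor
  · intro hf i
    exact hcomp _ _ (hmem.2 i) hf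
  · intro hi
    exact hdesc 𝒰.f f (fun i => (hQ _ (hmem.2 i)).1) (fun i => (hQ _ (hmem.2 i)).2) hmem.1 hi

instance instLfpFppf : MorphismProperty.IsLocalAtSource
    (@LocallyOfFinitePresentation : MorphismProperty Scheme.{u}) Scheme.fppfPrecoverage :=
  isLocalAtSource_of_family (@Flat ⊓ @LocallyOfFinitePresentation) _ (fun _ hg => hg)
    (fun g f hg hf => by haveI := hg.2; haveI := hf; infer_instance)
    (fun e h h1 h2 h3 h4 => lfp_of_comp_of_fppf_family e h h1 h2 h3 h4)

instance instLftFppf : MorphismProperty.IsLocalAtSource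
    (@LocallyOfFiniteType : MorphismProperty Scheme.{u}) Scheme.fppfPrecoverage :=
  isLocalAtSource_of_family (@Flat ⊓ @LocallyOfFinitePresentation) _ (fun _ hg => hg)
    (fun g f hg hf => by haveI := hg.2; haveI := hf; infer_instance)
    (fun e h h1 h2 h3 h4 => lft_of_comp_of_fppf_family e h h1 h2 h3 h4)

instance instSmoothSmooth : MorphismProperty.IsLocalAtSource
    (@Smooth : MorphismProperty Scheme.{u}) (Scheme.precoverage @Smooth) :=
  isLocalAtSource_of_family @Smooth _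
    (fun g hg => by haveI := hg; exact ⟨inferInstance, inferInstance⟩)
    (fun g f hg hf => by haveI := hg; haveI := hf; infer_instance)
    (fun e h h1 h2 h3 h4 => smooth_of_comp_of_fppf_family e h h1 h2 h3 h4)

end Instances

end Groth.Agent.H49.FppfSource
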