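import Mathlib
import Groth.Agent.H49.FibreCritSch
import Groth.Agent.H8.LocFreeStalk
import Groth.Agent.H57.FibPD

/-!
# Freeness near a point from flatness over the base and flatness of the fibre (S1393),
via helper57's `FibPD.free_of_flat_quot`.
-/

set_option autoImplicit false
set_option linter.style.haveILetI false

universe u

open AlgebraicGeometry CategoryTheory Limits TensorProduct

namespace Groth.Agent.H49.FreeNear

variable {X S : Scheme.{u}}

/-- Statement of S1393. -/
theorem free_near_point (f : X ⟶ S)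
    (F : X.Modules) (hFq : Coh.IsQCoh F) (hFp : CohB1.IsFP F) (x : X)
    (h1 : FlatMod.IsFlatOverAt f F x)
    (h2 : Module.Flat (↑(X.presheaf.stalk x) ⧸ Ideal.map (f.stalkMap x).hom
        (IsLocalRing.maximalIdeal ↑(S.presheaf.stalk (f x))))
      (↑(F.presheaf.stalk x) ⧸ (Ideal.map (f.stalkMap x).hom
        (IsLocalRing.maximalIdeal ↑(S.presheaf.stalk (f x))) •
          (⊤ : Submodule ↑(X.presheaf.stalk x) ↑(F.presheaf.stalk x))))) :
    ∃ (U : X.Opens) (n : ℕ), x ∈ U ∧ Nonempty (F.restrict U.ι ≅ FlatMod.freeMod (↑U) n) := by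
  haveI : F.IsQuasicoherent := hFq
  haveI hfpx := Groth.Agent.H49.FibreCrit.finitePresentation_stalk F hFq hFp x
  have hfree : Module.Free (X.presheaf.stalk x) (F.presheaf.stalk x) := by
    letI alg : Algebra (S.presheaf.stalk (f x)) (X.presheaf.stalk x) :=
      (f.stalkMap x).hom.toAlgebra
    letI : Module (S.presheaf.stalk (f x)) (F.presheaf.stalk x) :=
      Module.compHom (F.presheaf.stalk x) (f.stalkMap x).hom
    haveI : IsScalarTower (S.presheaf.stalk (f x)) (X.presheaf.stalk x) (F.presheaf.stalk x) :=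
      ⟨fun a b m => by
        change ((f.stalkMap x).hom a * b) • m = (f.stalkMap x).hom a • (b • m)
        rw [mul_smul]⟩
    haveI : Module.Flat (S.presheaf.stalk (f x)) (F.presheaf.stalk x) := h1
    have hI : Ideal.map (f.stalkMap x).hom (IsLocalRing.maximalIdeal ↑(S.presheaf.stalk (f x))) ≤
        IsLocalRing.maximalIdeal (X.presheaf.stalk x) :=
      ((IsLocalRing.local_hom_TFAE (f.stalkMap x).hom).out 0 2).mp
        (inferInstance : IsLocalHom (f.stalkMap x).hom)
    haveI : Module.Flat (↑(X.presheaf.stalk x) ⧸ Ideal.map (f.stalkMap x).hom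
        (IsLocalRing.maximalIdeal ↑(S.presheaf.stalk (f x))))
        ((↑(X.presheaf.stalk x) ⧸ Ideal.map (f.stalkMap x).hom
          (IsLocalRing.maximalIdeal ↑(S.presheaf.stalk (f x)))) ⊗[↑(X.presheaf.stalk x)]
            ↑(F.presheaf.stalk x)) :=
      Module.Flat.of_linearEquiv (Groth.Agent.H49.FibreCrit.quotEquiv
        (A := ↑(X.presheaf.stalk x)) ↑(F.presheaf.stalk x) (Ideal.map (f.stalkMap x).hom
          (IsLocalRing.maximalIdeal ↑(S.presheaf.stalk (f x)))))
    exact Groth.Agent.H57.FibPD.free_of_flat_quot _ hI _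
      (Groth.Agent.H57.FibPD.rTensor_map_subtype_injective
        (A := ↑(S.presheaf.stalk (f x))) (R := ↑(X.presheaf.stalk x))
        (N := ↑(F.presheaf.stalk x)) (IsLocalRing.maximalIdeal ↑(S.presheaf.stalk (f x))))
  haveI := hfree
  obtain ⟨U, hU, hxU, -⟩ :=
    exists_isAffineOpen_mem_and_subset (x := x) (U := (⊤ : X.Opens)) trivial
  haveI : SheafOfModules.IsFinitePresentation (R := X.ringCatSheaf) F := hFp
  haveI : Module.FinitePresentation Γ(X, U) Γ(F, U) :=
    Groth.Agent.H8.finitePresentation_sections_of_isAffineOpen F hU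
  obtain ⟨r, hxr, n, hn⟩ :=
    Groth.Agent.H8.exists_basicOpen_restrict_iso_freeMod_of_free_stalk F hU x hxU
  exact ⟨X.basicOpen r, n, hxr, hn⟩

end Groth.Agent.H49.FreeNear
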