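import Groth.Agent.H49.FinGrpdIso
import Groth.Agent.H49.InvAffine
import Groth.Agent.H37.GrpdLib
import Mathlib

/-!
# Restriction of a groupoid to an invariant open, and the invariant affine opens
-/

set_option autoImplicit false
universe u
open CategoryTheory CategoryTheory.Limits AlgebraicGeometry TensorProduct
open Grpd

namespace Groth.Agent.H49.GQ1

open Groth.Agent.H49.GrpdRestrict Groth.Agent.H49.FinGrpdLoc

section tinst

variable {S : Scheme.{u}} (G : Grpd.GroupoidScheme S)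

lemma isFinite_t [IsFinite G.s] : IsFinite G.t := by
  rw [← G.i_s]
  haveI := Groth.Agent.H37.GrpdLib.isIso_i G
  infer_instance

lemma flat_t [Flat G.s] : Flat G.t := by
  rw [← G.i_s]
  haveI := Groth.Agent.H37.GrpdLib.isIso_i G
  infer_instance

lemma lfp_t [LocallyOfFinitePresentation G.s] : LocallyOfFinitePresentation G.t := by
  rw [← G.i_s]
  haveI := Groth.Agent.H37.GrpdLib.isIso_i G
  infer_instance

end tinst

section restrict

variable {S : Scheme.{u}} (G : Grpd.GroupoidScheme S) (W : G.U.Opens)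
  (hW : G.s ⁻¹ᵁ W = G.t ⁻¹ᵁ W)

/-- the target map of the restricted groupoid -/
noncomputable def tW : (G.s ⁻¹ᵁ W).toScheme ⟶ W.toScheme :=
  (G.R.isoOfEq hW).hom ≫ (G.t ∣_ W)

lemma tW_ι : tW G W hW ≫ W.ι = (G.s ⁻¹ᵁ W).ι ≫ G.t := by
  unfold tW
  rw [Category.assoc, morphismRestrict_ι, ← Category.assoc, Scheme.isoOfEq_hom_ι]

/-- the restriction of the groupoid to an invariant open -/
@[reducible] noncomputable def GW : Grpd.GroupoidScheme S :=
  { restrict G W.ι (G.s ⁻¹ᵁ W).ι (G.s ∣_ W) (tW G W hW)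
      (isPullback_morphismRestrict G.s W).flip (tW_ι G W hW) with
    U := W.toScheme
    R := (G.s ⁻¹ᵁ W).toScheme
    pU := W.ι ≫ G.pU
    pR := (G.s ⁻¹ᵁ W).ι ≫ G.pR
    s := G.s ∣_ W
    t := tW G W hW }

lemma GW_s_ι : (GW G W hW).s ≫ W.ι = (G.s ⁻¹ᵁ W).ι ≫ G.s := morphismRestrict_ι G.s W

lemma GW_t_ι : (GW G W hW).t ≫ W.ι = (G.s ⁻¹ᵁ W).ι ≫ G.t := tW_ι G W hW

lemma GW_s_apply (x : (GW G W hW).R) : ((GW G W hW).s x).1 = G.s x.1 := by
  exact congrArg (fun ψ : (GW G W hW).R ⟶ G.U => ψ x) (GW_s_ι G W hW)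

lemma GW_t_apply (x : (GW G W hW).R) : ((GW G W hW).t x).1 = G.t x.1 := by
  exact congrArg (fun ψ : (GW G W hW).R ⟶ G.U => ψ x) (GW_t_ι G W hW)

instance [IsFinite G.s] : IsFinite (GW G W hW).s :=
  MorphismProperty.of_isPullback (P := @IsFinite)
    (isPullback_morphismRestrict G.s W).flip inferInstance

instance [Flat G.s] : Flat (GW G W hW).s :=
  MorphismProperty.of_isPullback (P := @Flat)
    (isPullback_morphismRestrict G.s W).flip inferInstance

instance [LocallyOfFinitePresentation G.s] : LocallyOfFinitePresentation (GW G W hW).s :=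
  MorphismProperty.of_isPullback (P := @LocallyOfFinitePresentation)
    (isPullback_morphismRestrict G.s W).flip inferInstance

instance [IsFinite G.s] : IsFinite (GW G W hW).t := by
  haveI := isFinite_t G
  haveI : IsFinite (G.t ∣_ W) := MorphismProperty.of_isPullback (P := @IsFinite)
    (isPullback_morphismRestrict G.t W).flip inferInstance
  show IsFinite ((G.R.isoOfEq hW).hom ≫ (G.t ∣_ W))
  infer_instance

instance [Flat G.s] : Flat (GW G W hW).t := by
  haveI := flat_t G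
  haveI : Flat (G.t ∣_ W) := MorphismProperty.of_isPullback (P := @Flat)
    (isPullback_morphismRestrict G.t W).flip inferInstance
  show Flat ((G.R.isoOfEq hW).hom ≫ (G.t ∣_ W))
  infer_instance

instance [LocallyOfFinitePresentation G.s] : LocallyOfFinitePresentation (GW G W hW).t := by
  haveI := lfp_t G
  haveI : LocallyOfFinitePresentation (G.t ∣_ W) :=
    MorphismProperty.of_isPullback (P := @LocallyOfFinitePresentation)
      (isPullback_morphismRestrict G.t W).flip inferInstance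
  show LocallyOfFinitePresentation ((G.R.isoOfEq hW).hom ≫ (G.t ∣_ W))
  infer_instance

lemma isAffine_U (haff : IsAffineOpen W) : IsAffine (GW G W hW).U := haff

lemma isAffine_R [IsFinite G.s] (haff : IsAffineOpen W) : IsAffine (GW G W hW).R :=
  haff.preimage G.s

/-- `j` of the restriction is a monomorphism if `j` is -/
lemma mono_j [Mono G.j] : Mono (GW G W hW).j := by
  refine ⟨fun {T} a b hab => ?_⟩
  have h1 : a ≫ (GW G W hW).t = b ≫ (GW G W hW).t := by
    have := congrArg (fun ψ => ψ ≫ pullback.fst _ _) hab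
    simp only [Category.assoc] at this
    rw [Groth.Agent.H37.GrpdCalc.j_fst] at this
    exact this
  have h2 : a ≫ (GW G W hW).s = b ≫ (GW G W hW).s := by
    have := congrArg (fun ψ => ψ ≫ pullback.snd _ _) hab
    simp only [Category.assoc] at this
    rw [Groth.Agent.H37.GrpdCalc.j_snd] at this
    exact this
  change T ⟶ (G.s ⁻¹ᵁ W).toScheme at a b
  change a ≫ tW G W hW = b ≫ tW G W hW at h1
  change a ≫ (G.s ∣_ W) = b ≫ (G.s ∣_ W) at h2
  have key : a ≫ (G.s ⁻¹ᵁ W).ι = b ≫ (G.s ⁻¹ᵁ W).ι := by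
    rw [← cancel_mono G.j]
    apply pullback.hom_ext
    · simp only [Category.assoc, Groth.Agent.H37.GrpdCalc.j_fst]
      rw [← tW_ι G W hW, ← Category.assoc, ← Category.assoc, h1]
    · simp only [Category.assoc, Groth.Agent.H37.GrpdCalc.j_snd]
      rw [← morphismRestrict_ι, ← Category.assoc, ← Category.assoc, h2]
  exact (cancel_mono (G.s ⁻¹ᵁ W).ι).mp key

end restrict

section maps

variable {S : Scheme.{u}} {H₁ H₂ : Grpd.GroupoidScheme S} (fU : H₁.U ⟶ H₂.U) (fR : H₁.R ⟶ H₂.R)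
  (hs : H₁.s ≫ fU = fR ≫ H₂.s) (ht : H₁.t ≫ fU = fR ≫ H₂.t)

include hs ht in
lemma invariants_map (a : Γ(H₂.U, ⊤)) (ha : a ∈ H₂.invariants) :
    fU.appTop.hom a ∈ H₁.invariants := by
  show H₁.s.appTop.hom (fU.appTop.hom a) = H₁.t.appTop.hom (fU.appTop.hom a)
  have ha' : H₂.s.appTop.hom a = H₂.t.appTop.hom a := ha
  rw [appTop_comm hs a, appTop_comm ht a, ha']

/-- the induced map on invariants -/
noncomputable def resInv : H₂.invariants →+* H₁.invariants :=
  (fU.appTop.hom.comp H₂.invariants.subtype).codRestrict H₁.invariants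
    (fun a => invariants_map fU fR hs ht a.1 a.2)

lemma resInv_coe (a : H₂.invariants) :
    ((resInv fU fR hs ht a : H₁.invariants) : Γ(H₁.U, ⊤)) = fU.appTop.hom a.1 := rfl

lemma toQuot_naturality :
    H₁.toQuot ≫ Spec.map (CommRingCat.ofHom (resInv fU fR hs ht)) = fU ≫ H₂.toQuot := by
  unfold Grpd.GroupoidScheme.toQuot
  rw [Category.assoc, ← Spec.map_comp, ← Category.assoc fU, Scheme.toSpecΓ_naturality,
    Category.assoc, ← Spec.map_comp]
  rfl

end maps

section J

variable {S : Scheme.{u}} (G : Grpd.GroupoidScheme S)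

/-- invariant affine opens -/
abbrev J := {W : G.U.Opens // IsAffineOpen W ∧ G.s ⁻¹ᵁ W = G.t ⁻¹ᵁ W}

/-- the restricted groupoid -/
noncomputable abbrev H (W : J G) : Grpd.GroupoidScheme S := GW G W.1 W.2.2

instance (W : J G) : IsAffine (H G W).U := W.2.1

instance [IsFinite G.s] (W : J G) : IsAffine (H G W).R := W.2.1.preimage G.s

variable {G}

lemma preimage_le {W W' : G.U.Opens} (h : W ≤ W') : G.s ⁻¹ᵁ W ≤ G.s ⁻¹ᵁ W' := fun _ hx => h hx

lemma res_s {W W' : G.U.Opens} (hW : G.s ⁻¹ᵁ W = G.t ⁻¹ᵁ W) (hW' : G.s ⁻¹ᵁ W' = G.t ⁻¹ᵁ W')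
    (h : W ≤ W') :
    (GW G W hW).s ≫ G.U.homOfLE h = G.R.homOfLE (preimage_le h) ≫ (GW G W' hW').s := by
  show (G.s ∣_ W) ≫ G.U.homOfLE h = G.R.homOfLE (preimage_le h) ≫ (G.s ∣_ W')
  rw [← cancel_mono W'.ι, Category.assoc, Category.assoc, Scheme.homOfLE_ι, morphismRestrict_ι,
    morphismRestrict_ι, Scheme.homOfLE_ι_assoc]

lemma res_t {W W' : G.U.Opens} (hW : G.s ⁻¹ᵁ W = G.t ⁻¹ᵁ W) (hW' : G.s ⁻¹ᵁ W' = G.t ⁻¹ᵁ W')
    (h : W ≤ W') :
    (GW G W hW).t ≫ G.U.homOfLE h = G.R.homOfLE (preimage_le h) ≫ (GW G W' hW').t := by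
  show tW G W hW ≫ G.U.homOfLE h = G.R.homOfLE (preimage_le h) ≫ tW G W' hW'
  rw [← cancel_mono W'.ι, Category.assoc, Category.assoc, Scheme.homOfLE_ι, tW_ι, tW_ι,
    Scheme.homOfLE_ι_assoc]

/-- restriction of invariants -/
noncomputable def rInv {W W' : J G} (h : W ≤ W') : (H G W').invariants →+* (H G W).invariants :=
  resInv (G.U.homOfLE h) (G.R.homOfLE (preimage_le h)) (res_s W.2.2 W'.2.2 h)
    (res_t W.2.2 W'.2.2 h)

lemma rInv_coe {W W' : J G} (h : W ≤ W') (a : (H G W').invariants) :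
    ((rInv h a : (H G W).invariants) : Γ((H G W).U, ⊤)) = (G.U.homOfLE h).appTop.hom a.1 := rfl

lemma toQuot_rInv {W W' : J G} (h : W ≤ W') :
    (H G W).toQuot ≫ Spec.map (CommRingCat.ofHom (rInv h)) = G.U.homOfLE h ≫ (H G W').toQuot :=
  toQuot_naturality _ _ _ _

end J

end Groth.Agent.H49.GQ1
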