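import Groth.Agent.H49.GQ3
import Mathlib

/-!
# The diagram of quotients of invariant affine opens
-/

set_option autoImplicit false
universe u
open CategoryTheory CategoryTheory.Limits AlgebraicGeometry TensorProduct
open Grpd

namespace Groth.Agent.H49.GQ4

open Groth.Agent.H49.GQ1 Groth.Agent.H49.GQ2 Groth.Agent.H49.GQ3 Groth.Agent.H49.FinGrpdLoc
  Groth.Agent.H49.FinGrpdSch

variable {S : Scheme.{u}} {G : Grpd.GroupoidScheme S}
  [IsFinite G.s] [Flat G.s] [LocallyOfFinitePresentation G.s]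

section basic

/-- membership in a basic open of `W'` only depends on the orbit -/
lemma basicOpen_invariant (W' : J G) (c : (H G W').invariants) (r : (H G W').R) :
    (H G W').s r ∈ (H G W').U.basicOpen c.1 ↔ (H G W').t r ∈ (H G W').U.basicOpen c.1 := by
  rw [mem_basicOpen_iff_toQuot, mem_basicOpen_iff_toQuot, ← Scheme.Hom.comp_apply,
    ← Scheme.Hom.comp_apply, toQuot_s_eq_t]

/-- the invariant affine open `W'_c` -/
noncomputable def basicJ (W' : J G) (c : (H G W').invariants) : J G :=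
  ⟨W'.1.ι ''ᵁ ((H G W').U.basicOpen c.1),
    ((isAffineOpen_top (H G W').U).basicOpen c.1).image_of_isOpenImmersion W'.1.ι, by
    refine Groth.Agent.H37.GrpdCalc.preimage_eq_of_le G _ ?_
    rintro r ⟨x, hx, hxr⟩
    have hr' : r ∈ G.s ⁻¹ᵁ W'.1 := by
      rw [W'.2.2]
      show G.t r ∈ W'.1
      rw [← hxr]
      exact x.2
    have h1 : (H G W').t ⟨r, hr'⟩ = x := by
      apply Subtype.ext
      rw [GW_t_apply]
      exact hxr.symm
    have h2 : (H G W').s ⟨r, hr'⟩ ∈ (H G W').U.basicOpen c.1 := by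
      rw [basicOpen_invariant, h1]
      exact hx
    exact ⟨_, h2, GW_s_apply G W'.1 W'.2.2 ⟨r, hr'⟩⟩⟩

lemma basicJ_le (W' : J G) (c : (H G W').invariants) : basicJ W' c ≤ W' := by
  rintro _ ⟨x, -, rfl⟩
  exact x.2

lemma preimage_basicJ (W' : J G) (c : (H G W').invariants) :
    W'.1.ι ⁻¹ᵁ (basicJ W' c).1 = (H G W').U.basicOpen c.1 :=
  Scheme.Hom.preimage_image_eq _ _

lemma mem_basicJ (W' : J G) (c : (H G W').invariants) (x : (H G W').U) :
    x.1 ∈ (basicJ W' c).1 ↔ x ∈ (H G W').U.basicOpen c.1 := by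
  rw [← preimage_basicJ]
  exact Iff.rfl

/-- invariant basic neighbourhoods inside invariant opens -/
theorem exists_basicJ (W' : J G) (O : G.U.Opens) (hO : ∀ r : G.R, G.s r ∈ O → G.t r ∈ O)
    (u : G.U) (huO : u ∈ O) (huW : u ∈ W'.1) :
    ∃ c : (H G W').invariants, u ∈ (basicJ W' c).1 ∧ (basicJ W' c).1 ≤ O := by
  obtain ⟨c, hc1, hc2⟩ := exists_basic_nbhd S (H G W') (W'.1.ι ⁻¹ᵁ O)
    (fun r hr => by
      show ((H G W').t r).1 ∈ O
      rw [GW_t_apply]
      apply hO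
      rw [← GW_s_apply G W'.1 W'.2.2 r]
      exact hr) ⟨u, huW⟩ huO
  refine ⟨c, (mem_basicJ W' c ⟨u, huW⟩).mpr hc1, ?_⟩
  rintro _ ⟨x, hx, rfl⟩
  exact hc2 hx

end basic

end Groth.Agent.H49.GQ4
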