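import Groth.Agent.H49.GQ4
import Mathlib

/-!
# The locally directed diagram of quotients of invariant affine opens
-/

set_option autoImplicit false
universe u
open CategoryTheory CategoryTheory.Limits AlgebraicGeometry TensorProduct
open Grpd

namespace Groth.Agent.H49.GQ5

open Groth.Agent.H49.GQ1 Groth.Agent.H49.GQ2 Groth.Agent.H49.GQ3 Groth.Agent.H49.GQ4
  Groth.Agent.H49.FinGrpdLoc Groth.Agent.H49.FinGrpdSch

variable {S : Scheme.{u}} {G : Grpd.GroupoidScheme S}
  [IsFinite G.s] [Flat G.s] [LocallyOfFinitePresentation G.s]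

section functor

/-- the quotient of an invariant affine open -/
noncomputable abbrev M (W : J G) : Scheme.{u} := Spec (CommRingCat.of (H G W).invariants)

/-- the transition maps -/
noncomputable abbrev Fmap {W W' : J G} (h : W ≤ W') : M W ⟶ M W' :=
  Spec.map (CommRingCat.ofHom (rInv h))

omit [IsFinite G.s] [Flat G.s] [LocallyOfFinitePresentation G.s] in
lemma rInv_rfl (W : J G) : rInv (le_refl W) = RingHom.id _ := by
  ext a
  rw [rInv_coe]
  have : G.U.homOfLE (le_refl W.1) = 𝟙 _ := Scheme.homOfLE_rfl _ _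
  rw [show G.U.homOfLE (le_refl W) = 𝟙 _ from this]
  rfl

omit [IsFinite G.s] [Flat G.s] [LocallyOfFinitePresentation G.s] in
lemma rInv_trans {W W' W'' : J G} (h : W ≤ W') (h' : W' ≤ W'') :
    rInv (h.trans h') = (rInv h).comp (rInv h') := by
  ext a
  rw [rInv_coe]
  show _ = (G.U.homOfLE h).appTop.hom ((G.U.homOfLE h').appTop.hom a.1)
  have : G.U.homOfLE (h.trans h') = G.U.homOfLE h ≫ G.U.homOfLE h' :=
    (Scheme.homOfLE_homOfLE _ _ _).symm
  rw [show G.U.homOfLE (le_trans h h') = G.U.homOfLE h ≫ G.U.homOfLE h' from this,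
    Scheme.Hom.comp_appTop]
  rfl

omit [IsFinite G.s] [Flat G.s] [LocallyOfFinitePresentation G.s] in
lemma Fmap_rfl (W : J G) : Fmap (le_refl W) = 𝟙 (M W) := by
  show Spec.map (CommRingCat.ofHom (rInv (le_refl W))) = 𝟙 _
  rw [rInv_rfl]
  exact Spec.map_id _

omit [IsFinite G.s] [Flat G.s] [LocallyOfFinitePresentation G.s] in
lemma Fmap_trans {W W' W'' : J G} (h : W ≤ W') (h' : W' ≤ W'') :
    Fmap (h.trans h') = Fmap h ≫ Fmap h' := by
  show Spec.map (CommRingCat.ofHom (rInv (h.trans h'))) = _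
  rw [rInv_trans, CommRingCat.ofHom_comp, Spec.map_comp]

variable (G) in
/-- the diagram of quotients -/
noncomputable def F : J G ⥤ Scheme.{u} where
  obj W := M W
  map f := Fmap (leOfHom f)
  map_id W := Fmap_rfl W
  map_comp f g := Fmap_trans (leOfHom f) (leOfHom g)

omit [IsFinite G.s] [Flat G.s] [LocallyOfFinitePresentation G.s] in
lemma toQuot_Fmap {W W' : J G} (h : W ≤ W') :
    (H G W).toQuot ≫ Fmap h = G.U.homOfLE h ≫ (H G W').toQuot := toQuot_rInv h

omit [IsFinite G.s] [Flat G.s] [LocallyOfFinitePresentation G.s] in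
lemma toQuot_Fmap_apply {W W' : J G} (h : W ≤ W') (u : (H G W).U) :
    Fmap h ((H G W).toQuot u) = (H G W').toQuot (G.U.homOfLE h u) := by
  rw [← Scheme.Hom.comp_apply, toQuot_Fmap, Scheme.Hom.comp_apply]

end functor

section orbits

omit [IsFinite G.s] [Flat G.s] [LocallyOfFinitePresentation G.s] in
lemma mem_iff_of_orbit (W : J G) (r : G.R) : G.s r ∈ W.1 ↔ G.t r ∈ W.1 := by
  have h := W.2.2
  constructor
  · intro hr
    have : r ∈ G.s ⁻¹ᵁ W.1 := hr
    rw [h] at this
    exact this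
  · intro hr
    have : r ∈ G.t ⁻¹ᵁ W.1 := hr
    rw [← h] at this
    exact this

/-- fibres of the affine quotient maps are the orbits -/
lemma toQuot_eq_iff' (W : J G) (u u' : (H G W).U) :
    (H G W).toQuot u = (H G W).toQuot u' ↔ ∃ r : G.R, G.t r = u.1 ∧ G.s r = u'.1 := by
  rw [toQuot_eq_iff S (H G W)]
  constructor
  · rintro ⟨r, hr1, hr2⟩
    refine ⟨r.1, ?_, ?_⟩
    · rw [← GW_t_apply G W.1 W.2.2 r, hr1]
    · rw [← GW_s_apply G W.1 W.2.2 r, hr2]
  · rintro ⟨r, hr1, hr2⟩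
    have hr : r ∈ G.s ⁻¹ᵁ W.1 := by
      show G.s r ∈ W.1
      rw [hr2]
      exact u'.2
    refine ⟨⟨r, hr⟩, ?_, ?_⟩
    · apply Subtype.ext
      rw [GW_t_apply]
      exact hr1
    · apply Subtype.ext
      rw [GW_s_apply]
      exact hr2

end orbits

section openimm

lemma Fmap_injective {W W' : J G} (h : W ≤ W') : Function.Injective (Fmap h) := by
  intro x x' hxx'
  obtain ⟨u, rfl⟩ := toQuot_surjective S (H G W) x
  obtain ⟨u', rfl⟩ := toQuot_surjective S (H G W) x'
  rw [toQuot_Fmap_apply, toQuot_Fmap_apply, toQuot_eq_iff'] at hxx'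
  obtain ⟨r, hr1, hr2⟩ := hxx'
  rw [Scheme.homOfLE_apply] at hr1 hr2
  exact (toQuot_eq_iff' W u u').mpr ⟨r, hr1, hr2⟩

/-- the transition map to a basic invariant open is an open immersion -/
lemma isOpenImmersion_Fmap_of_basic {W W' : J G} (h : W ≤ W') (c : (H G W').invariants)
    (hWc : W'.1.ι ⁻¹ᵁ W.1 = (H G W').U.basicOpen c.1) : IsOpenImmersion (Fmap h) := by
  letI := (rInv h).toAlgebra
  haveI := isLocalization_rInv h c hWc
  exact IsOpenImmersion.of_isLocalization (R := (H G W').invariants) (S := (H G W).invariants) c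

lemma range_Fmap_of_basic {W W' : J G} (h : W ≤ W') (c : (H G W').invariants)
    (hWc : W'.1.ι ⁻¹ᵁ W.1 = (H G W').U.basicOpen c.1) :
    Set.range (Fmap h) = (PrimeSpectrum.basicOpen c : Set (PrimeSpectrum (H G W').invariants)) := by
  letI := (rInv h).toAlgebra
  haveI := isLocalization_rInv h c hWc
  exact PrimeSpectrum.localization_away_comap_range (H G W).invariants c

/-- the preimage in a smaller invariant affine open of a basic invariant open -/
lemma preimage_basicJ_of_le {W W' : J G} (h : W ≤ W') (c : (H G W').invariants)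
    (h₀ : basicJ W' c ≤ W) :
    W.1.ι ⁻¹ᵁ (basicJ W' c).1 = (H G W).U.basicOpen (rInv h c).1 := by
  rw [rInv_coe, ← Scheme.preimage_basicOpen_top, ← preimage_basicJ, ← Scheme.Hom.comp_preimage,
    Scheme.homOfLE_ι]

instance isOpenImmersion_Fmap {W W' : J G} (h : W ≤ W') : IsOpenImmersion (Fmap h) := by
  refine IsOpenImmersion.of_forall_source_exists _ (Fmap_injective h) fun x => ?_
  obtain ⟨u, rfl⟩ := toQuot_surjective S (H G W) x
  obtain ⟨c, hc1, hc2⟩ := exists_basicJ W' W.1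
    (fun r hr => (mem_iff_of_orbit W r).mp hr) u.1 u.2 (h u.2)
  have h₀ : basicJ W' c ≤ W := hc2
  haveI : IsOpenImmersion (Fmap h₀) :=
    isOpenImmersion_Fmap_of_basic h₀ (rInv h c) (preimage_basicJ_of_le h c h₀)
  refine ⟨M (basicJ W' c), Fmap h₀, inferInstance, ?_, ?_⟩
  · refine ⟨(H G (basicJ W' c)).toQuot ⟨u.1, hc1⟩, ?_⟩
    rw [toQuot_Fmap_apply]
    congr 1
    apply Subtype.ext
    rw [Scheme.homOfLE_apply]
  · rw [← Fmap_trans]
    exact isOpenImmersion_Fmap_of_basic _ c (preimage_basicJ W' c)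

instance {W W' : J G} (f : W ⟶ W') : IsOpenImmersion ((F G).map f) :=
  isOpenImmersion_Fmap (leOfHom f)

end openimm

section directed

instance : ((F G) ⋙ Scheme.forget).IsLocallyDirected where
  cond {Wi Wj Wk} fi fj xi xj hx := by
    change M Wi at xi
    change M Wj at xj
    change Fmap (leOfHom fi) xi = Fmap (leOfHom fj) xj at hx
    obtain ⟨ui, rfl⟩ := toQuot_surjective S (H G Wi) xi
    obtain ⟨uj, rfl⟩ := toQuot_surjective S (H G Wj) xj
    rw [toQuot_Fmap_apply, toQuot_Fmap_apply, toQuot_eq_iff'] at hx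
    obtain ⟨r, hr1, hr2⟩ := hx
    rw [Scheme.homOfLE_apply] at hr1 hr2
    have huj : uj.1 ∈ Wi.1 := by
      rw [← hr2, mem_iff_of_orbit, hr1]
      exact ui.2
    obtain ⟨c, hc1, hc2⟩ := exists_basicJ Wi (Wi.1 ⊓ Wj.1)
      (fun r hr => ⟨(mem_iff_of_orbit Wi r).mp hr.1, (mem_iff_of_orbit Wj r).mp hr.2⟩)
      uj.1 ⟨huj, uj.2⟩ huj
    have hli : basicJ Wi c ≤ Wi := fun _ hz => (hc2 hz).1
    have hlj : basicJ Wi c ≤ Wj := fun _ hz => (hc2 hz).2
    refine ⟨basicJ Wi c, homOfLE hli, homOfLE hlj,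
      (H G (basicJ Wi c)).toQuot ⟨uj.1, hc1⟩, ?_, ?_⟩
    · show Fmap hli _ = _
      rw [toQuot_Fmap_apply, toQuot_eq_iff']
      refine ⟨G.i r, ?_, ?_⟩
      · rw [Scheme.homOfLE_apply, ← Scheme.Hom.comp_apply, G.i_t]
        exact hr2
      · rw [← Scheme.Hom.comp_apply, G.i_s]
        exact hr1
    · show Fmap hlj _ = _
      rw [toQuot_Fmap_apply]
      congr 1
      apply Subtype.ext
      rw [Scheme.homOfLE_apply]

end directed

end Groth.Agent.H49.GQ5
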