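import Groth.Agent.H49.GQ5
import Mathlib

/-!
# The quotient scheme and the locally directed covers
-/

set_option autoImplicit false
universe u
open CategoryTheory CategoryTheory.Limits AlgebraicGeometry TensorProduct
open Grpd

namespace Groth.Agent.H49.GQ6

open Groth.Agent.H49.GQ1 Groth.Agent.H49.GQ2 Groth.Agent.H49.GQ3 Groth.Agent.H49.GQ4
  Groth.Agent.H49.GQ5 Groth.Agent.H49.FinGrpdLoc Groth.Agent.H49.FinGrpdSch
  Groth.Agent.H49.InvAffine

variable {S : Scheme.{u}} {G : Grpd.GroupoidScheme S}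
  [IsFinite G.s] [Flat G.s] [LocallyOfFinitePresentation G.s]

section Y

variable (G) in
/-- the quotient scheme -/
noncomputable abbrev Y : Scheme.{u} := colimit (F G)

/-- the open immersions of the affine quotients -/
noncomputable abbrev ιY (W : J G) : M W ⟶ Y G := colimit.ι (F G) W

lemma Fmap_ιY {W W' : J G} (h : W ≤ W') : Fmap h ≫ ιY W' = ιY W :=
  colimit.w (F G) (homOfLE h)

lemma Fmap_ιY_apply {W W' : J G} (h : W ≤ W') (x : M W) : ιY W' (Fmap h x) = ιY W x := by
  rw [← Scheme.Hom.comp_apply, Fmap_ιY]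

lemma ιY_eq_iff {W W' : J G} (x : M W) (x' : M W') :
    ιY W x = ιY W' x' ↔ ∃ (W'' : J G) (h : W'' ≤ W) (h' : W'' ≤ W') (y : M W''),
      Fmap h y = x ∧ Fmap h' y = x' := by
  refine (Scheme.IsLocallyDirected.ι_eq_ι_iff (F := F G) (i := W) (j := W') (xi := x)
    (xj := x')).trans ?_
  constructor
  · rintro ⟨k, fi, fj, y, h1, h2⟩
    exact ⟨k, leOfHom fi, leOfHom fj, y, h1, h2⟩
  · rintro ⟨k, h, h', y, h1, h2⟩
    exact ⟨k, homOfLE h, homOfLE h', y, h1, h2⟩

lemma ιY_jointly_surjective (y : Y G) : ∃ (W : J G) (x : M W), ιY W x = y :=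
  Scheme.IsLocallyDirected.ι_jointly_surjective (F G) y

instance (W : J G) : IsOpenImmersion (ιY W) :=
  inferInstanceAs (IsOpenImmersion (colimit.ι (F G) W))

end Y

section family

/-- a downward closed family of invariant affine opens covering `U` -/
structure GoodFamily (P : J G → Prop) : Prop where
  down : ∀ W W' : J G, W ≤ W' → P W' → P W
  cov : ∀ u : G.U, ∃ W : J G, P W ∧ u ∈ W.1

variable {P : J G → Prop} (hP : GoodFamily P)

include hP in
/-- refinement inside the family -/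
lemma GoodFamily.exists_le (W : J G) (u : G.U) (hu : u ∈ W.1) :
    ∃ W' : J G, P W' ∧ W' ≤ W ∧ u ∈ W'.1 := by
  obtain ⟨W₁, hW₁, hu₁⟩ := hP.cov u
  obtain ⟨c, hc1, hc2⟩ := exists_basicJ W (W.1 ⊓ W₁.1)
    (fun r hr => ⟨(mem_iff_of_orbit W r).mp hr.1, (mem_iff_of_orbit W₁ r).mp hr.2⟩)
    u ⟨hu, hu₁⟩ hu
  exact ⟨basicJ W c, hP.down _ W₁ (fun _ hz => (hc2 hz).2) hW₁, fun _ hz => (hc2 hz).1, hc1⟩

include hP in
lemma GoodFamily.exists_le₂ (W W' : J G) (u : G.U) (hu : u ∈ W.1) (hu' : u ∈ W'.1) :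
    ∃ W'' : J G, P W'' ∧ W'' ≤ W ∧ W'' ≤ W' ∧ u ∈ W''.1 := by
  obtain ⟨c, hc1, hc2⟩ := exists_basicJ W (W.1 ⊓ W'.1)
    (fun r hr => ⟨(mem_iff_of_orbit W r).mp hr.1, (mem_iff_of_orbit W' r).mp hr.2⟩)
    u ⟨hu, hu'⟩ hu
  obtain ⟨W₂, hW₂, hle, hu₂⟩ := hP.exists_le (basicJ W c) u hc1
  exact ⟨W₂, hW₂, fun _ hz => (hc2 (hle hz)).1, fun _ hz => (hc2 (hle hz)).2, hu₂⟩

/-- the cover of `U` by the members of the family -/
@[simps I₀ X f]
noncomputable def coverU : G.U.OpenCover where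
  I₀ := {W : J G // P W}
  X W := W.1.1.toScheme
  f W := W.1.1.ι
  mem₀ := by
    rw [Scheme.presieve₀_mem_precoverage_iff]
    refine ⟨fun u => ?_, inferInstance⟩
    obtain ⟨W, hW, hu⟩ := hP.cov u
    exact ⟨⟨W, hW⟩, ⟨u, hu⟩, rfl⟩

instance : Preorder (coverU hP).I₀ := inferInstanceAs (Preorder {W : J G // P W})

noncomputable instance : Scheme.Cover.LocallyDirected (coverU hP) where
  trans {i j} hij := G.U.homOfLE (leOfHom hij : i.1.1 ≤ j.1.1)
  trans_id i := Scheme.homOfLE_rfl _ _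
  trans_comp hij hjk := (Scheme.homOfLE_homOfLE _ _ _).symm
  w hij := Scheme.homOfLE_ι _ _
  directed {i j} x := by
    let u : G.U := (pullback.fst ((coverU hP).f i) ((coverU hP).f j) ≫ (coverU hP).f i) x
    have hui : u ∈ i.1.1 := (pullback.fst ((coverU hP).f i) ((coverU hP).f j) x).2
    have huj : u ∈ j.1.1 := by
      have : u = (pullback.snd ((coverU hP).f i) ((coverU hP).f j) ≫ (coverU hP).f j) x := by
        show (pullback.fst ((coverU hP).f i) ((coverU hP).f j) ≫ (coverU hP).f i) x = _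
        rw [pullback.condition]
      rw [this]
      exact (pullback.snd ((coverU hP).f i) ((coverU hP).f j) x).2
    obtain ⟨W₂, hW₂, hle, hle', hu₂⟩ := hP.exists_le₂ i.1 j.1 u hui huj
    refine ⟨⟨W₂, hW₂⟩, homOfLE hle, homOfLE hle', ⟨u, hu₂⟩, ?_⟩
    apply (pullback.fst ((coverU hP).f i) ((coverU hP).f j) ≫
      (coverU hP).f i).isOpenEmbedding.injective
    rw [← Scheme.Hom.comp_apply, pullback.lift_fst_assoc]
    show (G.U.homOfLE _ ≫ i.1.1.ι) _ = u
    rw [Scheme.homOfLE_ι]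
    rfl
  property_trans hij := by
    show IsOpenImmersion (G.U.homOfLE _)
    infer_instance

lemma coverU_trans {i j : (coverU hP).I₀} (hij : i ⟶ j) :
    (coverU hP).trans hij = G.U.homOfLE (leOfHom hij : i.1.1 ≤ j.1.1) := rfl

/-- the cover of `Y` by the quotients of the members of the family -/
@[simps I₀ X f]
noncomputable def coverY : (Y G).OpenCover where
  I₀ := {W : J G // P W}
  X W := M W.1
  f W := ιY W.1
  mem₀ := by
    rw [Scheme.presieve₀_mem_precoverage_iff]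
    refine ⟨fun y => ?_, inferInstance⟩
    obtain ⟨W, x, rfl⟩ := ιY_jointly_surjective y
    obtain ⟨u, rfl⟩ := toQuot_surjective S (H G W) x
    obtain ⟨W', hW', hle, hu'⟩ := hP.exists_le W u.1 u.2
    refine ⟨⟨W', hW'⟩, (H G W').toQuot ⟨u.1, hu'⟩, ?_⟩
    show ιY W' _ = _
    rw [← Fmap_ιY_apply hle, toQuot_Fmap_apply]
    congr 2
    apply Subtype.ext
    rw [Scheme.homOfLE_apply]

instance : Preorder (coverY hP).I₀ := inferInstanceAs (Preorder {W : J G // P W})

noncomputable instance : Scheme.Cover.LocallyDirected (coverY hP) where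
  trans {i j} hij := Fmap (leOfHom hij : i.1 ≤ j.1)
  trans_id i := Fmap_rfl _
  trans_comp hij hjk := Fmap_trans _ _
  w hij := Fmap_ιY _
  directed {i j} x := by
    have hx : ιY i.1 (pullback.fst ((coverY hP).f i) ((coverY hP).f j) x) =
        ιY j.1 (pullback.snd ((coverY hP).f i) ((coverY hP).f j) x) := by
      show (pullback.fst ((coverY hP).f i) ((coverY hP).f j) ≫ (coverY hP).f i) x =
        (pullback.snd ((coverY hP).f i) ((coverY hP).f j) ≫ (coverY hP).f j) x
      rw [pullback.condition]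
    obtain ⟨W'', h, h', y, hy1, hy2⟩ := (ιY_eq_iff _ _).mp hx
    refine ⟨⟨W'', hP.down _ _ h i.2⟩, homOfLE h, homOfLE h', y, ?_⟩
    apply (pullback.fst ((coverY hP).f i) ((coverY hP).f j) ≫
      (coverY hP).f i).isOpenEmbedding.injective
    rw [← Scheme.Hom.comp_apply, pullback.lift_fst_assoc]
    show (Fmap h ≫ ιY i.1) y = ιY i.1 _
    rw [Scheme.Hom.comp_apply, hy1]
    rfl
  property_trans hij := by
    show IsOpenImmersion (Fmap _)
    infer_instance

lemma coverY_trans {i j : (coverY hP).I₀} (hij : i ⟶ j) :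
    (coverY hP).trans hij = Fmap (leOfHom hij : i.1 ≤ j.1) := rfl

end family

end Groth.Agent.H49.GQ6
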