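import Groth.Agent.H49.GQ7
import Mathlib

/-!
# The quotient morphism when `j` is a monomorphism
-/

set_option autoImplicit false
universe u
open CategoryTheory CategoryTheory.Limits AlgebraicGeometry TensorProduct
open Grpd

namespace Groth.Agent.H49.GQ8

open Groth.Agent.H49.GQ1 Groth.Agent.H49.GQ2 Groth.Agent.H49.GQ3 Groth.Agent.H49.GQ4
  Groth.Agent.H49.GQ5 Groth.Agent.H49.GQ6 Groth.Agent.H49.GQ7 Groth.Agent.H49.FinGrpdLoc
  Groth.Agent.H49.FinGrpdSch Groth.Agent.H49.FinGrpdFlat Groth.Agent.H49.FinGrpdIso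
  Groth.Agent.H49.InvAffine

variable {S : Scheme.{u}} {G : Grpd.GroupoidScheme S}
  [IsFinite G.s] [Flat G.s] [LocallyOfFinitePresentation G.s]
  (hT : GoodFamily (fun _ : J G => True)) [Mono G.j]

lemma isFinite_q : IsFinite (q hT) :=
  q_prop hT @IsFinite fun W => by
    haveI := mono_j G W.1 W.2.2
    exact (toQuot_props S (H G W)).1

lemma flat_q : Flat (q hT) :=
  q_prop hT @Flat fun W => by
    haveI := mono_j G W.1 W.2.2
    exact (toQuot_props S (H G W)).2.1

lemma lfp_q : LocallyOfFinitePresentation (q hT) :=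
  q_prop hT @LocallyOfFinitePresentation fun W => by
    haveI := mono_j G W.1 W.2.2
    exact (toQuot_props S (H G W)).2.2

omit [IsFinite G.s] [Flat G.s] [LocallyOfFinitePresentation G.s] in
/-- `(t, s)` is jointly monic -/
lemma mono_of_lift {Y : Scheme.{u}} (p : G.U ⟶ Y) (w : G.t ≫ p = G.s ≫ p) :
    Mono (pullback.lift G.t G.s w : G.R ⟶ pullback p p) := by
  refine ⟨fun {T} a b hab => ?_⟩
  have h1 : a ≫ G.t = b ≫ G.t := by
    have := congrArg (fun ψ => ψ ≫ pullback.fst _ _) hab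
    simp only [Category.assoc, pullback.lift_fst] at this
    exact this
  have h2 : a ≫ G.s = b ≫ G.s := by
    have := congrArg (fun ψ => ψ ≫ pullback.snd _ _) hab
    simp only [Category.assoc, pullback.lift_snd] at this
    exact this
  rw [← cancel_mono G.j]
  apply pullback.hom_ext
  · simp only [Category.assoc, Groth.Agent.H37.GrpdCalc.j_fst]
    exact h1
  · simp only [Category.assoc, Groth.Agent.H37.GrpdCalc.j_snd]
    exact h2

/-- `R ⟶ U ×_Y U` is an isomorphism -/
theorem isIso_lift :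
    IsIso (pullback.lift G.t G.s (s_q_eq_t_q hT).symm : G.R ⟶ pullback (q hT) (q hT)) := by
  haveI := mono_of_lift (q hT) (s_q_eq_t_q hT).symm
  refine isIso_of_local_sections _ fun z => ?_
  obtain ⟨W, x, hx⟩ := ιY_jointly_surjective ((pullback.fst (q hT) (q hT) ≫ q hT) z)
  let V : (pullback (q hT) (q hT)).Opens :=
    (pullback.fst (q hT) (q hT) ≫ q hT) ⁻¹ᵁ (ιY W).opensRange
  have hzV : z ∈ V := ⟨x, hx⟩
  haveI := mono_j G W.1 W.2.2
  haveI := isIso_θ S (H G W)
  have ha : Set.range (V.ι ≫ pullback.fst (q hT) (q hT)) ⊆ Set.range W.1.ι := by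
    rintro _ ⟨v, rfl⟩
    rw [Scheme.Opens.range_ι]
    show _ ∈ W.1
    rw [← preimage_q hT W]
    exact v.2
  have hb : Set.range (V.ι ≫ pullback.snd (q hT) (q hT)) ⊆ Set.range W.1.ι := by
    rintro _ ⟨v, rfl⟩
    rw [Scheme.Opens.range_ι]
    show _ ∈ W.1
    rw [← preimage_q hT W]
    show (pullback.snd (q hT) (q hT) ≫ q hT) v.1 ∈ (ιY W).opensRange
    rw [← pullback.condition]
    exact v.2
  let a' := IsOpenImmersion.lift W.1.ι _ ha
  let b' := IsOpenImmersion.lift W.1.ι _ hb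
  have ha' : a' ≫ W.1.ι = V.ι ≫ pullback.fst (q hT) (q hT) := IsOpenImmersion.lift_fac _ _ _
  have hb' : b' ≫ W.1.ι = V.ι ≫ pullback.snd (q hT) (q hT) := IsOpenImmersion.lift_fac _ _ _
  have hab : a' ≫ (H G W).toQuot = b' ≫ (H G W).toQuot := by
    rw [← cancel_mono (ιY W), Category.assoc, Category.assoc, ← ι_q hT W, ← Category.assoc,
      ← Category.assoc, ha', hb', Category.assoc, Category.assoc, pullback.condition]
  refine ⟨V, pullback.lift a' b' hab ≫ inv (θ S (H G W)) ≫ (G.s ⁻¹ᵁ W.1).ι, hzV, ?_⟩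
  apply pullback.hom_ext
  · simp only [Category.assoc, pullback.lift_fst]
    rw [← GW_t_ι G W.1 W.2.2, ← θ_fst S (H G W)]
    simp only [Category.assoc, IsIso.inv_hom_id_assoc, pullback.lift_fst_assoc]
    exact ha'
  · simp only [Category.assoc, pullback.lift_snd]
    rw [← GW_s_ι G W.1 W.2.2, ← θ_snd S (H G W)]
    simp only [Category.assoc, IsIso.inv_hom_id_assoc, pullback.lift_snd_assoc]
    exact hb'

end Groth.Agent.H49.GQ8
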