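import Groth.Agent.H49.GQ8
import Mathlib

/-!
# The universal property of the quotient
-/

set_option autoImplicit false
universe u
open CategoryTheory CategoryTheory.Limits AlgebraicGeometry TensorProduct
open Grpd

namespace Groth.Agent.H49.GQ9

open Groth.Agent.H49.GQ1 Groth.Agent.H49.GQ2 Groth.Agent.H49.GQ3 Groth.Agent.H49.GQ4
  Groth.Agent.H49.GQ5 Groth.Agent.H49.GQ6 Groth.Agent.H49.GQ7 Groth.Agent.H49.FinGrpdLoc
  Groth.Agent.H49.FinGrpdSch Groth.Agent.H49.FinGrpdFlat Groth.Agent.H49.FinGrpdIso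
  Groth.Agent.H49.InvAffine

section general

lemma exists_affine_nbhd {Z : Scheme.{u}} (z : Z) : ∃ Z₀ : Z.Opens, IsAffineOpen Z₀ ∧ z ∈ Z₀ := by
  obtain ⟨_, ⟨Z₀, hZ₀, rfl⟩, hz, -⟩ :=
    Z.isBasis_affineOpens.exists_subset_of_mem_open (Set.mem_univ z) isOpen_univ
  exact ⟨Z₀, hZ₀, hz⟩

/-- a surjective morphism which is injective on global sections over a basis of the target
is an epimorphism of schemes -/
lemma epi_of_basis {X Y : Scheme.{u}} (f : X ⟶ Y) (hs : Function.Surjective f)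
    {ι : Type*} (X' Y' : ι → Scheme.{u}) (k : ∀ i, X' i ⟶ X) (j : ∀ i, Y' i ⟶ Y)
    (f' : ∀ i, X' i ⟶ Y' i) [∀ i, IsOpenImmersion (j i)]
    (hsq : ∀ i, k i ≫ f = f' i ≫ j i)
    (hinj : ∀ i, Function.Injective (f' i).appTop.hom)
    (hbasis : ∀ (y : Y) (V : Y.Opens), y ∈ V →
      ∃ i, y ∈ Set.range (j i) ∧ Set.range (j i) ⊆ (V : Set Y)) : Epi f := by
  refine ⟨fun {Z} a b hab => ?_⟩
  refine Scheme.hom_ext_of_forall _ _ fun y => ?_
  obtain ⟨x, rfl⟩ := hs y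
  have hxy : a (f x) = b (f x) := by
    rw [← Scheme.Hom.comp_apply, ← Scheme.Hom.comp_apply, hab]
  obtain ⟨Z₀, hZ₀, hz⟩ := exists_affine_nbhd (a (f x))
  obtain ⟨i, hi1, hi2⟩ := hbasis (f x) (a ⁻¹ᵁ Z₀ ⊓ b ⁻¹ᵁ Z₀)
    ⟨hz, by show b (f x) ∈ Z₀; rw [← hxy]; exact hz⟩
  haveI : IsAffine Z₀.toScheme := hZ₀
  have hra : Set.range (j i ≫ a) ⊆ Set.range Z₀.ι := by
    rintro _ ⟨v, rfl⟩
    rw [Scheme.Opens.range_ι]
    exact (hi2 ⟨v, rfl⟩).1
  have hrb : Set.range (j i ≫ b) ⊆ Set.range Z₀.ι := by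
    rintro _ ⟨v, rfl⟩
    rw [Scheme.Opens.range_ι]
    exact (hi2 ⟨v, rfl⟩).2
  have ha' : IsOpenImmersion.lift Z₀.ι (j i ≫ a) hra ≫ Z₀.ι = j i ≫ a :=
    IsOpenImmersion.lift_fac _ _ _
  have hb' : IsOpenImmersion.lift Z₀.ι (j i ≫ b) hrb ≫ Z₀.ι = j i ≫ b :=
    IsOpenImmersion.lift_fac _ _ _
  have hab' : f' i ≫ IsOpenImmersion.lift Z₀.ι (j i ≫ a) hra =
      f' i ≫ IsOpenImmersion.lift Z₀.ι (j i ≫ b) hrb := by
    rw [← cancel_mono Z₀.ι, Category.assoc, Category.assoc, ha', hb', ← Category.assoc,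
      ← Category.assoc, ← hsq, Category.assoc, Category.assoc, hab]
  have hab'' : IsOpenImmersion.lift Z₀.ι (j i ≫ a) hra =
      IsOpenImmersion.lift Z₀.ι (j i ≫ b) hrb := by
    apply ext_of_isAffine
    have := congrArg Scheme.Hom.appTop hab'
    rw [Scheme.Hom.comp_appTop, Scheme.Hom.comp_appTop] at this
    ext z
    apply hinj i
    exact congrArg (fun φ => φ.hom z) this
  have hjab : j i ≫ a = j i ≫ b := by
    rw [← ha', ← hb', hab'']
  refine ⟨(j i).opensRange, hi1, ?_⟩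
  rw [← cancel_epi (j i).isoOpensRange.hom, ← Category.assoc, ← Category.assoc,
    Scheme.Hom.isoOpensRange_hom_ι]
  exact hjab

end general

variable {S : Scheme.{u}} {G : Grpd.GroupoidScheme S}
  [IsFinite G.s] [Flat G.s] [LocallyOfFinitePresentation G.s]

section epi

omit [IsFinite G.s] [Flat G.s] [LocallyOfFinitePresentation G.s] in
lemma toQuot_appTop_injective (W : J G) : Function.Injective (H G W).toQuot.appTop.hom := by
  intro z z' hzz'
  have h1 := toQuot_appTop S (H G W)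
    ((Scheme.ΓSpecIso (CommRingCat.of (H G W).invariants)).hom.hom z)
  have h2 := toQuot_appTop S (H G W)
    ((Scheme.ΓSpecIso (CommRingCat.of (H G W).invariants)).hom.hom z')
  have e : ∀ z, (Scheme.ΓSpecIso (CommRingCat.of (H G W).invariants)).inv.hom
      ((Scheme.ΓSpecIso (CommRingCat.of (H G W).invariants)).hom.hom z) = z := fun z => by
    rw [← CommRingCat.comp_apply, Iso.hom_inv_id]
    rfl
  rw [e] at h1 h2
  have h3 : (Scheme.ΓSpecIso (CommRingCat.of (H G W).invariants)).hom.hom z =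
      (Scheme.ΓSpecIso (CommRingCat.of (H G W).invariants)).hom.hom z' := by
    apply Subtype.ext
    rw [← h1, ← h2, hzz']
  rw [← e z, ← e z', h3]

/-- the affine quotient maps are epimorphisms of schemes -/
lemma epi_toQuot (W : J G) : Epi (H G W).toQuot := by
  refine epi_of_basis (ι := {W₀ : J G // W₀ ≤ W}) (H G W).toQuot (toQuot_surjective S (H G W))
    (fun W₀ => W₀.1.1.toScheme) (fun W₀ => M W₀.1) (fun W₀ => G.U.homOfLE W₀.2)
    (fun W₀ => Fmap W₀.2) (fun W₀ => (H G W₀.1).toQuot) (fun W₀ => (toQuot_Fmap W₀.2).symm)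
    (fun W₀ => toQuot_appTop_injective W₀.1) ?_
  intro x V hxV
  obtain ⟨_, ⟨c, rfl⟩, hc1, hc2⟩ :=
    PrimeSpectrum.isTopologicalBasis_basic_opens.exists_subset_of_mem_open hxV V.isOpen
  refine ⟨⟨basicJ W c, basicJ_le W c⟩, ?_, ?_⟩
  · rw [range_Fmap_of_basic (basicJ_le W c) c (preimage_basicJ W c)]
    exact hc1
  · rw [range_Fmap_of_basic (basicJ_le W c) c (preimage_basicJ W c)]
    exact hc2

variable (hT : GoodFamily (fun _ : J G => True))

/-- the quotient morphism is an epimorphism of schemes -/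
lemma epi_q : Epi (q hT) := by
  refine ⟨fun {Z} a b hab => (coverY hT).hom_ext _ _ fun W => ?_⟩
  haveI := epi_toQuot (W : {W : J G // True}).1
  show ιY (W : {W : J G // True}).1 ≫ a = ιY (W : {W : J G // True}).1 ≫ b
  rw [← cancel_epi (H G (W : {W : J G // True}).1).toQuot, ← Category.assoc, ← Category.assoc,
    ← ι_q hT, Category.assoc, Category.assoc, hab]

end epi

section desc

omit [IsFinite G.s] [Flat G.s] [LocallyOfFinitePresentation G.s] in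
/-- descending an invariant morphism from an invariant affine open to its quotient -/
lemma exists_desc_affine (W : J G) {Z : Scheme.{u}} (g : G.U ⟶ Z) (hg : G.s ≫ g = G.t ≫ g)
    (Z₀ : Z.Opens) (hZ₀ : IsAffineOpen Z₀) (hW : W.1 ≤ g ⁻¹ᵁ Z₀) :
    ∃ g' : M W ⟶ Z, (H G W).toQuot ≫ g' = W.1.ι ≫ g := by
  haveI : IsAffine Z₀.toScheme := hZ₀
  have hr : Set.range (W.1.ι ≫ g) ⊆ Set.range Z₀.ι := by
    rintro _ ⟨w, rfl⟩
    rw [Scheme.Opens.range_ι]
    exact hW w.2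
  have hgW : IsOpenImmersion.lift Z₀.ι (W.1.ι ≫ g) hr ≫ Z₀.ι = W.1.ι ≫ g :=
    IsOpenImmersion.lift_fac _ _ _
  have hinv : (H G W).s ≫ IsOpenImmersion.lift Z₀.ι (W.1.ι ≫ g) hr =
      (H G W).t ≫ IsOpenImmersion.lift Z₀.ι (W.1.ι ≫ g) hr := by
    rw [← cancel_mono Z₀.ι, Category.assoc, Category.assoc, hgW, ← Category.assoc,
      ← Category.assoc, GW_s_ι, GW_t_ι, Category.assoc, Category.assoc, hg]
  let φ' : Γ(Z₀.toScheme, ⊤) →+* (H G W).invariants :=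
    (IsOpenImmersion.lift Z₀.ι (W.1.ι ≫ g) hr).appTop.hom.codRestrict (H G W).invariants
      (fun z => appTop_comm hinv z)
  refine ⟨Spec.map (CommRingCat.ofHom φ') ≫ Z₀.toScheme.isoSpec.inv ≫ Z₀.ι, ?_⟩
  have h1 : (H G W).toQuot ≫ Spec.map (CommRingCat.ofHom φ') =
      IsOpenImmersion.lift Z₀.ι (W.1.ι ≫ g) hr ≫ Z₀.toScheme.toSpecΓ := by
    unfold Grpd.GroupoidScheme.toQuot
    rw [Category.assoc, ← Spec.map_comp, Scheme.toSpecΓ_naturality]
    rfl
  rw [← Category.assoc, h1, Category.assoc, Scheme.toSpecΓ_isoSpec_inv_assoc, hgW]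

variable (hT : GoodFamily (fun _ : J G => True))
  {Z : Scheme.{u}} (g : G.U ⟶ Z)

/-- the invariant affine opens mapped into an affine open of the target -/
def Pg (W : J G) : Prop := ∃ Z₀ : Z.Opens, IsAffineOpen Z₀ ∧ W.1 ≤ g ⁻¹ᵁ Z₀

include hT in
lemma goodFamily_Pg (hg : G.s ≫ g = G.t ≫ g) : GoodFamily (Pg g) :=
  ⟨fun W W' h ⟨Z₀, hZ₀, hW'⟩ => ⟨Z₀, hZ₀, le_trans h hW'⟩, fun u => by
    obtain ⟨Z₀, hZ₀, hz⟩ := exists_affine_nbhd (g u)
    obtain ⟨W, -, hu⟩ := hT.cov u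
    obtain ⟨c, hc1, hc2⟩ := exists_basicJ W (g ⁻¹ᵁ Z₀) (fun r hr => by
      show g (G.t r) ∈ Z₀
      rw [← Scheme.Hom.comp_apply, ← hg, Scheme.Hom.comp_apply]
      exact hr) u hz hu
    exact ⟨basicJ W c, ⟨Z₀, hZ₀, hc2⟩, hc1⟩⟩

/-- invariant morphisms factor through the quotient -/
theorem exists_desc (hg : G.s ≫ g = G.t ≫ g) : ∃ g' : Y G ⟶ Z, q hT ≫ g' = g := by
  have hP := goodFamily_Pg hT g hg
  have hloc : ∀ W : {W : J G // Pg g W},
      ∃ g' : M W.1 ⟶ Z, (H G W.1).toQuot ≫ g' = W.1.1.ι ≫ g := fun W => by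
    obtain ⟨Z₀, hZ₀, hW⟩ := W.2
    exact exists_desc_affine W.1 g hg Z₀ hZ₀ hW
  choose g' hg' using hloc
  have hcompat : ∀ (W W' : {W : J G // Pg g W}) (h : W.1 ≤ W'.1), Fmap h ≫ g' W' = g' W := by
    intro W W' h
    haveI := epi_toQuot W.1
    rw [← cancel_epi (H G W.1).toQuot, hg', ← Category.assoc, toQuot_Fmap, Category.assoc, hg',
      Scheme.homOfLE_ι_assoc]
  let γ : Y G ⟶ Z := (coverY hP).glueMorphismsOfLocallyDirected g'
    (fun {i j} hij => hcompat i j (leOfHom hij))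
  have hγ : ∀ W : {W : J G // Pg g W}, ιY W.1 ≫ γ = g' W := fun W =>
    Scheme.OpenCover.map_glueMorphismsOfLocallyDirected (coverY hP) g'
      (fun {i j} hij => hcompat i j (leOfHom hij)) W
  refine ⟨γ, ?_⟩
  refine Scheme.hom_ext_of_forall _ _ fun u => ?_
  obtain ⟨W, hW, hu⟩ := hP.cov u
  refine ⟨W.1, hu, ?_⟩
  rw [← Category.assoc, ι_q, Category.assoc, hγ ⟨W, hW⟩]
  exact hg' ⟨W, hW⟩

end desc

end Groth.Agent.H49.GQ9
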