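import Mathlib

set_option autoImplicit false
universe u

namespace Groth.Agent.H49.GrSm1

variable {N : Type*} [AddCommMonoid N]

/-- strict divisibility -/
def sdvd (m n : N) : Prop := ∃ k : N, k ≠ 0 ∧ n = m + k

theorem wf_sdvd [AddMonoid.FG N] [IsCancelAdd N] (hsharp : ∀ n : N, IsAddUnit n → n = 0) :
    WellFounded (sdvd : N → N → Prop) := by
  classical
  rw [wellFounded_iff_isEmpty_descending_chain]
  refine ⟨fun ⟨f, hf⟩ => ?_⟩
  obtain ⟨S₀, hS₀⟩ := (AddMonoid.FG.fg_top (M := N))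
  let π : (S₀ →₀ ℕ) →+ N := Finsupp.liftAddHom (fun s : S₀ => (multiplesHom N (s : N)))
  have hπ : Function.Surjective π := by
    intro n
    have : n ∈ AddSubmonoid.closure (S₀ : Set N) := by rw [hS₀]; trivial
    induction this using AddSubmonoid.closure_induction with
    | mem x hx => exact ⟨Finsupp.single ⟨x, hx⟩ 1, by simp [π]⟩
    | zero => exact ⟨0, map_zero _⟩
    | add x y _ _ hx hy =>
      obtain ⟨a, rfl⟩ := hx; obtain ⟨b, rfl⟩ := hy; exact ⟨a + b, map_add _ _ _⟩
  have hchain : ∀ i d : ℕ, ∃ c : N, f i = f (i + d) + c := by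
    intro i d
    induction d with
    | zero => exact ⟨0, by simp⟩
    | succ d ih =>
      obtain ⟨c, hc⟩ := ih
      obtain ⟨k, _, hk⟩ := hf (i + d)
      exact ⟨k + c, by rw [hc, hk, add_assoc]; rfl⟩
  choose v hv using fun i => hπ (f i)
  obtain ⟨i, j, hij, hle⟩ := (inferInstance : WellQuasiOrderedLE (S₀ →₀ ℕ)).wqo v
  obtain ⟨k₁, hk₁, hk⟩ := hf i
  obtain ⟨d, hd⟩ : ∃ d, j = i + 1 + d := ⟨j - (i + 1), by omega⟩
  obtain ⟨c', hc'⟩ := hchain (i + 1) d
  rw [← hd] at hc'
  have hw : v j = v i + (v j - v i) := (add_tsub_cancel_of_le hle).symm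
  have hfj : f j = f i + π (v j - v i) := by
    rw [← hv j, hw, map_add, hv i]
    congr 2
    rw [← hw]
  have : f i + 0 = f i + (π (v j - v i) + c' + k₁) := by
    rw [add_zero]
    conv_lhs => rw [hk, hc', hfj]
    simp only [add_assoc]
  have h0 : π (v j - v i) + c' + k₁ = 0 := (add_left_cancel this).symm
  apply hk₁
  apply hsharp
  rw [isAddUnit_iff_exists_neg]
  exact ⟨π (v j - v i) + c', by rw [add_comm]; exact h0⟩

end Groth.Agent.H49.GrSm1
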