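import Mathlib

set_option autoImplicit false
universe u v w

namespace Groth.Agent.H49.GrSm2

open MvPolynomial

section SEP
variable (B : Type u) [CommRing B] (P : Type v) [AddCommGroup P] [Module B P]

/-- augmentation ideal of the symmetric algebra -/
noncomputable def aug : Ideal (SymmetricAlgebra B P) :=
  RingHom.ker ((SymmetricAlgebra.algebraMapInv (R := B) (M := P)) : SymmetricAlgebra B P →+* B)

lemma mem_aug (x : SymmetricAlgebra B P) :
    x ∈ aug B P ↔ SymmetricAlgebra.algebraMapInv (R := B) (M := P) x = 0 := by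
  simp [aug, RingHom.mem_ker]

lemma ι_mem_aug (p : P) : SymmetricAlgebra.ι B P p ∈ aug B P := by
  rw [mem_aug]; exact SymmetricAlgebra.algebraMapInv_ι p

variable (s : P →ₗ[B] (P →₀ B))

noncomputable def lcX : (P →₀ B) →ₗ[B] MvPolynomial P B :=
  Finsupp.linearCombination B (fun p : P => (X p : MvPolynomial P B))

noncomputable def ell : P →ₗ[B] MvPolynomial P B := (lcX B P) ∘ₗ s

noncomputable def jj : SymmetricAlgebra B P →ₐ[B] MvPolynomial P B :=
  SymmetricAlgebra.lift (ell B P s)

noncomputable def rr : MvPolynomial P B →ₐ[B] SymmetricAlgebra B P :=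
  MvPolynomial.aeval (fun p => SymmetricAlgebra.ι B P p)

lemma jj_ι (p : P) : jj B P s (SymmetricAlgebra.ι B P p) = lcX B P (s p) :=
  SymmetricAlgebra.lift_ι_apply (ell B P s) p

lemma rr_lcX (v : P →₀ B) :
    rr B P (lcX B P v) = SymmetricAlgebra.ι B P (Finsupp.linearCombination B id v) := by
  induction v using Finsupp.induction_linear with
  | zero => simp only [map_zero]
  | add a b ha hb => simp only [map_add, ha, hb]
  | single a b =>
    unfold lcX rr
    rw [Finsupp.linearCombination_single, Finsupp.linearCombination_single, map_smul, map_smul]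
    congr 1
    exact MvPolynomial.aeval_X _ a

lemma cc_lcX (v : P →₀ B) : MvPolynomial.constantCoeff (lcX B P v) = 0 := by
  induction v using Finsupp.induction_linear with
  | zero => simp only [map_zero]
  | add a b ha hb => simp only [map_add, ha, hb, add_zero]
  | single a b =>
    unfold lcX
    rw [Finsupp.linearCombination_single, MvPolynomial.smul_eq_C_mul, map_mul,
      MvPolynomial.constantCoeff_X, mul_zero]

lemma rr_jj (hs : Finsupp.linearCombination B id ∘ₗ s = LinearMap.id) (x : SymmetricAlgebra B P) :
    rr B P (jj B P s x) = x := by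
  have : (rr B P).comp (jj B P s) = AlgHom.id B _ := by
    apply SymmetricAlgebra.algHom_ext
    apply LinearMap.ext
    intro p
    rw [LinearMap.comp_apply, LinearMap.comp_apply]
    show rr B P (jj B P s (SymmetricAlgebra.ι B P p)) = SymmetricAlgebra.ι B P p
    rw [jj_ι, rr_lcX]
    congr 1
    exact LinearMap.congr_fun hs p
  exact congrArg (fun f : SymmetricAlgebra B P →ₐ[B] _ => f x) this

/-- constant coefficient as an algebra hom -/
noncomputable def ccA : MvPolynomial P B →ₐ[B] B := MvPolynomial.aeval (fun _ : P => (0 : B))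

lemma ccA_apply (f : MvPolynomial P B) : ccA B P f = MvPolynomial.constantCoeff f := by
  unfold ccA
  rw [MvPolynomial.aeval_zero']
  rfl

lemma cc_jj (x : SymmetricAlgebra B P) :
    MvPolynomial.constantCoeff (jj B P s x) = SymmetricAlgebra.algebraMapInv x := by
  have : (ccA B P).comp (jj B P s)
      = (SymmetricAlgebra.algebraMapInv : SymmetricAlgebra B P →ₐ[B] B) := by
    apply SymmetricAlgebra.algHom_ext
    apply LinearMap.ext
    intro p
    rw [LinearMap.comp_apply, LinearMap.comp_apply]
    show ccA B P (jj B P s (SymmetricAlgebra.ι B P p))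
      = SymmetricAlgebra.algebraMapInv (SymmetricAlgebra.ι B P p)
    rw [jj_ι, ccA_apply, cc_lcX, SymmetricAlgebra.algebraMapInv_ι]
  have h3 := congrArg (fun f : SymmetricAlgebra B P →ₐ[B] B => f x) this
  simp only [AlgHom.comp_apply] at h3
  rw [← h3, ccA_apply]

lemma jj_mem_pow (k : ℕ) (x : SymmetricAlgebra B P) (hx : x ∈ aug B P ^ k) :
    jj B P s x ∈ idealOfVars P B ^ k := by
  have h1 : Ideal.map (jj B P s : SymmetricAlgebra B P →+* _) (aug B P) ≤ idealOfVars P B := by
    rw [Ideal.map_le_iff_le_comap]
    intro y hy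
    rw [Ideal.mem_comap]
    have : (jj B P s y) ∈ idealOfVars P B ^ 1 := by
      rw [mem_pow_idealOfVars_iff']
      intro m hm
      have hm0 : m = 0 := by
        have : Finsupp.degree m = 0 := by omega
        exact (Finsupp.degree_eq_zero_iff m).1 this
      subst hm0
      have := cc_jj B P s y
      rw [(mem_aug B P y).1 hy] at this
      rw [← MvPolynomial.constantCoeff_eq]
      exact this
    rw [pow_one] at this
    exact this
  have h2 : jj B P s x ∈ Ideal.map (jj B P s : SymmetricAlgebra B P →+* _) (aug B P ^ k) :=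
    Ideal.mem_map_of_mem _ hx
  rw [Ideal.map_pow] at h2
  exact Ideal.pow_right_mono h1 k h2

theorem iInf_aug_pow [Module.Projective B P] : (⨅ k : ℕ, aug B P ^ k) = ⊥ := by
  classical
  obtain ⟨s, hs⟩ := (Module.projective_def' (R := B) (P := P)).1 inferInstance
  rw [eq_bot_iff]
  intro x hx
  rw [Ideal.mem_iInf] at hx
  have hj0 : jj B P s x = 0 := by
    ext m
    have := (mem_pow_idealOfVars_iff' (Finsupp.degree m + 1) (jj B P s x)).1
      (jj_mem_pow B P s _ x (hx _)) m (Nat.lt_succ_self _)
    rw [this, MvPolynomial.coeff_zero]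
  have : x = rr B P (jj B P s x) := (rr_jj B P s hs x).symm
  rw [this, hj0, map_zero]
  exact Ideal.zero_mem _

end SEP

end Groth.Agent.H49.GrSm2
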