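import Mathlib
import Groth.Agent.H49.GrSm2

set_option autoImplicit false
universe u v w

namespace Groth.Agent.H49.GrSm2

section INJ

variable {R : Type u} [CommRing R] {B : Type v} [CommRing B] [Algebra R B]
  {P : Type w} [AddCommGroup P] [Module B P] [Module.Projective B P]
  {A : Type v} [CommRing A] [Algebra R A] [Algebra.FormallySmooth R A]

theorem injective_of_formallySmooth (φ : SymmetricAlgebra B P →+* A)
    (hφR : ∀ r : R, φ (algebraMap B _ (algebraMap R B r)) = algebraMap R A r)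
    (hφ : Function.Surjective φ) (hK : RingHom.ker φ ≤ aug B P ^ 2) : Function.Injective φ := by
  classical
  letI : Algebra R (SymmetricAlgebra B P) :=
    ((algebraMap B (SymmetricAlgebra B P)).comp (algebraMap R B)).toAlgebra
  set S := SymmetricAlgebra B P with hS
  let φ' : S →ₐ[R] A := { φ with commutes' := fun r => hφR r }
  have hφ' : ∀ x, φ' x = φ x := fun _ => rfl
  set K : Ideal S := RingHom.ker φ with hKdef
  let q : S →ₐ[R] S ⧸ K ^ 2 := Ideal.Quotient.mkₐ R (K ^ 2)
  have hq : Function.Surjective q := Ideal.Quotient.mkₐ_surjective R _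
  let g : (S ⧸ K ^ 2) →ₐ[R] A := Ideal.Quotient.liftₐ (K ^ 2) φ' (by
    intro a ha
    have : a ∈ K := Ideal.pow_le_self (by norm_num) ha
    exact (RingHom.mem_ker).1 this)
  have hgq : ∀ x, g (q x) = φ x := fun x => rfl
  have hg : Function.Surjective g := by
    intro a; obtain ⟨x, rfl⟩ := hφ a; exact ⟨q x, hgq x⟩
  set Kb : Ideal (S ⧸ K ^ 2) := Ideal.map (q : S →+* S ⧸ K ^ 2) K with hKb
  have hker_le : RingHom.ker (g : (S ⧸ K ^ 2) →+* A) ≤ Kb := by
    intro z hz
    obtain ⟨w, rfl⟩ := hq z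
    have : φ w = 0 := by rw [← hgq]; exact (RingHom.mem_ker).1 hz
    exact Ideal.mem_map_of_mem _ ((RingHom.mem_ker).2 this)
  have hKb2 : Kb * Kb = ⊥ := by
    rw [hKb, ← Ideal.map_mul, ← pow_two]
    exact Ideal.map_quotient_self _
  have hnil : IsNilpotent (RingHom.ker (g : (S ⧸ K ^ 2) →+* A)) := by
    refine ⟨2, ?_⟩
    rw [Ideal.zero_eq_bot, eq_bot_iff]
    calc RingHom.ker (g : (S ⧸ K ^ 2) →+* A) ^ 2 ≤ Kb ^ 2 := Ideal.pow_right_mono hker_le 2
      _ = ⊥ := (pow_two Kb).trans hKb2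
  let s : A →ₐ[R] S ⧸ K ^ 2 :=
    Algebra.FormallySmooth.liftOfSurjective (AlgHom.id R A) g hg hnil
  have hgs : ∀ a, g (s a) = a := fun a =>
    Algebra.FormallySmooth.liftOfSurjective_apply (AlgHom.id R A) g hg hnil a
  let D : S → S ⧸ K ^ 2 := fun y => s (φ y) - q y
  have hD_mem : ∀ y, D y ∈ Kb := by
    intro y
    apply hker_le
    rw [RingHom.mem_ker]
    show g (s (φ y) - q y) = 0
    rw [map_sub, hgs, hgq, sub_self]
  have hDD : ∀ y z, D y * D z = 0 := by
    intro y z
    have : D y * D z ∈ Kb * Kb := Ideal.mul_mem_mul (hD_mem y) (hD_mem z)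
    rw [hKb2] at this
    simpa using this
  have hD_add : ∀ y z, D (y + z) = D y + D z := by
    intro y z; simp only [D, map_add]; ring
  have hD_mul : ∀ y z, D (y * z) = q y * D z + q z * D y := by
    intro y z
    have h1 : D (y * z) = q y * D z + q z * D y + D y * D z := by
      simp only [D, map_mul]; ring
    rw [h1, hDD, add_zero]
  set Sp : Ideal S := aug B P with hSp
  have hD_sq : ∀ x ∈ Sp * Sp, D x ∈ Ideal.map (q : S →+* S ⧸ K ^ 2) Sp * Kb := by
    intro x hx
    refine Submodule.mul_induction_on hx ?_ ?_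
    · intro m hm n hn
      rw [hD_mul]
      refine Ideal.add_mem _ ?_ ?_
      · exact Ideal.mul_mem_mul (Ideal.mem_map_of_mem _ hm) (hD_mem n)
      · exact Ideal.mul_mem_mul (Ideal.mem_map_of_mem _ hn) (hD_mem m)
    · intro a b ha hb
      rw [hD_add]; exact Ideal.add_mem _ ha hb
  have hK_le_Sp : K ≤ Sp := hK.trans (Ideal.pow_le_self (by norm_num))
  have hK_le : K ≤ Sp * K := by
    intro x hx
    have hx0 : φ x = 0 := (RingHom.mem_ker).1 hx
    have hDx : D x = - q x := by simp only [D, hx0, map_zero, zero_sub]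
    have h1 : q x ∈ Ideal.map (q : S →+* S ⧸ K ^ 2) Sp * Kb := by
      have := hD_sq x (by rw [← pow_two]; exact hK hx)
      rw [hDx] at this
      simpa using (Ideal.neg_mem_iff _).1 this
    rw [hKb, ← Ideal.map_mul] at h1
    obtain ⟨y, hy, hyx⟩ := (Ideal.mem_map_iff_of_surjective (q : S →+* S ⧸ K ^ 2) hq).1 h1
    have h2 : x - y ∈ K ^ 2 := by
      have : q (x - y) = 0 := by rw [map_sub]; rw [show q y = q x from hyx]; exact sub_self _
      exact Ideal.Quotient.eq_zero_iff_mem.1 this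
    have h3 : K ^ 2 ≤ Sp * K := by
      rw [pow_two]; exact Ideal.mul_mono_left hK_le_Sp
    have : x = y + (x - y) := by ring
    rw [this]
    exact Ideal.add_mem _ hy (h3 h2)
  have hK_pow : ∀ k : ℕ, K ≤ Sp ^ k := by
    intro k
    induction k with
    | zero => simp
    | succ k ih =>
      calc K ≤ Sp * K := hK_le
        _ ≤ Sp * Sp ^ k := Ideal.mul_mono_right ih
        _ = Sp ^ (k + 1) := by rw [pow_succ']
  have hK0 : K = ⊥ := by
    rw [eq_bot_iff, ← iInf_aug_pow B P]
    exact le_iInf hK_pow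
  exact (RingHom.injective_iff_ker_eq_bot φ).2 hK0

end INJ

end Groth.Agent.H49.GrSm2
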