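import Mathlib

set_option autoImplicit false
universe u v

namespace Groth.Agent.H49.GrSm3a


variable {R : Type u} [CommRing R] {A : Type u} [CommRing A] [Algebra R A]
  {B : Type u} [CommRing B] [Algebra R B] [Algebra B A] [IsScalarTower R B A]
  (π₀ : A →ₐ[B] B)

/-- the augmentation ideal of the retraction -/
def Iof : Ideal A := RingHom.ker (π₀ : A →+* B)

lemma mem_Iof (a : A) : a ∈ Iof π₀ ↔ π₀ a = 0 := by
  simp [Iof, RingHom.mem_ker]

lemma pi_alg (b : B) : π₀ (algebraMap B A b) = b := by
  simpa using π₀.commutes b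

lemma sub_mem (a : A) : a - algebraMap B A (π₀ a) ∈ Iof π₀ := by
  rw [mem_Iof, map_sub, pi_alg, sub_self]

lemma smul_cot (a : A) (p : (Iof π₀).Cotangent) : a • p = π₀ a • p := by
  have h1 : (a - algebraMap B A (π₀ a)) • p = 0 :=
    Ideal.Cotangent.smul_eq_zero_of_mem (sub_mem π₀ a) p
  rw [sub_smul, sub_eq_zero, algebraMap_smul] at h1
  exact h1

lemma pi_algR (r : R) : π₀ (algebraMap R A r) = algebraMap R B r := by
  rw [IsScalarTower.algebraMap_apply R B A, pi_alg]

theorem Iof_fg [Algebra.FiniteType R A] : (Iof π₀).FG := by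
  classical
  obtain ⟨s, hs⟩ := (Algebra.FiniteType.out : (⊤ : Subalgebra R A).FG)
  let J : Ideal A := Ideal.span ((fun a => a - algebraMap B A (π₀ a)) '' (s : Set A))
  have hJ : ∀ a : A, a - algebraMap B A (π₀ a) ∈ J := by
    intro a
    have ha : a ∈ Algebra.adjoin R (s : Set A) := by rw [hs]; trivial
    induction ha using Algebra.adjoin_induction with
    | mem x hx => exact Ideal.subset_span ⟨x, hx, rfl⟩
    | algebraMap r =>
      rw [pi_algR, ← IsScalarTower.algebraMap_apply R B A, sub_self]; exact J.zero_mem
    | add x y _ _ hx hy =>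
      have : x + y - algebraMap B A (π₀ (x + y))
          = (x - algebraMap B A (π₀ x)) + (y - algebraMap B A (π₀ y)) := by
        rw [map_add, map_add]; ring
      rw [this]; exact J.add_mem hx hy
    | mul x y _ _ hx hy =>
      have : x * y - algebraMap B A (π₀ (x * y))
          = x * (y - algebraMap B A (π₀ y)) + algebraMap B A (π₀ y) * (x - algebraMap B A (π₀ x)) := by
        rw [map_mul, map_mul]; ring
      rw [this]; exact J.add_mem (J.mul_mem_left _ hy) (J.mul_mem_left _ hx)
  have hIJ : Iof π₀ = J := by
    apply le_antisymm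
    · intro x hx
      have := hJ x
      rw [(mem_Iof π₀ x).1 hx, map_zero, sub_zero] at this
      exact this
    · rw [Ideal.span_le]
      rintro _ ⟨a, _, rfl⟩
      exact sub_mem π₀ a
  rw [hIJ]
  exact ⟨s.image (fun a => a - algebraMap B A (π₀ a)), by simp [J]⟩

theorem finite_cot [Algebra.FiniteType R A] : Module.Finite B (Iof π₀).Cotangent := by
  classical
  have hfg := Iof_fg (R := R) π₀
  haveI : Module.Finite A (Iof π₀) := Module.Finite.iff_fg.2 hfg
  haveI : Module.Finite A (Iof π₀).Cotangent :=
    Module.Finite.of_surjective (Iof π₀).toCotangent (Iof π₀).toCotangent_surjective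
  obtain ⟨s, hs⟩ := (Module.Finite.fg_top : (⊤ : Submodule A (Iof π₀).Cotangent).FG)
  refine ⟨⟨s, ?_⟩⟩
  rw [eq_top_iff]
  intro p _hp
  clear _hp
  have hp : p ∈ Submodule.span A (s : Set (Iof π₀).Cotangent) := by rw [hs]; trivial
  induction hp using Submodule.span_induction with
  | mem x hx => exact Submodule.subset_span hx
  | zero => exact Submodule.zero_mem _
  | add x y _ _ hx hy => exact Submodule.add_mem _ hx hy
  | smul a x _ hx =>
    rw [smul_cot]
    exact Submodule.smul_mem _ _ hx

theorem projective_cot [Algebra.FormallySmooth R A] : Module.Projective B (Iof π₀).Cotangent := by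
  classical
  apply Module.Projective.of_lifting_property''
  intro f hf
  set P := (Iof π₀).Cotangent with hP
  set F := (P →₀ B) with hF
  letI modAF : Module A F := Module.compHom F (π₀ : A →+* B)
  have smulF : ∀ (a : A) (v : F), a • v = π₀ a • v := fun _ _ => rfl
  -- the derivation d₀
  let d₀ : Derivation R A P :=
    { toFun := fun a => (Iof π₀).toCotangent ⟨a - algebraMap B A (π₀ a), sub_mem π₀ a⟩
      map_add' := by
        intro x y
        rw [← map_add]
        congr 1
        ext
        simp only [map_add, Submodule.coe_add]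
        ring
      map_smul' := by
        intro r x
        simp only [RingHom.id_apply]
        rw [← LinearMap.map_smul_of_tower]
        congr 1
        ext
        have : π₀ (r • x) = algebraMap R B r * π₀ x := by
          rw [Algebra.smul_def, map_mul, pi_algR]
        show r • x - algebraMap B A (π₀ (r • x)) = r • (x - algebraMap B A (π₀ x))
        rw [this, map_mul, ← IsScalarTower.algebraMap_apply R B A, smul_sub,
          Algebra.smul_def r (algebraMap B A (π₀ x))]
      map_one_eq_zero' := by
        show (Iof π₀).toCotangent ⟨1 - algebraMap B A (π₀ 1), _⟩ = 0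
        have : (⟨1 - algebraMap B A (π₀ 1), sub_mem π₀ 1⟩ : Iof π₀) = 0 := by
          ext; simp
        rw [this, map_zero]
      leibniz' := by
        intro a b
        show (Iof π₀).toCotangent ⟨a * b - algebraMap B A (π₀ (a * b)), _⟩
          = a • (Iof π₀).toCotangent ⟨b - algebraMap B A (π₀ b), sub_mem π₀ b⟩
            + b • (Iof π₀).toCotangent ⟨a - algebraMap B A (π₀ a), sub_mem π₀ a⟩
        have hb : b • (Iof π₀).toCotangent ⟨a - algebraMap B A (π₀ a), sub_mem π₀ a⟩
            = (algebraMap B A (π₀ b)) • (Iof π₀).toCotangent ⟨a - algebraMap B A (π₀ a), sub_mem π₀ a⟩ := by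
          rw [smul_cot, smul_cot π₀ (algebraMap B A (π₀ b)), pi_alg]
        rw [hb, ← map_smul, ← map_smul, ← map_add]
        congr 1
        ext
        simp only [map_mul, Submodule.coe_add, Submodule.coe_smul, smul_eq_mul]
        ring }
  have hd₀ : ∀ x : Iof π₀, d₀ x = (Iof π₀).toCotangent x := by
    intro x
    show (Iof π₀).toCotangent ⟨(x : A) - algebraMap B A (π₀ x), _⟩ = _
    congr 1
    ext
    simp [(mem_Iof π₀ x).1 x.2]
  let lam : Ω[A⁄R] →ₗ[A] P := d₀.liftKaehlerDifferential
  have hlam : ∀ a, lam (KaehlerDifferential.D R A a) = d₀ a := fun a =>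
    Derivation.liftKaehlerDifferential_comp_D d₀ a
  -- f as A-linear map
  let fA : F →ₗ[A] P :=
    { toFun := f
      map_add' := f.map_add
      map_smul' := by
        intro a v
        simp only [RingHom.id_apply]
        rw [smulF, f.map_smul, smul_cot] }
  obtain ⟨lam', hlam'⟩ := Module.projective_lifting_property fA lam hf
  have hlam'' : ∀ w, f (lam' w) = lam w := fun w => congrArg (fun g : Ω[A⁄R] →ₗ[A] P => g w) hlam'
  -- g : I → F
  let g : (Iof π₀) →ₗ[A] F :=
    { toFun := fun x => lam' (KaehlerDifferential.D R A (x : A))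
      map_add' := by intro x y; simp [map_add]
      map_smul' := by
        intro a x
        simp only [RingHom.id_apply, Submodule.coe_smul, smul_eq_mul]
        rw [Derivation.leibniz, map_add, map_smul, map_smul]
        have : (x : A) • lam' (KaehlerDifferential.D R A a) = 0 := by
          rw [smulF, (mem_Iof π₀ x).1 x.2, zero_smul]
        rw [this, add_zero] }
  have hg_ker : LinearMap.ker (Iof π₀).toCotangent ≤ LinearMap.ker g := by
    intro x hx
    rw [Ideal.mem_toCotangent_ker] at hx
    rw [LinearMap.mem_ker]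
    show lam' (KaehlerDifferential.D R A (x : A)) = 0
    rw [pow_two] at hx
    refine Submodule.mul_induction_on hx ?_ ?_
    · intro m hm n hn
      rw [Derivation.leibniz, map_add, map_smul, map_smul, smulF, smulF,
        (mem_Iof π₀ m).1 hm, (mem_Iof π₀ n).1 hn, zero_smul, zero_smul, add_zero]
    · intro a b ha hb
      rw [map_add, map_add, ha, hb, add_zero]
  let e := (Iof π₀).toCotangent.quotKerEquivOfSurjective (Iof π₀).toCotangent_surjective
  let h' : P →ₗ[A] F :=
    ((LinearMap.ker (Iof π₀).toCotangent).liftQ g hg_ker) ∘ₗ (e.symm : P →ₗ[A] _)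
  have hh' : ∀ x : Iof π₀, h' ((Iof π₀).toCotangent x) = g x := by
    intro x
    have : e.symm ((Iof π₀).toCotangent x) = Submodule.Quotient.mk x := by
      rw [LinearEquiv.symm_apply_eq]; rfl
    show (LinearMap.ker (Iof π₀).toCotangent).liftQ g hg_ker (e.symm ((Iof π₀).toCotangent x)) = _
    rw [this]; rfl
  let hB : P →ₗ[B] F :=
    { toFun := h'
      map_add' := h'.map_add
      map_smul' := by
        intro b p
        simp only [RingHom.id_apply]
        rw [← algebraMap_smul A b p, h'.map_smul, smulF, pi_alg] }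
  refine ⟨hB, ?_⟩
  ext p
  obtain ⟨x, rfl⟩ := (Iof π₀).toCotangent_surjective p
  show f (h' ((Iof π₀).toCotangent x)) = (Iof π₀).toCotangent x
  rw [hh']
  show f (lam' (KaehlerDifferential.D R A (x : A))) = _
  rw [hlam'', hlam, hd₀]

end Groth.Agent.H49.GrSm3a
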