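import Mathlib
import Groth.Agent.H49.GrSm2
import Groth.Agent.H49.GrSm3a

set_option autoImplicit false
universe u

namespace Groth.Agent.H49.GrSm3b

open Groth.Agent.H49.GrSm2 Groth.Agent.H49.GrSm3a

section Abstract

variable {R : Type u} [CommRing R] {A : Type u} [CommRing A] [Algebra R A]
  {B : Type u} [CommRing B] [Algebra R B] [Algebra B A] [IsScalarTower R B A]
  (π₀ : A →ₐ[B] B)

/-- the additive map `a ↦ class of (a - π₀ a)` -/
noncomputable def dC : A →+ (Iof π₀).Cotangent where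
  toFun a := (Iof π₀).toCotangent ⟨a - algebraMap B A (π₀ a), sub_mem π₀ a⟩
  map_zero' := by
    have : (⟨0 - algebraMap B A (π₀ 0), sub_mem π₀ 0⟩ : Iof π₀) = 0 := by ext; simp
    rw [this, map_zero]
  map_add' x y := by
    rw [← map_add]
    congr 1
    ext
    simp only [map_add, Submodule.coe_add]
    ring

lemma dC_apply (a : A) :
    dC π₀ a = (Iof π₀).toCotangent ⟨a - algebraMap B A (π₀ a), sub_mem π₀ a⟩ := rfl

lemma dC_of_mem (x : Iof π₀) : dC π₀ (x : A) = (Iof π₀).toCotangent x := by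
  rw [dC_apply]
  congr 1
  ext
  simp [(mem_Iof π₀ x).1 x.2]

lemma dC_smul (b : B) (a : A) : dC π₀ (algebraMap B A b * a) = b • dC π₀ a := by
  rw [dC_apply, dC_apply, ← algebraMap_smul A b, ← map_smul]
  congr 1
  ext
  simp only [map_mul, pi_alg, Submodule.coe_smul, smul_eq_mul]
  ring

theorem ker_le_aug_sq (σ : (Iof π₀).Cotangent →ₗ[B] A) (hσI : ∀ p, σ p ∈ Iof π₀)
    (hσ : ∀ p, (Iof π₀).toCotangent ⟨σ p, hσI p⟩ = p) :
    RingHom.ker ((SymmetricAlgebra.lift σ : SymmetricAlgebra B (Iof π₀).Cotangent →ₐ[B] A) :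
      SymmetricAlgebra B (Iof π₀).Cotangent →+* A) ≤ aug B (Iof π₀).Cotangent ^ 2 := by
  classical
  set P := (Iof π₀).Cotangent
  let φ : SymmetricAlgebra B P →ₐ[B] A := SymmetricAlgebra.lift σ
  have hφι : ∀ p, φ (SymmetricAlgebra.ι B P p) = σ p := fun p => SymmetricAlgebra.lift_ι_apply σ p
  have hdec : ∀ x : SymmetricAlgebra B P, ∃ (b : B) (p : P) (z : SymmetricAlgebra B P),
      z ∈ aug B P ^ 2 ∧ x = algebraMap B _ b + SymmetricAlgebra.ι B P p + z := by
    intro x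
    induction x using SymmetricAlgebra.induction with
    | algebraMap r => exact ⟨r, 0, 0, Ideal.zero_mem _, by simp⟩
    | ι p => exact ⟨0, p, 0, Ideal.zero_mem _, by simp⟩
    | mul a b ha hb =>
      obtain ⟨b₁, p₁, z₁, hz₁, rfl⟩ := ha
      obtain ⟨b₂, p₂, z₂, hz₂, rfl⟩ := hb
      refine ⟨b₁ * b₂, b₁ • p₂ + b₂ • p₁,
        SymmetricAlgebra.ι B P p₁ * SymmetricAlgebra.ι B P p₂
          + z₁ * (algebraMap B _ b₂ + SymmetricAlgebra.ι B P p₂ + z₂)
          + (algebraMap B _ b₁ + SymmetricAlgebra.ι B P p₁) * z₂, ?_, ?_⟩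
      · refine Ideal.add_mem _ (Ideal.add_mem _ ?_ ?_) ?_
        · rw [pow_two]; exact Ideal.mul_mem_mul (ι_mem_aug B P p₁) (ι_mem_aug B P p₂)
        · exact Ideal.mul_mem_right _ _ hz₁
        · exact Ideal.mul_mem_left _ _ hz₂
      · simp only [map_add, map_smul, map_mul, Algebra.smul_def]
        ring
    | add a b ha hb =>
      obtain ⟨b₁, p₁, z₁, hz₁, rfl⟩ := ha
      obtain ⟨b₂, p₂, z₂, hz₂, rfl⟩ := hb
      refine ⟨b₁ + b₂, p₁ + p₂, z₁ + z₂, Ideal.add_mem _ hz₁ hz₂, ?_⟩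
      simp only [map_add]
      ring
  have hπφ : ∀ y, π₀ (φ y) = SymmetricAlgebra.algebraMapInv y := by
    intro y
    have : π₀.comp φ = (SymmetricAlgebra.algebraMapInv : SymmetricAlgebra B P →ₐ[B] B) := by
      apply SymmetricAlgebra.algHom_ext
      apply LinearMap.ext
      intro p
      rw [LinearMap.comp_apply, LinearMap.comp_apply]
      show π₀ (φ (SymmetricAlgebra.ι B P p)) = SymmetricAlgebra.algebraMapInv (SymmetricAlgebra.ι B P p)
      rw [hφι, SymmetricAlgebra.algebraMapInv_ι]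
      exact (mem_Iof π₀ _).1 (hσI p)
    exact congrArg (fun f : SymmetricAlgebra B P →ₐ[B] B => f y) this
  have hφaug : Ideal.map (φ : SymmetricAlgebra B P →+* A) (aug B P) ≤ Iof π₀ := by
    rw [Ideal.map_le_iff_le_comap]
    intro y hy
    rw [Ideal.mem_comap, mem_Iof]
    show π₀ (φ y) = 0
    rw [hπφ]; exact (mem_aug B P y).1 hy
  have hφaug2 : ∀ z ∈ aug B P ^ 2, φ z ∈ Iof π₀ ^ 2 := by
    intro z hz
    have h2 : φ z ∈ Ideal.map (φ : SymmetricAlgebra B P →+* A) (aug B P ^ 2) :=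
      Ideal.mem_map_of_mem _ hz
    rw [Ideal.map_pow] at h2
    exact Ideal.pow_right_mono hφaug 2 h2
  intro x hx
  have hx0 : φ x = 0 := (RingHom.mem_ker).1 hx
  obtain ⟨b, p, z, hz, rfl⟩ := hdec x
  have hz2 := hφaug2 z hz
  have hzI : φ z ∈ Iof π₀ := Ideal.pow_le_self (by norm_num) hz2
  rw [map_add, map_add, hφι, AlgHom.commutes] at hx0
  have hb : b = 0 := by
    have := congrArg π₀ hx0
    rw [map_add, map_add, pi_alg, (mem_Iof π₀ _).1 (hσI p), (mem_Iof π₀ _).1 hzI, map_zero,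
      add_zero, add_zero] at this
    exact this
  rw [hb, map_zero, zero_add] at hx0
  have hσp : σ p ∈ Iof π₀ ^ 2 := by
    have : σ p = - φ z := eq_neg_of_add_eq_zero_left hx0
    rw [this]; exact Ideal.neg_mem_iff _ |>.2 hz2
  have hp : p = 0 := by
    rw [← hσ p, Ideal.toCotangent_eq_zero]
    exact hσp
  rw [hb, hp, map_zero, map_zero, zero_add, zero_add]
  exact hz

end Abstract

end Groth.Agent.H49.GrSm3b
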