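import Mathlib
import Groth.Agent.H49.GrSm1
import Groth.Agent.H49.GrSm3b

set_option autoImplicit false
universe u

namespace Groth.Agent.H49.GrSm3c

open DirectSum Groth.Agent.H49.GrSm1 Groth.Agent.H49.GrSm2 Groth.Agent.H49.GrSm3a
  Groth.Agent.H49.GrSm3b

variable {R : Type u} [CommRing R] {A : Type u} [CommRing A] [Algebra R A] {N : Type}
  [AddCommMonoid N] [DecidableEq N] [IsCancelAdd N] (𝒜 : N → Submodule R A) [GradedAlgebra 𝒜]

/-- homogeneous component -/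
noncomputable def pr (n : N) : A →+ A := GradedRing.proj 𝒜 n

lemma pr_apply (n : N) (a : A) : pr 𝒜 n a = (decompose 𝒜 a n : A) := rfl

lemma pr_mem (n : N) (a : A) : pr 𝒜 n a ∈ 𝒜 n := (decompose 𝒜 a n).2

lemma pr_same {n : N} {a : A} (h : a ∈ 𝒜 n) : pr 𝒜 n a = a := decompose_of_mem_same 𝒜 h

lemma pr_ne {n m : N} {a : A} (h : a ∈ 𝒜 m) (hne : m ≠ n) : pr 𝒜 n a = 0 :=
  decompose_of_mem_ne 𝒜 h hne

lemma eq_zero_of_add (hsharp : ∀ n : N, IsAddUnit n → n = 0) {m m' : N} (h : m + m' = 0) :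
    m = 0 := hsharp m (isAddUnit_iff_exists_neg.2 ⟨m', h⟩)

lemma pr0_mul (hsharp : ∀ n : N, IsAddUnit n → n = 0) (a b : A) :
    pr 𝒜 0 (a * b) = pr 𝒜 0 a * pr 𝒜 0 b := by
  classical
  refine DirectSum.Decomposition.inductionOn 𝒜
    (motive := fun a => ∀ b, pr 𝒜 0 (a * b) = pr 𝒜 0 a * pr 𝒜 0 b) ?_ ?_ ?_ a b
  · intro b; simp
  · intro i x b
    refine DirectSum.Decomposition.inductionOn 𝒜
      (motive := fun b => pr 𝒜 0 ((x : A) * b) = pr 𝒜 0 (x : A) * pr 𝒜 0 b) ?_ ?_ ?_ b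
    · simp
    · intro j y
      have hxy : (x : A) * (y : A) ∈ 𝒜 (i + j) := SetLike.mul_mem_graded x.2 y.2
      by_cases hi : i = 0
      · by_cases hj : j = 0
        · subst hi; subst hj
          rw [pr_same 𝒜 x.2, pr_same 𝒜 y.2, pr_same 𝒜 (by simpa using hxy)]
        · rw [pr_ne 𝒜 y.2 hj, mul_zero, pr_ne 𝒜 hxy]
          intro h; exact hj (eq_zero_of_add hsharp (by rwa [add_comm] at h))
      · rw [pr_ne 𝒜 x.2 hi, zero_mul, pr_ne 𝒜 hxy]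
        intro h; exact hi (eq_zero_of_add hsharp h)
    · intro b b' hb hb'
      rw [mul_add, map_add, map_add, hb, hb', mul_add]
  · intro a a' ha ha' b
    rw [add_mul, map_add, map_add, ha, ha', add_mul]

instance instTower : IsScalarTower R (𝒜 0) A := IsScalarTower.of_algebraMap_eq (fun _ => rfl)

/-- the degree-zero projection as an algebra retraction -/
noncomputable def pi0 (hsharp : ∀ n : N, IsAddUnit n → n = 0) : A →ₐ[𝒜 0] (𝒜 0) where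
  toFun a := decompose 𝒜 a 0
  map_one' := Subtype.ext (pr_same 𝒜 (SetLike.GradedOne.one_mem))
  map_mul' a b := Subtype.ext (pr0_mul 𝒜 hsharp a b)
  map_zero' := by simp
  map_add' a b := by simp [decompose_add]
  commutes' b := Subtype.ext (pr_same 𝒜 b.2)

lemma pi0_coe (hsharp : ∀ n : N, IsAddUnit n → n = 0) (a : A) :
    ((pi0 𝒜 hsharp a : 𝒜 0) : A) = pr 𝒜 0 a := rfl

lemma mem_I (hsharp : ∀ n : N, IsAddUnit n → n = 0) (a : A) :
    a ∈ Iof (pi0 𝒜 hsharp) ↔ pr 𝒜 0 a = 0 := by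
  rw [mem_Iof, ← pi0_coe 𝒜 hsharp]
  exact ⟨fun h => by rw [h]; rfl, fun h => Subtype.ext h⟩

lemma mem_I_of_mem (hsharp : ∀ n : N, IsAddUnit n → n = 0) {n : N} (hn : n ≠ 0) {a : A}
    (ha : a ∈ 𝒜 n) : a ∈ Iof (pi0 𝒜 hsharp) :=
  (mem_I 𝒜 hsharp a).2 (pr_ne 𝒜 ha hn)

lemma I_hom (hsharp : ∀ n : N, IsAddUnit n → n = 0) :
    (Iof (pi0 𝒜 hsharp)).IsHomogeneous 𝒜 := by
  intro n a ha
  show pr 𝒜 n a ∈ _
  by_cases hn : n = 0
  · subst hn
    rw [(mem_I 𝒜 hsharp a).1 ha]; exact Ideal.zero_mem _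
  · exact mem_I_of_mem 𝒜 hsharp hn (pr_mem 𝒜 n a)

lemma pr_mem_sq (hsharp : ∀ n : N, IsAddUnit n → n = 0) (n : N) {z : A}
    (hz : z ∈ Iof (pi0 𝒜 hsharp) ^ 2) : pr 𝒜 n z ∈ Iof (pi0 𝒜 hsharp) ^ 2 := by
  rw [pow_two] at hz ⊢
  exact ((I_hom 𝒜 hsharp).mul (I_hom 𝒜 hsharp)) n hz

lemma pr_mul0 {b : A} (hb : b ∈ 𝒜 0) (n : N) (y : A) : pr 𝒜 n (b * y) = b * pr 𝒜 n y := by
  classical
  refine DirectSum.Decomposition.inductionOn 𝒜
    (motive := fun y => pr 𝒜 n (b * y) = b * pr 𝒜 n y) ?_ ?_ ?_ y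
  · simp
  · intro j y
    have hby : b * (y : A) ∈ 𝒜 j := by
      have := SetLike.mul_mem_graded hb y.2
      simpa using this
    by_cases hj : j = n
    · subst hj; rw [pr_same 𝒜 hby, pr_same 𝒜 y.2]
    · rw [pr_ne 𝒜 hby hj, pr_ne 𝒜 y.2 hj, mul_zero]
  · intro y y' hy hy'
    rw [mul_add, map_add, map_add, hy, hy', mul_add]

lemma sum_pr (a : A) : ∃ s : Finset N, a = ∑ i ∈ s, pr 𝒜 i a := by
  classical
  exact ⟨(decompose 𝒜 a).support, (sum_support_decompose 𝒜 a).symm⟩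

end Groth.Agent.H49.GrSm3c
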