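import Mathlib
import Groth.Agent.H49.GrSm3c

set_option autoImplicit false
universe u

namespace Groth.Agent.H49.GrSm3d

open DirectSum Groth.Agent.H49.GrSm1 Groth.Agent.H49.GrSm2 Groth.Agent.H49.GrSm3a
  Groth.Agent.H49.GrSm3b Groth.Agent.H49.GrSm3c

variable {R : Type u} [CommRing R] {A : Type u} [CommRing A] [Algebra R A] {N : Type}
  [AddCommMonoid N] [DecidableEq N] [IsCancelAdd N] (𝒜 : N → Submodule R A) [GradedAlgebra 𝒜]

set_option maxHeartbeats 1600000 in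
theorem exists_section (hsharp : ∀ n : N, IsAddUnit n → n = 0)
    [Module.Projective (𝒜 0) (Iof (pi0 𝒜 hsharp)).Cotangent]
    (hwf : WellFounded (sdvd : N → N → Prop)) :
    ∃ σ : (Iof (pi0 𝒜 hsharp)).Cotangent →ₗ[𝒜 0] A,
      ∃ hσI : ∀ p, σ p ∈ Iof (pi0 𝒜 hsharp),
      (∀ p, (Iof (pi0 𝒜 hsharp)).toCotangent ⟨σ p, hσI p⟩ = p) ∧
      Function.Surjective (SymmetricAlgebra.lift σ :
        SymmetricAlgebra (𝒜 0) (Iof (pi0 𝒜 hsharp)).Cotangent →ₐ[𝒜 0] A) := by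
  classical
  set π₀ := pi0 𝒜 hsharp with hπ₀
  set I := Iof π₀ with hI
  obtain ⟨σ₀, hσ₀⟩ := Module.projective_lifting_property
    (I.toCotangent.restrictScalars (𝒜 0)) (LinearMap.id : I.Cotangent →ₗ[𝒜 0] I.Cotangent)
    I.toCotangent_surjective
  have hσ₀' : ∀ p, I.toCotangent (σ₀ p) = p := fun p =>
    congrArg (fun f : I.Cotangent →ₗ[𝒜 0] I.Cotangent => f p) hσ₀
  let τn : ∀ n : N, (𝒜 n) →+ A := fun n =>
    (pr 𝒜 n).comp (I.subtype.toAddMonoidHom.comp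
      (σ₀.toAddMonoidHom.comp ((dC π₀).comp (𝒜 n).subtype.toAddMonoidHom)))
  let τ : A →+ A := (DirectSum.toAddMonoid τn).comp (decomposeAddEquiv 𝒜).toAddMonoidHom
  have hτ : ∀ (n : N) (x : A), x ∈ 𝒜 n → τ x = pr 𝒜 n (σ₀ (dC π₀ x) : A) := by
    intro n x hx
    show DirectSum.toAddMonoid τn (decompose 𝒜 x) = _
    rw [decompose_of_mem 𝒜 hx, DirectSum.toAddMonoid_of]
    rfl
  have hdC0 : ∀ x ∈ 𝒜 0, dC π₀ x = 0 := by
    intro x hx
    rw [dC_apply]
    have : (⟨x - algebraMap (𝒜 0) A (π₀ x), sub_mem π₀ x⟩ : I) = 0 := by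
      ext
      show x - pr 𝒜 0 x = 0
      rw [pr_same 𝒜 hx, sub_self]
    rw [this, map_zero]
  have hτ0 : ∀ x ∈ 𝒜 0, τ x = 0 := by
    intro x hx
    rw [hτ 0 x hx, hdC0 x hx, map_zero]; simp
  have hτn : ∀ (n : N) (hn : n ≠ 0) (x : A) (hx : x ∈ 𝒜 n),
      τ x = pr 𝒜 n (σ₀ (I.toCotangent ⟨x, mem_I_of_mem 𝒜 hsharp hn hx⟩) : A) := by
    intro n hn x hx
    rw [hτ n x hx]
    have := dC_of_mem π₀ ⟨x, mem_I_of_mem 𝒜 hsharp hn hx⟩
    simp only at this
    rw [this]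
  have hσ₀sub : ∀ (x : I), ((σ₀ (I.toCotangent x) : I) : A) - x ∈ I ^ 2 := by
    intro x
    have := hσ₀' (I.toCotangent x)
    rw [Ideal.toCotangent_eq] at this
    exact this
  -- T1
  have T1 : ∀ (n : N) (x : A), x ∈ 𝒜 n → τ x ∈ 𝒜 n := by
    intro n x hx; rw [hτ n x hx]; exact pr_mem 𝒜 n _
  -- T3 on homogeneous
  have T3h : ∀ (n : N) (x : A), x ∈ 𝒜 n → x ∈ I → τ x - x ∈ I ^ 2 := by
    intro n x hx hxI
    by_cases hn : n = 0
    · subst hn
      have : x = 0 := by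
        have := (mem_I 𝒜 hsharp x).1 hxI
        rwa [pr_same 𝒜 hx] at this
      rw [this, map_zero, sub_zero]; exact Ideal.zero_mem _
    · rw [hτn n hn x hx]
      have h1 : pr 𝒜 n ((σ₀ (I.toCotangent ⟨x, mem_I_of_mem 𝒜 hsharp hn hx⟩) : I) : A) - x
          = pr 𝒜 n (((σ₀ (I.toCotangent ⟨x, mem_I_of_mem 𝒜 hsharp hn hx⟩) : I) : A) - x) := by
        rw [map_sub, pr_same 𝒜 hx]
      rw [h1]
      exact pr_mem_sq 𝒜 hsharp n (hσ₀sub ⟨x, mem_I_of_mem 𝒜 hsharp hn hx⟩)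
  have T3 : ∀ y ∈ I, τ y - y ∈ I ^ 2 := by
    intro y hy
    obtain ⟨s, hs⟩ := sum_pr 𝒜 y
    have : τ y - y = ∑ i ∈ s, (τ (pr 𝒜 i y) - pr 𝒜 i y) := by
      calc τ y - y = τ (∑ i ∈ s, pr 𝒜 i y) - ∑ i ∈ s, pr 𝒜 i y := by rw [← hs]
        _ = _ := by rw [map_sum, ← Finset.sum_sub_distrib]
    rw [this]
    refine Ideal.sum_mem _ (fun i _ => ?_)
    exact T3h i _ (pr_mem 𝒜 i y) ((I_hom 𝒜 hsharp) i hy)
  -- T4
  have T4 : ∀ z ∈ I ^ 2, τ z = 0 := by
    intro z hz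
    obtain ⟨s, hs⟩ := sum_pr 𝒜 z
    rw [hs, map_sum]
    refine Finset.sum_eq_zero (fun i _ => ?_)
    by_cases hi : i = 0
    · subst hi; exact hτ0 _ (pr_mem 𝒜 0 z)
    · rw [hτn i hi _ (pr_mem 𝒜 i z)]
      have : I.toCotangent ⟨pr 𝒜 i z, mem_I_of_mem 𝒜 hsharp hi (pr_mem 𝒜 i z)⟩ = 0 := by
        rw [Ideal.toCotangent_eq_zero]
        exact pr_mem_sq 𝒜 hsharp i hz
      rw [this, map_zero]; simp
  -- T2
  have T2 : ∀ a, τ a ∈ I := by
    intro a
    obtain ⟨s, hs⟩ := sum_pr 𝒜 a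
    rw [hs, map_sum]
    refine Ideal.sum_mem _ (fun i _ => ?_)
    by_cases hi : i = 0
    · subst hi; rw [hτ0 _ (pr_mem 𝒜 0 a)]; exact Ideal.zero_mem _
    · exact mem_I_of_mem 𝒜 hsharp hi (T1 i _ (pr_mem 𝒜 i a))
  -- T5
  have T5 : ∀ (b : 𝒜 0) (a : A), τ ((b : A) * a) = (b : A) * τ a := by
    intro b a
    refine DirectSum.Decomposition.inductionOn 𝒜
      (motive := fun a => τ ((b : A) * a) = (b : A) * τ a) ?_ ?_ ?_ a
    · simp
    · intro j x
      have hbx : (b : A) * (x : A) ∈ 𝒜 j := by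
        have := SetLike.mul_mem_graded b.2 x.2
        simpa using this
      rw [hτ j _ hbx, hτ j _ x.2]
      have h1 : dC π₀ ((b : A) * (x : A)) = b • dC π₀ (x : A) := dC_smul π₀ b (x : A)
      rw [h1, map_smul]
      have h2 : (((b • σ₀ (dC π₀ (x : A)) : I)) : A) = (b : A) * ((σ₀ (dC π₀ (x : A)) : I) : A) := by
        rw [Submodule.coe_smul_of_tower, Algebra.smul_def]; rfl
      rw [h2, pr_mul0 𝒜 b.2]
    · intro y y' hy hy'
      rw [mul_add, map_add, map_add, hy, hy', mul_add]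
  let σ : I.Cotangent →ₗ[𝒜 0] A :=
    { toFun := fun p => τ ((σ₀ p : I) : A)
      map_add' := by intro p q; rw [map_add, Submodule.coe_add, map_add]
      map_smul' := by
        intro b p
        simp only [RingHom.id_apply]
        rw [map_smul, Submodule.coe_smul_of_tower, Algebra.smul_def]
        show τ ((b : A) * _) = _
        rw [T5, Algebra.smul_def]; rfl }
  have hσapp : ∀ p, σ p = τ ((σ₀ p : I) : A) := fun _ => rfl
  have hσI : ∀ p, σ p ∈ I := fun p => T2 _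
  have hσ : ∀ p, I.toCotangent ⟨σ p, hσI p⟩ = p := by
    intro p
    conv_rhs => rw [← hσ₀' p]
    rw [Ideal.toCotangent_eq]
    exact T3 _ (σ₀ p).2
  refine ⟨σ, hσI, hσ, ?_⟩
  -- surjectivity
  set φ : SymmetricAlgebra (𝒜 0) I.Cotangent →ₐ[𝒜 0] A := SymmetricAlgebra.lift σ with hφ
  let T : Subalgebra (𝒜 0) A := φ.range
  have hσT : ∀ p, σ p ∈ T := by
    intro p
    show σ p ∈ φ.range
    rw [AlgHom.mem_range]
    exact ⟨SymmetricAlgebra.ι _ _ p, SymmetricAlgebra.lift_ι_apply σ p⟩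
  have S1 : ∀ n : N, ∀ x ∈ 𝒜 n, x ∈ T := by
    intro n
    induction n using hwf.induction with
    | _ n IH =>
      intro x hx
      by_cases hn : n = 0
      · subst hn
        show x ∈ φ.range
        rw [AlgHom.mem_range]
        exact ⟨algebraMap (𝒜 0) _ (⟨x, hx⟩ : 𝒜 0), by rw [AlgHom.commutes]; rfl⟩
      · have hxI : x ∈ I := mem_I_of_mem 𝒜 hsharp hn hx
        set q := I.toCotangent ⟨x, hxI⟩ with hq
        have hy : σ q = τ x := by
          rw [hσapp]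
          have : ((σ₀ q : I) : A) = x + (((σ₀ q : I) : A) - x) := by ring
          rw [this, map_add, T4 _ (hσ₀sub ⟨x, hxI⟩), add_zero]
        have hτxT : τ x ∈ T := hy ▸ hσT q
        have S3 : ∀ u ∈ I, ∀ v ∈ I, pr 𝒜 n (u * v) ∈ T := by
          intro u hu v hv
          obtain ⟨s, hs⟩ := sum_pr 𝒜 u
          obtain ⟨t, ht⟩ := sum_pr 𝒜 v
          have : pr 𝒜 n (u * v) = ∑ i ∈ s, ∑ j ∈ t, pr 𝒜 n (pr 𝒜 i u * pr 𝒜 j v) := by
            conv_lhs => rw [hs, ht, Finset.sum_mul_sum, map_sum]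
            refine Finset.sum_congr rfl (fun i _ => ?_)
            rw [map_sum]
          rw [this]
          refine Subalgebra.sum_mem _ (fun i _ => Subalgebra.sum_mem _ (fun j _ => ?_))
          have hij : pr 𝒜 i u * pr 𝒜 j v ∈ 𝒜 (i + j) :=
            SetLike.mul_mem_graded (pr_mem 𝒜 i u) (pr_mem 𝒜 j v)
          by_cases hne : i + j = n
          · rw [pr_same 𝒜 (hne ▸ hij)]
            by_cases hi : i = 0
            · subst hi
              rw [(mem_I 𝒜 hsharp u).1 hu, zero_mul]; exact Subalgebra.zero_mem _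
            by_cases hj : j = 0
            · subst hj
              rw [(mem_I 𝒜 hsharp v).1 hv, mul_zero]; exact Subalgebra.zero_mem _
            exact Subalgebra.mul_mem _
              (IH i ⟨j, hj, hne.symm⟩ _ (pr_mem 𝒜 i u))
              (IH j ⟨i, hi, by rw [← hne, add_comm]⟩ _ (pr_mem 𝒜 j v))
          · rw [pr_ne 𝒜 hij hne]; exact Subalgebra.zero_mem _
        have S2 : ∀ z ∈ I ^ 2, pr 𝒜 n z ∈ T := by
          intro z hz
          rw [pow_two] at hz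
          refine Submodule.mul_induction_on hz ?_ ?_
          · intro u hu v hv; exact S3 u hu v hv
          · intro a b ha hb; rw [map_add]; exact Subalgebra.add_mem _ ha hb
        have hdiff : x - τ x ∈ T := by
          have h1 : x - τ x ∈ I ^ 2 := by
            have := T3 x hxI
            have h2 : x - τ x = -(τ x - x) := by ring
            rw [h2]; exact (Ideal.neg_mem_iff _).2 this
          have h2 : pr 𝒜 n (x - τ x) = x - τ x := by
            rw [map_sub, pr_same 𝒜 hx, pr_same 𝒜 (T1 n x hx)]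
          rw [← h2]; exact S2 _ h1
        have : x = τ x + (x - τ x) := by ring
        rw [this]; exact Subalgebra.add_mem _ hτxT hdiff
  intro a
  have : a ∈ T := by
    obtain ⟨s, hs⟩ := sum_pr 𝒜 a
    rw [hs]
    exact Subalgebra.sum_mem _ (fun i _ => S1 i _ (pr_mem 𝒜 i a))
  have h2 : a ∈ φ.range := this
  rw [AlgHom.mem_range] at h2
  exact h2

end Groth.Agent.H49.GrSm3d
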