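import Mathlib
import Groth.Agent.H49.GrSm1
import Groth.Agent.H49.GrSm2b
import Groth.Agent.H49.GrSm3d

set_option autoImplicit false
universe u

namespace Groth.Agent.H49.GrSm4

open Groth.Agent.H49.GrSm1 Groth.Agent.H49.GrSm2 Groth.Agent.H49.GrSm3a
  Groth.Agent.H49.GrSm3b Groth.Agent.H49.GrSm3c Groth.Agent.H49.GrSm3d

theorem main (R : Type u) [CommRing R] (A : Type u)
    [CommRing A] [Algebra R A] (N : Type) [AddCommMonoid N] [DecidableEq N] [AddMonoid.FG N]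
    [IsCancelAdd N]
    (hsharp : ∀ n : N, IsAddUnit n → n = 0) (𝒜 : N → Submodule R A) [GradedAlgebra 𝒜]
    [Algebra.Smooth R A] :
    ∃ (P : Type u) (_ : AddCommGroup P) (_ : Module (𝒜 0) P), Module.Finite (𝒜 0) P ∧
      Module.Projective (𝒜 0) P ∧ Nonempty (A ≃ₐ[𝒜 0] SymmetricAlgebra (𝒜 0) P) := by
  classical
  haveI : Algebra.FormallySmooth R A := Algebra.Smooth.formallySmooth
  haveI : Algebra.FinitePresentation R A := Algebra.Smooth.finitePresentation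
  haveI : Algebra.FiniteType R A := inferInstance
  haveI hproj : Module.Projective (𝒜 0) (Iof (pi0 𝒜 hsharp)).Cotangent :=
    projective_cot (R := R) (pi0 𝒜 hsharp)
  have hfin : Module.Finite (𝒜 0) (Iof (pi0 𝒜 hsharp)).Cotangent :=
    finite_cot (R := R) (pi0 𝒜 hsharp)
  obtain ⟨σ, hσI, hσ, hsurj⟩ := exists_section 𝒜 hsharp (wf_sdvd hsharp)
  have hK := ker_le_aug_sq (pi0 𝒜 hsharp) σ hσI hσ
  have hinj : Function.Injective (SymmetricAlgebra.lift σ :
      SymmetricAlgebra (𝒜 0) (Iof (pi0 𝒜 hsharp)).Cotangent →ₐ[𝒜 0] A) := by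
    refine injective_of_formallySmooth (R := R) (B := 𝒜 0) (A := A)
      ((SymmetricAlgebra.lift σ : SymmetricAlgebra (𝒜 0) (Iof (pi0 𝒜 hsharp)).Cotangent →ₐ[𝒜 0] A) :
        SymmetricAlgebra (𝒜 0) (Iof (pi0 𝒜 hsharp)).Cotangent →+* A) ?_ hsurj hK
    intro r
    show (SymmetricAlgebra.lift σ) (algebraMap _ _ (algebraMap R (𝒜 0) r)) = _
    rw [AlgHom.commutes]; rfl
  exact ⟨(Iof (pi0 𝒜 hsharp)).Cotangent, inferInstance, inferInstance, hfin, hproj,
    ⟨(AlgEquiv.ofBijective _ ⟨hinj, hsurj⟩).symm⟩⟩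

end Groth.Agent.H49.GrSm4
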