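import Mathlib
import Groth.Agent.S9334
import Groth.Prelude.Def_Flat

/-!
# Fibre dimension zero at a point implies quasi-finite at that point
-/

set_option autoImplicit false

universe u

open AlgebraicGeometry CategoryTheory Limits TopologicalSpace

namespace Groth.Agent.H49.QFDimZero

theorem exists_nbhd_dim_le_zero {T : Type*} [TopologicalSpace T] (x : T)
    (h : FlatMor.localDim T x ≤ 0) :
    ∃ M : TopologicalSpace.Opens T, x ∈ M ∧ topologicalKrullDim (M : Set T) ≤ 0 := by
  by_contra hcon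
  push Not at hcon
  have h1 : (1 : WithBot ℕ∞) ≤ FlatMor.localDim T x := by
    unfold FlatMor.localDim
    refine le_iInf fun ⟨M, hM⟩ => ?_
    have h2 := hcon M hM
    change (0 : WithBot ℕ∞) < topologicalKrullDim (M : Set T) at h2
    obtain ⟨d, hd⟩ := WithBot.ne_bot_iff_exists.mp (ne_bot_of_gt h2)
    change (1 : WithBot ℕ∞) ≤ topologicalKrullDim (M : Set T)
    rw [← hd] at h2 ⊢
    have h3 : (0 : ℕ∞) < d := by exact_mod_cast h2
    have h4 : (1 : ℕ∞) ≤ d := Order.one_le_iff_pos.mpr h3
    exact_mod_cast h4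
  exact absurd (h1.trans h) (by decide)

/-- In a T0 space, an open subset of dimension `≤ 0` has no nontrivial specializations. -/
theorem eq_of_specializes_of_dim_le_zero {T : Type*} [TopologicalSpace T] [T0Space T]
    (M : TopologicalSpace.Opens T) (hM : topologicalKrullDim (M : Set T) ≤ 0) {w w' : T}
    (hw : w ∈ M) (h : w' ⤳ w) : w' = w := by
  have hw' : w' ∈ M := h.mem_open M.isOpen hw
  have h1 : (⟨w', hw'⟩ : (M : Set T)) ⤳ ⟨w, hw⟩ := (subtype_specializes_iff _ _).mpr h
  let C : IrreducibleCloseds (M : Set T) :=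
    ⟨closure {⟨w, hw⟩}, isIrreducible_singleton.closure, isClosed_closure⟩
  let C' : IrreducibleCloseds (M : Set T) :=
    ⟨closure {⟨w', hw'⟩}, isIrreducible_singleton.closure, isClosed_closure⟩
  have hCC' : C ≤ C' := by
    change closure {(⟨w, hw⟩ : (M : Set T))} ⊆ closure {⟨w', hw'⟩}
    exact specializes_iff_closure_subset.mp h1
  have hmax : IsMax C := Order.krullDim_nonpos_iff_forall_isMax.mp hM C
  have hC'C : C' ≤ C := hmax hCC'
  have h2 : (⟨w, hw⟩ : (M : Set T)) ⤳ ⟨w', hw'⟩ := by
    rw [specializes_iff_closure_subset]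
    exact hC'C
  have h3 := (h1.antisymm h2).eq
  exact congrArg Subtype.val h3

/-- If the fibre has dimension `≤ 0` at a point, the morphism is quasi-finite at that point. -/
theorem quasiFiniteAt_of_fibreDimAt_le_zero {X Y : Scheme.{u}} (f : X ⟶ Y)
    [LocallyOfFiniteType f] (x : X) (h : FlatMor.fibreDimAt f x ≤ 0) : f.QuasiFiniteAt x := by
  rw [Groth.Agent.S9334.result]
  obtain ⟨M, hzM, hM⟩ := exists_nbhd_dim_le_zero (f.asFiber x) h
  have hgen : ∀ x' : ↑(f.fiber (f.base x)), x' ⤳ f.asFiber x → x' = f.asFiber x :=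
    fun x' hx' => eq_of_specializes_of_dim_le_zero M hM hzM hx'
  refine ⟨?_, hgen⟩
  apply isClosed_singleton_of_isLocallyClosed_singleton
  refine ⟨M, closure {f.asFiber x}, M.isOpen, isClosed_closure, ?_⟩
  ext w
  constructor
  · intro hw
    rw [Set.mem_singleton_iff] at hw
    rw [hw]
    exact ⟨hzM, subset_closure rfl⟩
  · rintro ⟨hwM, hwc⟩
    have h1 : f.asFiber x ⤳ w := specializes_iff_mem_closure.mpr hwc
    exact (eq_of_specializes_of_dim_le_zero M hM hwM h1).symm

end Groth.Agent.H49.QFDimZero
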