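import Mathlib
import Groth.Agent.H49.GrpdSliceGlobal
import Groth.Agent.H49.QFDimZero
import Groth.Agent.H24.QFLocus

/-!
# Slicing a groupoid with locally quasi-finite stabilizer (S7508)
-/

set_option autoImplicit false
set_option linter.style.haveILetI false

universe u

open AlgebraicGeometry CategoryTheory Limits IsLocalRing

namespace Groth.Agent.H49.GrpdSlice

/-- Shrinking `U'` to an open: the fibre product `U'' ×_U R` is open in `U' ×_U R`. -/
theorem exists_shrink {S : Scheme.{u}} (G : Grpd.GroupoidScheme S) {U₁ : Scheme.{u}}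
    (g₁ : U₁ ⟶ G.U) (U₂ : U₁.Opens) (g₂ : (U₂ : Scheme.{u}) ⟶ G.U) (hg₂ : g₂ = U₂.ι ≫ g₁) :
    ∃ k : pullback g₂ G.t ⟶ pullback g₁ G.t, IsOpenImmersion k ∧
      k ≫ pullback.fst g₁ G.t = pullback.fst g₂ G.t ≫ U₂.ι ∧
      k ≫ pullback.snd g₁ G.t = pullback.snd g₂ G.t ∧
      ∀ p₁ : ↑(pullback g₁ G.t), pullback.fst g₁ G.t p₁ ∈ U₂ → p₁ ∈ Set.range k := by
  subst hg₂
  have e₁ : (U₂.ι ≫ g₁) ≫ 𝟙 G.U = U₂.ι ≫ g₁ := by rw [Category.comp_id]
  have e₂ : G.t ≫ 𝟙 G.U = 𝟙 G.R ≫ G.t := by rw [Category.comp_id, Category.id_comp]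
  refine ⟨pullback.map (U₂.ι ≫ g₁) G.t g₁ G.t U₂.ι (𝟙 G.R) (𝟙 G.U) e₁ e₂, inferInstance, ?_, ?_, ?_⟩
  · rw [pullback.lift_fst]
  · rw [pullback.lift_snd, Category.comp_id]
  · intro p₁ hp₁
    rw [Scheme.Pullback.range_map]
    refine ⟨?_, ?_⟩
    · change pullback.fst g₁ G.t p₁ ∈ Set.range U₂.ι
      rw [Scheme.Opens.range_ι]
      exact hp₁
    · change pullback.snd g₁ G.t p₁ ∈ Set.range (𝟙 G.R : G.R ⟶ G.R)
      exact ⟨_, rfl⟩

/-- The inverse of the restricted groupoid exchanges source and target. -/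
theorem exists_inv {S : Scheme.{u}} (G : Grpd.GroupoidScheme S) {U' : Scheme.{u}}
    (g₂ : U' ⟶ G.U) (h₂ : pullback g₂ G.t ⟶ G.U) (hh₂ : h₂ = pullback.snd g₂ G.t ≫ G.s) :
    ∃ inv : pullback h₂ g₂ ⟶ pullback h₂ g₂, IsIso inv ∧
      inv ≫ pullback.snd h₂ g₂ = pullback.fst h₂ g₂ ≫ pullback.fst g₂ G.t := by
  have hh₂' : ∀ {T : Scheme.{u}} (a : T ⟶ pullback g₂ G.t),
      a ≫ h₂ = a ≫ pullback.snd g₂ G.t ≫ G.s := fun a => by rw [hh₂]
  have c1 : pullback.snd h₂ g₂ ≫ g₂ = (pullback.fst h₂ g₂ ≫ pullback.snd g₂ G.t ≫ G.i) ≫ G.t := by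
    rw [Category.assoc, Category.assoc, G.i_t, ← pullback.condition, hh₂']
  have c2 : pullback.lift (pullback.snd h₂ g₂) (pullback.fst h₂ g₂ ≫ pullback.snd g₂ G.t ≫ G.i) c1 ≫
      h₂ = (pullback.fst h₂ g₂ ≫ pullback.fst g₂ G.t) ≫ g₂ := by
    rw [hh₂' , ← Category.assoc, pullback.lift_snd]
    simp only [Category.assoc, G.i_s, pullback.condition]
  obtain ⟨inv, hinv⟩ : ∃ inv : pullback h₂ g₂ ⟶ pullback h₂ g₂,
      inv = pullback.lift (pullback.lift (pullback.snd h₂ g₂)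
        (pullback.fst h₂ g₂ ≫ pullback.snd g₂ G.t ≫ G.i) c1)
        (pullback.fst h₂ g₂ ≫ pullback.fst g₂ G.t) c2 := ⟨_, rfl⟩
  have hinv_snd : inv ≫ pullback.snd h₂ g₂ = pullback.fst h₂ g₂ ≫ pullback.fst g₂ G.t := by
    rw [hinv, pullback.lift_snd]
  have hinv_fst_fst : inv ≫ pullback.fst h₂ g₂ ≫ pullback.fst g₂ G.t = pullback.snd h₂ g₂ := by
    rw [hinv, ← Category.assoc, pullback.lift_fst, pullback.lift_fst]
  have hinv_fst_snd : inv ≫ pullback.fst h₂ g₂ ≫ pullback.snd g₂ G.t =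
      pullback.fst h₂ g₂ ≫ pullback.snd g₂ G.t ≫ G.i := by
    rw [hinv, ← Category.assoc, pullback.lift_fst, pullback.lift_snd]
  have hinv2 : inv ≫ inv = 𝟙 _ := by
    apply pullback.hom_ext
    · apply pullback.hom_ext
      · rw [Category.assoc, Category.assoc, hinv_fst_fst, hinv_snd, Category.id_comp]
      · rw [Category.assoc, Category.assoc, hinv_fst_snd, ← Category.assoc, ← Category.assoc,
          Category.assoc inv, hinv_fst_snd, Category.assoc, Category.assoc,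
          Groth.Agent.H37.GrpdLib.i_i, Category.comp_id, Category.id_comp]
    · rw [Category.assoc, hinv_snd, hinv_fst_fst, Category.id_comp]
  exact ⟨inv, ⟨⟨inv, hinv2, hinv2⟩⟩, hinv_snd⟩

/-- The quasi-finite locus of an lfp morphism. -/
noncomputable def qfLocus {X Y : Scheme.{u}} (f : X ⟶ Y) (hf : LocallyOfFinitePresentation f) :
    X.Opens :=
  haveI := hf
  f.quasiFiniteLocus

/-- The quasi-finite locus of `h = s ∘ pr₂ : U' ×_U R → U` is the preimage of an open of `U'`. -/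
theorem exists_open_qfLocus {S : Scheme.{u}} (G : Grpd.GroupoidScheme S)
    [LocallyOfFinitePresentation G.s] [LocallyOfFinitePresentation G.t]
    (hs : Flat G.s) (ht : Flat G.t)
    {U' : Scheme.{u}} (g : U' ⟶ G.U) [LocallyOfFinitePresentation g] :
    ∃ V : U'.Opens, ∀ q : ↑(pullback g G.t),
      pullback.fst g G.t q ∈ V ↔ (pullback.snd g G.t ≫ G.s).QuasiFiniteAt q := by
  have hh : LocallyOfFinitePresentation (pullback.snd g G.t ≫ G.s) := inferInstance
  have hsR : flatLfp G.s := ⟨hs, inferInstance⟩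
  have htR : flatLfp G.t := ⟨ht, inferInstance⟩
  obtain ⟨V, hV⟩ := Groth.Agent.S7510.result S G g
    (@LocallyOfFiniteType ⊓ @LocallyQuasiFinite) @LocallyOfFinitePresentation flatLfp
    (fun _ _ f hf => hf.2) qfLocus
    (by
      intro X Y f hf
      haveI : LocallyOfFinitePresentation f := hf
      exact ⟨inferInstanceAs (LocallyOfFiniteType (f.quasiFiniteLocus.ι ≫ f)),
        inferInstanceAs (LocallyQuasiFinite (f.quasiFiniteLocus.ι ≫ f))⟩)
    (by
      intro X Y f hf V hV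
      haveI : LocallyOfFinitePresentation f := hf
      haveI : LocallyQuasiFinite (V.ι ≫ f) := hV.2
      intro x hx
      have h1 := (V.ι ≫ f).quasiFiniteAt ⟨x, hx⟩
      exact Scheme.Hom.quasiFiniteAt_comp_iff_of_isOpenImmersion.mp h1)
    (by
      intro X Y Y' f hf b hb hf'
      haveI : LocallyOfFinitePresentation f := hf
      haveI : LocallyOfFinitePresentation (pullback.snd f b) := hf'
      exact (Groth.Agent.H24.quasiFiniteLocus_eq_preimage_of_isPullback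
        (IsPullback.of_hasPullback f b)).symm)
    hsR htR ‹_› hh
  refine ⟨V, fun q => ?_⟩
  have h1 : q ∈ pullback.fst g G.t ⁻¹ᵁ V ↔ q ∈ qfLocus (pullback.snd g G.t ≫ G.s) hh := by
    rw [hV]
  exact h1

set_option maxHeartbeats 3200000 in
/-- **Slicing a groupoid with locally quasi-finite stabilizer.** -/
theorem exists_qf_slice (S : Scheme.{u}) (G : Grpd.GroupoidScheme S)
    [LocallyOfFinitePresentation G.s] [LocallyOfFinitePresentation G.t]
    (hs : ∀ r : G.R, Grpd.IsCMAt G.s r) (ht : ∀ r : G.R, Grpd.IsCMAt G.t r)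
    [LocallyOfFiniteType G.stabilizerToU] [LocallyQuasiFinite G.stabilizerToU] (u : G.U)
    (hu : LocallyOfFiniteType (G.U.fromSpecResidueField u)) :
    ∃ (U' : Scheme.{u}) (_ : IsAffine U') (g : U' ⟶ G.U) (u' : U'),
      IsImmersion g ∧ LocallyOfFinitePresentation g ∧ g u' = u ∧
      (Flat (pullback.snd g G.t ≫ G.s) ∧ LocallyOfFinitePresentation (pullback.snd g G.t ≫ G.s) ∧
        LocallyOfFiniteType (pullback.snd g G.t ≫ G.s) ∧
        LocallyQuasiFinite (pullback.snd g G.t ≫ G.s)) ∧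
      (Flat (pullback.snd (pullback.snd g G.t ≫ G.s) g) ∧
        LocallyOfFinitePresentation (pullback.snd (pullback.snd g G.t ≫ G.s) g) ∧
        LocallyQuasiFinite (pullback.snd (pullback.snd g G.t ≫ G.s) g)) ∧
      (Flat (pullback.fst (pullback.snd g G.t ≫ G.s) g ≫ pullback.fst g G.t) ∧
        LocallyOfFinitePresentation
          (pullback.fst (pullback.snd g G.t ≫ G.s) g ≫ pullback.fst g G.t) ∧
        LocallyQuasiFinite (pullback.fst (pullback.snd g G.t ≫ G.s) g ≫ pullback.fst g G.t)) := by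
  obtain ⟨U₁, hU₁, g₁, u₁, p₁, himm, hlfp, hgu, hfst, hsnd, hcm₁, hlfp₁, -, -, -, -, hdim⟩ :=
    exists_max_slice S G hs ht u hu
  haveI := himm
  haveI := hlfp
  haveI := hlfp₁
  have hdim0 : topologicalKrullDim ↥(G.stabilizerToU.fiber u) ≤ 0 := by
    haveI : DiscreteTopology ↥(G.stabilizerToU.fiber u) := inferInstance
    exact topologicalKrullDim_zero_of_discreteTopology _
  have hq₁ : (pullback.snd g₁ G.t ≫ G.s).QuasiFiniteAt p₁ := by
    apply Groth.Agent.H49.QFDimZero.quasiFiniteAt_of_fibreDimAt_le_zero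
    rw [hdim]
    exact hdim0
  have hsflat : Flat G.s := Flat.of_stalkMap G.s fun x => (hs x).1
  have htflat : Flat G.t := Flat.of_stalkMap G.t fun x => (ht x).1
  obtain ⟨V, hV⟩ := exists_open_qfLocus G hsflat htflat g₁
  have hu₁V : u₁ ∈ V := by
    rw [← hfst]
    exact (hV p₁).mpr hq₁
  obtain ⟨U₂, hU₂, hu₂, hU₂V⟩ := exists_isAffineOpen_mem_and_subset (x := u₁) (U := V) hu₁V
  obtain ⟨g₂, hg₂⟩ : ∃ g₂ : (U₂ : Scheme.{u}) ⟶ G.U, g₂ = U₂.ι ≫ g₁ := ⟨_, rfl⟩
  obtain ⟨k, hkopen, hk1, hk2, hkrange⟩ := exists_shrink G g₁ U₂ g₂ hg₂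
  haveI := hkopen
  haveI : IsImmersion g₂ := by
    rw [hg₂]
    infer_instance
  haveI : LocallyOfFinitePresentation g₂ := by
    rw [hg₂]
    infer_instance
  have hkh : k ≫ (pullback.snd g₁ G.t ≫ G.s) = pullback.snd g₂ G.t ≫ G.s := by
    rw [← Category.assoc, hk2]
  obtain ⟨h₂, hh₂⟩ : ∃ h₂ : pullback g₂ G.t ⟶ G.U, h₂ = pullback.snd g₂ G.t ≫ G.s := ⟨_, rfl⟩
  rw [← hh₂] at hkh
  haveI hh₂lfp : LocallyOfFinitePresentation h₂ := by
    rw [hh₂]
    infer_instance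
  have hflat₂ : Flat h₂ := by
    refine Flat.of_stalkMap h₂ fun q => ?_
    have h1 := hcm₁ (k q)
    rw [← isCMAt_comp_openImmersion_iff, hkh] at h1
    exact h1.1
  have hlqf₂ : LocallyQuasiFinite h₂ := by
    rw [← Scheme.Hom.quasiFiniteLocus_eq_top_iff]
    refine top_unique fun q _ => ?_
    change h₂.QuasiFiniteAt q
    rw [← hkh, Scheme.Hom.quasiFiniteAt_comp_iff_of_isOpenImmersion, ← hV]
    apply hU₂V
    rw [← Scheme.Hom.comp_apply, hk1, Scheme.Hom.comp_apply]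
    exact (pullback.fst g₂ G.t q).2
  obtain ⟨inv, hinviso, hinv⟩ := exists_inv G g₂ h₂ hh₂
  haveI := hinviso
  haveI := hflat₂
  haveI := hlqf₂
  obtain ⟨p₂, hp₂⟩ := hkrange p₁ (by rw [hfst]; exact hu₂)
  have hg₂' : ∀ x, g₂ x = g₁ (U₂.ι x) := fun x => by
    rw [hg₂]
    rfl
  have hgu₂ : g₂ (pullback.fst g₂ G.t p₂) = u := by
    have h1 : U₂.ι (pullback.fst g₂ G.t p₂) = u₁ := by
      rw [← Scheme.Hom.comp_apply, ← hk1, Scheme.Hom.comp_apply, hp₂, hfst]
    rw [hg₂', h1]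
    exact hgu
  have h3 : Flat (pullback.fst h₂ g₂ ≫ pullback.fst g₂ G.t) ∧
      LocallyOfFinitePresentation (pullback.fst h₂ g₂ ≫ pullback.fst g₂ G.t) ∧
      LocallyQuasiFinite (pullback.fst h₂ g₂ ≫ pullback.fst g₂ G.t) := by
    rw [← hinv]
    exact ⟨inferInstance, inferInstance, inferInstance⟩
  subst hh₂
  exact ⟨U₂, hU₂, g₂, pullback.fst g₂ G.t p₂, inferInstance, inferInstance, hgu₂,
    ⟨hflat₂, hh₂lfp, inferInstance, hlqf₂⟩, ⟨inferInstance, inferInstance, inferInstance⟩, h3⟩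

end Groth.Agent.H49.GrpdSlice
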