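import Groth.Agent.H49.IdealDescentRing
import Groth.Agent.H9.ComapIdeal
import Groth.Agent.H49.Fppf
import Mathlib.AlgebraicGeometry.Morphisms.Flat
import Mathlib.AlgebraicGeometry.Sites.Fpqc

/-!
# helper49: fpqc descent of quasi-coherent ideal sheaves (`Scheme.IdealSheafData`)
-/

set_option autoImplicit false
universe u

namespace Groth.Agent.H49.IdealDescent

open CategoryTheory CategoryTheory.Limits AlgebraicGeometry

section pts

theorem map_ne_top_of_fromSpec_eq {X Y : Scheme.{u}} (φ : X ⟶ Y) {U : Y.Opens}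
    (hU : IsAffineOpen U) {V : X.Opens} (hV : IsAffineOpen V) (e : V ≤ φ ⁻¹ᵁ U) (y : X)
    (hy : y ∈ V) (𝔪 : PrimeSpectrum Γ(Y, U)) (h𝔪 : hU.fromSpec 𝔪 = φ y) :
    𝔪.asIdeal.map (φ.appLE U V e).hom ≠ ⊤ := by
  let 𝔮 := hV.primeIdealOf ⟨y, hy⟩
  have h1 : hV.fromSpec 𝔮 = y := hV.fromSpec_primeIdealOf ⟨y, hy⟩
  have h2 : (Spec.map (φ.appLE U V e)) 𝔮 = 𝔪 := by
    apply hU.fromSpec.isOpenEmbedding.injective
    rw [← Scheme.Hom.comp_apply, IsAffineOpen.SpecMap_appLE_fromSpec φ hU hV e,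
      Scheme.Hom.comp_apply, h1, h𝔪]
  have h3 : 𝔮.asIdeal.comap (φ.appLE U V e).hom = 𝔪.asIdeal :=
    congrArg PrimeSpectrum.asIdeal h2
  intro htop
  have h4 : 𝔪.asIdeal.map (φ.appLE U V e).hom ≤ 𝔮.asIdeal := Ideal.map_le_iff_le_comap.mpr h3.ge
  rw [htop] at h4
  exact 𝔮.2.ne_top (top_le_iff.mp h4)

theorem mem_of_forall_point {X : Scheme.{u}} {V : X.Opens} (hV : IsAffineOpen V)
    (𝔞 : Ideal Γ(X, V)) (t : Γ(X, V))
    (h : ∀ y ∈ V, ∃ (Z : Scheme.{u}) (φ : Z ⟶ X) (W : Z.Opens) (_ : IsAffineOpen W)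
      (e : W ≤ φ ⁻¹ᵁ V) (w : Z), w ∈ W ∧ φ w = y ∧ (φ.appLE V W e).hom.Flat ∧
        (φ.appLE V W e).hom t ∈ 𝔞.map (φ.appLE V W e).hom) : t ∈ 𝔞 := by
  apply mem_of_forall_maximal
  intro 𝔪 h𝔪
  let p : PrimeSpectrum Γ(X, V) := ⟨𝔪, h𝔪.isPrime⟩
  have hy : hV.fromSpec p ∈ V := by
    have : hV.fromSpec p ∈ Set.range hV.fromSpec := ⟨p, rfl⟩
    rw [hV.range_fromSpec] at this
    exact this
  obtain ⟨Z, φ, W, hW, e, w, hwW, hwy, hfl, hmem⟩ := h _ hy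
  exact ⟨Γ(Z, W), inferInstance, (φ.appLE V W e).hom, hfl,
    map_ne_top_of_fromSpec_eq φ hV hW e w hwW p hwy.symm, hmem⟩

end pts

section overlap

variable {P Q₁ Q₂ : Scheme.{u}} (g₁ : Q₁ ⟶ P) (g₂ : Q₂ ⟶ P)

/-- The open `V₁ ×_P V₂` of the fibre product. -/
noncomputable def prodOpen (V₁ : Q₁.Opens) (V₂ : Q₂.Opens) : (pullback g₁ g₂).Opens :=
  pullback.fst g₁ g₂ ⁻¹ᵁ V₁ ⊓ pullback.snd g₁ g₂ ⁻¹ᵁ V₂

theorem prodOpen_le_fst (V₁ : Q₁.Opens) (V₂ : Q₂.Opens) :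
    prodOpen g₁ g₂ V₁ V₂ ≤ pullback.fst g₁ g₂ ⁻¹ᵁ V₁ := inf_le_left

theorem prodOpen_le_snd (V₁ : Q₁.Opens) (V₂ : Q₂.Opens) :
    prodOpen g₁ g₂ V₁ V₂ ≤ pullback.snd g₁ g₂ ⁻¹ᵁ V₂ := inf_le_right

variable {g₁ g₂} {U : P.Opens} (hU : IsAffineOpen U) {V₁ : Q₁.Opens} (hV₁ : IsAffineOpen V₁)
  {V₂ : Q₂.Opens} (hV₂ : IsAffineOpen V₂) (e₁ : V₁ ≤ g₁ ⁻¹ᵁ U) (e₂ : V₂ ≤ g₂ ⁻¹ᵁ U)

include hU hV₁ hV₂ e₁ e₂ in
theorem isAffineOpen_prodOpen : IsAffineOpen (prodOpen g₁ g₂ V₁ V₂) := by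
  have : IsAffine U.toScheme := hU
  have : IsAffine V₁.toScheme := hV₁
  have : IsAffine V₂.toScheme := hV₂
  exact IsAffine.of_isIso (Scheme.Hom.isPullback_resLE (IsPullback.of_hasPullback g₁ g₂)
    e₂ e₁ (UY := prodOpen g₁ g₂ V₁ V₂) rfl).isoPullback.hom

include hU hV₁ hV₂ in
theorem isPushout_prodOpen :
    IsPushout (g₁.appLE U V₁ e₁) (g₂.appLE U V₂ e₂)
      ((pullback.fst g₁ g₂).appLE V₁ (prodOpen g₁ g₂ V₁ V₂) (prodOpen_le_fst g₁ g₂ V₁ V₂))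
      ((pullback.snd g₁ g₂).appLE V₂ (prodOpen g₁ g₂ V₁ V₂) (prodOpen_le_snd g₁ g₂ V₁ V₂)) := by
  have := isIso_pushoutSection_of_isAffineOpen (IsPullback.of_hasPullback g₁ g₂) e₂ e₁
    (UY := prodOpen g₁ g₂ V₁ V₂) rfl hU hV₂ hV₁
  exact (isIso_pushoutSection_iff (IsPullback.of_hasPullback g₁ g₂) e₂ e₁
    (UY := prodOpen g₁ g₂ V₁ V₂) rfl).mp this

end overlap

section main

variable {P : Scheme.{u}} {ι : Type u} {Q : ι → Scheme.{u}} (g : ∀ i, Q i ⟶ P)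
  (I : ∀ i, (Q i).IdealSheafData)

/-- A chart over an open `U` of `P`: an affine open of some `Q i` mapping into `U`. -/
structure Chart (U : P.Opens) where
  /-- the index -/
  i : ι
  /-- the affine open -/
  V : (Q i).affineOpens
  /-- it maps into `U` -/
  le : V.1 ≤ g i ⁻¹ᵁ U

variable {g}

/-- Restriction of sections to a chart. -/
noncomputable def Chart.ρ {U : P.Opens} (c : Chart g U) : Γ(P, U) ⟶ Γ(Q c.i, c.V.1) :=
  (g c.i).appLE U c.V.1 c.le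

/-- The given ideal on a chart. -/
def Chart.idl {U : P.Opens} (c : Chart g U) : Ideal Γ(Q c.i, c.V.1) := (I c.i).ideal c.V

/-- The candidate ideal: sections whose restriction to every chart lies in the given ideal. -/
noncomputable def Jid (g : ∀ i, Q i ⟶ P) (I : ∀ i, (Q i).IdealSheafData) (U : P.Opens) :
    Ideal Γ(P, U) :=
  ⨅ c : Chart g U, (c.idl I).comap c.ρ.hom

theorem Jid_map_le {U : P.Opens} (c : Chart g U) : (Jid g I U).map c.ρ.hom ≤ c.idl I :=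
  Ideal.map_le_iff_le_comap.mpr (iInf_le _ c)

/-- The finiteness/covering hypothesis (holds for fpqc families). -/
def FinCov (g : ∀ i, Q i ⟶ P) : Prop :=
  ∀ U : P.Opens, IsAffineOpen U → ∃ (n : ℕ) (c : Fin n → Chart g U),
    ∀ x ∈ U, ∃ k, ∃ y ∈ (c k).V.1, g (c k).i y = x

/-- The compatibility hypothesis on the overlaps. -/
def Compat (g : ∀ i, Q i ⟶ P) (I : ∀ i, (Q i).IdealSheafData) : Prop :=
  ∀ i j, (I i).comap (pullback.fst (g i) (g j)) = (I j).comap (pullback.snd (g i) (g j))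

variable {I}

theorem Chart.overlap (h : Compat g I) {U : P.Opens} (hU : IsAffineOpen U) (c c' : Chart g U) :
    (c.idl I).map ((pullback.fst (g c.i) (g c'.i)).appLE c.V.1
        (prodOpen (g c.i) (g c'.i) c.V.1 c'.V.1) (prodOpen_le_fst _ _ _ _)).hom =
      (c'.idl I).map ((pullback.snd (g c.i) (g c'.i)).appLE c'.V.1
        (prodOpen (g c.i) (g c'.i) c.V.1 c'.V.1) (prodOpen_le_snd _ _ _ _)).hom := by
  have hW := isAffineOpen_prodOpen hU c.V.2 c'.V.2 c.le c'.le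
  rw [Chart.idl, Chart.idl,
    ← Groth.Agent.H9.comap_ideal (pullback.fst (g c.i) (g c'.i)) (I c.i) c.V ⟨_, hW⟩
      (prodOpen_le_fst _ _ _ _),
    ← Groth.Agent.H9.comap_ideal (pullback.snd (g c.i) (g c'.i)) (I c'.i) c'.V ⟨_, hW⟩
      (prodOpen_le_snd _ _ _ _), h]

theorem mem_idl_of_cover (hfl : ∀ i, Flat (g i)) (h : Compat g I) {U : P.Opens}
    (hU : IsAffineOpen U) {n : ℕ} (c : Fin n → Chart g U)
    (hcov : ∀ x ∈ U, ∃ k, ∃ y ∈ (c k).V.1, g (c k).i y = x)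
    (t : Γ(P, U)) (ht : ∀ k, (c k).ρ.hom t ∈ (c k).idl I) (c' : Chart g U) :
    c'.ρ.hom t ∈ c'.idl I := by
  apply mem_of_forall_point c'.V.2
  intro y' hy'
  have hx : g c'.i y' ∈ U := c'.le hy'
  obtain ⟨k, y, hy, hyx⟩ := hcov _ hx
  obtain ⟨w, hw1, hw2⟩ := Scheme.Pullback.exists_preimage_pullback y' y hyx.symm
  have hW := isAffineOpen_prodOpen hU c'.V.2 (c k).V.2 c'.le (c k).le
  have : Flat (g (c k).i) := hfl _
  refine ⟨pullback (g c'.i) (g (c k).i), pullback.fst _ _, prodOpen _ _ c'.V.1 (c k).V.1, hW,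
    prodOpen_le_fst _ _ _ _, w, ⟨?_, ?_⟩, hw1, ?_, ?_⟩
  · change pullback.fst (g c'.i) (g (c k).i) w ∈ c'.V.1
    rw [hw1]; exact hy'
  · change pullback.snd (g c'.i) (g (c k).i) w ∈ (c k).V.1
    rw [hw2]; exact hy
  · exact HasRingHomProperty.appLE (P := @Flat) (pullback.fst (g c'.i) (g (c k).i)) inferInstance
      c'.V ⟨_, hW⟩ _
  · have hw := (isPushout_prodOpen hU c'.V.2 (c k).V.2 c'.le (c k).le).w
    have h1 := congrArg (fun m => m.hom t) hw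
    simp only [CommRingCat.hom_comp, RingHom.comp_apply] at h1
    change ((pullback.fst (g c'.i) (g (c k).i)).appLE _ _ _).hom
      (((g c'.i).appLE U c'.V.1 c'.le).hom t) ∈ _
    rw [h1, Chart.overlap h hU c' (c k)]
    exact Ideal.mem_map_of_mem _ (ht k)

theorem idl_le_map_Jid (hfin : FinCov g) (hfl : ∀ i, Flat (g i)) (h : Compat g I) {U : P.Opens}
    (hU : IsAffineOpen U) (c : Chart g U) : c.idl I ≤ (Jid g I U).map c.ρ.hom := by
  obtain ⟨n, ck, hcov⟩ := hfin U hU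
  have : Flat (g c.i) := hfl _
  have key := le_map_iInf_comap c.ρ
    (HasRingHomProperty.appLE (P := @Flat) (g c.i) inferInstance ⟨U, hU⟩ c.V c.le)
    (fun k => Γ(Q (ck k).i, (ck k).V.1))
    (fun k => Γ(pullback (g c.i) (g (ck k).i), prodOpen (g c.i) (g (ck k).i) c.V.1 (ck k).V.1))
    (fun k => (ck k).ρ)
    (fun k => (pullback.fst (g c.i) (g (ck k).i)).appLE c.V.1 _ (prodOpen_le_fst _ _ _ _))
    (fun k => (pullback.snd (g c.i) (g (ck k).i)).appLE (ck k).V.1 _ (prodOpen_le_snd _ _ _ _))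
    (fun k => isPushout_prodOpen hU c.V.2 (ck k).V.2 c.le (ck k).le)
    (c.idl I) (fun k => (ck k).idl I) (fun k => (Chart.overlap h hU c (ck k)).le)
  refine key.trans (Ideal.map_mono ?_)
  intro t ht
  rw [Jid, Ideal.mem_iInf]
  intro c'
  rw [Ideal.mem_comap]
  exact mem_idl_of_cover hfl h hU ck hcov t (fun k => Ideal.mem_comap.mp (Ideal.mem_iInf.mp ht k)) c'

/-- Ideals of sections over an affine open are compared chart-wise. -/
theorem le_of_forall_chart (hfin : FinCov g) (hfl : ∀ i, Flat (g i)) {U : P.Opens}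
    (hU : IsAffineOpen U) (𝔞 𝔞' : Ideal Γ(P, U))
    (H : ∀ c : Chart g U, 𝔞.map c.ρ.hom ≤ 𝔞'.map c.ρ.hom) : 𝔞 ≤ 𝔞' := by
  intro t ht
  apply mem_of_forall_point hU
  intro x hx
  obtain ⟨n, ck, hcov⟩ := hfin U hU
  obtain ⟨k, y, hy, hyx⟩ := hcov x hx
  have : Flat (g (ck k).i) := hfl _
  exact ⟨Q (ck k).i, g (ck k).i, (ck k).V.1, (ck k).V.2, (ck k).le, y, hy, hyx,
    HasRingHomProperty.appLE (P := @Flat) (g (ck k).i) inferInstance ⟨U, hU⟩ (ck k).V (ck k).le,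
    H (ck k) (Ideal.mem_map_of_mem _ ht)⟩

/-- restricting a chart over `U' ≤ U` to a chart over `U` -/
def Chart.ofLE {U U' : P.Opens} (hUU' : U' ≤ U) (c' : Chart g U') : Chart g U :=
  ⟨c'.i, c'.V, c'.le.trans ((g c'.i).preimage_mono hUU')⟩

theorem Chart.ofLE_ρ {U U' : P.Opens} (hUU' : U' ≤ U) (c' : Chart g U') :
    (c'.ofLE hUU').ρ = P.presheaf.map (homOfLE hUU').op ≫ c'.ρ := by
  rw [Chart.ρ, Chart.ρ, Scheme.Hom.map_appLE]
  rfl

theorem Jid_map_res (hfin : FinCov g) (hfl : ∀ i, Flat (g i)) (h : Compat g I) {U U' : P.Opens}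
    (hU : IsAffineOpen U) (hU' : IsAffineOpen U') (hUU' : U' ≤ U) :
    (Jid g I U).map (P.presheaf.map (homOfLE hUU').op).hom = Jid g I U' := by
  apply le_antisymm
  · rw [Ideal.map_le_iff_le_comap]
    intro t ht
    rw [Ideal.mem_comap, Jid, Ideal.mem_iInf]
    intro c'
    rw [Ideal.mem_comap]
    have h1 : (c'.ofLE hUU').ρ.hom t ∈ (c'.ofLE hUU').idl I :=
      Ideal.mem_comap.mp (Ideal.mem_iInf.mp ht (c'.ofLE hUU'))
    rw [Chart.ofLE_ρ] at h1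
    exact h1
  · apply le_of_forall_chart hfin hfl hU'
    intro c'
    refine (Jid_map_le I c').trans ?_
    have h1 : c'.idl I ≤ (Jid g I U).map (P.presheaf.map (homOfLE hUU').op ≫ c'.ρ).hom := by
      have h0 := idl_le_map_Jid hfin hfl h hU (c'.ofLE hUU')
      rw [Chart.ofLE_ρ] at h0
      exact h0
    rw [CommRingCat.hom_comp, ← Ideal.map_map] at h1
    exact h1

/-- The descended ideal sheaf. -/
noncomputable def descIdeal (hfin : FinCov g) (hfl : ∀ i, Flat (g i)) (h : Compat g I) :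
    P.IdealSheafData where
  ideal U := Jid g I U.1
  map_ideal_basicOpen U f :=
    Jid_map_res hfin hfl h U.2 (P.affineBasicOpen f).2 (P.basicOpen_le f)

theorem descIdeal_comap (hfin : FinCov g) (hfl : ∀ i, Flat (g i)) (h : Compat g I) (i : ι) :
    (descIdeal hfin hfl h).comap (g i) = I i := by
  refine Scheme.IdealSheafData.ext_of_iSup_eq_top
    (ι := Σ U : P.affineOpens, {V : (Q i).affineOpens // V.1 ≤ g i ⁻¹ᵁ U.1}) (fun p => p.2.1) ?_ ?_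
  · rw [eq_top_iff]
    intro y _
    obtain ⟨_, ⟨U, hU, rfl⟩, hyU, -⟩ :=
      P.isBasis_affineOpens.exists_subset_of_mem_open (Set.mem_univ (g i y)) isOpen_univ
    obtain ⟨_, ⟨V, hV, rfl⟩, hyV, hVU⟩ :=
      (Q i).isBasis_affineOpens.exists_subset_of_mem_open (show y ∈ ((g i ⁻¹ᵁ U : (Q i).Opens) :
        Set (Q i)) from hyU) (g i ⁻¹ᵁ U).2
    exact TopologicalSpace.Opens.mem_iSup.mpr ⟨⟨⟨U, hU⟩, ⟨⟨V, hV⟩, hVU⟩⟩, hyV⟩
  · rintro ⟨U, V, e⟩
    rw [Groth.Agent.H9.comap_ideal (g i) _ U V e]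
    exact le_antisymm (Jid_map_le I ⟨i, V, e⟩) (idl_le_map_Jid hfin hfl h U.2 ⟨i, V, e⟩)

theorem eq_descIdeal (hfin : FinCov g) (hfl : ∀ i, Flat (g i)) (h : Compat g I)
    (J' : P.IdealSheafData) (hJ' : ∀ i, J'.comap (g i) = I i) : J' = descIdeal hfin hfl h := by
  apply Scheme.IdealSheafData.ext
  funext U
  have key : ∀ c : Chart g U.1, (J'.ideal U).map c.ρ.hom = c.idl I := by
    intro c
    rw [Chart.idl, ← hJ' c.i, Groth.Agent.H9.comap_ideal (g c.i) J' U c.V c.le]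
    rfl
  apply le_antisymm
  · apply le_of_forall_chart hfin hfl U.2
    intro c
    rw [key c]
    exact idl_le_map_Jid hfin hfl h U.2 c
  · apply le_of_forall_chart hfin hfl U.2
    intro c
    rw [key c]
    exact Jid_map_le I c

/-- fpqc descent of ideal sheaves. -/
theorem existsUnique_comap_eq (hfin : FinCov g) (hfl : ∀ i, Flat (g i)) (h : Compat g I) :
    ∃! J : P.IdealSheafData, ∀ i, J.comap (g i) = I i :=
  ⟨descIdeal hfin hfl h, descIdeal_comap hfin hfl h, fun J' hJ' => eq_descIdeal hfin hfl h J' hJ'⟩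

/-- An fpqc covering family satisfies the finiteness/covering hypothesis. -/
theorem finCov_of_fpqc (hg : Presieve.ofArrows Q g ∈ Scheme.fpqcPrecoverage P) :
    FinCov g ∧ ∀ i, Flat (g i) := by
  have hqc : Presieve.ofArrows Q g ∈ Scheme.qcPrecoverage P := hg.1
  have hfl : Presieve.ofArrows Q g ∈ Scheme.precoverage @Flat P := hg.2
  rw [Groth.Agent.H49.mem_precoverage_iff] at hfl
  have hflat : ∀ i, Flat (g i) := fun i => hfl.2 (Presieve.ofArrows.mk i)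
  refine ⟨?_, hflat⟩
  let E : PreZeroHypercover.{u} P := ⟨ι, Q, g⟩
  have hE : QuasiCompactCover E := Scheme.presieve₀_mem_qcPrecoverage_iff.mp hqc
  intro U hU
  obtain ⟨n, a, V, hV, hUV⟩ :=
    QuasiCompactCover.exists_isAffineOpen_of_isCompact E (U := U) hU.isCompact
  have e : ∀ k, V k ≤ (g (a k)) ⁻¹ᵁ U := by
    intro k y hy
    change g (a k) y ∈ (U : Set P)
    rw [← hUV]
    exact Set.mem_iUnion.mpr ⟨k, y, hy, rfl⟩
  refine ⟨n, fun k => ⟨a k, ⟨V k, hV k⟩, e k⟩, fun x hx => ?_⟩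
  have hx' : x ∈ ⋃ i, E.f (a i) '' (V i) := by rw [hUV]; exact hx
  obtain ⟨k, y, hy, hyx⟩ := Set.mem_iUnion.mp hx'
  exact ⟨k, y, hy, hyx⟩

end main

end Groth.Agent.H49.IdealDescent
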