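import Mathlib.RingTheory.Flat.Basic
import Mathlib.RingTheory.Flat.Stability
import Mathlib.RingTheory.RingHom.Flat
import Mathlib.Algebra.Category.Ring.Constructions
import Mathlib.LinearAlgebra.TensorProduct.Pi
import Mathlib.LinearAlgebra.TensorProduct.Quotient
import Groth.Agent.H11.SymbPow

/-!
# helper49: ring-level lemmas for fpqc descent of ideals

* `mem_of_forall_maximal`: an element `t` lies in an ideal `𝔞` as soon as, for every maximal ideal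
  `𝔪`, there is a flat ring map `φ` with `𝔪.map φ ≠ ⊤` and `φ t ∈ 𝔞.map φ`.
* `le_map_iInf_comap`: the key descent lemma: if `B`, `C k` are `A`-algebras with `B` flat,
  and ideals `𝔟 ⊆ B`, `𝔠 k ⊆ C k` agree in the pushouts `B ⊗ C k`, then
  `𝔟 ≤ (⨅ k, 𝔠 k ∩ A) B`.
-/

set_option autoImplicit false
universe u

namespace Groth.Agent.H49.IdealDescent

open CategoryTheory CategoryTheory.Limits TensorProduct

theorem mem_of_forall_maximal {A : Type u} [CommRing A] (𝔞 : Ideal A) (t : A)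
    (h : ∀ 𝔪 : Ideal A, 𝔪.IsMaximal → ∃ (C : Type u) (_ : CommRing C) (φ : A →+* C),
      φ.Flat ∧ 𝔪.map φ ≠ ⊤ ∧ φ t ∈ 𝔞.map φ) : t ∈ 𝔞 := by
  by_contra ht
  let 𝔠 : Ideal A := Submodule.comap (LinearMap.mulLeft A t) 𝔞
  have h𝔠 : ∀ a, a ∈ 𝔠 ↔ t * a ∈ 𝔞 := fun a => Iff.rfl
  have hne : 𝔠 ≠ ⊤ := by
    intro htop
    apply ht
    have : (1 : A) ∈ 𝔠 := htop ▸ Submodule.mem_top
    simpa [h𝔠] using this
  obtain ⟨𝔪, h𝔪, hle⟩ := Ideal.exists_le_maximal 𝔠 hne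
  obtain ⟨C, _, φ, hφ, hφ𝔪, hφt⟩ := h 𝔪 h𝔪
  algebraize [φ]
  obtain ⟨k, c, u, h1, h2⟩ := Groth.Agent.H11.flat_mem_colon (R := A) (S := C) 𝔞 t (1 : C)
    (by simpa [RingHom.algebraMap_toAlgebra] using hφt)
  apply hφ𝔪
  rw [Ideal.eq_top_iff_one, h1]
  refine sum_mem fun j _ => Ideal.mul_mem_right _ _ (Ideal.mem_map_of_mem _ (hle ?_))
  exact (h𝔠 _).mpr (h2 j)

theorem le_map_iInf_comap {A B : CommRingCat.{u}} (f : A ⟶ B) (hf : f.hom.Flat) {n : ℕ}
    (C W : Fin n → CommRingCat.{u}) (g : ∀ k, A ⟶ C k) (p1 : ∀ k, B ⟶ W k) (p2 : ∀ k, C k ⟶ W k)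
    (hpo : ∀ k, IsPushout f (g k) (p1 k) (p2 k))
    (𝔟 : Ideal B) (𝔠 : ∀ k, Ideal (C k))
    (h : ∀ k, 𝔟.map (p1 k).hom ≤ (𝔠 k).map (p2 k).hom) :
    𝔟 ≤ (⨅ k, (𝔠 k).comap (g k).hom).map f.hom := by
  classical
  let _ : Algebra A B := f.hom.toAlgebra
  have : Module.Flat A B := hf
  let _ : ∀ k, Algebra A (C k) := fun k => (g k).hom.toAlgebra
  set I : Ideal A := ⨅ k, (𝔠 k).comap (g k).hom with hI
  let ψ₀ : A →ₗ[A] (∀ k, C k ⧸ 𝔠 k) := LinearMap.pi fun k => Algebra.linearMap A (C k ⧸ 𝔠 k)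
  have hψ₀ : ∀ a k, ψ₀ a k = Ideal.Quotient.mk (𝔠 k) ((g k).hom a) := fun a k => rfl
  have hker : LinearMap.ker ψ₀ = I := by
    ext a
    rw [LinearMap.mem_ker, hI, Ideal.mem_iInf]
    constructor
    · intro ha k
      have h0 : ψ₀ a k = 0 := congrFun ha k
      rw [hψ₀] at h0
      exact Ideal.mem_comap.mpr (Ideal.Quotient.eq_zero_iff_mem.mp h0)
    · intro ha
      funext k
      rw [hψ₀]
      exact Ideal.Quotient.eq_zero_iff_mem.mpr (ha k)
  let ψ : (A ⧸ I) →ₗ[A] (∀ k, C k ⧸ 𝔠 k) := Submodule.liftQ I ψ₀ hker.ge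
  have hψ : Function.Injective ψ := by
    rw [← LinearMap.ker_eq_bot]
    exact Submodule.ker_liftQ_eq_bot _ _ _ hker.le
  have hψB : Function.Injective (ψ.lTensor B) :=
    Module.Flat.lTensor_preserves_injective_linearMap ψ hψ
  intro x hx
  have hz : x ⊗ₜ[A] (1 : A ⧸ I) = 0 := by
    apply hψB
    rw [map_zero, LinearMap.lTensor_tmul]
    apply (TensorProduct.piRight A A B (fun k => C k ⧸ 𝔠 k)).injective
    rw [map_zero, TensorProduct.piRight_apply, TensorProduct.piRightHom_tmul]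
    funext k
    have h1 : ψ 1 k = 1 := by
      change ψ₀ 1 k = 1
      rw [hψ₀, map_one, map_one]
    rw [h1]
    -- use the pushout
    let T : CommRingCat.{u} := CommRingCat.of (B ⊗[A] (C k ⧸ 𝔠 k))
    let a : B ⟶ T := CommRingCat.ofHom Algebra.TensorProduct.includeLeftRingHom
    let b : C k ⟶ T := CommRingCat.ofHom
      ((Algebra.TensorProduct.includeRight (R := A) (A := B) (B := C k ⧸ 𝔠 k)).toRingHom.comp
        (Ideal.Quotient.mk (𝔠 k)))
    have w : f ≫ a = g k ≫ b := by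
      ext r
      change (algebraMap A B r) ⊗ₜ[A] (1 : C k ⧸ 𝔠 k) =
        (1 : B) ⊗ₜ[A] (Ideal.Quotient.mk (𝔠 k) (algebraMap A (C k) r))
      have e : Ideal.Quotient.mk (𝔠 k) (algebraMap A (C k) r) = algebraMap A (C k ⧸ 𝔠 k) r := rfl
      rw [e, Algebra.algebraMap_eq_smul_one, Algebra.algebraMap_eq_smul_one (A := C k ⧸ 𝔠 k),
        TensorProduct.smul_tmul]
    let φ : W k ⟶ T := (hpo k).desc a b w
    have hφ1 : φ.hom ((p1 k).hom x) = x ⊗ₜ[A] (1 : C k ⧸ 𝔠 k) := by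
      have := (hpo k).inl_desc a b w
      exact congrArg (fun m => m.hom x) this
    have hφ2 : (𝔠 k).map (p2 k).hom ≤ RingHom.ker φ.hom := by
      rw [Ideal.map_le_iff_le_comap]
      intro c hc
      rw [Ideal.mem_comap, RingHom.mem_ker]
      have := (hpo k).inr_desc a b w
      have h2 : φ.hom ((p2 k).hom c) = (1 : B) ⊗ₜ[A] (Ideal.Quotient.mk (𝔠 k) c) :=
        congrArg (fun m => m.hom c) this
      rw [h2, Ideal.Quotient.eq_zero_iff_mem.mpr hc, TensorProduct.tmul_zero]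
    rw [← hφ1]
    exact hφ2 (h k (Ideal.mem_map_of_mem _ hx))
  have h3 := congrArg (TensorProduct.tensorQuotEquivQuotSMul B I) hz
  rw [map_zero, ← map_one (Ideal.Quotient.mk I), TensorProduct.tensorQuotEquivQuotSMul_tmul_mk,
    one_smul, Submodule.Quotient.mk_eq_zero, Ideal.smul_top_eq_map] at h3
  exact h3

end Groth.Agent.H49.IdealDescent
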