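import Groth.Agent.H49.MagnetPushout2
import Groth.Agent.H49.EqvGlue

/-!
# The cartesian square of attractors attached to `N' = L' \ (L \ N)` (helper49)
-/

set_option autoImplicit false
universe u
open CategoryTheory CategoryTheory.Limits AlgebraicGeometry MonoidalCategory
  CartesianMonoidalCategory Opposite

namespace Groth.Agent.H49.MagnetAttr

open Magnet Magnet.MonAct Groth.Agent.H49.EqvGlue

variable {S : Scheme.{u}} {M : Type} [AddCommMonoid M] {X : Over S}
  (a : MonAct (AMonS S M) X) {N N' L L' : AddSubmonoid M}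
  (hNL : N ≤ L) (hN'L' : N' ≤ L') (hL : IsFace L' L) (hN : IsFace N' N)
  (hdiff : (N' : Set M) = (L' : Set M) \ ((L : Set M) \ (N : Set M)))

lemma isEquivariant_map {N L : AddSubmonoid M} (h : N ≤ L) :
    IsEquivariant (subAct S M L) (subAct S M N) (AMonS.map S (AddSubmonoid.inclusion h)) :=
  MonAct.isEquivariant_restrict_regular _ _ _ (by rw [← AMonS.map_comp]; rfl)

include hdiff in
theorem isPullback_attr :
    IsPullback (attrMap a hN'L') (attrFace a hN) (attrFace a hL) (attrMap a hNL) := by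
  have hU := fun T' : Over S =>
    MagnetPushout.isPushout_faceMap_map_whiskerRight S hNL hN'L' hL hN hdiff T'
  have hepi : ∀ (T'' Z : Over S) (f g : AMonS S ↥N' ⊗ T'' ⟶ Z),
      (AMonS.map S (AddSubmonoid.inclusion hN'L') ▷ T'') ≫ f =
        (AMonS.map S (AddSubmonoid.inclusion hN'L') ▷ T'') ≫ g →
      (AMonS.faceMap S hN ▷ T'') ≫ f = (AMonS.faceMap S hN ▷ T'') ≫ g → f = g :=
    fun T'' Z f g h1 h2 => (hU T'').hom_ext h1 h2
  apply IsPullback.of_forall_isPullback_app
  intro T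
  rw [Types.isPullback_iff]
  refine ⟨?_, ?_, ?_⟩
  · ext φ
    apply Subtype.ext
    show (AMonS.faceMap S hL ▷ unop T) ≫ (AMonS.map S (AddSubmonoid.inclusion hN'L') ▷ unop T) ≫
        φ.1 = (AMonS.map S (AddSubmonoid.inclusion hNL) ▷ unop T) ≫
        (AMonS.faceMap S hN ▷ unop T) ≫ φ.1
    rw [← Category.assoc, (hU (unop T)).w, Category.assoc]
  · rintro φ φ' ⟨h1, h2⟩
    apply Subtype.ext
    have h1' : (AMonS.map S (AddSubmonoid.inclusion hN'L') ▷ unop T) ≫ φ.1 =
        (AMonS.map S (AddSubmonoid.inclusion hN'L') ▷ unop T) ≫ φ'.1 :=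
      congrArg Subtype.val h1
    have h2' : (AMonS.faceMap S hN ▷ unop T) ≫ φ.1 = (AMonS.faceMap S hN ▷ unop T) ≫ φ'.1 :=
      congrArg Subtype.val h2
    exact (hU (unop T)).hom_ext h1' h2'
  · intro φ₁ φ₂ h12
    have h12' : (AMonS.faceMap S hL ▷ unop T) ≫ φ₁.1 =
        (AMonS.map S (AddSubmonoid.inclusion hNL) ▷ unop T) ≫ φ₂.1 :=
      congrArg Subtype.val h12
    have e1 : (AMonS.map S (AddSubmonoid.inclusion hN'L') ▷ unop T) ≫
        (hU (unop T)).desc φ₁.1 φ₂.1 h12' = φ₁.1 := (hU (unop T)).inl_desc _ _ _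
    have e2 : (AMonS.faceMap S hN ▷ unop T) ≫ (hU (unop T)).desc φ₁.1 φ₂.1 h12' = φ₂.1 :=
      (hU (unop T)).inr_desc _ _ _
    have heq : IsEquivariant ((subAct S M N').prod (trivial (AMonS S M) (unop T))) a
        ((hU (unop T)).desc φ₁.1 φ₂.1 h12') := by
      refine isEquivariant_of_jointly_epi a (isEquivariant_map hN'L')
        (isEquivariant_faceMapS S hN) hepi (unop T) _ ?_ ?_
      · rw [e1]; exact φ₁.2
      · rw [e2]; exact φ₂.2
    refine ⟨⟨(hU (unop T)).desc φ₁.1 φ₂.1 h12', heq⟩, ?_, ?_⟩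
    · exact Subtype.ext e1
    · exact Subtype.ext e2

end Groth.Agent.H49.MagnetAttr
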