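import Groth.Prelude.Def_Magnet4
import Groth.Agent.H24.MilnorRing

/-!
# The Milnor square of monoid algebras attached to `N' = L' \ (L \ N)` (helper49)
-/

set_option autoImplicit false
universe u

namespace Groth.Agent.H49.MagnetMilnor

open Magnet Groth.Agent.H24

variable (R : Type u) [CommRing R] {M : Type} [AddCommMonoid M]

section coeff

variable {N F : AddSubmonoid M}

/-- the inclusion of monoid algebras for `N ≤ F` -/
noncomputable abbrev inclAlg (h : N ≤ F) :
    MonoidAlgebra R (Multiplicative ↥N) →ₐ[R] MonoidAlgebra R (Multiplicative ↥F) :=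
  (MonoidAlgebra.mapDomainBialgHom R
    (AddMonoidHom.toMultiplicative (AddSubmonoid.inclusion h))).toAlgHom

lemma inclAlg_single (h : N ≤ F) (n : ↥N) (r : R) :
    inclAlg R h (MonoidAlgebra.single (Multiplicative.ofAdd n) r) =
      MonoidAlgebra.single (Multiplicative.ofAdd (AddSubmonoid.inclusion h n)) r := by
  rw [BialgHom.coe_toAlgHom, MonoidAlgebra.mapDomainBialgHom_single]
  rfl

lemma faceAlgHom_coeff (hF : IsFace N F) (x : MonoidAlgebra R (Multiplicative ↥N)) (f : ↥F) :
    (faceAlgHom R hF x).coeff (Multiplicative.ofAdd f) =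
      x.coeff (Multiplicative.ofAdd (AddSubmonoid.inclusion hF.le f)) := by
  induction x using MonoidAlgebra.induction_linear with
  | zero => rw [map_zero]; rfl
  | add x y hx hy => rw [map_add, MonoidAlgebra.coeff_add, MonoidAlgebra.coeff_add,
      Finsupp.add_apply, Finsupp.add_apply, hx, hy]
  | single m r =>
    classical
    have key : ∀ n : ↥N, (faceAlgHom R hF (MonoidAlgebra.single (Multiplicative.ofAdd n) r)).coeff
        (Multiplicative.ofAdd f) = (MonoidAlgebra.single (Multiplicative.ofAdd n) r).coeff
          (Multiplicative.ofAdd (AddSubmonoid.inclusion hF.le f)) := by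
      intro n
      by_cases hn : (n : M) ∈ F
      · rw [faceAlgHom_single_of_mem R hF n hn, MonoidAlgebra.coeff_single,
          MonoidAlgebra.coeff_single, Finsupp.single_apply, Finsupp.single_apply]
        congr 1
        apply propext
        constructor
        · intro h
          have h' : (⟨n, hn⟩ : ↥F) = f := Multiplicative.ofAdd.injective h
          rw [← h']
          rfl
        · intro h
          have h' : n = AddSubmonoid.inclusion hF.le f := Multiplicative.ofAdd.injective h
          congr 1
          apply Subtype.ext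
          exact congrArg (fun z : ↥N => (z : M)) h'
      · rw [faceAlgHom_single_of_not_mem R hF n hn, MonoidAlgebra.coeff_single,
          Finsupp.single_apply, if_neg]
        · rfl
        · intro h
          have h' : n = AddSubmonoid.inclusion hF.le f := Multiplicative.ofAdd.injective h
          apply hn
          rw [h']
          exact f.2
    exact key (Multiplicative.toAdd m)

lemma inclAlg_coeff (h : N ≤ F) (x : MonoidAlgebra R (Multiplicative ↥N)) (n : ↥N) :
    (inclAlg R h x).coeff (Multiplicative.ofAdd (AddSubmonoid.inclusion h n)) =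
      x.coeff (Multiplicative.ofAdd n) := by
  induction x using MonoidAlgebra.induction_linear with
  | zero => rw [map_zero]; rfl
  | add x y hx hy => rw [map_add, MonoidAlgebra.coeff_add, MonoidAlgebra.coeff_add,
      Finsupp.add_apply, Finsupp.add_apply, hx, hy]
  | single m r =>
    classical
    have key : ∀ n' : ↥N, (inclAlg R h (MonoidAlgebra.single (Multiplicative.ofAdd n') r)).coeff
        (Multiplicative.ofAdd (AddSubmonoid.inclusion h n)) =
        (MonoidAlgebra.single (Multiplicative.ofAdd n') r).coeff (Multiplicative.ofAdd n) := by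
      intro n'
      rw [inclAlg_single, MonoidAlgebra.coeff_single, MonoidAlgebra.coeff_single,
        Finsupp.single_apply, Finsupp.single_apply]
      congr 1
      apply propext
      constructor
      · intro h'
        have h'' : AddSubmonoid.inclusion h n' = AddSubmonoid.inclusion h n :=
          Multiplicative.ofAdd.injective h'
        rw [AddSubmonoid.inclusion_injective h h'']
      · intro h'
        have h'' : n' = n := Multiplicative.ofAdd.injective h'
        rw [h'']
    exact key (Multiplicative.toAdd m)

lemma inclAlg_coeff_of_not_mem (h : N ≤ F) (x : MonoidAlgebra R (Multiplicative ↥N)) (f : ↥F)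
    (hf : (f : M) ∉ N) : (inclAlg R h x).coeff (Multiplicative.ofAdd f) = 0 := by
  induction x using MonoidAlgebra.induction_linear with
  | zero => rw [map_zero]; rfl
  | add x y hx hy => rw [map_add, MonoidAlgebra.coeff_add, Finsupp.add_apply, hx, hy, add_zero]
  | single m r =>
    classical
    have key : ∀ n' : ↥N, (inclAlg R h (MonoidAlgebra.single (Multiplicative.ofAdd n') r)).coeff
        (Multiplicative.ofAdd f) = 0 := by
      intro n'
      rw [inclAlg_single, MonoidAlgebra.coeff_single, Finsupp.single_apply, if_neg]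
      intro h'
      have h'' : AddSubmonoid.inclusion h n' = f := Multiplicative.ofAdd.injective h'
      apply hf
      rw [← h'']
      exact n'.2
    exact key (Multiplicative.toAdd m)

lemma coeff_ext {x y : MonoidAlgebra R (Multiplicative ↥N)}
    (h : ∀ n : ↥N, x.coeff (Multiplicative.ofAdd n) = y.coeff (Multiplicative.ofAdd n)) :
    x = y := by
  apply MonoidAlgebra.coeff_injective
  ext m
  exact h (Multiplicative.toAdd m)

/-- the additive retraction of the inclusion -/
noncomputable def retr (h : N ≤ F) :
    MonoidAlgebra R (Multiplicative ↥F) →+ MonoidAlgebra R (Multiplicative ↥N) :=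
  MonoidAlgebra.comapDomainAddMonoidHom
    (AddMonoidHom.toMultiplicative (AddSubmonoid.inclusion h))
    (fun a b hab => AddSubmonoid.inclusion_injective h hab)

lemma retr_coeff (h : N ≤ F) (x : MonoidAlgebra R (Multiplicative ↥F)) (n : ↥N) :
    (retr R h x).coeff (Multiplicative.ofAdd n) =
      x.coeff (Multiplicative.ofAdd (AddSubmonoid.inclusion h n)) := by
  rw [retr, MonoidAlgebra.comapDomainAddMonoidHom_apply, MonoidAlgebra.coeff_comapDomain,
    Finsupp.comapDomain_apply]
  rfl

lemma retr_inclAlg (h : N ≤ F) (x : MonoidAlgebra R (Multiplicative ↥N)) :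
    retr R h (inclAlg R h x) = x := by
  apply coeff_ext
  intro n
  rw [retr_coeff, inclAlg_coeff]

lemma retr_smul (h : N ≤ F) (r : R) (x : MonoidAlgebra R (Multiplicative ↥F)) :
    retr R h (r • x) = r • retr R h x := by
  apply coeff_ext
  intro n
  rw [retr_coeff, MonoidAlgebra.coeff_smul, MonoidAlgebra.coeff_smul, Finsupp.smul_apply,
    Finsupp.smul_apply, retr_coeff]

end coeff

section milnor

variable {N N' L L' : AddSubmonoid M} (hNL : N ≤ L) (hN'L' : N' ≤ L') (hL : IsFace L' L)
  (hN : IsFace N' N) (hdiff : (N' : Set M) = (L' : Set M) \ ((L : Set M) \ (N : Set M)))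

include hdiff in
/-- the Milnor square `R[N'] = R[N] ×_{R[L]} R[L']` -/
theorem milnorSq :
    MilnorSq (faceAlgHom R hN).toRingHom (inclAlg R hN'L').toRingHom
      (inclAlg R hNL).toRingHom (faceAlgHom R hL).toRingHom := by
  have hmem : ∀ x : M, x ∈ N' ↔ x ∈ L' ∧ ¬ (x ∈ L ∧ x ∉ N) := by
    intro x
    have := Set.ext_iff.mp hdiff x
    exact this
  refine ⟨?_, ?_, ?_, ?_⟩
  · intro c
    show inclAlg R hNL (faceAlgHom R hN c) = faceAlgHom R hL (inclAlg R hN'L' c)
    apply coeff_ext
    intro l
    rw [faceAlgHom_coeff]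
    by_cases hl : (l : M) ∈ N
    · have h1 := inclAlg_coeff R hNL (faceAlgHom R hN c) ⟨l, hl⟩
      have e1 : AddSubmonoid.inclusion hNL ⟨l, hl⟩ = l := Subtype.ext rfl
      rw [e1] at h1
      rw [h1, faceAlgHom_coeff]
      have h2 := inclAlg_coeff R hN'L' c (AddSubmonoid.inclusion hN.le ⟨l, hl⟩)
      have e2 : AddSubmonoid.inclusion hN'L' (AddSubmonoid.inclusion hN.le ⟨l, hl⟩) =
          AddSubmonoid.inclusion hL.le l := Subtype.ext rfl
      rw [e2] at h2
      rw [h2]
    · rw [inclAlg_coeff_of_not_mem R hNL _ l hl, inclAlg_coeff_of_not_mem R hN'L' c]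
      intro h'
      have := (hmem _).mp h'
      exact this.2 ⟨l.2, hl⟩
  · intro a
    refine ⟨inclAlg R hL.le a, ?_⟩
    exact congrArg (fun φ : _ →ₐ[R] _ => φ a) (faceAlgHom_comp_mapDomain R hL)
  · intro b a' hba
    have hba' : inclAlg R hNL b = faceAlgHom R hL a' := hba
    refine ⟨retr R hN'L' a', ?_, ?_⟩
    · show faceAlgHom R hN (retr R hN'L' a') = b
      apply coeff_ext
      intro n
      rw [faceAlgHom_coeff, retr_coeff, ← inclAlg_coeff R hNL b n, hba', faceAlgHom_coeff]
      rfl
    · show inclAlg R hN'L' (retr R hN'L' a') = a'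
      apply coeff_ext
      intro l'
      by_cases hl' : (l' : M) ∈ N'
      · have h1 := inclAlg_coeff R hN'L' (retr R hN'L' a') ⟨l', hl'⟩
        have e1 : AddSubmonoid.inclusion hN'L' ⟨l', hl'⟩ = l' := Subtype.ext rfl
        rw [e1] at h1
        rw [h1, retr_coeff, e1]
      · rw [inclAlg_coeff_of_not_mem R hN'L' _ l' hl']
        have hLN : (l' : M) ∈ L ∧ (l' : M) ∉ N := by
          by_contra hcon
          exact hl' ((hmem _).mpr ⟨l'.2, hcon⟩)
        have h2 := faceAlgHom_coeff R hL a' ⟨l', hLN.1⟩
        have e2 : AddSubmonoid.inclusion hL.le ⟨l', hLN.1⟩ = l' := Subtype.ext rfl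
        rw [e2] at h2
        rw [← h2, ← hba', inclAlg_coeff_of_not_mem R hNL b ⟨l', hLN.1⟩ hLN.2]
  · intro c c' _ h2
    have h2' : inclAlg R hN'L' c = inclAlg R hN'L' c' := h2
    rw [← retr_inclAlg R hN'L' c, h2', retr_inclAlg]

end milnor

end Groth.Agent.H49.MagnetMilnor
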