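import Groth.Agent.H49.MagnetMilnor
import Groth.Agent.H49.AffineMilnorBC2

/-!
# The pushout square of diagonalizable monoid schemes attached to `N' = L' \ (L \ N)` (helper49)
-/

set_option autoImplicit false
universe u
open CategoryTheory CategoryTheory.Limits AlgebraicGeometry

namespace Groth.Agent.H49.MagnetPushout

open Magnet Groth.Agent.H24 Groth.Agent.H49.MagnetMilnor Groth.Agent.H49.AffineMilnorBC

lemma intCast_surjective_ΓSpec :
    ∀ r : Γ(Spec (CommRingCat.of (ULift.{u} ℤ)), ⊤),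
      ∃ n : ℤ, r = (n : Γ(Spec (CommRingCat.of (ULift.{u} ℤ)), ⊤)) := by
  intro r
  let e := (Scheme.ΓSpecIso (CommRingCat.of (ULift.{u} ℤ))).commRingCatIsoToRingEquiv
  refine ⟨(e r).down, ?_⟩
  apply e.injective
  rw [map_intCast]
  apply ULift.ext
  rw [ULift.down_intCast, Int.cast_id]

variable (S : Scheme.{u}) {M : Type} [AddCommMonoid M] {N N' L L' : AddSubmonoid M}
  (hNL : N ≤ L) (hN'L' : N' ≤ L') (hL : IsFace L' L) (hN : IsFace N' N)
  (hdiff : (N' : Set M) = (L' : Set M) \ ((L : Set M) \ (N : Set M)))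

include hdiff in
theorem isPushout_faceMap_map :
    IsPushout (AMonS.faceMap S hL) (AMonS.map S (AddSubmonoid.inclusion hNL))
      (AMonS.map S (AddSubmonoid.inclusion hN'L')) (AMonS.faceMap S hN) := by
  have hMr := MagnetMilnor.milnorSq (ULift.{u} ℤ) hNL hN'L' hL hN hdiff
  have e₀ : AMon.faceMap (ULift.{u} ℤ) hL ≫ AMon.map (ULift.{u} ℤ) (AddSubmonoid.inclusion hN'L') =
      AMon.map (ULift.{u} ℤ) (AddSubmonoid.inclusion hNL) ≫ AMon.faceMap (ULift.{u} ℤ) hN := by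
    apply Over.OverMorphism.ext
    rw [Over.comp_left, Over.comp_left, AMon.faceMap_left, AMon.faceMap_left, AMon.map_left,
      AMon.map_left]
    change Spec.map _ ≫ Spec.map _ = Spec.map _ ≫ Spec.map _
    rw [← Spec.map_comp, ← Spec.map_comp]
    congr 1
    apply CommRingCat.hom_ext
    apply RingHom.ext
    intro c
    exact (hMr.comm c).symm
  have hM := milnorSq_appTop_Spec
    (fst := CommRingCat.ofHom (faceAlgHom (ULift.{u} ℤ) hN).toRingHom)
    (snd := CommRingCat.ofHom (inclAlg (ULift.{u} ℤ) hN'L').toRingHom)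
    (q := CommRingCat.ofHom (inclAlg (ULift.{u} ℤ) hNL).toRingHom)
    (p := CommRingCat.ofHom (faceAlgHom (ULift.{u} ℤ) hL).toRingHom) hMr
  let iX := Scheme.ΓSpecIso (CommRingCat.of (MonoidAlgebra (ULift.{u} ℤ) (Multiplicative ↥L')))
  let iP := Scheme.ΓSpecIso (CommRingCat.of (MonoidAlgebra (ULift.{u} ℤ) (Multiplicative ↥N')))
  let ρ' : Γ(Spec (CommRingCat.of (MonoidAlgebra (ULift.{u} ℤ) (Multiplicative ↥L'))), ⊤) →+
      Γ(Spec (CommRingCat.of (MonoidAlgebra (ULift.{u} ℤ) (Multiplicative ↥N'))), ⊤) :=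
    (iP.inv.hom : _ →+* _).toAddMonoidHom.comp
      ((retr (ULift.{u} ℤ) hN'L').comp (iX.hom.hom : _ →+* _).toAddMonoidHom)
  have hρ' : ∀ x, ρ' ((Spec.map (CommRingCat.ofHom
      (inclAlg (ULift.{u} ℤ) hN'L').toRingHom)).appTop.hom x) = x := by
    intro x
    show iP.inv.hom (retr (ULift.{u} ℤ) hN'L' (iX.hom.hom ((Spec.map (CommRingCat.ofHom
      (inclAlg (ULift.{u} ℤ) hN'L').toRingHom)).appTop.hom x))) = x
    have hnat : iX.hom.hom ((Spec.map (CommRingCat.ofHom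
        (inclAlg (ULift.{u} ℤ) hN'L').toRingHom)).appTop.hom x) =
        inclAlg (ULift.{u} ℤ) hN'L' (iP.hom.hom x) :=
      congrArg (fun m : Γ(Spec _, ⊤) ⟶ _ => m.hom x)
        (Scheme.ΓSpecIso_naturality (CommRingCat.ofHom (inclAlg (ULift.{u} ℤ) hN'L').toRingHom))
    rw [hnat, retr_inclAlg]
    exact congrArg (fun m : Γ(Spec _, ⊤) ⟶ Γ(Spec _, ⊤) => m.hom x) iP.hom_inv_id
  haveI : IsAffine (AMon (ULift.{u} ℤ) ↥L).left := inferInstanceAs (IsAffine (Spec _))
  haveI : IsAffine (AMon (ULift.{u} ℤ) ↥L').left := inferInstanceAs (IsAffine (Spec _))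
  haveI : IsAffine (AMon (ULift.{u} ℤ) ↥N).left := inferInstanceAs (IsAffine (Spec _))
  haveI : IsAffine (AMon (ULift.{u} ℤ) ↥N').left := inferInstanceAs (IsAffine (Spec _))
  exact isPushout_overPullback (Limits.IsTerminal.from specULiftZIsTerminal S)
    (AMon.faceMap (ULift.{u} ℤ) hL) (AMon.map (ULift.{u} ℤ) (AddSubmonoid.inclusion hNL))
    (AMon.map (ULift.{u} ℤ) (AddSubmonoid.inclusion hN'L')) (AMon.faceMap (ULift.{u} ℤ) hN) e₀ hM
    intCast_surjective_ΓSpec ρ' hρ'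

end Groth.Agent.H49.MagnetPushout
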