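import Mathlib
import Groth.Agent.H49.EqvGlue

/-!
# Actions on pushouts (helper49)

In a cartesian monoidal category, a pushout of a span of equivariant morphisms which stays a
pushout after `A ⊗ -` (and whose legs stay jointly epimorphic after `(A ⊗ A) ⊗ -`) carries a
unique action making the legs equivariant, and it is then a pushout for equivariant morphisms.
-/

set_option autoImplicit false
universe v₁ u₁
open CategoryTheory CategoryTheory.Limits MonoidalCategory CartesianMonoidalCategory MonObj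

namespace Groth.Agent.H49.PushoutAct

open Magnet Magnet.MonAct

variable {C : Type u₁} [Category.{v₁} C] [CartesianMonoidalCategory C]
  {A W X Y P : C} [MonObj A]
  {θ₁ : W ⟶ X} {θ₂ : W ⟶ Y} {ν₁ : X ⟶ P} {ν₂ : Y ⟶ P}

lemma isEquivariant_fst {B T : C} (ρ : MonAct A B) :
    IsEquivariant (ρ.prod (trivial A T)) ρ (fst B T) := by
  rw [isEquivariant_iff]
  intro T' g z
  rw [← lift_comp_fst_snd z, lift_prod_act_assoc, lift_fst, lift_fst]

theorem exists_action (hP : IsPushout θ₁ θ₂ ν₁ ν₂)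
    (hA : IsPushout (A ◁ θ₁) (A ◁ θ₂) (A ◁ ν₁) (A ◁ ν₂))
    (hAA : ∀ (Z : C) (f g : (A ⊗ A) ⊗ P ⟶ Z), ((A ⊗ A) ◁ ν₁) ≫ f = ((A ⊗ A) ◁ ν₁) ≫ g →
      ((A ⊗ A) ◁ ν₂) ≫ f = ((A ⊗ A) ◁ ν₂) ≫ g → f = g)
    (aW : MonAct A W) (aX : MonAct A X) (aY : MonAct A Y)
    (hθ₁ : IsEquivariant aW aX θ₁) (hθ₂ : IsEquivariant aW aY θ₂) :
    ∃ aP : MonAct A P, IsEquivariant aX aP ν₁ ∧ IsEquivariant aY aP ν₂ ∧
      ∀ (Z : C) (aZ : MonAct A Z) (f₁ : X ⟶ Z) (f₂ : Y ⟶ Z) (w : θ₁ ≫ f₁ = θ₂ ≫ f₂),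
        IsEquivariant aX aZ f₁ → IsEquivariant aY aZ f₂ →
        IsEquivariant aP aZ (hP.desc f₁ f₂ w) := by
  unfold IsEquivariant at hθ₁ hθ₂
  have hcomp : (A ◁ θ₁) ≫ aX.act ≫ ν₁ = (A ◁ θ₂) ≫ aY.act ≫ ν₂ := by
    rw [← Category.assoc, ← hθ₁, ← Category.assoc, ← hθ₂, Category.assoc, Category.assoc, hP.w]
  let act : A ⊗ P ⟶ P := hA.desc (aX.act ≫ ν₁) (aY.act ≫ ν₂) hcomp
  have e1 : (A ◁ ν₁) ≫ act = aX.act ≫ ν₁ := hA.inl_desc _ _ _
  have e2 : (A ◁ ν₂) ≫ act = aY.act ≫ ν₂ := hA.inr_desc _ _ _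
  have hone : (η[A] ▷ P) ≫ act = (λ_ P).hom := by
    have key : (λ_ P).inv ≫ (η[A] ▷ P) ≫ act = 𝟙 P := by
      apply hP.hom_ext
      · rw [Category.comp_id, leftUnitor_inv_naturality_assoc, whisker_exchange_assoc, e1,
          ← Category.assoc (η[A] ▷ X), aX.one_act]
        simp
      · rw [Category.comp_id, leftUnitor_inv_naturality_assoc, whisker_exchange_assoc, e2,
          ← Category.assoc (η[A] ▷ Y), aY.one_act]
        simp
    rw [← cancel_epi (λ_ P).inv, key, Iso.inv_hom_id]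
  have hmul : (μ[A] ▷ P) ≫ act = (α_ A A P).hom ≫ (A ◁ act) ≫ act := by
    apply hAA
    · have l : ((A ⊗ A) ◁ ν₁) ≫ (μ[A] ▷ P) ≫ act =
          (α_ A A X).hom ≫ (A ◁ aX.act) ≫ aX.act ≫ ν₁ := by
        rw [whisker_exchange_assoc, e1, ← Category.assoc, aX.mul_act]
        simp only [Category.assoc]
      have r : ((A ⊗ A) ◁ ν₁) ≫ (α_ A A P).hom ≫ (A ◁ act) ≫ act =
          (α_ A A X).hom ≫ (A ◁ aX.act) ≫ aX.act ≫ ν₁ := by
        rw [associator_naturality_right_assoc, ← MonoidalCategory.whiskerLeft_comp_assoc, e1,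
          MonoidalCategory.whiskerLeft_comp_assoc, e1]
      rw [l, r]
    · have l : ((A ⊗ A) ◁ ν₂) ≫ (μ[A] ▷ P) ≫ act =
          (α_ A A Y).hom ≫ (A ◁ aY.act) ≫ aY.act ≫ ν₂ := by
        rw [whisker_exchange_assoc, e2, ← Category.assoc, aY.mul_act]
        simp only [Category.assoc]
      have r : ((A ⊗ A) ◁ ν₂) ≫ (α_ A A P).hom ≫ (A ◁ act) ≫ act =
          (α_ A A Y).hom ≫ (A ◁ aY.act) ≫ aY.act ≫ ν₂ := by
        rw [associator_naturality_right_assoc, ← MonoidalCategory.whiskerLeft_comp_assoc, e2,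
          MonoidalCategory.whiskerLeft_comp_assoc, e2]
      rw [l, r]
  refine ⟨⟨act, hone, hmul⟩, e1.symm, e2.symm, ?_⟩
  intro Z aZ f₁ f₂ w h1 h2
  unfold IsEquivariant at h1 h2 ⊢
  show act ≫ hP.desc f₁ f₂ w = (A ◁ hP.desc f₁ f₂ w) ≫ aZ.act
  apply hA.hom_ext
  · rw [← Category.assoc, e1, Category.assoc, hP.inl_desc, h1, ← Category.assoc,
      ← MonoidalCategory.whiskerLeft_comp, hP.inl_desc]
  · rw [← Category.assoc, e2, Category.assoc, hP.inr_desc, h2, ← Category.assoc,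
      ← MonoidalCategory.whiskerLeft_comp, hP.inr_desc]

end Groth.Agent.H49.PushoutAct
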