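import Groth.Agent.H49.FlatWhisker
import Groth.Agent.H49.PushoutAct
import Groth.Agent.H49.AffineMilnorBC3
import Groth.Prelude.Def_Magnet4

/-!
# The equivariant pushout `A(F)_T ⊔_{A(F)_T̄} A(N)_T̄` (helper49)
-/

set_option autoImplicit false
universe u
open CategoryTheory CategoryTheory.Limits AlgebraicGeometry MonoidalCategory
  CartesianMonoidalCategory MonObj

namespace Groth.Agent.H49.MagnetThick

open Magnet Magnet.MonAct Groth.Agent.H49.Ferrand

section flat

variable (M : Type) [AddCommMonoid M]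

instance flat_AMon_hom (R : Type u) [CommRing R] : Flat (AMon R M).hom := by
  show Flat (Spec.map (CommRingCat.ofHom
    (algebraMap R (MonoidAlgebra R (Multiplicative M)))))
  rw [Flat.SpecMap_iff, CommRingCat.hom_ofHom]
  haveI : Module.Free R (MonoidAlgebra R (Multiplicative M)) :=
    Module.Free.of_equiv (MonoidAlgebra.coeffLinearEquiv R).symm
  exact RingHom.flat_algebraMap_iff.2 inferInstance

instance flat_AMonS_hom (T : Scheme.{u}) : Flat (AMonS T M).hom :=
  show Flat (pullback.snd (AMon (ULift.{u} ℤ) M).hom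
    (Limits.IsTerminal.from specULiftZIsTerminal T)) from inferInstance

instance flat_tensor_hom {T : Scheme.{u}} (G H : Over T) [Flat G.hom] [Flat H.hom] :
    Flat (G ⊗ H).hom := by
  rw [Over.tensorObj_hom]
  infer_instance

end flat

section ci

variable {M : Type} [AddCommMonoid M] {N F : AddSubmonoid M}

lemma isClosedImmersion_faceMap_left (R : Type u) [CommRing R] (hF : IsFace N F) :
    IsClosedImmersion (AMon.faceMap R hF).left := by
  rw [AMon.faceMap_left]
  apply IsClosedImmersion.spec_of_surjective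
  intro x
  refine ⟨(MonoidAlgebra.mapDomainBialgHom R
    (AddMonoidHom.toMultiplicative (AddSubmonoid.inclusion hF.le))).toAlgHom x, ?_⟩
  exact congrArg (fun φ : _ →ₐ[R] _ => φ x) (faceAlgHom_comp_mapDomain R hF)

lemma isClosedImmersion_faceMapS_left (T : Scheme.{u}) (hF : IsFace N F) :
    IsClosedImmersion (AMonS.faceMap T hF).left := by
  haveI := isClosedImmersion_faceMap_left (ULift.{u} ℤ) hF
  exact MorphismProperty.of_isPullback (P := @IsClosedImmersion)
    (isPullback_overPullback_map (Limits.IsTerminal.from specULiftZIsTerminal T)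
      (AMon.faceMap (ULift.{u} ℤ) hF)) inferInstance

end ci

theorem exists_equivariant_pushout (T : Scheme.{u}) [IsAffine T] (M : Type) [AddCommMonoid M]
    {N F : AddSubmonoid M} (hF : IsFace N F) (Tb : Over T) [IsClosedImmersion Tb.hom] :
    ∃ (P : Over T) (ν₁ : AMonS T F ⟶ P) (ν₂ : AMonS T N ⊗ Tb ⟶ P)
      (hP : IsPushout (fst (AMonS T F) Tb) (AMonS.faceMap T hF ▷ Tb) ν₁ ν₂)
      (aP : MonAct (AMonS T M) P),
      IsAffine P.left ∧ IsEquivariant (subAct T M F) aP ν₁ ∧
      IsEquivariant ((subAct T M N).prod (trivial (AMonS T M) Tb)) aP ν₂ ∧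
      ∀ (X : Over T) (aX : MonAct (AMonS T M) X) (f₁ : AMonS T F ⟶ X)
        (f₂ : AMonS T N ⊗ Tb ⟶ X)
        (w : fst (AMonS T F) Tb ≫ f₁ = (AMonS.faceMap T hF ▷ Tb) ≫ f₂),
        IsEquivariant (subAct T M F) aX f₁ →
        IsEquivariant ((subAct T M N).prod (trivial (AMonS T M) Tb)) aX f₂ →
        IsEquivariant aP aX (hP.desc f₁ f₂ w) := by
  haveI : IsAffine Tb.left := isAffine_of_isAffineHom Tb.hom
  haveI : IsAffine (AMon (ULift.{u} ℤ) ↥F).left := inferInstanceAs (IsAffine (Spec _))
  haveI : IsAffine (AMon (ULift.{u} ℤ) ↥N).left := inferInstanceAs (IsAffine (Spec _))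
  haveI hAF : IsAffine (AMonS T F).left :=
    show IsAffine (pullback (AMon (ULift.{u} ℤ) F).hom
      (Limits.IsTerminal.from specULiftZIsTerminal T)) from inferInstance
  haveI hAN : IsAffine (AMonS T N).left :=
    show IsAffine (pullback (AMon (ULift.{u} ℤ) N).hom
      (Limits.IsTerminal.from specULiftZIsTerminal T)) from inferInstance
  haveI : IsAffine (AMonS T F ⊗ Tb).left :=
    show IsAffine (pullback (AMonS T F).hom Tb.hom) from inferInstance
  haveI : IsAffine (AMonS T N ⊗ Tb).left :=
    show IsAffine (pullback (AMonS T N).hom Tb.hom) from inferInstance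
  haveI : IsClosedImmersion (fst (AMonS T F) Tb).left :=
    show IsClosedImmersion (pullback.fst (AMonS T F).hom Tb.hom) from inferInstance
  haveI := isClosedImmersion_faceMapS_left T hF
  haveI : IsClosedImmersion (AMonS.faceMap T hF ▷ Tb).left :=
    MorphismProperty.of_isPullback (P := @IsClosedImmersion)
      (AffineMilnorBC.isPullback_whiskerRight_left (AMonS.faceMap T hF) Tb) inferInstance
  obtain ⟨P, ν₁, ν₂, hPa, hP⟩ := FlatWhisker.exists_affine_pushout_over
    (fst (AMonS T F) Tb) (AMonS.faceMap T hF ▷ Tb)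
  have hA := FlatWhisker.isPushout_whiskerLeft_of_flat hP (AMonS T M)
  have hAA := FlatWhisker.isPushout_whiskerLeft_of_flat hP (AMonS T M ⊗ AMonS T M)
  obtain ⟨aP, h1, h2, h3⟩ := PushoutAct.exists_action hP hA
    (fun Z f g e1 e2 => hAA.hom_ext e1 e2)
    ((subAct T M F).prod (trivial (AMonS T M) Tb)) (subAct T M F)
    ((subAct T M N).prod (trivial (AMonS T M) Tb))
    (PushoutAct.isEquivariant_fst (subAct T M F))
    (EqvGlue.isEquivariant_whiskerRight (isEquivariant_faceMapS T hF) Tb)
  exact ⟨P, ν₁, ν₂, hP, aP, hPa, h1, h2, fun X aX f₁ f₂ w e1 e2 => h3 X aX f₁ f₂ w e1 e2⟩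

end Groth.Agent.H49.MagnetThick
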