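import Mathlib
import Groth.Agent.H54.ZMT

/-!
Characterization of the normalization of an integral scheme (helper49).
-/

set_option autoImplicit false
universe u

open AlgebraicGeometry CategoryTheory Limits IsLocalRing

namespace Groth.Agent.H49.NormIso

section General

/-- A morphism from the spectrum of a local ring which is `Spec.map φ ≫ fromSpecStalk z`. -/
theorem stalkClosedPointTo_spec_fromSpecStalk {Z : Scheme.{u}} {R : CommRingCat.{u}}
    [IsLocalRing R] (z : Z) (φ : Z.presheaf.stalk z ⟶ R) [IsLocalHom φ.hom] [IsIso φ]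
    (g : Spec R ⟶ Z) (hg : g = Spec.map φ ≫ Z.fromSpecStalk z) :
    g (closedPoint R) = z ∧ IsIso (Scheme.stalkClosedPointTo g) := by
  subst hg
  have h := (SpecToEquivOfLocalRing Z R).right_inv ⟨z, φ, inferInstance⟩
  obtain ⟨h₁, h₂⟩ := SpecToEquivOfLocalRing_eq_iff.mp h
  have h₁' : (Spec.map φ ≫ Z.fromSpecStalk z) (closedPoint R) = z := h₁
  refine ⟨h₁', ?_⟩
  have h₂' : Scheme.stalkClosedPointTo (Spec.map φ ≫ Z.fromSpecStalk z) =
      (Z.presheaf.stalkCongr (Inseparable.of_eq h₁')).hom ≫ φ := h₂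
  rw [h₂']
  infer_instance

theorem isIso_stalkClosedPointTo_of_eq_fromSpecStalk {Z : Scheme.{u}} (z : Z)
    (g : Spec (Z.presheaf.stalk z) ⟶ Z) (hg : g = Z.fromSpecStalk z) :
    IsIso (Scheme.stalkClosedPointTo g) := by
  subst hg
  rw [Scheme.stalkClosedPointTo_fromSpecStalk]
  infer_instance

theorem injective_of_eq_genericPoint {Z : Scheme.{u}} [IsIntegral Z] (z : Z)
    (hz : z = genericPoint Z) {S : CommRingCat.{u}} [Nontrivial S] (g : Z.presheaf.stalk z ⟶ S) :
    Function.Injective g.hom := by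
  subst hz
  exact RingHom.injective g.hom

theorem genericPoint_mem_of_nonempty (X : Scheme.{u}) [IsIntegral X] (U : X.Opens)
    (h : (U : Set X).Nonempty) : genericPoint X ∈ U :=
  ((genericPoint_spec X).mem_open_set_iff U.isOpen).mpr (by simpa using h)

end General

section Generic

variable (X : Scheme.{u}) [IsIntegral X]

/-- The inclusion of the generic point. -/
noncomputable abbrev gj : Spec (X.presheaf.stalk (genericPoint X)) ⟶ X :=
  X.fromSpecStalk (genericPoint X)

theorem gj_apply (p : Spec (X.presheaf.stalk (genericPoint X))) : gj X p = genericPoint X := by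
  have : p = closedPoint (X.presheaf.stalk (genericPoint X)) :=
    Subsingleton.elim (α := PrimeSpectrum _) _ _
  rw [this]
  exact Scheme.fromSpecStalk_closedPoint

theorem gj_preimage (U : X.Opens) (h : (U : Set X).Nonempty) : gj X ⁻¹ᵁ U = ⊤ :=
  eq_top_iff.mpr fun p _ => by
    show gj X p ∈ U
    rw [gj_apply]
    exact genericPoint_mem_of_nonempty X U h

variable [QuasiCompact (gj X)] [QuasiSeparated (gj X)]

/-- The normalization is normal. -/
theorem isIntegrallyClosed_stalk_normalization (x' : (gj X).normalization) :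
    IsIntegrallyClosed ((gj X).normalization.presheaf.stalk x') := by
  obtain ⟨U, hU, hxU, -⟩ := exists_isAffineOpen_mem_and_subset
    (x := (gj X).fromNormalization x') (U := (⊤ : X.Opens)) trivial
  have hne : (U : Set X).Nonempty := ⟨_, hxU⟩
  have hV : IsAffineOpen ((gj X).fromNormalization ⁻¹ᵁ U) := hU.preimage _
  have hx'V : x' ∈ (gj X).fromNormalization ⁻¹ᵁ U := hxU
  haveI : Nonempty ((gj X).fromNormalization ⁻¹ᵁ U : (gj X).normalization.Opens) :=
    ⟨⟨x', hx'V⟩⟩
  have htop := gj_preimage X U hne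
  letI : Algebra Γ(X, U) Γ(Spec (X.presheaf.stalk (genericPoint X)), gj X ⁻¹ᵁ U) :=
    ((gj X).app U).hom.toAlgebra
  let eB : X.presheaf.stalk (genericPoint X) ≅
      Γ(Spec (X.presheaf.stalk (genericPoint X)), gj X ⁻¹ᵁ U) :=
    (Scheme.ΓSpecIso _).symm ≪≫ (Spec _).presheaf.mapIso (eqToIso htop).op
  haveI : IsDomain Γ(Spec (X.presheaf.stalk (genericPoint X)), gj X ⁻¹ᵁ U) :=
    MulEquiv.isDomain (X.presheaf.stalk (genericPoint X))
      eB.commRingCatIsoToRingEquiv.symm.toMulEquiv
  haveI : IsIntegrallyClosed Γ(Spec (X.presheaf.stalk (genericPoint X)), gj X ⁻¹ᵁ U) :=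
    IsIntegrallyClosed.of_equiv eB.commRingCatIsoToRingEquiv
  haveI h1 : IsIntegrallyClosed (integralClosure Γ(X, U)
      Γ(Spec (X.presheaf.stalk (genericPoint X)), gj X ⁻¹ᵁ U)) :=
    IsIntegrallyClosed.of_isIntegrallyClosed_of_isIntegrallyClosedIn _
      Γ(Spec (X.presheaf.stalk (genericPoint X)), gj X ⁻¹ᵁ U)
  haveI : IsIntegrallyClosed Γ((gj X).normalization, (gj X).fromNormalization ⁻¹ᵁ U) :=
    @IsIntegrallyClosed.of_equiv _ _ _ _
      ((gj X).normalizationObjIso hU).commRingCatIsoToRingEquiv.symm h1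
  letI := (gj X).normalization.presheaf.algebra_section_stalk ⟨x', hx'V⟩
  haveI := hV.isLocalization_stalk ⟨x', hx'V⟩
  exact isIntegrallyClosed_of_isLocalization _ (hV.primeIdealOf ⟨x', hx'V⟩).asIdeal.primeCompl
    (Ideal.primeCompl_le_nonZeroDivisors _)

theorem toNormalization_apply (p : Spec (X.presheaf.stalk (genericPoint X))) :
    (gj X).toNormalization p = genericPoint (gj X).normalization := by
  have hd : DenseRange (gj X).toNormalization := (gj X).toNormalization.denseRange
  have hr : Set.range (gj X).toNormalization = {(gj X).toNormalization p} := by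
    ext z
    constructor
    · rintro ⟨q, rfl⟩
      rw [Subsingleton.elim (α := PrimeSpectrum _) q p]
      rfl
    · rintro rfl
      exact ⟨p, rfl⟩
  have hg : IsGenericPoint ((gj X).toNormalization p) (⊤ : Set (gj X).normalization) := by
    rw [isGenericPoint_def, ← hr, hd.closure_range]
    rfl
  exact hg.eq (genericPoint_spec _)

theorem fromNormalization_genericPoint :
    (gj X).fromNormalization (genericPoint (gj X).normalization) = genericPoint X := by
  rw [← toNormalization_apply X (closedPoint _), ← Scheme.Hom.comp_apply,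
    Scheme.Hom.toNormalization_fromNormalization, gj_apply]

theorem eq_genericPoint_of_fromNormalization_eq (x' : (gj X).normalization)
    (hx' : (gj X).fromNormalization x' = genericPoint X) :
    x' = genericPoint (gj X).normalization := by
  obtain ⟨U, hU, hηU, -⟩ := exists_isAffineOpen_mem_and_subset
    (x := genericPoint X) (U := (⊤ : X.Opens)) trivial
  have hV : IsAffineOpen ((gj X).fromNormalization ⁻¹ᵁ U) := hU.preimage _
  have hx'V : x' ∈ (gj X).fromNormalization ⁻¹ᵁ U := by
    show (gj X).fromNormalization x' ∈ U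
    rw [hx']; exact hηU
  haveI : Nonempty ((gj X).fromNormalization ⁻¹ᵁ U : (gj X).normalization.Opens) :=
    ⟨⟨x', hx'V⟩⟩
  haveI : Nonempty (U : X.Opens) := ⟨⟨_, hηU⟩⟩
  have hη'V : genericPoint (gj X).normalization ∈ (gj X).fromNormalization ⁻¹ᵁ U :=
    genericPoint_mem_of_nonempty _ _ ⟨x', hx'V⟩
  letI : Algebra Γ(X, U) Γ((gj X).normalization, (gj X).fromNormalization ⁻¹ᵁ U) :=
    ((gj X).fromNormalization.app U).hom.toAlgebra
  haveI : Algebra.IsIntegral Γ(X, U)
      Γ((gj X).normalization, (gj X).fromNormalization ⁻¹ᵁ U) :=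
    ⟨(gj X).fromNormalization.isIntegral_app U hU⟩
  have h1 := IsAffineOpen.comap_primeIdealOf_appLE (f := (gj X).fromNormalization) U hU _ hV
    le_rfl hx'V
  rw [Scheme.Hom.appLE_eq_app] at h1
  have h2 : hU.primeIdealOf ⟨(gj X).fromNormalization x', hx'V⟩ =
      hU.primeIdealOf ⟨genericPoint X, hηU⟩ := by
    congr 1
    exact Subtype.ext hx'
  have h3 : hU.primeIdealOf ⟨genericPoint X, hηU⟩ = (⊥ : PrimeSpectrum Γ(X, U)) := by
    rw [hU.primeIdealOf_genericPoint, genericPoint_eq_bot_of_affine]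
  have h4 : (hV.primeIdealOf ⟨x', hx'V⟩).asIdeal = ⊥ := by
    apply Ideal.eq_bot_of_comap_eq_bot (R := Γ(X, U))
    exact congrArg PrimeSpectrum.asIdeal (h1.trans (h2.trans h3))
  have h5 : hV.primeIdealOf ⟨x', hx'V⟩ =
      hV.primeIdealOf ⟨genericPoint (gj X).normalization, hη'V⟩ := by
    rw [hV.primeIdealOf_genericPoint, genericPoint_eq_bot_of_affine]
    exact PrimeSpectrum.ext h4
  have h6 := congrArg (fun p => hV.fromSpec p) h5
  simp only [hV.fromSpec_primeIdealOf] at h6
  exact h6

theorem isIso_stalkClosedPointTo_toNormalization :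
    IsIso (Scheme.stalkClosedPointTo (gj X).toNormalization) := by
  have h1 : IsIso (Scheme.stalkClosedPointTo ((gj X).toNormalization ≫
      (gj X).fromNormalization)) :=
    isIso_stalkClosedPointTo_of_eq_fromSpecStalk _ _
      (gj X).toNormalization_fromNormalization
  rw [Scheme.stalkClosedPointTo_comp] at h1
  have hbij := (ConcreteCategory.isIso_iff_bijective _).mp h1
  rw [ConcreteCategory.isIso_iff_bijective]
  refine ⟨injective_of_eq_genericPoint _ (toNormalization_apply X _) _, ?_⟩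
  have hs : Function.Surjective ((Scheme.stalkClosedPointTo (gj X).toNormalization).hom ∘
      ((gj X).fromNormalization.stalkMap ((gj X).toNormalization (closedPoint _))).hom) :=
    hbij.2
  exact hs.of_comp

theorem isIso_stalkMap_fromNormalization :
    IsIso ((gj X).fromNormalization.stalkMap (genericPoint (gj X).normalization)) := by
  have h1 : IsIso (Scheme.stalkClosedPointTo ((gj X).toNormalization ≫
      (gj X).fromNormalization)) :=
    isIso_stalkClosedPointTo_of_eq_fromSpecStalk _ _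
      (gj X).toNormalization_fromNormalization
  rw [Scheme.stalkClosedPointTo_comp] at h1
  haveI := isIso_stalkClosedPointTo_toNormalization X
  have h2 : IsIso ((gj X).fromNormalization.stalkMap
      ((gj X).toNormalization (closedPoint _))) :=
    @IsIso.of_isIso_comp_right _ _ _ _ _ _ (Scheme.stalkClosedPointTo (gj X).toNormalization)
      inferInstance h1
  rw [toNormalization_apply] at h2
  exact h2

end Generic

section Main

variable (X : Scheme.{u}) [IsIntegral X] [QuasiCompact (gj X)] [QuasiSeparated (gj X)]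

/-- A normal integral scheme, integral and birational over `X`, is the normalization. -/
theorem exists_iso_of_birational {Y : Scheme.{u}} (f : Y ⟶ X) [IsIntegralHom f] [IsIntegral Y]
    (hN : ∀ y : Y, IsIntegrallyClosed (Y.presheaf.stalk y))
    (hfη : f (genericPoint Y) = genericPoint X)
    (hiso : IsIso (f.stalkMap (genericPoint Y))) :
    ∃ e : Y ≅ (gj X).normalization, e.hom ≫ (gj X).fromNormalization = f := by
  have hspec : f (genericPoint Y) ⤳ genericPoint X := specializes_of_eq hfη
  haveI : IsIso (X.presheaf.stalkSpecializes hspec) :=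
    inferInstanceAs (IsIso (X.presheaf.stalkCongr (Inseparable.of_eq hfη.symm)).hom)
  let ψ : X.presheaf.stalk (genericPoint X) ⟶ Y.presheaf.stalk (genericPoint Y) :=
    X.presheaf.stalkSpecializes hspec ≫ f.stalkMap (genericPoint Y)
  haveI : IsIso ψ := IsIso.comp_isIso
  let jY : Spec (X.presheaf.stalk (genericPoint X)) ⟶ Y :=
    Spec.map (inv ψ) ≫ Y.fromSpecStalk (genericPoint Y)
  have H : gj X = jY ≫ f := by
    show X.fromSpecStalk (genericPoint X) =
      (Spec.map (inv ψ) ≫ Y.fromSpecStalk (genericPoint Y)) ≫ f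
    rw [Category.assoc, ← Scheme.SpecMap_stalkMap_fromSpecStalk f,
      ← Scheme.SpecMap_stalkSpecializes_fromSpecStalk hspec, ← Spec.map_comp_assoc,
      ← Spec.map_comp_assoc]
    have : X.presheaf.stalkSpecializes hspec ≫ f.stalkMap (genericPoint Y) ≫ inv ψ = 𝟙 _ := by
      rw [← Category.assoc]
      exact IsIso.hom_inv_id ψ
    rw [this, Spec.map_id, Category.id_comp]
  let d : (gj X).normalization ⟶ Y := (gj X).normalizationDesc jY f H
  have hd₁ : (gj X).toNormalization ≫ d = jY := (gj X).toNormalization_normalizationDesc jY f H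
  have hd₂ : d ≫ f = (gj X).fromNormalization := (gj X).normalizationDesc_comp jY f H
  haveI : IsIntegralHom d := inferInstance
  obtain ⟨hj₁, hj₂⟩ := stalkClosedPointTo_spec_fromSpecStalk (genericPoint Y) (inv ψ)
    ((gj X).toNormalization ≫ d) hd₁
  have hgen : d (genericPoint (gj X).normalization) = genericPoint Y := by
    rw [← toNormalization_apply X (closedPoint _), ← Scheme.Hom.comp_apply]
    exact hj₁
  rw [Scheme.stalkClosedPointTo_comp] at hj₂
  haveI := isIso_stalkClosedPointTo_toNormalization X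
  have hbir' : IsIso (d.stalkMap ((gj X).toNormalization (closedPoint _))) :=
    @IsIso.of_isIso_comp_right _ _ _ _ _ _ (Scheme.stalkClosedPointTo (gj X).toNormalization)
      inferInstance hj₂
  rw [toNormalization_apply] at hbir'
  haveI := Groth.Agent.H54.isIso_of_isIntegralHom_of_birational hN d hgen hbir'
  refine ⟨(asIso d).symm, ?_⟩
  show inv d ≫ (gj X).fromNormalization = f
  rw [← hd₂, IsIso.inv_hom_id_assoc]

/-- Properties of a scheme isomorphic to the normalization. -/
theorem props_of_iso {Y : Scheme.{u}} (e : Y ≅ (gj X).normalization) :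
    (∀ y : Y, IsDomain (Y.presheaf.stalk y) ∧ IsIntegrallyClosed (Y.presheaf.stalk y)) ∧
    IsIntegralHom (e.hom ≫ (gj X).fromNormalization) ∧
    ∃ _ : IsIntegral Y,
      (e.hom ≫ (gj X).fromNormalization) (genericPoint Y) = genericPoint X ∧
      (e.hom ≫ (gj X).fromNormalization) ⁻¹' {genericPoint X} = {genericPoint Y} ∧
      IsIso ((e.hom ≫ (gj X).fromNormalization).stalkMap (genericPoint Y)) := by
  haveI hne : Nonempty Y := ⟨e.inv (genericPoint _)⟩
  haveI : IsIntegral Y := isIntegral_of_isOpenImmersion e.hom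
  have heη : e.hom (genericPoint Y) = genericPoint (gj X).normalization :=
    genericPoint_eq_of_isOpenImmersion e.hom
  have hfη : (e.hom ≫ (gj X).fromNormalization) (genericPoint Y) = genericPoint X := by
    rw [Scheme.Hom.comp_apply, heη, fromNormalization_genericPoint]
  refine ⟨fun y => ?_, inferInstance, ‹IsIntegral Y›, hfη, ?_, ?_⟩
  · haveI := isIntegrallyClosed_stalk_normalization X (e.hom y)
    exact ⟨inferInstance,
      IsIntegrallyClosed.of_equiv (asIso (e.hom.stalkMap y)).commRingCatIsoToRingEquiv⟩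
  · ext y
    simp only [Set.mem_preimage, Set.mem_singleton_iff]
    constructor
    · intro hy
      rw [Scheme.Hom.comp_apply] at hy
      have := eq_genericPoint_of_fromNormalization_eq X _ hy
      exact e.hom.isOpenEmbedding.injective (this.trans heη.symm)
    · rintro rfl
      exact hfη
  · rw [Scheme.Hom.stalkMap_comp]
    have h2 : IsIso ((gj X).fromNormalization.stalkMap (e.hom (genericPoint Y))) := by
      rw [heη]
      exact isIso_stalkMap_fromNormalization X
    exact @IsIso.comp_isIso _ _ _ _ _ _ _ h2 inferInstance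

omit [QuasiCompact (gj X)] [QuasiSeparated (gj X)] in
/-- An integral birational morphism is an isomorphism over a normal open. -/
theorem isIso_morphismRestrict_of_normal {Y : Scheme.{u}} [IsIntegral Y] (f : Y ⟶ X)
    [IsIntegralHom f] (V : X.Opens) (hVne : (V : Set X).Nonempty)
    (hVn : ∀ x ∈ V, IsIntegrallyClosed (X.presheaf.stalk x))
    (hfη : f (genericPoint Y) = genericPoint X)
    (hiso : IsIso (f.stalkMap (genericPoint Y))) : IsIso (f ∣_ V) := by
  have hηV : genericPoint X ∈ V := genericPoint_mem_of_nonempty X V hVne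
  have hηY : genericPoint Y ∈ f ⁻¹ᵁ V := by
    show f (genericPoint Y) ∈ V
    rw [hfη]; exact hηV
  haveI : Nonempty ↥(V : Scheme.{u}) := ⟨⟨_, hηV⟩⟩
  haveI : Nonempty ↥((f ⁻¹ᵁ V : Y.Opens) : Scheme.{u}) := ⟨⟨_, hηY⟩⟩
  haveI : IsIntegral (V : Scheme.{u}) := isIntegral_of_isOpenImmersion V.ι
  haveI : IsIntegral ((f ⁻¹ᵁ V : Y.Opens) : Scheme.{u}) :=
    isIntegral_of_isOpenImmersion (f ⁻¹ᵁ V).ι
  haveI : IsIntegralHom (f ∣_ V) := IsZariskiLocalAtTarget.restrict ‹IsIntegralHom f› V
  have hNV : ∀ v : (V : Scheme.{u}),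
      IsIntegrallyClosed ((V : Scheme.{u}).presheaf.stalk v) := fun v => by
    have hv : V.ι v ∈ (V : Set X) := by
      rw [← Scheme.Opens.range_ι]; exact Set.mem_range_self v
    haveI := hVn (V.ι v) hv
    exact IsIntegrallyClosed.of_equiv (asIso (V.ι.stalkMap v)).commRingCatIsoToRingEquiv
  have hUη : (f ⁻¹ᵁ V).ι (genericPoint _) = genericPoint Y :=
    genericPoint_eq_of_isOpenImmersion _
  have hVη : V.ι (genericPoint _) = genericPoint X := genericPoint_eq_of_isOpenImmersion _
  have hcomp : f ∣_ V ≫ V.ι = (f ⁻¹ᵁ V).ι ≫ f := morphismRestrict_ι f V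
  have hgen_g : (f ∣_ V) (genericPoint _) = genericPoint _ := by
    apply V.ι.isOpenEmbedding.injective
    rw [← Scheme.Hom.comp_apply, hcomp, Scheme.Hom.comp_apply, hUη, hfη, hVη]
  have hbir_g : IsIso ((f ∣_ V).stalkMap (genericPoint _)) := by
    have h1 : IsIso (f.stalkMap ((f ⁻¹ᵁ V).ι (genericPoint _))) := by rw [hUη]; exact hiso
    have h2 : IsIso (((f ⁻¹ᵁ V).ι ≫ f).stalkMap (genericPoint _)) := by
      rw [Scheme.Hom.stalkMap_comp]
      exact @IsIso.comp_isIso _ _ _ _ _ _ _ h1 inferInstance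
    have h3 : IsIso ((f ∣_ V ≫ V.ι).stalkMap (genericPoint _)) := by
      rw [hcomp]; exact h2
    rw [Scheme.Hom.stalkMap_comp] at h3
    exact @IsIso.of_isIso_comp_left _ _ _ _ _
      (V.ι.stalkMap ((f ∣_ V) (genericPoint _)))
      ((f ∣_ V).stalkMap (genericPoint _)) inferInstance h3
  exact Groth.Agent.H54.isIso_of_isIntegralHom_of_birational hNV (f ∣_ V) hgen_g hbir_g

omit [QuasiCompact (gj X)] [QuasiSeparated (gj X)] in
/-- A morphism which is an isomorphism over a dense open with dense preimage is birational. -/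
theorem birational_of_isIso_restrict {Y : Scheme.{u}} (f : Y ⟶ X)
    (hdom : ∀ y : Y, IsDomain (Y.presheaf.stalk y))
    (U : X.Opens) (hU : Dense (U : Set X)) (hfU : Dense ((f ⁻¹ᵁ U : Y.Opens) : Set Y))
    (hiso : IsIso (f ∣_ U)) :
    ∃ _ : IsIntegral Y, f (genericPoint Y) = genericPoint X ∧
      f ⁻¹' {genericPoint X} = {genericPoint Y} ∧ IsIso (f.stalkMap (genericPoint Y)) := by
  have hUne : (U : Set X).Nonempty := hU.nonempty
  have hηU : genericPoint X ∈ U := genericPoint_mem_of_nonempty X U hUne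
  haveI : Nonempty ↥(U : Scheme.{u}) := ⟨⟨_, hηU⟩⟩
  haveI : IsIntegral (U : Scheme.{u}) := isIntegral_of_isOpenImmersion U.ι
  haveI := hiso
  haveI : Nonempty ↥((f ⁻¹ᵁ U : Y.Opens) : Scheme.{u}) := ⟨inv (f ∣_ U) ⟨_, hηU⟩⟩
  haveI : IsIntegral ((f ⁻¹ᵁ U : Y.Opens) : Scheme.{u}) :=
    isIntegral_of_isOpenImmersion (f ∣_ U)
  have hirr : IsIrreducible ((f ⁻¹ᵁ U : Y.Opens) : Set Y) := by
    have h1 : IsIrreducible (Set.univ : Set ↥((f ⁻¹ᵁ U : Y.Opens) : Scheme.{u})) :=
      IrreducibleSpace.isIrreducible_univ _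
    have h2 := h1.image (f ⁻¹ᵁ U).ι (f ⁻¹ᵁ U).ι.continuous.continuousOn
    rwa [Set.image_univ, Scheme.Opens.range_ι] at h2
  haveI : IrreducibleSpace Y := by
    rw [irreducibleSpace_def]
    have := hirr.closure
    rwa [hfU.closure_eq] at this
  haveI : IsReduced Y := by
    haveI : ∀ y : Y, _root_.IsReduced (Y.presheaf.stalk y) := fun y => by
      haveI := hdom y
      infer_instance
    exact isReduced_of_isReduced_stalk Y
  haveI : IsIntegral Y := isIntegral_of_irreducibleSpace_of_isReduced Y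
  refine ⟨‹IsIntegral Y›, ?_⟩
  obtain ⟨η₀, hη₀⟩ : ∃ η₀ : ↥((f ⁻¹ᵁ U : Y.Opens) : Scheme.{u}), η₀ = genericPoint _ := ⟨_, rfl⟩
  obtain ⟨η₁, hη₁⟩ : ∃ η₁ : ↥(U : Scheme.{u}), η₁ = genericPoint _ := ⟨_, rfl⟩
  have hYη : (f ⁻¹ᵁ U).ι η₀ = genericPoint Y := by
    rw [hη₀]; exact genericPoint_eq_of_isOpenImmersion _
  have hXη : U.ι η₁ = genericPoint X := by
    rw [hη₁]; exact genericPoint_eq_of_isOpenImmersion _
  have hgη : (f ∣_ U) η₀ = η₁ := by
    rw [hη₀, hη₁]; exact genericPoint_eq_of_isOpenImmersion _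
  have hcomp : f ∣_ U ≫ U.ι = (f ⁻¹ᵁ U).ι ≫ f := morphismRestrict_ι f U
  have hfη : f (genericPoint Y) = genericPoint X := by
    rw [← hYη, ← Scheme.Hom.comp_apply, ← hcomp, Scheme.Hom.comp_apply, hgη, hXη]
  refine ⟨hfη, ?_, ?_⟩
  · ext y
    simp only [Set.mem_preimage, Set.mem_singleton_iff]
    constructor
    · intro hy
      have hyU : y ∈ f ⁻¹ᵁ U := by
        show f y ∈ U
        rw [hy]; exact hηU
      obtain ⟨y₀, hy₀⟩ : ∃ y₀ : ↥((f ⁻¹ᵁ U : Y.Opens) : Scheme.{u}), (f ⁻¹ᵁ U).ι y₀ = y := by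
        have : y ∈ Set.range (f ⁻¹ᵁ U).ι := by rw [Scheme.Opens.range_ι]; exact hyU
        exact this
      have h1 : U.ι ((f ∣_ U) y₀) = U.ι η₁ := by
        rw [← Scheme.Hom.comp_apply, hcomp, Scheme.Hom.comp_apply, hXη, hy₀]
        exact hy
      have h2 : (f ∣_ U) y₀ = (f ∣_ U) η₀ := by
        rw [hgη]
        exact U.ι.isOpenEmbedding.injective h1
      have h3 : y₀ = η₀ := (f ∣_ U).isOpenEmbedding.injective h2
      rw [← hy₀, h3, hYη]
    · rintro rfl
      exact hfη
  · have h1 : IsIso ((f ∣_ U ≫ U.ι).stalkMap η₀) := by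
      rw [Scheme.Hom.stalkMap_comp]
      have a1 : IsIso (U.ι.stalkMap ((f ∣_ U) η₀)) := inferInstance
      have a2 : IsIso ((f ∣_ U).stalkMap η₀) := inferInstance
      exact @IsIso.comp_isIso _ _ _ _ _ _ _ a1 a2
    have h2 : IsIso (((f ⁻¹ᵁ U).ι ≫ f).stalkMap η₀) := by
      rw [← hcomp]; exact h1
    rw [Scheme.Hom.stalkMap_comp] at h2
    have h3 : IsIso (f.stalkMap ((f ⁻¹ᵁ U).ι η₀)) :=
      @IsIso.of_isIso_comp_right _ _ _ _ _ _ ((f ⁻¹ᵁ U).ι.stalkMap η₀)
        inferInstance h2
    rw [hYη] at h3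
    exact h3

end Main

end Groth.Agent.H49.NormIso
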