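import Mathlib
import Groth.Agent.H49.SmoothFibreMap

/-!
# Open immersions / isomorphisms can be checked on fibres (flat source)
-/

set_option autoImplicit false
open CategoryTheory CategoryTheory.Limits AlgebraicGeometry Opposite
universe u

namespace Groth.Agent.H49.OpenImmFibre

variable {X Y S : Scheme.{u}}

/-- If all fibre maps of `f` over points of `S` are monomorphisms then `f` is universally
injective. -/
theorem universallyInjective_of_fiberMaps (f : X ⟶ Y) (g : Y ⟶ S)
    (h : ∀ s : S, Mono (pullback.snd f (g.fiberι s))) : UniversallyInjective f := by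
  apply ((tfae_universallyInjective f).out 0 1).mpr
  intro K _ a b hab
  dsimp only at hab
  let t : Spec (.of K) ⟶ S := (a ≫ f) ≫ g
  let s₀ := t (IsLocalRing.closedPoint K)
  have ht := Scheme.descResidueField_stalkClosedPointTo_fromSpecResidueField K S t
  let y' : Spec (.of K) ⟶ g.fiber s₀ := pullback.lift (a ≫ f)
    (Spec.map (Scheme.descResidueField (Scheme.stalkClosedPointTo t))) ht.symm
  have hy' : y' ≫ g.fiberι s₀ = a ≫ f := pullback.lift_fst _ _ _
  let a' : Spec (.of K) ⟶ pullback f (g.fiberι s₀) := pullback.lift a y' hy'.symm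
  let b' : Spec (.of K) ⟶ pullback f (g.fiberι s₀) := pullback.lift b y' (by rw [hy', hab])
  have hab' : a' = b' := by
    haveI := h s₀
    rw [← cancel_mono (pullback.snd f (g.fiberι s₀))]
    exact (pullback.lift_snd _ _ _).trans (pullback.lift_snd _ _ _).symm
  calc a = a' ≫ pullback.fst _ _ := (pullback.lift_fst _ _ _).symm
    _ = b' ≫ pullback.fst _ _ := by rw [hab']
    _ = b := pullback.lift_fst _ _ _

/-- If all fibre maps of `f` over points of `S` are surjective then `f` is surjective. -/
theorem surjective_of_fiberMaps (f : X ⟶ Y) (g : Y ⟶ S)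
    (h : ∀ s : S, Surjective (pullback.snd f (g.fiberι s))) : Surjective f := by
  refine ⟨fun y => ?_⟩
  obtain ⟨y', hy'⟩ : y ∈ Set.range (g.fiberι (g y)) := by
    rw [Scheme.Hom.range_fiberι]; rfl
  obtain ⟨z, hz⟩ := (h (g y)).surj y'
  refine ⟨pullback.fst f (g.fiberι (g y)) z, ?_⟩
  rw [← Scheme.Hom.comp_apply, pullback.condition, Scheme.Hom.comp_apply, hz, hy']

open Groth.Agent.H49.SmoothFibreMap in
/-- If `f ≫ g` is flat, `f` locally of finite presentation, and all fibre maps are open
immersions, then `f` is an open immersion. -/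
theorem isOpenImmersion_of_flat_of_fiberMaps (f : X ⟶ Y) (g : Y ⟶ S)
    [LocallyOfFinitePresentation f] [Flat (f ≫ g)]
    (h : ∀ s : S, IsOpenImmersion (pullback.snd f (g.fiberι s))) : IsOpenImmersion f := by
  haveI : Etale f := etale_of_flat_of_etale_fiberMaps f g
    (fun s => by haveI := h s; infer_instance)
  haveI : UniversallyInjective f := universallyInjective_of_fiberMaps f g
    (fun s => by haveI := h s; infer_instance)
  haveI : Surjective (pullback.diagonal f) :=
    (UniversallyInjective.iff_diagonal f).mp inferInstance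
  haveI : IsOpenImmersion (pullback.diagonal f) := inferInstance
  haveI : IsIso (pullback.diagonal f) :=
    (isIso_iff_isOpenImmersion_and_surjective _).mpr ⟨inferInstance, inferInstance⟩
  haveI : Mono f := (pullback.isIso_diagonal_iff f).mp inferInstance
  exact IsOpenImmersion.of_flat_of_mono f

open Groth.Agent.H49.SmoothFibreMap in
/-- If `f ≫ g` is flat, `f` locally of finite presentation, and all fibre maps are
isomorphisms, then `f` is an isomorphism. -/
theorem isIso_of_flat_of_fiberMaps (f : X ⟶ Y) (g : Y ⟶ S)
    [LocallyOfFinitePresentation f] [Flat (f ≫ g)]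
    (h : ∀ s : S, IsIso (pullback.snd f (g.fiberι s))) : IsIso f := by
  rw [isIso_iff_isOpenImmersion_and_surjective]
  exact ⟨isOpenImmersion_of_flat_of_fiberMaps f g (fun s => by haveI := h s; infer_instance),
    surjective_of_fiberMaps f g (fun s => by haveI := h s; infer_instance)⟩

end Groth.Agent.H49.OpenImmFibre
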