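import Mathlib

/-!
# A quasi-affine scheme locally of finite type over `S` immerses into an affine space over `S`
-/

set_option autoImplicit false
open CategoryTheory CategoryTheory.Limits AlgebraicGeometry Opposite TopologicalSpace
universe u

namespace Groth.Agent.H49.QAffImm

variable {X S : Scheme.{u}}

/-- Restriction of a global section to an open. -/
noncomputable abbrev res (X : Scheme.{u}) (D : X.Opens) (b : Γ(X, ⊤)) : Γ(X, D) :=
  (X.presheaf.map (homOfLE (le_top : D ≤ ⊤)).op).hom b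

/-- The sections over `D(r)` are generated by the image of `Γ(S, V)`, the restrictions of the
elements of `B` and the inverse of `r`. -/
def Gen (π : X ⟶ S) (r : Γ(X, ⊤)) (V : S.Opens) (he : X.basicOpen r ≤ π ⁻¹ᵁ V)
    (B : Finset Γ(X, ⊤)) : Prop :=
  ∀ R' : Subring Γ(X, X.basicOpen r),
    (∀ a, (π.appLE V (X.basicOpen r) he).hom a ∈ R') →
    (∀ b ∈ B, res X (X.basicOpen r) b ∈ R') →
    (∀ y, y * res X (X.basicOpen r) r = 1 → y ∈ R') → R' = ⊤

theorem exists_gen [X.IsQuasiAffine] (π : X ⟶ S) [LocallyOfFiniteType π] (r : Γ(X, ⊤))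
    (hr : IsAffineOpen (X.basicOpen r)) (V : S.Opens) (hV : IsAffineOpen V)
    (he : X.basicOpen r ≤ π ⁻¹ᵁ V) : ∃ B : Finset Γ(X, ⊤), Gen π r V he B := by
  classical
  have hft : RingHom.FiniteType (π.appLE V (X.basicOpen r) he).hom :=
    HasRingHomProperty.appLE (P := @LocallyOfFiniteType) π inferInstance ⟨V, hV⟩ ⟨_, hr⟩ he
  letI := (π.appLE V (X.basicOpen r) he).hom.toAlgebra
  obtain ⟨s, hs⟩ := (show Algebra.FiniteType Γ(S, V) Γ(X, X.basicOpen r) from hft).out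
  haveI hloc : IsLocalization.Away r Γ(X, X.basicOpen r) :=
    isLocalization_basicOpen_of_qcqs (X := X) (U := ⊤) isCompact_univ isQuasiSeparated_univ r
  have hex : ∀ g : Γ(X, X.basicOpen r), ∃ (b : Γ(X, ⊤)) (N : ℕ),
      g * (res X (X.basicOpen r) r) ^ N = res X (X.basicOpen r) b := by
    intro g
    obtain ⟨N, b, hb⟩ := IsLocalization.Away.surj r g
    exact ⟨b, N, hb⟩
  choose bf Nf hbf using hex
  refine ⟨s.image bf, fun R' h1 h2 h3 => ?_⟩
  let A' : Subalgebra Γ(S, V) Γ(X, X.basicOpen r) :=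
    { R' with algebraMap_mem' := fun a => h1 a }
  have hle : Algebra.adjoin Γ(S, V) (s : Set Γ(X, X.basicOpen r)) ≤ A' := by
    rw [Algebra.adjoin_le_iff]
    intro g hg
    obtain ⟨y, hy⟩ : ∃ y, y * res X (X.basicOpen r) r = 1 := by
      have hu : IsUnit (res X (X.basicOpen r) r) := RingedSpace.isUnit_res_basicOpen _ r
      obtain ⟨u, hu⟩ := hu
      exact ⟨↑u⁻¹, by rw [← hu]; simp⟩
    have hy' := h3 y hy
    have hb' := h2 (bf g) (Finset.mem_image_of_mem _ hg)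
    have hg' : g = res X (X.basicOpen r) (bf g) * y ^ (Nf g) := by
      rw [← hbf g, mul_assoc, ← mul_pow, mul_comm (res X (X.basicOpen r) r) y, hy, one_pow,
        mul_one]
    show g ∈ R'
    rw [hg']
    exact R'.mul_mem hb' (R'.pow_mem hy' _)
  rw [hs] at hle
  rw [eq_top_iff]
  intro z _
  exact hle (Algebra.mem_top : z ∈ (⊤ : Subalgebra Γ(S, V) Γ(X, X.basicOpen r)))

theorem surjective_appLE_congr {X Y : Scheme.{u}} (f : X ⟶ Y) {U U' : Y.Opens} {W W' : X.Opens}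
    (hU : U = U') (hW : W = W') (e : W ≤ f ⁻¹ᵁ U) (e' : W' ≤ f ⁻¹ᵁ U')
    (h : Function.Surjective (f.appLE U' W' e')) : Function.Surjective (f.appLE U W e) := by
  subst hU hW; exact h

open AffineSpace in
theorem exists_immersion [X.IsQuasiAffine] (π : X ⟶ S) [LocallyOfFiniteType π] :
    ∃ (n : ℕ) (i : X ⟶ 𝔸(ULift.{u} (Fin n); S)), IsImmersion i ∧
      i ≫ (𝔸(ULift.{u} (Fin n); S) ↘ S) = π := by
  classical
  have hA : ∀ x : X, ∃ (r : Γ(X, ⊤)) (V : S.Opens) (B : Finset Γ(X, ⊤)),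
      IsAffineOpen V ∧ IsAffineOpen (X.basicOpen r) ∧ x ∈ X.basicOpen r ∧
      ∃ he : X.basicOpen r ≤ π ⁻¹ᵁ V, Gen π r V he B := by
    intro x
    obtain ⟨_, ⟨V, hV : IsAffineOpen V, rfl⟩, hxV, -⟩ :=
      S.isBasis_affineOpens.exists_subset_of_mem_open (Set.mem_univ (π x)) isOpen_univ
    obtain ⟨_, ⟨_, ⟨r, hr, rfl⟩, rfl⟩, hxr, hrV⟩ :=
      (Scheme.IsQuasiAffine.isBasis_basicOpen X).exists_subset_of_mem_open
        (show x ∈ ((π ⁻¹ᵁ V : X.Opens) : Set X) from hxV) (π ⁻¹ᵁ V).isOpen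
    obtain ⟨B, hB⟩ := exists_gen π r hr V hV hrV
    exact ⟨r, V, B, hV, hr, hxr, hrV, hB⟩
  choose r V B hV hr hxr he hB using hA
  obtain ⟨t, ht⟩ : ∃ t : Finset X, ∀ z : X, ∃ x ∈ t, z ∈ X.basicOpen (r x) := by
    obtain ⟨t, ht⟩ := isCompact_univ.elim_finite_subcover
      (fun x : X => ((X.basicOpen (r x) : X.Opens) : Set X))
      (fun x => (X.basicOpen (r x)).isOpen) (fun z _ => Set.mem_iUnion.mpr ⟨z, hxr z⟩)
    refine ⟨t, fun z => ?_⟩
    have := ht (Set.mem_univ z)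
    simpa using this
  let T : Finset Γ(X, ⊤) := t.image r ∪ t.biUnion B
  let v : ULift.{u} (Fin T.card) → Γ(X, ⊤) := fun k => ((T.equivFin.symm k.down : T) : Γ(X, ⊤))
  have hv : ∀ b ∈ T, ∃ k, v k = b := fun b hb => ⟨⟨T.equivFin ⟨b, hb⟩⟩, by simp [v]⟩
  have hip : homOfVector π v ≫ (𝔸(ULift.{u} (Fin T.card); S) ↘ S) = π := homOfVector_over π v
  refine ⟨T.card, homOfVector π v, ?_, hip⟩
  set i := homOfVector π v with hi
  set p := 𝔸(ULift.{u} (Fin T.card); S) ↘ S with hp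
  have hk : ∀ x : t, ∃ k, v k = r x := fun x =>
    hv _ (Finset.mem_union_left _ (Finset.mem_image_of_mem _ x.2))
  choose k hk using hk
  let Ω : t → (𝔸(ULift.{u} (Fin T.card); S)).Opens := fun x =>
    p ⁻¹ᵁ V x ⊓ (𝔸(ULift.{u} (Fin T.card); S)).basicOpen (coord S (k x))
  have hpre : ∀ x : t, i ⁻¹ᵁ Ω x = X.basicOpen (r x) := by
    intro x
    have h1 : i ⁻¹ᵁ (p ⁻¹ᵁ V x) = π ⁻¹ᵁ V x := by rw [← Scheme.Hom.comp_preimage, hip]
    have h2 : i ⁻¹ᵁ ((𝔸(ULift.{u} (Fin T.card); S)).basicOpen (coord S (k x))) =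
        X.basicOpen (r x) := by
      rw [Scheme.preimage_basicOpen_top, hi, homOfVector_appTop_coord, hk]
    calc i ⁻¹ᵁ Ω x = i ⁻¹ᵁ (p ⁻¹ᵁ V x) ⊓
          i ⁻¹ᵁ ((𝔸(ULift.{u} (Fin T.card); S)).basicOpen (coord S (k x))) := rfl
      _ = X.basicOpen (r x) := by rw [h1, h2]; exact inf_eq_right.mpr (he x)
  have hΩ : ∀ x : t, IsAffineOpen (Ω x) := by
    intro x
    have h1 : IsAffineOpen (p ⁻¹ᵁ V x) := (hV x).preimage p
    have h2 := h1.basicOpen ((𝔸(ULift.{u} (Fin T.card); S)).presheaf.map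
      (homOfLE (le_top : p ⁻¹ᵁ V x ≤ ⊤)).op (coord S (k x)))
    rwa [Scheme.basicOpen_res] at h2
  have hres : ∀ (x : t) (kb : ULift.{u} (Fin T.card)) (b : Γ(X, ⊤)), v kb = b →
      (i.appLE (Ω x) (X.basicOpen (r x)) (hpre x).ge).hom
        (((𝔸(ULift.{u} (Fin T.card); S)).presheaf.map (homOfLE (le_top : Ω x ≤ ⊤)).op).hom
          (coord S kb)) = res X (X.basicOpen (r x)) b := by
    intro x kb b hkb
    have h1 := Scheme.Hom.map_appLE i (hpre x).ge (homOfLE (le_top : Ω x ≤ ⊤)).op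
    have h2 := congrArg (fun f => f.hom (coord S kb)) h1
    refine h2.trans ?_
    have h3 : (i.appTop).hom (coord S kb) = b := by
      rw [← hkb]; exact homOfVector_appTop_coord π v kb
    show (X.presheaf.map (homOfLE _).op).hom ((i.appTop).hom (coord S kb)) = _
    rw [h3]
  have hsurj : ∀ x : t,
      Function.Surjective (i.appLE (Ω x) (X.basicOpen (r x)) (hpre x).ge) := by
    intro x
    set ψ := i.appLE (Ω x) (X.basicOpen (r x)) (hpre x).ge with hψ
    have hR := hB x ψ.hom.range ?_ ?_ ?_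
    · intro z
      have hz : z ∈ ψ.hom.range := by rw [hR]; trivial
      exact hz
    · intro a
      have hVΩ : Ω x ≤ p ⁻¹ᵁ V x := inf_le_left
      have h1 := Scheme.Hom.appLE_comp_appLE i p (V x) (Ω x) (X.basicOpen (r x)) hVΩ (hpre x).ge
      have h2 : ∀ (w : X ⟶ S) (_ : w = π) (e' : X.basicOpen (r x) ≤ w ⁻¹ᵁ V x),
          w.appLE (V x) (X.basicOpen (r x)) e' = π.appLE (V x) (X.basicOpen (r x)) (he x) := by
        rintro w rfl e'; rfl
      rw [h2 _ hip] at h1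
      exact ⟨(p.appLE (V x) (Ω x) hVΩ).hom a, congrArg (fun f => f.hom a) h1⟩
    · intro b hb
      obtain ⟨kb, hkb⟩ := hv b (Finset.mem_union_right _ (Finset.mem_biUnion.mpr ⟨x, x.2, hb⟩))
      exact ⟨_, hres x kb b hkb⟩
    · intro y hy
      have hu : IsUnit (((𝔸(ULift.{u} (Fin T.card); S)).presheaf.map
          (homOfLE (le_top : Ω x ≤ ⊤)).op).hom (coord S (k x))) := by
        have h0 := RingedSpace.isUnit_res_basicOpen
          (𝔸(ULift.{u} (Fin T.card); S)).toLocallyRingedSpace.toRingedSpace (coord S (k x))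
        have h1 := h0.map ((𝔸(ULift.{u} (Fin T.card); S)).presheaf.map (homOfLE (inf_le_right :
          Ω x ≤ (𝔸(ULift.{u} (Fin T.card); S)).basicOpen (coord S (k x)))).op).hom
        have h2 : (𝔸(ULift.{u} (Fin T.card); S)).presheaf.map (homOfLE (le_top : Ω x ≤ ⊤)).op =
            (𝔸(ULift.{u} (Fin T.card); S)).presheaf.map (homOfLE
              ((𝔸(ULift.{u} (Fin T.card); S)).basicOpen_le (coord S (k x)))).op ≫
            (𝔸(ULift.{u} (Fin T.card); S)).presheaf.map (homOfLE (inf_le_right :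
              Ω x ≤ (𝔸(ULift.{u} (Fin T.card); S)).basicOpen (coord S (k x)))).op := by
          rw [← Functor.map_comp]; rfl
        rw [h2]
        exact h1
      obtain ⟨u, hu⟩ := hu
      refine ⟨((u⁻¹ : Units _) : Γ(𝔸(ULift.{u} (Fin T.card); S), Ω x)), ?_⟩
      have h4 := hres x (k x) (r x) (hk x)
      rw [← hu] at h4
      have h5 : ψ.hom ((u⁻¹ : Units _) : Γ(𝔸(ULift.{u} (Fin T.card); S), Ω x)) *
          res X (X.basicOpen (r x)) (r x) = 1 := by
        rw [← h4, ← map_mul, Units.inv_mul, map_one]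
      calc ψ.hom ((u⁻¹ : Units _) : Γ(𝔸(ULift.{u} (Fin T.card); S), Ω x))
          = ψ.hom ((u⁻¹ : Units _) : Γ(𝔸(ULift.{u} (Fin T.card); S), Ω x)) *
            (res X (X.basicOpen (r x)) (r x) * y) := by rw [mul_comm _ y, hy, mul_one]
        _ = y := by rw [← mul_assoc, h5, one_mul]
  haveI : MorphismProperty.RespectsRight @IsImmersion @IsOpenImmersion :=
    ⟨fun j hj f hf => by
      haveI : IsOpenImmersion j := hj
      haveI : IsImmersion f := hf
      exact (inferInstance : IsImmersion (f ≫ j))⟩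
  refine IsZariskiLocalAtTarget.of_range_subset_iSup (P := @IsImmersion) Ω ?_ ?_
  · rintro _ ⟨z, rfl⟩
    obtain ⟨x, hxt, hz⟩ := ht z
    refine Opens.mem_iSup.mpr ⟨⟨x, hxt⟩, ?_⟩
    have : z ∈ i ⁻¹ᵁ Ω ⟨x, hxt⟩ := by rw [hpre]; exact hz
    exact this
  · intro x
    suffices IsClosedImmersion (i ∣_ Ω x) from inferInstance
    haveI : IsAffine (Ω x).toScheme := hΩ x
    rw [HasAffineProperty.iff_of_isAffine (P := @IsClosedImmersion)]
    refine ⟨?_, ?_⟩
    · show IsAffineOpen (i ⁻¹ᵁ Ω x)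
      rw [hpre x]; exact hr x
    · rw [Scheme.Hom.appTop, morphismRestrict_app']
      refine surjective_appLE_congr i (Scheme.Opens.ι_image_top _) ?_ _ (hpre x).ge (hsurj x)
      rw [image_morphismRestrict_preimage, Scheme.Opens.ι_image_top, hpre x]

end Groth.Agent.H49.QAffImm
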