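import Mathlib
import Groth.Agent.H26.DepthLib
import Groth.Agent.H49.CMSliceSpread

/-!
# Slicing by a fibrewise regular sequence: ring-level lemmas (towards S1459)

* `spread_regular_all`: spreading out a sequence regular on the closed fibre, with flatness of all
  the quotients by prefixes.
* `isWeaklyRegular_tensor`: a weakly regular sequence all of whose prefix quotients are flat over
  the base stays weakly regular after any base change.
* `isWeaklyRegular_of_isPushout`: the same for an abstract pushout of rings.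
* `ker_of_isPushout_of_surjective`: the pushout of a surjection is a surjection with the extended
  kernel.
-/

set_option autoImplicit false
set_option linter.style.haveILetI false

universe u

open RingTheory.Sequence TensorProduct

namespace Groth.Agent.H49.RegSlice

open Groth.Agent.H49.CMSlice

set_option maxHeartbeats 1600000 in
/-- **Spreading out a sequence regular on the closed fibre, with all prefix quotients flat.** -/
theorem spread_regular_all (A Rl B T : Type u) [CommRing A] [CommRing Rl] [CommRing B] [CommRing T]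
    [Algebra A Rl] [Algebra A B] [Algebra B T] [Algebra Rl T] [Algebra A T]
    [IsScalarTower A B T] [IsScalarTower A Rl T] [IsLocalRing Rl] [IsLocalRing T]
    [IsLocalHom (algebraMap Rl T)] [Algebra.FinitePresentation A B]
    (p : Ideal A) [p.IsPrime] (q : Ideal B) [q.IsPrime] (hpq : p = q.comap (algebraMap A B))
    [IsLocalization.AtPrime Rl p] [IsLocalization.AtPrime T q] [Module.Flat Rl T]
    (bs : List B) (hbs : ∀ b ∈ bs, b ∈ q)
    (hreg : IsWeaklyRegular
      (T ⧸ ((IsLocalRing.maximalIdeal Rl).map (algebraMap Rl T) • (⊤ : Submodule T T)))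
      (bs.map (algebraMap B T))) :
    ∃ g ∉ q, ∀ (g' : B) (B' : Type u) [CommRing B'] [Algebra B B'] [Algebra A B']
      [IsScalarTower A B B'] [IsLocalization.Away (g * g') B'],
      IsWeaklyRegular B' (bs.map (algebraMap B B')) ∧
        ∀ i : ℕ, Module.Flat A (B' ⧸ Ideal.ofList ((bs.take i).map (algebraMap B B'))) := by
  classical
  have hstep : ∀ i : ℕ, ∃ g ∉ q, ∀ (g' : B) (B' : Type u) [CommRing B'] [Algebra B B']
      [Algebra A B'] [IsScalarTower A B B'] [IsLocalization.Away (g * g') B'],
      IsWeaklyRegular B' ((bs.take i).map (algebraMap B B')) ∧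
        Module.Flat A (B' ⧸ Ideal.ofList ((bs.take i).map (algebraMap B B'))) := by
    intro i
    refine spread_regular A Rl B T p q hpq (bs.take i)
      (fun b hb => hbs b (List.mem_of_mem_take hb)) ?_
    rw [List.map_take]
    exact Groth.Agent.H26.DepthLib.isWeaklyRegular_take hreg i
  choose γ hγq hγ using hstep
  let G : B := ∏ i ∈ Finset.range (bs.length + 1), γ i
  have hG : G ∉ q := by
    intro hmem
    obtain ⟨i, -, hi⟩ := (Ideal.IsPrime.prod_mem_iff).mp hmem
    exact hγq i hi
  refine ⟨G, hG, ?_⟩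
  intro g' B' _ _ _ _ _
  have key : ∀ i ≤ bs.length, IsWeaklyRegular B' ((bs.take i).map (algebraMap B B')) ∧
        Module.Flat A (B' ⧸ Ideal.ofList ((bs.take i).map (algebraMap B B'))) := by
    intro i hi
    obtain ⟨c, hc⟩ := Finset.dvd_prod_of_mem γ (Finset.mem_range.mpr (Nat.lt_succ_of_le hi))
    have hGc : G * g' = γ i * (c * g') := by
      change (∏ i ∈ Finset.range (bs.length + 1), γ i) * g' = _
      rw [hc]; ring
    haveI : IsLocalization.Away (γ i * (c * g')) B' := by rw [← hGc]; infer_instance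
    exact hγ i (c * g') B'
  refine ⟨?_, fun i => ?_⟩
  · have := (key bs.length le_rfl).1
    rwa [List.take_length] at this
  · by_cases hi : i ≤ bs.length
    · exact (key i hi).2
    · have : bs.take i = bs.take bs.length := by
        rw [List.take_length, List.take_of_length_le (by omega)]
      rw [this]
      exact (key bs.length le_rfl).2

section Tensor

variable {A B A' : Type u} [CommRing A] [CommRing B] [CommRing A'] [Algebra A B] [Algebra A A']

theorem ofList_map_algHom {C : Type u} [CommRing C] [Algebra A C] (f : B →ₐ[A] C) (rs : List B) :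
    Ideal.ofList (rs.map f) = (Ideal.ofList rs).map f := by
  rw [Ideal.ofList, Ideal.ofList, Ideal.map_span]
  congr 1
  ext z
  simp only [Set.mem_setOf_eq, List.mem_map, Set.mem_image]

/-- Multiplication by `b ⊗ 1` on `B ⊗ A'` is injective modulo `I (B ⊗ A')` as soon as multiplication
by `b` is injective modulo `I` with `A`-flat cokernel. -/
theorem mem_map_includeLeft_of_mul_mem (I : Ideal B) (b : B)
    (hb : ∀ y : B, y * b ∈ I → y ∈ I)
    [Module.Flat A (B ⧸ (I ⊔ Ideal.span {b}))] (c : B ⊗[A] A')
    (hc : c * (b ⊗ₜ[A] (1 : A')) ∈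
      I.map (Algebra.TensorProduct.includeLeft : B →ₐ[A] B ⊗[A] A')) :
    c ∈ I.map (Algebra.TensorProduct.includeLeft : B →ₐ[A] B ⊗[A] A') := by
  -- the multiplication map on `B ⧸ I`
  let μ : (B ⧸ I) →ₗ[A] (B ⧸ I) :=
    (LinearMap.mulRight A (Ideal.Quotient.mk I b))
  have hμ : Function.Injective μ := by
    rw [← LinearMap.ker_eq_bot, LinearMap.ker_eq_bot']
    intro m hm
    obtain ⟨y, rfl⟩ := Ideal.Quotient.mk_surjective m
    change Ideal.Quotient.mk I y * Ideal.Quotient.mk I b = 0 at hm
    rw [← map_mul, Ideal.Quotient.eq_zero_iff_mem] at hm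
    exact Ideal.Quotient.eq_zero_iff_mem.mpr (hb y hm)
  -- the quotient map to `B ⧸ (I ⊔ (b))`
  let π : (B ⧸ I) →ₗ[A] (B ⧸ (I ⊔ Ideal.span {b})) :=
    (Ideal.Quotient.factorₐ A (le_sup_left : I ≤ I ⊔ Ideal.span {b})).toLinearMap
  have hπ : Function.Surjective π := Ideal.Quotient.factor_surjective le_sup_left
  have hex : Function.Exact μ π := by
    intro m
    obtain ⟨y, rfl⟩ := Ideal.Quotient.mk_surjective m
    constructor
    · intro h
      have h1 : Ideal.Quotient.mk (I ⊔ Ideal.span {b}) y = 0 := h
      rw [Ideal.Quotient.eq_zero_iff_mem] at h1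
      obtain ⟨k, hk, j, hj, hkj⟩ := Submodule.mem_sup.mp h1
      obtain ⟨a, rfl⟩ := Ideal.mem_span_singleton'.mp hj
      refine ⟨Ideal.Quotient.mk I a, ?_⟩
      change Ideal.Quotient.mk I a * Ideal.Quotient.mk I b = _
      rw [← map_mul, ← hkj, map_add, Ideal.Quotient.eq_zero_iff_mem.mpr hk, zero_add]
    · rintro ⟨m', hm'⟩
      obtain ⟨a, rfl⟩ := Ideal.Quotient.mk_surjective m'
      change Ideal.Quotient.mk I a * Ideal.Quotient.mk I b = _ at hm'
      rw [← hm', ← map_mul]
      change Ideal.Quotient.mk (I ⊔ Ideal.span {b}) (a * b) = 0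
      rw [Ideal.Quotient.eq_zero_iff_mem]
      exact Ideal.mem_sup_right (Ideal.mul_mem_left _ _ (Ideal.mem_span_singleton_self b))
  have hinj : Function.Injective (μ.rTensor A') := by
    have h1 := LinearMap.lTensor_injective_of_exact_of_flat π hπ μ hμ hex A'
    have h2 : μ.rTensor A' = (TensorProduct.comm A A' (B ⧸ I)).toLinearMap ∘ₗ μ.lTensor A' ∘ₗ
        (TensorProduct.comm A (B ⧸ I) A').toLinearMap := by
      ext x a
      simp
    rw [h2]
    exact (TensorProduct.comm A A' (B ⧸ I)).injective.comp
      (h1.comp (TensorProduct.comm A (B ⧸ I) A').injective)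
  -- the quotient map on the tensor product
  let ρ : B ⊗[A] A' →ₐ[A] (B ⧸ I) ⊗[A] A' :=
    Algebra.TensorProduct.map (Ideal.Quotient.mkₐ A I) (AlgHom.id A A')
  have hker : RingHom.ker ρ =
      I.map (Algebra.TensorProduct.includeLeft : B →ₐ[A] B ⊗[A] A') := by
    have := Algebra.TensorProduct.rTensor_ker (R := A) (S := A) (C := A')
      (Ideal.Quotient.mkₐ A I) (Ideal.Quotient.mkₐ_surjective A I)
    rw [this]
    congr 1
    exact Ideal.Quotient.mkₐ_ker A I
  have hρc : ρ (c * (b ⊗ₜ[A] (1 : A'))) = μ.rTensor A' (ρ c) := by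
    rw [map_mul]
    have h3 : ρ (b ⊗ₜ[A] (1 : A')) = (Ideal.Quotient.mk I b) ⊗ₜ[A] (1 : A') := by
      simp [ρ]
    rw [h3]
    generalize ρ c = d
    induction d using TensorProduct.induction_on with
    | zero => simp
    | tmul x a =>
      simp only [Algebra.TensorProduct.tmul_mul_tmul, mul_one, LinearMap.rTensor_tmul]
      rfl
    | add x y hx hy => rw [add_mul, hx, hy, map_add]
  have h4 : ρ (c * (b ⊗ₜ[A] (1 : A'))) = 0 := by
    rw [← RingHom.mem_ker, hker]
    exact hc
  rw [hρc] at h4
  have h5 : ρ c = 0 := hinj (h4.trans (map_zero _).symm)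
  rw [← hker, RingHom.mem_ker]
  exact h5

/-- A weakly regular sequence all of whose prefix quotients are flat over the base stays weakly
regular after an arbitrary base change. -/
theorem isWeaklyRegular_tensor (bs : List B) (hreg : IsWeaklyRegular B bs)
    (hflat : ∀ i : ℕ, Module.Flat A (B ⧸ Ideal.ofList (bs.take i))) :
    IsWeaklyRegular (B ⊗[A] A')
      (bs.map (Algebra.TensorProduct.includeLeft : B →ₐ[A] B ⊗[A] A')) := by
  refine ⟨fun i hi => ?_⟩
  have hi' : i < bs.length := by simpa using hi
  rw [isSMulRegular_iff_right_eq_zero_of_smul]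
  intro m hm
  obtain ⟨y, rfl⟩ := Submodule.Quotient.mk_surjective _ m
  rw [← Submodule.Quotient.mk_smul, Submodule.Quotient.mk_eq_zero] at hm
  rw [Submodule.Quotient.mk_eq_zero]
  have hL : (Ideal.ofList ((bs.map (Algebra.TensorProduct.includeLeft : B →ₐ[A] B ⊗[A] A')).take i) •
      (⊤ : Submodule (B ⊗[A] A') (B ⊗[A] A'))) =
      (Ideal.ofList (bs.take i)).map (Algebra.TensorProduct.includeLeft : B →ₐ[A] B ⊗[A] A') := by
    rw [smul_eq_mul, Ideal.mul_top, ← List.map_take, ofList_map_algHom]
  rw [hL] at hm ⊢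
  rw [List.getElem_map, smul_eq_mul] at hm
  have hreg_i := hreg.regular_mod_prev i hi'
  rw [isSMulRegular_iff_right_eq_zero_of_smul] at hreg_i
  have hb : ∀ y : B, y * bs[i] ∈ Ideal.ofList (bs.take i) → y ∈ Ideal.ofList (bs.take i) := by
    intro y hy
    have h1 := hreg_i (Submodule.Quotient.mk y) (by
      rw [← Submodule.Quotient.mk_smul, Submodule.Quotient.mk_eq_zero, smul_eq_mul, Ideal.mul_top,
        smul_eq_mul, mul_comm]
      exact hy)
    rwa [Submodule.Quotient.mk_eq_zero, smul_eq_mul, Ideal.mul_top] at h1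
  haveI : Module.Flat A (B ⧸ (Ideal.ofList (bs.take i) ⊔ Ideal.span {bs[i]})) := by
    have h2 : Ideal.ofList (bs.take i) ⊔ Ideal.span {bs[i]} = Ideal.ofList (bs.take (i + 1)) := by
      rw [List.take_succ_eq_append_getElem hi', Ideal.ofList_append, Ideal.ofList_singleton]
    rw [h2]
    exact hflat (i + 1)
  refine mem_map_includeLeft_of_mul_mem (A := A) (A' := A') (Ideal.ofList (bs.take i)) bs[i] hb y ?_
  rw [mul_comm]
  exact hm

end Tensor

section Pushout

variable {A B A' C : Type u} [CommRing A] [CommRing B] [CommRing A'] [CommRing C]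
  [Algebra A B] [Algebra A A'] [Algebra A C] [Algebra B C] [Algebra A' C]
  [IsScalarTower A B C] [IsScalarTower A A' C]

/-- A weakly regular sequence all of whose prefix quotients are flat over the base stays weakly
regular in any pushout. -/
theorem isWeaklyRegular_of_isPushout [Algebra.IsPushout A B A' C] (bs : List B)
    (hreg : IsWeaklyRegular B bs)
    (hflat : ∀ i : ℕ, Module.Flat A (B ⧸ Ideal.ofList (bs.take i))) :
    IsWeaklyRegular C (bs.map (algebraMap B C)) := by
  have h1 := isWeaklyRegular_tensor (A := A) (A' := A') bs hreg hflat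
  have h2 : IsWeaklyRegular (B ⊗[A] A') bs :=
    (isWeaklyRegular_map_algebraMap_iff (B ⊗[A] A') (B ⊗[A] A') bs).mp h1
  let e : (B ⊗[A] A') ≃ₗ[B] C := (Algebra.IsPushout.equiv A B A' C).toLinearEquiv
  have h3 : IsWeaklyRegular C bs := (e.isWeaklyRegular_congr bs).mp h2
  exact (isWeaklyRegular_map_algebraMap_iff C C bs).mpr h3

end Pushout

end Groth.Agent.H49.RegSlice
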