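import Mathlib
import Groth.Agent.H8.RelFPBaseChange
import Groth.Agent.H9.RegImm
import Groth.Agent.H49.RegSliceRing

/-!
# Slicing by a fibrewise regular sequence: the base change clause (towards S1459)

* `ker_of_isPushout`: in a pushout square of commutative rings along a surjection, the pushed-out
  map has the extended kernel.
* `regular_baseChange`: a closed immersion into an affine scheme cut out by a weakly regular
  sequence all of whose prefix quotients are flat over the base stays a regular closed immersion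
  after any base change.
-/

set_option autoImplicit false
set_option linter.style.haveILetI false

universe u

open AlgebraicGeometry CategoryTheory Limits RingTheory.Sequence

namespace Groth.Agent.H49.RegSlice

/-- In a pushout square of commutative rings in which `α` is surjective, the kernel of the map
opposite to `α` is the extension of the kernel of `α`. -/
theorem ker_of_isPushout {B C Bq C' : CommRingCat.{u}} (φ : B ⟶ C) (α : B ⟶ Bq) (inl : C ⟶ C')
    (inr : Bq ⟶ C') (h : IsPushout φ α inl inr) (hα : Function.Surjective α.hom) :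
    RingHom.ker inl.hom = (RingHom.ker α.hom).map φ.hom := by
  apply le_antisymm
  · intro x hx
    set K : Ideal C := (RingHom.ker α.hom).map φ.hom with hK
    let ψ₁ : C ⟶ CommRingCat.of (C ⧸ K) := CommRingCat.ofHom (Ideal.Quotient.mk K)
    have hle : RingHom.ker α.hom ≤ RingHom.ker ((Ideal.Quotient.mk K).comp φ.hom) := by
      intro b hb
      rw [RingHom.mem_ker, RingHom.comp_apply, Ideal.Quotient.eq_zero_iff_mem]
      exact Ideal.mem_map_of_mem _ hb
    let ψ₂ : Bq ⟶ CommRingCat.of (C ⧸ K) :=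
      CommRingCat.ofHom (RingHom.liftOfSurjective α.hom hα ⟨(Ideal.Quotient.mk K).comp φ.hom, hle⟩)
    have hcomm : φ ≫ ψ₁ = α ≫ ψ₂ := by
      ext b
      change Ideal.Quotient.mk K (φ.hom b) =
        (RingHom.liftOfSurjective α.hom hα ⟨(Ideal.Quotient.mk K).comp φ.hom, hle⟩) (α.hom b)
      rw [RingHom.liftOfRightInverse_comp_apply]
      rfl
    have hd : inl ≫ h.desc ψ₁ ψ₂ hcomm = ψ₁ := h.inl_desc _ _ _
    have h1 : (h.desc ψ₁ ψ₂ hcomm).hom (inl.hom x) = Ideal.Quotient.mk K x := by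
      have := congrArg (fun m => m.hom x) hd
      exact this
    rw [RingHom.mem_ker] at hx
    rw [hx, map_zero] at h1
    exact Ideal.Quotient.eq_zero_iff_mem.mp h1.symm
  · rw [Ideal.map_le_iff_le_comap]
    intro b hb
    rw [Ideal.mem_comap, RingHom.mem_ker]
    have h1 : inl.hom (φ.hom b) = inr.hom (α.hom b) := by
      have := congrArg (fun m => m.hom b) h.w
      exact this
    rw [h1, (RingHom.mem_ker).mp hb, map_zero]


variable {S S' Y Z : Scheme.{u}}

set_option maxHeartbeats 1600000 in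
/-- A closed immersion `i : Z ⟶ Y` into an affine scheme over `S` (mapping into the affine open
`V`), cut out by a weakly regular sequence all of whose prefix quotients are flat over `Γ(S, V)`,
stays a regular closed immersion after any base change `S' ⟶ S`. -/
theorem regular_baseChange (j : Y ⟶ S) [IsAffine Y] {V : S.Opens} (hV : IsAffineOpen V)
    (hjV : ⊤ ≤ j ⁻¹ᵁ V) (i : Z ⟶ Y) [IsClosedImmersion i] (bs : List Γ(Y, ⊤))
    (hwr : IsWeaklyRegular Γ(Y, ⊤) bs)
    (hker : i.ker.ideal ⟨⊤, isAffineOpen_top Y⟩ = Ideal.ofList bs)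
    (hflat : letI := (j.appLE V ⊤ hjV).hom.toAlgebra
      ∀ n : ℕ, Module.Flat Γ(S, V) (Γ(Y, ⊤) ⧸ Ideal.ofList (bs.take n)))
    (γ : S' ⟶ S) (k : Z ⟶ S) (hk : k = i ≫ j) (e1 : k ≫ 𝟙 S = i ≫ j)
    (e2 : γ ≫ 𝟙 S = 𝟙 S' ≫ γ) :
    Mor2.IsRegularClosedImmersion (pullback.map k γ j γ i (𝟙 S') (𝟙 S) e1 e2) := by
  subst hk
  obtain ⟨P, hPdef⟩ : ∃ P : pullback (i ≫ j) γ ⟶ pullback j γ,
      P = pullback.map (i ≫ j) γ j γ i (𝟙 S') (𝟙 S) e1 e2 := ⟨_, rfl⟩
  rw [← hPdef]
  have hP1 : P ≫ pullback.fst j γ = pullback.fst (i ≫ j) γ ≫ i := by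
    rw [hPdef]; exact pullback.lift_fst _ _ _
  have hP2 : P ≫ pullback.snd j γ = pullback.snd (i ≫ j) γ := by
    rw [hPdef]; exact (pullback.lift_snd _ _ _).trans (Category.comp_id _)
  have hsq : IsPullback P (pullback.fst (i ≫ j) γ) (pullback.fst j γ) i := by
    refine IsPullback.of_right ?_ hP1 (IsPullback.of_hasPullback j γ).flip
    rw [hP2]
    exact (IsPullback.of_hasPullback (i ≫ j) γ).flip
  haveI hPci : IsClosedImmersion P := MorphismProperty.of_isPullback hsq.flip inferInstance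
  haveI : IsAffine Z := isAffine_of_isAffineHom i
  refine ⟨hPci, fun z => ?_⟩
  -- an affine open of `S'` around the image of `z`
  have hs'V : (pullback.snd (i ≫ j) γ) z ∈ γ ⁻¹ᵁ V := by
    change γ ((pullback.snd (i ≫ j) γ) z) ∈ V
    rw [← Scheme.Hom.comp_apply, ← pullback.condition, Scheme.Hom.comp_apply,
      Scheme.Hom.comp_apply]
    exact hjV (show i ((pullback.fst (i ≫ j) γ) z) ∈ (⊤ : Y.Opens) from trivial)
  obtain ⟨_, ⟨V', hV', rfl⟩, hs'V', hV'V⟩ :=
    S'.isBasis_affineOpens.exists_subset_of_mem_open hs'V (γ ⁻¹ᵁ V).2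
  have hV'V' : V' ≤ γ ⁻¹ᵁ V := hV'V
  -- the product open
  obtain ⟨W, hWdef⟩ : ∃ W : (pullback j γ).Opens,
      W = (pullback.fst j γ) ⁻¹ᵁ ⊤ ⊓ (pullback.snd j γ) ⁻¹ᵁ V' := ⟨_, rfl⟩
  have hW : IsAffineOpen W := by
    rw [hWdef]
    exact Groth.Agent.H8.isAffineOpen_prodOpen (IsPullback.of_hasPullback j γ) hV hV' hV'V'
      (isAffineOpen_top Y) hjV
  have hPzW : P z ∈ W := by
    rw [hWdef]
    refine ⟨trivial, ?_⟩
    change (pullback.snd j γ) (P z) ∈ V'
    rw [← Scheme.Hom.comp_apply, hP2]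
    exact hs'V'
  have hWfst : W ≤ (pullback.fst j γ) ⁻¹ᵁ ⊤ := by rw [hWdef]; exact inf_le_left
  have hWsnd : W ≤ (pullback.snd j γ) ⁻¹ᵁ V' := by rw [hWdef]; exact inf_le_right
  -- the first pushout square
  have hpush : IsPushout (j.appLE V ⊤ hjV) (γ.appLE V V' hV'V')
      ((pullback.fst j γ).appLE ⊤ W hWfst) ((pullback.snd j γ).appLE V' W hWsnd) := by
    have := isIso_pushoutSection_of_isAffineOpen (IsPullback.of_hasPullback j γ) hV'V' hjV hWdef
      hV hV' (isAffineOpen_top Y)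
    exact (isIso_pushoutSection_iff (IsPullback.of_hasPullback j γ) hV'V' hjV hWdef).mp this
  -- the second pushout square, computing the kernel
  have hiTop : (⊤ : Z.Opens) ≤ i ⁻¹ᵁ ⊤ := le_rfl
  have hUY : P ⁻¹ᵁ W = P ⁻¹ᵁ W ⊓ (pullback.fst (i ≫ j) γ) ⁻¹ᵁ ⊤ := by
    refine (inf_of_le_left ?_).symm
    intro x _
    trivial
  have hpush2 := (isIso_pushoutSection_iff hsq hiTop hWfst hUY).mp
    (isIso_pushoutSection_of_isAffineOpen hsq hiTop hWfst hUY (isAffineOpen_top Y)
      (isAffineOpen_top Z) hW)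
  have hαsurj : Function.Surjective (i.appLE ⊤ ⊤ hiTop).hom := by
    have h1 : i.appLE ⊤ ⊤ hiTop = i.app ⊤ := Scheme.Hom.appLE_eq_app i
    rw [h1]
    exact Scheme.Hom.app_surjective i ⊤ (isAffineOpen_top Y)
  have hkerα : RingHom.ker (i.appLE ⊤ ⊤ hiTop).hom = Ideal.ofList bs := by
    have h1 : i.appLE ⊤ ⊤ hiTop = i.app ⊤ := Scheme.Hom.appLE_eq_app i
    rw [h1, ← hker, Scheme.Hom.ker_apply]
    rfl
  have hkerP : P.ker.ideal ⟨W, hW⟩ =
      Ideal.ofList (bs.map ((pullback.fst j γ).appLE ⊤ W hWfst).hom) := by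
    have h1 := ker_of_isPushout _ _ _ _ hpush2 hαsurj
    rw [hkerα, Ideal.map_ofList] at h1
    rw [Scheme.Hom.ker_apply, ← h1]
    have h2 : P.appLE W (P ⁻¹ᵁ W) le_rfl = P.app W := Scheme.Hom.appLE_eq_app P
    rw [← h2]
  -- the regular sequence
  refine ⟨W, hW, hPzW, bs.map ((pullback.fst j γ).appLE ⊤ W hWfst).hom, ?_, hkerP⟩
  rw [Groth.Agent.H9.isRegular_ring_iff]
  refine ⟨?_, fun htop => Groth.Agent.H9.ker_ideal_ne_top P ⟨W, hW⟩ z hPzW (hkerP.trans htop)⟩
  letI a1 : Algebra Γ(S, V) Γ(Y, ⊤) := (j.appLE V ⊤ hjV).hom.toAlgebra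
  letI a2 : Algebra Γ(S, V) Γ(S', V') := (γ.appLE V V' hV'V').hom.toAlgebra
  letI a3 : Algebra Γ(Y, ⊤) Γ(pullback j γ, W) :=
    ((pullback.fst j γ).appLE ⊤ W hWfst).hom.toAlgebra
  letI a4 : Algebra Γ(S', V') Γ(pullback j γ, W) :=
    ((pullback.snd j γ).appLE V' W hWsnd).hom.toAlgebra
  letI a5 : Algebra Γ(S, V) Γ(pullback j γ, W) :=
    (((pullback.fst j γ).appLE ⊤ W hWfst).hom.comp (j.appLE V ⊤ hjV).hom).toAlgebra
  haveI t1 : IsScalarTower Γ(S, V) Γ(Y, ⊤) Γ(pullback j γ, W) :=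
    IsScalarTower.of_algebraMap_eq' rfl
  haveI t2 : IsScalarTower Γ(S, V) Γ(S', V') Γ(pullback j γ, W) :=
    IsScalarTower.of_algebraMap_eq' (congrArg CommRingCat.Hom.hom hpush.w)
  haveI hpo : Algebra.IsPushout Γ(S, V) Γ(Y, ⊤) Γ(S', V') Γ(pullback j γ, W) :=
    CommRingCat.isPushout_iff_isPushout.mp hpush
  exact isWeaklyRegular_of_isPushout (A := Γ(S, V)) (A' := Γ(S', V')) bs hwr hflat

end Groth.Agent.H49.RegSlice
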