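import Mathlib
import Groth.Agent.H49.CMSliceSch
import Groth.Agent.H49.RegSliceBC

/-!
# Slicing by a fibrewise regular sequence (S1459)
-/

set_option autoImplicit false
set_option linter.style.haveILetI false

universe u

open AlgebraicGeometry CategoryTheory Limits RingTheory.Sequence

namespace Groth.Agent.H49.RegSlice

open Groth.Agent.H49.CMSlice

/-- Converting regularity on the quotient ring into the module form, and membership in the maximal
ideal. -/
theorem convert_regular (T : Type u) [CommRing T] [IsLocalRing T] (I : Ideal T) (ts : List T)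
    (h : IsRegular (T ⧸ I) (ts.map (Ideal.Quotient.mk I))) :
    (∀ t ∈ ts, t ∈ IsLocalRing.maximalIdeal T) ∧
      IsWeaklyRegular (T ⧸ (I • (⊤ : Submodule T T))) ts := by
  constructor
  · intro t ht
    by_contra hnot
    have hu : IsUnit t := by
      by_contra h1
      exact hnot ((IsLocalRing.mem_maximalIdeal t).mpr h1)
    have h1 : Ideal.ofList (ts.map (Ideal.Quotient.mk I)) = ⊤ := by
      apply Ideal.eq_top_of_isUnit_mem _ _ (hu.map (Ideal.Quotient.mk I))
      exact Ideal.subset_span (List.mem_map_of_mem ht)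
    apply h.top_ne_smul
    rw [h1, smul_eq_mul, Ideal.top_mul]
  · have h1 : IsWeaklyRegular (T ⧸ I) (ts.map (algebraMap T (T ⧸ I))) := h.toIsWeaklyRegular
    have h2 : IsWeaklyRegular (T ⧸ I) ts :=
      (isWeaklyRegular_map_algebraMap_iff (T ⧸ I) (T ⧸ I) ts).mp h1
    have e1 : (I : Submodule T T) = I • (⊤ : Submodule T T) := by
      rw [smul_eq_mul, Ideal.mul_top]
    exact ((Submodule.quotEquivOfEq _ _ e1).isWeaklyRegular_congr ts).mp h2

variable {X S : Scheme.{u}}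

theorem topIso_inv_eq_appLE (U : X.Opens) :
    U.topIso.inv = U.ι.appLE U ⊤ (by rw [Scheme.Opens.ι_preimage_self]) := by
  rw [Scheme.Opens.ι_appLE]
  change X.presheaf.map _ = X.presheaf.map _
  congr 1

theorem comp_ι_appLE (f : X ⟶ S) {V : S.Opens} {U : X.Opens} (hUV : U ≤ f ⁻¹ᵁ V)
    (hjV : ⊤ ≤ (U.ι ≫ f) ⁻¹ᵁ V) :
    (U.ι ≫ f).appLE V ⊤ hjV = f.appLE V U hUV ≫ U.topIso.inv := by
  rw [topIso_inv_eq_appLE, Scheme.Hom.appLE_comp_appLE]

set_option maxHeartbeats 3200000 in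
/-- Assembling the slice from affine data. -/
theorem assemble_reg (f : X ⟶ S) [LocallyOfFinitePresentation f] (x : X) {V : S.Opens}
    (hV : IsAffineOpen V) {U : X.Opens} (hU : IsAffineOpen U) (hUV : U ≤ f ⁻¹ᵁ V)
    (bs' : List Γ(X, U)) (hwr : IsWeaklyRegular Γ(X, U) bs')
    (hx : ∃ P : Spec Γ(X, U), Ideal.ofList bs' ≤ P.asIdeal ∧ hU.fromSpec P = x)
    (hfl : letI := (f.appLE V U hUV).hom.toAlgebra
      ∀ n : ℕ, Module.Flat Γ(S, V) (Γ(X, U) ⧸ Ideal.ofList (bs'.take n))) :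
    Mor2.IsRegularClosedImmersion (Spec.map (CommRingCat.ofHom
        (Ideal.Quotient.mk (Ideal.ofList bs'))) ≫ hU.isoSpec.inv) ∧
      x ∈ Set.range ⇑(Spec.map (CommRingCat.ofHom (Ideal.Quotient.mk (Ideal.ofList bs'))) ≫
        hU.fromSpec) ∧
      Flat (Spec.map (CommRingCat.ofHom (Ideal.Quotient.mk (Ideal.ofList bs'))) ≫
        hU.fromSpec ≫ f) ∧
      LocallyOfFinitePresentation (Spec.map (CommRingCat.ofHom
        (Ideal.Quotient.mk (Ideal.ofList bs'))) ≫ hU.fromSpec ≫ f) ∧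
      ∀ (S' : Scheme.{u}) (g : S' ⟶ S), Mor2.IsRegularClosedImmersion
        (pullback.map (Spec.map (CommRingCat.ofHom (Ideal.Quotient.mk (Ideal.ofList bs'))) ≫
            hU.isoSpec.inv ≫ U.ι ≫ f) g (U.ι ≫ f) g
          (Spec.map (CommRingCat.ofHom (Ideal.Quotient.mk (Ideal.ofList bs'))) ≫ hU.isoSpec.inv)
          (𝟙 S') (𝟙 S) (Category.comp_id _)
          ((Category.comp_id g).trans (Category.id_comp g).symm)) := by
  haveI : IsAffine ↑U := hU
  haveI hci : IsClosedImmersion (Spec.map (CommRingCat.ofHom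
      (Ideal.Quotient.mk (Ideal.ofList bs')))) :=
    IsClosedImmersion.spec_of_surjective _ Ideal.Quotient.mk_surjective
  obtain ⟨i, hidef⟩ : ∃ i : Spec (CommRingCat.of (Γ(X, U) ⧸ Ideal.ofList bs')) ⟶ (U : Scheme.{u}),
      i = Spec.map (CommRingCat.ofHom (Ideal.Quotient.mk (Ideal.ofList bs'))) ≫ hU.isoSpec.inv :=
    ⟨_, rfl⟩
  have hiι : i ≫ U.ι = Spec.map (CommRingCat.ofHom (Ideal.Quotient.mk (Ideal.ofList bs'))) ≫
      hU.fromSpec := by
    rw [hidef, Category.assoc, IsAffineOpen.isoSpec_inv_ι]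
  haveI hici : IsClosedImmersion i := by rw [hidef]; infer_instance
  have hcomp : Spec.map (CommRingCat.ofHom (Ideal.Quotient.mk (Ideal.ofList bs'))) ≫
      hU.fromSpec ≫ f = Spec.map (f.appLE V U hUV ≫
      CommRingCat.ofHom (Ideal.Quotient.mk (Ideal.ofList bs'))) ≫ hV.fromSpec := by
    rw [Spec.map_comp, Category.assoc, IsAffineOpen.SpecMap_appLE_fromSpec f hV hU hUV]
  have happ : i.appTop = U.topIso.hom ≫
      CommRingCat.ofHom (Ideal.Quotient.mk (Ideal.ofList bs')) ≫ (Scheme.ΓSpecIso _).inv := by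
    rw [hidef, Scheme.Hom.comp_appTop, IsAffineOpen.isoSpec_inv_appTop, Category.assoc,
      ← Scheme.ΓSpecIso_inv_naturality]
  have hker : i.ker.ideal ⟨⊤, isAffineOpen_top _⟩ = Ideal.ofList (bs'.map U.topIso.inv.hom) := by
    rw [Scheme.Hom.ker_apply, ← Ideal.map_ofList]
    change RingHom.ker i.appTop.hom = _
    rw [happ]
    ext y
    rw [RingHom.mem_ker]
    simp only [CommRingCat.hom_comp, RingHom.comp_apply, CommRingCat.hom_ofHom]
    have hinj : Function.Injective (Scheme.ΓSpecIso (CommRingCat.of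
        (Γ(X, U) ⧸ Ideal.ofList bs'))).inv.hom :=
      (ConcreteCategory.bijective_of_isIso (Scheme.ΓSpecIso _).inv).injective
    rw [← map_zero (Scheme.ΓSpecIso (CommRingCat.of (Γ(X, U) ⧸ Ideal.ofList bs'))).inv.hom,
      hinj.eq_iff, Ideal.Quotient.eq_zero_iff_mem]
    constructor
    · intro h
      have h1 := Ideal.mem_map_of_mem U.topIso.inv.hom h
      have h2 : U.topIso.inv.hom (U.topIso.hom.hom y) = y := by
        rw [← RingHom.comp_apply, ← CommRingCat.hom_comp, Iso.hom_inv_id]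
        rfl
      rwa [h2] at h1
    · intro h
      have h3 : Ideal.map U.topIso.inv.hom (Ideal.ofList bs') ≤
          (Ideal.ofList bs').comap U.topIso.hom.hom := by
        rw [Ideal.map_le_iff_le_comap]
        intro b hb
        rw [Ideal.mem_comap, Ideal.mem_comap, ← RingHom.comp_apply, ← CommRingCat.hom_comp,
          Iso.inv_hom_id]
        exact hb
      exact h3 h
  have hwr₂ : IsWeaklyRegular Γ(↑U, ⊤) (bs'.map U.topIso.inv.hom) := by
    letI : Algebra Γ(X, U) Γ(↑U, ⊤) := U.topIso.inv.hom.toAlgebra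
    haveI : Module.Flat Γ(X, U) Γ(↑U, ⊤) := by
      have hb : Function.Bijective U.topIso.inv.hom :=
        ConcreteCategory.bijective_of_isIso U.topIso.inv
      exact Module.Flat.of_linearEquiv
        (LinearEquiv.ofBijective (Algebra.linearMap Γ(X, U) Γ(↑U, ⊤)) hb).symm
    exact hwr.of_flat
  refine ⟨?_, ?_, ?_, ?_, ?_⟩
  · rw [← hidef]
    refine ⟨hici, fun z => ⟨⊤, isAffineOpen_top _, trivial,
      bs'.map U.topIso.inv.hom, ?_, hker⟩⟩
    rw [Groth.Agent.H9.isRegular_ring_iff]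
    exact ⟨hwr₂, fun htop => Groth.Agent.H9.ker_ideal_ne_top i ⟨⊤, isAffineOpen_top _⟩ z trivial
      (hker.trans htop)⟩
  · obtain ⟨P, hJP, hPx⟩ := hx
    haveI : P.asIdeal.IsPrime := P.isPrime
    haveI : (P.asIdeal.map (Ideal.Quotient.mk (Ideal.ofList bs'))).IsPrime :=
      isPrime_map_mk P.asIdeal _ hJP
    refine ⟨⟨P.asIdeal.map (Ideal.Quotient.mk (Ideal.ofList bs')), inferInstance⟩, ?_⟩
    have h1 : (Spec.map (CommRingCat.ofHom (Ideal.Quotient.mk (Ideal.ofList bs'))))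
        ⟨P.asIdeal.map (Ideal.Quotient.mk (Ideal.ofList bs')), inferInstance⟩ = P :=
      PrimeSpectrum.ext (comap_map_mk P.asIdeal _ hJP)
    change hU.fromSpec ((Spec.map (CommRingCat.ofHom (Ideal.Quotient.mk (Ideal.ofList bs'))))
        ⟨P.asIdeal.map (Ideal.Quotient.mk (Ideal.ofList bs')), inferInstance⟩) = x
    rw [h1, hPx]
  · rw [hcomp]
    haveI : Flat (Spec.map (f.appLE V U hUV ≫
        CommRingCat.ofHom (Ideal.Quotient.mk (Ideal.ofList bs')))) := by
      rw [Flat.SpecMap_iff]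
      letI : Algebra Γ(S, V) Γ(X, U) := (f.appLE V U hUV).hom.toAlgebra
      have halgeq : (f.appLE V U hUV ≫
          CommRingCat.ofHom (Ideal.Quotient.mk (Ideal.ofList bs'))).hom.toAlgebra =
          (inferInstance : Algebra Γ(S, V) (Γ(X, U) ⧸ Ideal.ofList bs')) :=
        Algebra.algebra_ext _ _ (fun a => rfl)
      change @Module.Flat _ _ _ _ (@Algebra.toModule _ _ _ _ (f.appLE V U hUV ≫
        CommRingCat.ofHom (Ideal.Quotient.mk (Ideal.ofList bs'))).hom.toAlgebra)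
      rw [halgeq]
      have := hfl bs'.length
      rwa [List.take_length] at this
    infer_instance
  · rw [← Category.assoc, ← hiι, Category.assoc]
    haveI : LocallyOfFinitePresentation (Spec.map (CommRingCat.ofHom (Ideal.Quotient.mk
        (Ideal.ofList bs')))) := by
      rw [HasRingHomProperty.Spec_iff (P := @LocallyOfFinitePresentation)]
      refine RingHom.FinitePresentation.of_surjective _ Ideal.Quotient.mk_surjective ?_
      change (RingHom.ker (Ideal.Quotient.mk (Ideal.ofList bs'))).FG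
      rw [Ideal.mk_ker]
      exact ofList_fg bs'
    haveI : LocallyOfFinitePresentation i := by rw [hidef]; infer_instance
    infer_instance
  · intro S' g
    have hjV : ⊤ ≤ (U.ι ≫ f) ⁻¹ᵁ V := fun y _ => hUV y.2
    subst hidef
    refine regular_baseChange (U.ι ≫ f) hV hjV _ (bs'.map U.topIso.inv.hom) hwr₂ hker ?_ g _
      (by rw [Category.assoc]) _ _
    letI aB : Algebra Γ(S, V) Γ(X, U) := (f.appLE V U hUV).hom.toAlgebra
    letI aB₂ : Algebra Γ(S, V) Γ(↑U, ⊤) := ((U.ι ≫ f).appLE V ⊤ hjV).hom.toAlgebra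
    intro n
    let τe : Γ(X, U) ≃ₐ[Γ(S, V)] Γ(↑U, ⊤) :=
      AlgEquiv.ofRingEquiv (f := U.topIso.symm.commRingCatIsoToRingEquiv) (fun a => by
        change U.topIso.inv.hom ((f.appLE V U hUV).hom a) = ((U.ι ≫ f).appLE V ⊤ hjV).hom a
        rw [comp_ι_appLE f hUV hjV]
        rfl)
    haveI := hfl n
    refine Module.Flat.of_linearEquiv (Ideal.quotientEquivAlg (Ideal.ofList (bs'.take n))
      (Ideal.ofList ((bs'.map U.topIso.inv.hom).take n)) τe ?_).symm.toLinearEquiv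
    rw [← List.map_take, ← Ideal.map_ofList]
    rfl

set_option maxHeartbeats 3200000 in
/-- Statement of S1459: slicing by a sequence regular on the fibre. -/
theorem main (f : X ⟶ S) [LocallyOfFinitePresentation f] (x : X)
    (hflat : (f.stalkMap x).hom.Flat) (hs : List ↑(X.presheaf.stalk x))
    (hreg : RingTheory.Sequence.IsRegular (↑(X.presheaf.stalk x) ⧸ Ideal.map (f.stalkMap x).hom
        (IsLocalRing.maximalIdeal ↑(S.presheaf.stalk (f x))))
      (hs.map (Ideal.Quotient.mk (Ideal.map (f.stalkMap x).hom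
        (IsLocalRing.maximalIdeal ↑(S.presheaf.stalk (f x))))))) :
    ∃ (U : X.Opens) (hU : IsAffineOpen U) (hx : x ∈ U) (hs' : List Γ(X, U)),
      hs'.map (X.presheaf.germ U x hx) = hs ∧
      Mor2.IsRegularClosedImmersion (Spec.map (CommRingCat.ofHom
        (Ideal.Quotient.mk (Ideal.ofList hs'))) ≫ hU.isoSpec.inv) ∧
      x ∈ Set.range ⇑(Spec.map (CommRingCat.ofHom (Ideal.Quotient.mk (Ideal.ofList hs'))) ≫
        hU.fromSpec) ∧
      Flat (Spec.map (CommRingCat.ofHom (Ideal.Quotient.mk (Ideal.ofList hs'))) ≫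
        hU.fromSpec ≫ f) ∧
      LocallyOfFinitePresentation (Spec.map (CommRingCat.ofHom
        (Ideal.Quotient.mk (Ideal.ofList hs'))) ≫ hU.fromSpec ≫ f) ∧
      ∀ (S' : Scheme.{u}) (g : S' ⟶ S), Mor2.IsRegularClosedImmersion
        (pullback.map (Spec.map (CommRingCat.ofHom (Ideal.Quotient.mk (Ideal.ofList hs'))) ≫
            hU.isoSpec.inv ≫ U.ι ≫ f) g (U.ι ≫ f) g
          (Spec.map (CommRingCat.ofHom (Ideal.Quotient.mk (Ideal.ofList hs'))) ≫ hU.isoSpec.inv)
          (𝟙 S') (𝟙 S) (Category.comp_id _)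
          ((Category.comp_id g).trans (Category.id_comp g).symm)) := by
  obtain ⟨htsmem, htsreg⟩ := convert_regular (X.presheaf.stalk x) _ hs hreg
  letI algx : Algebra (S.presheaf.stalk (f x)) (X.presheaf.stalk x) :=
    (f.stalkMap x).hom.toAlgebra
  haveI : IsLocalHom (algebraMap (S.presheaf.stalk (f x)) (X.presheaf.stalk x)) :=
    inferInstanceAs (IsLocalHom (f.stalkMap x).hom)
  haveI : Module.Flat (S.presheaf.stalk (f x)) (X.presheaf.stalk x) := hflat
  -- charts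
  obtain ⟨V, hV, hxV, -⟩ :=
    exists_isAffineOpen_mem_and_subset (x := f x) (U := (⊤ : S.Opens)) trivial
  obtain ⟨W', hxW', ss, hss⟩ := exists_list_germ X x hs
  obtain ⟨U₀, hU₀, hxU₀, hU₀le⟩ :=
    exists_isAffineOpen_mem_and_subset (x := x) (U := f ⁻¹ᵁ V ⊓ W') ⟨hxV, hxW'⟩
  have hU₀V : U₀ ≤ f ⁻¹ᵁ V := hU₀le.trans inf_le_left
  have hU₀W' : U₀ ≤ W' := hU₀le.trans inf_le_right
  -- algebra set-up
  letI : Algebra Γ(S, V) Γ(X, U₀) := (f.appLE V U₀ hU₀V).hom.toAlgebra
  haveI : Algebra.FinitePresentation Γ(S, V) Γ(X, U₀) := f.finitePresentation_appLE hV hU₀ hU₀V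
  letI : Algebra Γ(S, V) (S.presheaf.stalk (f x)) := S.presheaf.algebra_section_stalk ⟨f x, hxV⟩
  letI : Algebra Γ(X, U₀) (X.presheaf.stalk x) := X.presheaf.algebra_section_stalk ⟨x, hxU₀⟩
  letI : Algebra Γ(S, V) (X.presheaf.stalk x) :=
    ((algebraMap (S.presheaf.stalk (f x)) (X.presheaf.stalk x)).comp
      (algebraMap Γ(S, V) (S.presheaf.stalk (f x)))).toAlgebra
  haveI : IsScalarTower Γ(S, V) (S.presheaf.stalk (f x)) (X.presheaf.stalk x) :=
    .of_algebraMap_eq fun _ => rfl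
  haveI : IsScalarTower Γ(S, V) Γ(X, U₀) (X.presheaf.stalk x) := .of_algebraMap_eq fun a => by
    change (f.stalkMap x).hom (S.presheaf.germ V (f x) hxV a) =
      X.presheaf.germ U₀ x hxU₀ ((f.appLE V U₀ hU₀V).hom a)
    exact Groth.Agent.H57.stalkMap_germ_appLE f hU₀V x hxU₀ a
  haveI := hV.isLocalization_stalk ⟨f x, hxV⟩
  haveI := hU₀.isLocalization_stalk ⟨x, hxU₀⟩
  -- the sequence on the chart
  obtain ⟨bs, hbsdef⟩ : ∃ bs : List Γ(X, U₀),
      bs = ss.map (X.presheaf.map (homOfLE hU₀W').op).hom := ⟨_, rfl⟩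
  have hbsT : bs.map (algebraMap Γ(X, U₀) (X.presheaf.stalk x)) = hs := by
    rw [hbsdef, List.map_map, ← hss]
    apply List.map_congr_left
    intro a _
    exact TopCat.Presheaf.germ_res_apply X.presheaf _ x _ a
  have hbsq : ∀ b ∈ bs, b ∈ (hU₀.primeIdealOf ⟨x, hxU₀⟩).asIdeal := by
    intro b hb
    have h1 : algebraMap Γ(X, U₀) (X.presheaf.stalk x) b ∈
        IsLocalRing.maximalIdeal (X.presheaf.stalk x) :=
      htsmem _ (hbsT ▸ List.mem_map_of_mem hb)
    exact (IsLocalization.AtPrime.to_map_mem_maximal_iff (X.presheaf.stalk x)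
      (hU₀.primeIdealOf ⟨x, hxU₀⟩).asIdeal b).mp h1
  obtain ⟨g, hgq, hmain⟩ := spread_regular_all Γ(S, V) (S.presheaf.stalk (f x)) Γ(X, U₀)
    (X.presheaf.stalk x) (hV.primeIdealOf ⟨f x, hxV⟩).asIdeal (hU₀.primeIdealOf ⟨x, hxU₀⟩).asIdeal
    congr($(IsAffineOpen.comap_primeIdealOf_appLE V hV U₀ hU₀ hU₀V hxU₀).1).symm bs hbsq
    (by rw [hbsT]; exact htsreg)
  -- the basic open
  have hxg : x ∈ X.basicOpen g :=
    (Groth.Agent.H8.mem_basicOpen_iff_notMem_primeIdealOf hU₀ x hxU₀ g).mpr hgq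
  have hU : IsAffineOpen (X.basicOpen g) := hU₀.basicOpen g
  haveI : IsLocalization.Away g Γ(X, X.basicOpen g) := hU₀.isLocalization_basicOpen g
  haveI : IsLocalization.Away (g * 1) Γ(X, X.basicOpen g) := by rw [mul_one]; infer_instance
  have hUV : X.basicOpen g ≤ f ⁻¹ᵁ V := (X.basicOpen_le g).trans hU₀V
  letI : Algebra Γ(S, V) Γ(X, X.basicOpen g) := (f.appLE V (X.basicOpen g) hUV).hom.toAlgebra
  haveI : IsScalarTower Γ(S, V) Γ(X, U₀) Γ(X, X.basicOpen g) := .of_algebraMap_eq fun a => by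
    change (f.appLE V (X.basicOpen g) hUV).hom a =
      (X.presheaf.map (homOfLE (X.basicOpen_le g)).op).hom ((f.appLE V U₀ hU₀V).hom a)
    rw [← Scheme.Hom.appLE_map f hU₀V (homOfLE (X.basicOpen_le g)).op]
    rfl
  obtain ⟨hwr, hfl⟩ := hmain 1 Γ(X, X.basicOpen g)
  have hdisj : Disjoint (Submonoid.powers g : Set Γ(X, U₀))
      ((hU₀.primeIdealOf ⟨x, hxU₀⟩).asIdeal : Set Γ(X, U₀)) :=
    (Ideal.disjoint_powers_iff_notMem _ (Ideal.IsPrime.isRadical inferInstance)).mpr hgq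
  have hq'prime : ((hU₀.primeIdealOf ⟨x, hxU₀⟩).asIdeal.map
      (algebraMap Γ(X, U₀) Γ(X, X.basicOpen g))).IsPrime :=
    IsLocalization.isPrime_of_isPrime_disjoint (Submonoid.powers g) _ _ inferInstance hdisj
  have hq'comap : ((hU₀.primeIdealOf ⟨x, hxU₀⟩).asIdeal.map
      (algebraMap Γ(X, U₀) Γ(X, X.basicOpen g))).comap
      (algebraMap Γ(X, U₀) Γ(X, X.basicOpen g)) = (hU₀.primeIdealOf ⟨x, hxU₀⟩).asIdeal :=
    IsLocalization.under_map_of_isPrime_disjoint (Submonoid.powers g) _ inferInstance hdisj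
  obtain ⟨bs', hbs'⟩ : ∃ bs' : List Γ(X, X.basicOpen g),
      bs' = bs.map (algebraMap Γ(X, U₀) Γ(X, X.basicOpen g)) := ⟨_, rfl⟩
  rw [← hbs'] at hwr
  have hJq' : Ideal.ofList bs' ≤ (hU₀.primeIdealOf ⟨x, hxU₀⟩).asIdeal.map
      (algebraMap Γ(X, U₀) Γ(X, X.basicOpen g)) := by
    rw [hbs', ← Ideal.map_ofList]
    exact Ideal.map_mono (ofList_le bs _ hbsq)
  have hfrom : ∀ P : Spec Γ(X, X.basicOpen g), hU.fromSpec P =
      hU₀.fromSpec (Spec.map (X.presheaf.map (homOfLE (X.basicOpen_le g)).op) P) := by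
    intro P
    rw [← Scheme.Hom.comp_apply, hU₀.map_fromSpec hU (homOfLE (X.basicOpen_le g)).op]
  have hgerm : bs'.map (X.presheaf.germ (X.basicOpen g) x hxg) = hs := by
    rw [hbs', List.map_map, ← hbsT]
    apply List.map_congr_left
    intro a _
    exact TopCat.Presheaf.germ_res_apply X.presheaf (homOfLE (X.basicOpen_le g)) x hxg a
  refine ⟨X.basicOpen g, hU, hxg, bs', hgerm, ?_⟩
  refine assemble_reg f x hV hU hUV bs' hwr ⟨⟨_, hq'prime⟩, hJq', ?_⟩ ?_
  · refine (hfrom _).trans ?_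
    have h1 : Spec.map (X.presheaf.map (homOfLE (X.basicOpen_le g)).op) ⟨_, hq'prime⟩ =
        hU₀.primeIdealOf ⟨x, hxU₀⟩ := PrimeSpectrum.ext hq'comap
    exact (congrArg hU₀.fromSpec h1).trans (hU₀.fromSpec_primeIdealOf ⟨x, hxU₀⟩)
  · intro n
    have := hfl n
    rw [List.map_take, ← hbs'] at this
    exact this

end Groth.Agent.H49.RegSlice
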