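import Mathlib.CategoryTheory.MorphismProperty.Representable
import Mathlib.CategoryTheory.Limits.Shapes.Diagonal

set_option autoImplicit false

namespace Groth.Agent.H49

open CategoryTheory CategoryTheory.Limits

universe v₁ v₂ u₁ u₂

variable {C : Type u₁} [Category.{v₁} C] {D : Type u₂} [Category.{v₂} D]

/-- The relative diagonal of a relatively representable morphism is relatively representable. -/
theorem relativelyRepresentable_diagonal (F : C ⥤ D) [F.Full] [F.Faithful] [HasPullbacks C]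
    [HasPullbacks D] [PreservesLimitsOfShape WalkingCospan F] {X Y : D} (a : X ⟶ Y)
    (ha : F.relativelyRepresentable a) : F.relativelyRepresentable (pullback.diagonal a) := by
  intro u ξ
  have hx : (ξ ≫ pullback.fst a a) ≫ a = (ξ ≫ pullback.snd a a) ≫ a := by
    simp [pullback.condition]
  obtain ⟨v, p, fst, hpb⟩ := ha ((ξ ≫ pullback.fst a a) ≫ a)
  let s₁ : F.obj u ⟶ F.obj v := hpb.lift (ξ ≫ pullback.fst a a) (𝟙 _) (by simp)
  let s₂ : F.obj u ⟶ F.obj v := hpb.lift (ξ ≫ pullback.snd a a) (𝟙 _) (by simp [hx])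
  have hs₁f : s₁ ≫ fst = ξ ≫ pullback.fst a a := hpb.lift_fst _ _ _
  have hs₁p : s₁ ≫ F.map p = 𝟙 _ := hpb.lift_snd _ _ _
  have hs₂f : s₂ ≫ fst = ξ ≫ pullback.snd a a := hpb.lift_fst _ _ _
  have hs₂p : s₂ ≫ F.map p = 𝟙 _ := hpb.lift_snd _ _ _
  let σ₁ : u ⟶ v := F.preimage s₁
  let σ₂ : u ⟶ v := F.preimage s₂
  have hσ₁ : F.map σ₁ = s₁ := F.map_preimage s₁
  have hσ₂ : F.map σ₂ = s₂ := F.map_preimage s₂
  have hσ₁p : σ₁ ≫ p = 𝟙 _ := F.map_injective (by rw [F.map_comp, hσ₁, hs₁p, F.map_id])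
  have hσ₂p : σ₂ ≫ p = 𝟙 _ := F.map_injective (by rw [F.map_comp, hσ₂, hs₂p, F.map_id])
  have hι : pullback.fst σ₁ σ₂ = pullback.snd σ₁ σ₂ := by
    have h := pullback.condition (f := σ₁) (g := σ₂)
    have h' := congrArg (· ≫ p) h
    simpa [Category.assoc, hσ₁p, hσ₂p] using h'
  have hFpb : IsPullback (F.map (pullback.fst σ₁ σ₂)) (F.map (pullback.snd σ₁ σ₂)) s₁ s₂ := by
    have := (IsPullback.of_hasPullback σ₁ σ₂).map F
    rwa [hσ₁, hσ₂] at this
  have hxx : F.map (pullback.fst σ₁ σ₂) ≫ ξ ≫ pullback.fst a a =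
      F.map (pullback.fst σ₁ σ₂) ≫ ξ ≫ pullback.snd a a := by
    rw [← hs₁f, ← hs₂f, ← Category.assoc, ← Category.assoc, hFpb.w, ← hι]
  have w : (F.map (pullback.fst σ₁ σ₂) ≫ ξ ≫ pullback.fst a a) ≫ pullback.diagonal a =
      F.map (pullback.fst σ₁ σ₂) ≫ ξ := by
    apply pullback.hom_ext
    · simp
    · simp only [Category.assoc, pullback.diagonal_snd, Category.comp_id]
      exact hxx
  refine ⟨pullback σ₁ σ₂, pullback.fst σ₁ σ₂, F.map (pullback.fst σ₁ σ₂) ≫ ξ ≫ pullback.fst a a, ?_⟩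
  have key : ∀ s : PullbackCone (pullback.diagonal a) ξ,
      s.fst = s.snd ≫ ξ ≫ pullback.fst a a ∧ s.snd ≫ s₁ = s.snd ≫ s₂ := by
    intro s
    have h1 : s.fst = s.snd ≫ ξ ≫ pullback.fst a a := by
      have := congrArg (· ≫ pullback.fst a a) s.condition
      simpa [Category.assoc] using this
    have h2 : s.fst = s.snd ≫ ξ ≫ pullback.snd a a := by
      have := congrArg (· ≫ pullback.snd a a) s.condition
      simpa [Category.assoc] using this
    refine ⟨h1, hpb.hom_ext ?_ ?_⟩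
    · rw [Category.assoc, Category.assoc, hs₁f, hs₂f, ← h1, ← h2]
    · rw [Category.assoc, Category.assoc, hs₁p, hs₂p]
  refine ⟨⟨w⟩, ⟨PullbackCone.IsLimit.mk w (fun s => hFpb.lift s.snd s.snd (key s).2) ?_ ?_ ?_⟩⟩
  · intro s
    rw [← Category.assoc, hFpb.lift_fst]
    exact (key s).1.symm
  · intro s
    exact hFpb.lift_fst _ _ _
  · intro s m _ hm2
    apply hFpb.hom_ext
    · rw [hFpb.lift_fst]; exact hm2
    · rw [hFpb.lift_snd, ← hι]; exact hm2

end Groth.Agent.H49
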