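import Mathlib.AlgebraicGeometry.Morphisms.SchemeTheoreticallyDominant
import Mathlib.AlgebraicGeometry.Morphisms.Separated
import Mathlib.AlgebraicGeometry.Morphisms.ClosedImmersion
import Mathlib.AlgebraicGeometry.FunctionField
import Mathlib.AlgebraicGeometry.Stalk

/-!
# helper49: scheme-theoretically dominant morphisms and separated targets

* `ext_of_isSchemeTheoreticallyDominant`: two morphisms to a separated `Z`-scheme which agree after
  composition with a scheme-theoretically dominant morphism are equal.
* the inclusion of the generic point of an integral scheme is quasi-compact and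
  scheme-theoretically dominant.
-/

set_option autoImplicit false
universe u

namespace Groth.Agent.H49

open CategoryTheory CategoryTheory.Limits AlgebraicGeometry

theorem ext_of_isSchemeTheoreticallyDominant {W X Y Z : Scheme.{u}} {f g : X ⟶ Y}
    (s : Y ⟶ Z) [IsSeparated s] (h : f ≫ s = g ≫ s)
    (ι : W ⟶ X) [IsSchemeTheoreticallyDominant ι] (hU : ι ≫ f = ι ≫ g) : f = g := by
  let X' : Over Z := Over.mk (f ≫ s)
  let Y' : Over Z := Over.mk s
  let U' : Over Z := Over.mk (ι ≫ f ≫ s)
  let f' : X' ⟶ Y' := Over.homMk f
  let g' : X' ⟶ Y' := Over.homMk g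
  let ι' : U' ⟶ X' := Over.homMk ι
  have : IsSeparated Y'.hom := ‹_›
  have hfac : (equalizer.lift ι' (by ext1; exact hU) : U' ⟶ equalizer f' g').left ≫
      (equalizer.ι f' g').left = ι := by
    rw [← Over.comp_left, equalizer.lift_ι]
    rfl
  have hker : (equalizer.ι f' g').left.ker = ⊥ := by
    rw [eq_bot_iff, ← ι.ker_eq_bot, ← hfac]
    exact Scheme.Hom.le_ker_comp _ _
  have : IsIso (equalizer.ι f' g').left := IsClosedImmersion.isIso_iff_ker_eq_bot.mpr hker
  rw [← cancel_epi (equalizer.ι f' g').left]
  exact congr($(equalizer.condition f' g').left)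

section generic

variable (T : Scheme.{u}) [IsIntegral T]

noncomputable instance : Unique ↑(Spec (T.presheaf.stalk (genericPoint T))) :=
  inferInstanceAs (Unique (Spec <| .of T.functionField))

theorem quasiCompact_of_finite {X Y : Scheme.{u}} (f : X ⟶ Y) [Finite X] : QuasiCompact f :=
  ⟨fun _ _ _ => (Set.toFinite _).isCompact⟩

instance : QuasiCompact (T.fromSpecStalk (genericPoint T)) := quasiCompact_of_finite _

instance : IsDominant (T.fromSpecStalk (genericPoint T)) := by
  rw [isDominant_iff, DenseRange, dense_iff_closure_eq, ← Set.univ_subset_iff,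
    ← (genericPoint_spec T).def]
  apply closure_mono
  rintro _ rfl
  exact ⟨IsLocalRing.closedPoint _, Scheme.fromSpecStalk_closedPoint⟩

instance : IsSchemeTheoreticallyDominant (T.fromSpecStalk (genericPoint T)) :=
  IsSchemeTheoreticallyDominant.of_isDominant _

end generic

end Groth.Agent.H49
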