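import Mathlib

/-!
# Criteria for separatedness

* `isSeparated_of_ext`: if any two morphisms from a reduced scheme to `X` over `S` agreeing on a
  dense open are equal, then `X ⟶ S` is separated.
* `ext_of_local`: the extension property follows when every two points in a fibre lie in a common
  open which is separated over the base.
-/

set_option autoImplicit false
open CategoryTheory CategoryTheory.Limits AlgebraicGeometry Opposite TopologicalSpace
universe u

namespace Groth.Agent.H49.SepCrit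

/-- A morphism from a reduced scheme landing set-theoretically in a closed subscheme factors
through it. -/
theorem exists_lift_of_isReduced {X' P' U : Scheme.{u}} [IsReduced U] (i : X' ⟶ P')
    [IsClosedImmersion i] (g : U ⟶ P') (hg : Set.range g ⊆ Set.range i) :
    ∃ h : U ⟶ X', h ≫ i = g := by
  have hker : i.ker ≤ g.ker := by
    refine Scheme.IdealSheafData.le_ofIdeals_iff.mpr fun A c hc => ?_
    have hc' : (i.app A.1).hom c = 0 := i.ideal_ker_le A hc
    rw [RingHom.mem_ker]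
    rw [← basicOpen_eq_bot_iff, ← Scheme.preimage_basicOpen, eq_bot_iff]
    intro u hu
    obtain ⟨x, hx⟩ := hg ⟨u, rfl⟩
    have hxm : x ∈ i ⁻¹ᵁ P'.basicOpen c := by
      show i x ∈ P'.basicOpen c
      rw [hx]; exact hu
    rw [Scheme.preimage_basicOpen] at hxm
    have h0 : (i.app A.1) c = 0 := hc'
    rw [h0, Scheme.basicOpen_zero] at hxm
    exact hxm
  exact ⟨IsClosedImmersion.lift i g hker, IsClosedImmersion.lift_fac i g hker⟩

theorem eq_comp_diagonal {T X S : Scheme.{u}} (f : X ⟶ S) (j : T ⟶ pullback f f)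
    (h : j ≫ pullback.fst f f = j ≫ pullback.snd f f) :
    j = (j ≫ pullback.fst f f) ≫ pullback.diagonal f := by
  apply pullback.hom_ext
  · rw [Category.assoc, pullback.diagonal_fst, Category.comp_id]
  · rw [Category.assoc, pullback.diagonal_snd, Category.comp_id, h]

theorem comp_fst_eq_comp_snd_of_factor {Y X S : Scheme.{u}} (f : X ⟶ S) (k : Y ⟶ pullback f f)
    (h' : Y ⟶ X) (hk : k = h' ≫ pullback.diagonal f) :
    k ≫ pullback.fst f f = k ≫ pullback.snd f f := by
  subst hk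
  rw [Category.assoc, Category.assoc, pullback.diagonal_fst, pullback.diagonal_snd]

set_option maxHeartbeats 800000 in
theorem isSeparated_of_ext {X S : Scheme.{u}} (f : X ⟶ S)
    (H : ∀ (T : Scheme.{u}) [IsReduced T] (g₁ g₂ : T ⟶ X) (U : T.Opens), g₁ ≫ f = g₂ ≫ f →
      Dense (U : Set T) → U.ι ≫ g₁ = U.ι ≫ g₂ → g₁ = g₂) : IsSeparated f := by
  constructor
  let 𝒰 := S.affineCover
  let 𝒱 (i) := (pullback f (𝒰.f i)).affineCover
  set W' := Scheme.Pullback.diagonalCoverDiagonalRange f 𝒰 𝒱 with hW'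
  set Δ := pullback.diagonal f with hΔ
  haveI hΔW : IsClosedImmersion (Δ ∣_ W') :=
    isClosedImmersion_diagonal_restrict_diagonalCoverDiagonalRange f 𝒰 𝒱
  have hrW : Set.range Δ ⊆ (W' : Set ↥(pullback f f)) :=
    Scheme.Pullback.range_diagonal_subset_diagonalCoverDiagonalRange f 𝒰 𝒱
  have hpt : ∀ x' : ↥(Δ ⁻¹ᵁ W'), W'.ι ((Δ ∣_ W') x') = Δ ((Δ ⁻¹ᵁ W').ι x') := fun x' => by
    have := congrArg (fun h => h.base x') (morphismRestrict_ι Δ W')
    exact this
  have himg : ⇑W'.ι '' Set.range (Δ ∣_ W') = Set.range Δ := by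
    ext w
    constructor
    · rintro ⟨_, ⟨x', rfl⟩, rfl⟩
      exact ⟨_, (hpt x').symm⟩
    · rintro ⟨x, rfl⟩
      have hx : x ∈ Δ ⁻¹ᵁ W' := hrW ⟨x, rfl⟩
      exact ⟨_, ⟨⟨x, hx⟩, rfl⟩, hpt ⟨x, hx⟩⟩
  have hclW : closure (Set.range Δ) ∩ (W' : Set ↥(pullback f f)) ⊆ Set.range Δ := by
    rintro w ⟨hw1, hw2⟩
    have hC : IsClosed (Set.range (Δ ∣_ W')) := (Δ ∣_ W').isClosedEmbedding.isClosed_range
    have hemb := W'.ι.isOpenEmbedding.isEmbedding
    have hw' : (⟨w, hw2⟩ : W') ∈ closure (Set.range (Δ ∣_ W')) := by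
      rw [hemb.closure_eq_preimage_closure_image, himg]
      exact hw1
    rw [hC.closure_eq] at hw'
    rw [← himg]
    exact ⟨_, hw', rfl⟩
  apply IsClosedImmersion.of_isPreimmersion
  rw [← closure_subset_iff_isClosed]
  intro z hz
  obtain ⟨_, ⟨A, hA : IsAffineOpen A, rfl⟩, hzA, -⟩ :=
    (pullback f f).isBasis_affineOpens.exists_subset_of_mem_open (Set.mem_univ z) isOpen_univ
  set φ := hA.fromSpec with hφ
  set R : Set ↥(Spec Γ(pullback f f, A)) := ⇑φ ⁻¹' Set.range Δ with hR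
  set I' : Ideal Γ(pullback f f, A) :=
    PrimeSpectrum.vanishingIdeal (show Set (PrimeSpectrum Γ(pullback f f, A)) from R) with hI'
  have hrad : I'.IsRadical := PrimeSpectrum.isRadical_vanishingIdeal _
  haveI : IsReduced (Γ(pullback f f, A) ⧸ I') := (Ideal.isRadical_iff_quotient_reduced I').mp hrad
  set e : Spec (CommRingCat.of (Γ(pullback f f, A) ⧸ I')) ⟶ Spec Γ(pullback f f, A) :=
    Spec.map (CommRingCat.ofHom (Ideal.Quotient.mk I')) with he
  set j := e ≫ φ with hj
  have hre : Set.range e = closure R := by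
    have h2 : Set.range (PrimeSpectrum.comap (Ideal.Quotient.mk I')) =
        closure (show Set (PrimeSpectrum Γ(pullback f f, A)) from R) := by
      rw [range_comap_of_surjective _ _ Ideal.Quotient.mk_surjective, Ideal.mk_ker,
        PrimeSpectrum.zeroLocus_vanishingIdeal_eq_closure]
    exact h2
  -- the dense open
  set U := j ⁻¹ᵁ W' with hU
  have hsub : ⇑e ⁻¹' R ⊆ (U : Set _) := by
    intro τ hτ
    exact hrW hτ
  have hdense : Dense (U : Set ↥(Spec (CommRingCat.of (Γ(pullback f f, A) ⧸ I')))) := by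
    refine Dense.mono hsub ?_
    rw [e.isClosedEmbedding.isEmbedding.isInducing.dense_iff]
    intro τ
    rw [Set.image_preimage_eq_inter_range, Set.inter_eq_left.mpr (subset_closure.trans hre.ge),
      ← hre]
    exact ⟨τ, rfl⟩
  -- agreement on the dense open
  have hagree : U.ι ≫ j ≫ pullback.fst f f = U.ι ≫ j ≫ pullback.snd f f := by
    have hgr : ∀ u : U, (U.ι ≫ j) u ∈ Set.range Δ := by
      intro u
      apply hclW
      refine ⟨?_, u.2⟩
      have h1 : e u.1 ∈ closure R := by rw [← hre]; exact ⟨_, rfl⟩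
      have h2 := φ.continuous.closure_preimage_subset (Set.range Δ) h1
      exact h2
    have hrange : Set.range (U.ι ≫ j) ⊆ Set.range W'.ι := by
      rintro _ ⟨u, rfl⟩
      rw [Scheme.Opens.range_ι]
      exact u.2
    set g' := IsOpenImmersion.lift W'.ι (U.ι ≫ j) hrange with hg'
    have hg'fac : g' ≫ W'.ι = U.ι ≫ j := IsOpenImmersion.lift_fac _ _ _
    have hg'r : Set.range g' ⊆ Set.range (Δ ∣_ W') := by
      rintro _ ⟨u, rfl⟩
      obtain ⟨x, hx⟩ := hgr u
      have hxW : x ∈ Δ ⁻¹ᵁ W' := hrW ⟨x, rfl⟩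
      refine ⟨⟨x, hxW⟩, ?_⟩
      apply W'.ι.isOpenEmbedding.injective
      rw [hpt]
      have h3 : W'.ι (g' u) = (U.ι ≫ j) u := by
        have := congrArg (fun h => h.base u) hg'fac
        exact this
      rw [h3]
      exact hx
    obtain ⟨h, hh⟩ := exists_lift_of_isReduced (Δ ∣_ W') g' hg'r
    have h4 : U.ι ≫ j = (h ≫ (Δ ⁻¹ᵁ W').ι) ≫ pullback.diagonal f :=
      hg'fac.symm.trans (by rw [← hh, Category.assoc, morphismRestrict_ι, ← Category.assoc])
    have h5 := comp_fst_eq_comp_snd_of_factor f (U.ι ≫ j) _ h4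
    exact (Category.assoc _ _ _).symm.trans (h5.trans (Category.assoc _ _ _))
  have hcond : (j ≫ pullback.fst f f) ≫ f = (j ≫ pullback.snd f f) ≫ f :=
    (Category.assoc _ _ _).trans ((congrArg (fun k => j ≫ k) pullback.condition).trans
      (Category.assoc _ _ _).symm)
  have heq : j ≫ pullback.fst f f = j ≫ pullback.snd f f :=
    H _ _ _ U hcond hdense hagree
  have hjΔ : j = (j ≫ pullback.fst f f) ≫ pullback.diagonal f := eq_comp_diagonal f j heq
  -- conclude
  have hzr : z ∈ Set.range φ := by rw [hφ, hA.range_fromSpec]; exact hzA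
  obtain ⟨ζ, rfl⟩ := hzr
  have hζ : ζ ∈ closure R := by
    rw [hR, ← φ.isOpenEmbedding.isOpenMap.preimage_closure_eq_closure_preimage φ.continuous]
    exact hz
  rw [← hre] at hζ
  obtain ⟨τ, rfl⟩ := hζ
  refine ⟨(j ≫ pullback.fst f f) τ, ?_⟩
  have := congrArg (fun h => h.base τ) hjΔ
  exact this.symm

theorem ext_of_local {X S : Scheme.{u}} (f : X ⟶ S)
    (H2 : ∀ x₁ x₂ : X, f.base x₁ = f.base x₂ →
      ∃ V : X.Opens, x₁ ∈ V ∧ x₂ ∈ V ∧ IsSeparated (V.ι ≫ f))
    (T : Scheme.{u}) [IsReduced T] (g₁ g₂ : T ⟶ X) (U : T.Opens) (h : g₁ ≫ f = g₂ ≫ f)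
    (hd : Dense (U : Set T)) (hU : U.ι ≫ g₁ = U.ι ≫ g₂) : g₁ = g₂ := by
  have hloc : ∀ t : T, ∃ O : T.Opens, t ∈ O ∧ O.ι ≫ g₁ = O.ι ≫ g₂ := by
    intro t
    have hft : f.base (g₁.base t) = f.base (g₂.base t) := by
      have := congrArg (fun k => k.base t) h
      exact this
    obtain ⟨V, h1, h2, hsep⟩ := H2 _ _ hft
    set O : T.Opens := g₁ ⁻¹ᵁ V ⊓ g₂ ⁻¹ᵁ V with hO
    refine ⟨O, ⟨h1, h2⟩, ?_⟩
    have hr₁ : Set.range (O.ι ≫ g₁) ⊆ Set.range V.ι := by
      rintro _ ⟨o, rfl⟩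
      rw [Scheme.Opens.range_ι]
      exact o.2.1
    have hr₂ : Set.range (O.ι ≫ g₂) ⊆ Set.range V.ι := by
      rintro _ ⟨o, rfl⟩
      rw [Scheme.Opens.range_ι]
      exact o.2.2
    set a₁ := IsOpenImmersion.lift V.ι (O.ι ≫ g₁) hr₁ with ha₁d
    set a₂ := IsOpenImmersion.lift V.ι (O.ι ≫ g₂) hr₂ with ha₂d
    have ha₁ : a₁ ≫ V.ι = O.ι ≫ g₁ := IsOpenImmersion.lift_fac _ _ _
    have ha₂ : a₂ ≫ V.ι = O.ι ≫ g₂ := IsOpenImmersion.lift_fac _ _ _
    set U' : O.toScheme.Opens := O.ι ⁻¹ᵁ U with hU'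
    haveI : IsDominant U'.ι := by
      constructor
      rw [DenseRange, Scheme.Opens.range_ι]
      exact hd.preimage O.ι.isOpenEmbedding.isOpenMap
    have hrb : Set.range (U'.ι ≫ O.ι) ⊆ Set.range U.ι := by
      rintro _ ⟨u', rfl⟩
      rw [Scheme.Opens.range_ι]
      exact u'.2
    set b := IsOpenImmersion.lift U.ι (U'.ι ≫ O.ι) hrb with hb
    have hbfac : b ≫ U.ι = U'.ι ≫ O.ι := IsOpenImmersion.lift_fac _ _ _
    have key : a₁ = a₂ := by
      refine ext_of_isDominant_of_isSeparated (V.ι ≫ f) ?_ U'.ι ?_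
      · rw [← Category.assoc, ha₁, ← Category.assoc, ha₂, Category.assoc, Category.assoc, h]
      · rw [← cancel_mono V.ι, Category.assoc, Category.assoc, ha₁, ha₂, ← Category.assoc,
          ← Category.assoc, ← hbfac, Category.assoc, Category.assoc, hU]
    rw [← ha₁, ← ha₂, key]
  choose O hO hOeq using hloc
  have hcov : IsOpenCover O := by
    rw [IsOpenCover, eq_top_iff]
    intro t _
    exact Opens.mem_iSup.mpr ⟨t, hO t⟩
  exact Scheme.Cover.hom_ext (T.openCoverOfIsOpenCover O hcov) _ _ (fun t => hOeq t)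

end Groth.Agent.H49.SepCrit
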