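import Mathlib
import Groth.Agent.H49.SliceSmoothRing

/-!
# Smooth slices through a point with separable residue field (towards S9724)
-/

set_option autoImplicit false
set_option linter.style.haveILetI false

universe u

open TensorProduct KaehlerDifferential

namespace Groth.Agent.H49.SliceSmooth

set_option maxHeartbeats 1600000 in
/-- If the residue field extension is formally smooth (separable) and the closed fibre local ring
is not a field, some element of the maximal ideal of `T` has nonvanishing differential in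
`κ(T) ⊗ Ω[T⁄R]`. -/
theorem exists_mem_D_ne_zero (R T : Type u) [CommRing R] [CommRing T] [IsLocalRing R]
    [IsLocalRing T] [Algebra R T] [IsLocalHom (algebraMap R T)] [Algebra.FormallySmooth R T]
    [Algebra.EssFiniteType R T]
    (hsep : Algebra.FormallySmooth (IsLocalRing.ResidueField R) (IsLocalRing.ResidueField T))
    (hgen : ∃ y ∈ IsLocalRing.maximalIdeal T,
      y ∉ (IsLocalRing.maximalIdeal R).map (algebraMap R T)) :
    ∃ h ∈ IsLocalRing.maximalIdeal T,
      (1 : IsLocalRing.ResidueField T) ⊗ₜ[T] D R T h ≠ 0 := by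
  classical
  have hle : (IsLocalRing.maximalIdeal R).map (algebraMap R T) ≤ IsLocalRing.maximalIdeal T :=
    ((IsLocalRing.local_hom_TFAE (algebraMap R T)).out 0 2 rfl rfl).mp inferInstance
  -- the closed fibre ring is formally smooth over the residue field and Noetherian
  let e := Algebra.TensorProduct.quotIdealMapEquivQuotTensor T (IsLocalRing.maximalIdeal R)
  haveI : Algebra.FormallySmooth (R ⧸ IsLocalRing.maximalIdeal R)
      ((R ⧸ IsLocalRing.maximalIdeal R) ⊗[R] T) := inferInstance
  haveI hfsT : Algebra.FormallySmooth (R ⧸ IsLocalRing.maximalIdeal R)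
      (T ⧸ (IsLocalRing.maximalIdeal R).map (algebraMap R T)) :=
    Algebra.FormallySmooth.of_equiv e.symm
  haveI : Algebra.EssFiniteType (IsLocalRing.ResidueField R)
      (IsLocalRing.ResidueField R ⊗[R] T) := inferInstance
  haveI hN0 : IsNoetherianRing (IsLocalRing.ResidueField R ⊗[R] T) :=
    Algebra.EssFiniteType.isNoetherianRing (IsLocalRing.ResidueField R) _
  haveI : IsNoetherianRing ((R ⧸ IsLocalRing.maximalIdeal R) ⊗[R] T) := hN0
  haveI : IsNoetherianRing (T ⧸ (IsLocalRing.maximalIdeal R).map (algebraMap R T)) :=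
    isNoetherianRing_of_ringEquiv _ e.symm.toRingEquiv
  -- the residue field as an algebra over the closed fibre ring
  letI algkK : Algebra (R ⧸ IsLocalRing.maximalIdeal R) (IsLocalRing.ResidueField T) :=
    inferInstanceAs (Algebra (IsLocalRing.ResidueField R) (IsLocalRing.ResidueField T))
  letI algK : Algebra (T ⧸ (IsLocalRing.maximalIdeal R).map (algebraMap R T))
      (IsLocalRing.ResidueField T) := (Ideal.Quotient.factor hle).toAlgebra
  haveI tower1 : IsScalarTower (R ⧸ IsLocalRing.maximalIdeal R)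
      (T ⧸ (IsLocalRing.maximalIdeal R).map (algebraMap R T)) (IsLocalRing.ResidueField T) :=
    IsScalarTower.of_algebraMap_eq (by
      intro a
      obtain ⟨r, rfl⟩ := Ideal.Quotient.mk_surjective a
      rfl)
  have hsurj : Function.Surjective (algebraMap
      (T ⧸ (IsLocalRing.maximalIdeal R).map (algebraMap R T)) (IsLocalRing.ResidueField T)) :=
    Ideal.Quotient.factor_surjective hle
  have hsep' : Algebra.FormallySmooth (R ⧸ IsLocalRing.maximalIdeal R)
      (IsLocalRing.ResidueField T) := hsep
  obtain ⟨l, hl⟩ := (Algebra.FormallySmooth.iff_split_injection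
    (R := R ⧸ IsLocalRing.maximalIdeal R)
    (P := T ⧸ (IsLocalRing.maximalIdeal R).map (algebraMap R T))
    (A := IsLocalRing.ResidueField T) hsurj).mp hsep'
  have hinj : Function.Injective (kerCotangentToTensor (R ⧸ IsLocalRing.maximalIdeal R)
      (T ⧸ (IsLocalRing.maximalIdeal R).map (algebraMap R T)) (IsLocalRing.ResidueField T)) := by
    intro a b hab
    have h1 := congrArg l hab
    rwa [← LinearMap.comp_apply, ← LinearMap.comp_apply, hl] at h1
  -- membership in the kernel of `T̄ → κ(T)`
  have hmemJ : ∀ t : T, Ideal.Quotient.mk ((IsLocalRing.maximalIdeal R).map (algebraMap R T)) t ∈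
      RingHom.ker (algebraMap (T ⧸ (IsLocalRing.maximalIdeal R).map (algebraMap R T))
        (IsLocalRing.ResidueField T)) ↔ t ∈ IsLocalRing.maximalIdeal T := by
    intro t
    rw [RingHom.mem_ker]
    change Ideal.Quotient.factor hle (Ideal.Quotient.mk _ t) = 0 ↔ _
    rw [Ideal.Quotient.factor_mk]
    exact Ideal.Quotient.eq_zero_iff_mem
  obtain ⟨y, hym, hyI⟩ := hgen
  -- the cotangent space of `T̄ → κ(T)` is nonzero
  have hJjac : RingHom.ker (algebraMap (T ⧸ (IsLocalRing.maximalIdeal R).map (algebraMap R T))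
      (IsLocalRing.ResidueField T)) ≤ Ideal.jacobson ⊥ := by
    intro j hj
    obtain ⟨t, rfl⟩ := Ideal.Quotient.mk_surjective j
    rw [hmemJ] at hj
    rw [Ideal.mem_jacobson_bot]
    intro z
    obtain ⟨s, rfl⟩ := Ideal.Quotient.mk_surjective z
    have hu : IsUnit (t * s + 1) := by
      by_contra hnu
      have h1 : t * s + 1 ∈ IsLocalRing.maximalIdeal T := (IsLocalRing.mem_maximalIdeal _).mpr hnu
      have h2 : t * s ∈ IsLocalRing.maximalIdeal T := Ideal.mul_mem_right _ _ hj
      have h3 : (1 : T) ∈ IsLocalRing.maximalIdeal T := by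
        have := Ideal.sub_mem _ h1 h2
        rwa [add_sub_cancel_left] at this
      exact (IsLocalRing.maximalIdeal.isMaximal T).ne_top ((Ideal.eq_top_iff_one _).mpr h3)
    have := hu.map (Ideal.Quotient.mk ((IsLocalRing.maximalIdeal R).map (algebraMap R T)))
    rwa [map_add, map_mul, map_one] at this
  have hJne : RingHom.ker (algebraMap (T ⧸ (IsLocalRing.maximalIdeal R).map (algebraMap R T))
      (IsLocalRing.ResidueField T)) ≠ ⊥ := by
    intro hbot
    have h1 := (hmemJ y).mpr hym
    rw [hbot, Ideal.mem_bot] at h1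
    exact hyI (Ideal.Quotient.eq_zero_iff_mem.mp h1)
  have hnontriv : ∃ c : (RingHom.ker (algebraMap
      (T ⧸ (IsLocalRing.maximalIdeal R).map (algebraMap R T))
      (IsLocalRing.ResidueField T))).Cotangent, c ≠ 0 := by
    by_contra hcon
    push Not at hcon
    haveI : Subsingleton (RingHom.ker (algebraMap
        (T ⧸ (IsLocalRing.maximalIdeal R).map (algebraMap R T))
        (IsLocalRing.ResidueField T))).Cotangent :=
      ⟨fun a b => (hcon a).trans (hcon b).symm⟩
    have hidem := (Ideal.cotangent_subsingleton_iff _).mp this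
    apply hJne
    refine Submodule.eq_bot_of_le_smul_of_le_jacobson_bot _ _ (IsNoetherian.noetherian _) ?_ hJjac
    rw [Ideal.smul_eq_mul]
    exact le_of_eq hidem.eq.symm
  obtain ⟨c, hc⟩ := hnontriv
  obtain ⟨⟨z, hz⟩, rfl⟩ := Ideal.toCotangent_surjective _ c
  obtain ⟨h, rfl⟩ := Ideal.Quotient.mk_surjective z
  have hhm : h ∈ IsLocalRing.maximalIdeal T := (hmemJ h).mp hz
  have hne : (1 : IsLocalRing.ResidueField T) ⊗ₜ[T ⧸ (IsLocalRing.maximalIdeal R).map
      (algebraMap R T)] D (R ⧸ IsLocalRing.maximalIdeal R)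
      (T ⧸ (IsLocalRing.maximalIdeal R).map (algebraMap R T))
      (Ideal.Quotient.mk ((IsLocalRing.maximalIdeal R).map (algebraMap R T)) h) ≠ 0 := by
    intro h0
    apply hc
    apply hinj
    rw [map_zero, kerCotangentToTensor_toCotangent]
    exact h0
  refine ⟨h, hhm, fun h0 => hne ?_⟩
  have h1 : D R T h ∈ IsLocalRing.maximalIdeal T • (⊤ : Submodule T Ω[T⁄R]) := by
    have h0' : (1 : T ⧸ IsLocalRing.maximalIdeal T) ⊗ₜ[T] D R T h = 0 := h0
    have h2 : TensorProduct.quotTensorEquivQuotSMul Ω[T⁄R] (IsLocalRing.maximalIdeal T)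
        ((1 : T ⧸ IsLocalRing.maximalIdeal T) ⊗ₜ[T] D R T h) = 0 := by
      rw [h0', map_zero]
    have h3 : TensorProduct.quotTensorEquivQuotSMul Ω[T⁄R] (IsLocalRing.maximalIdeal T)
        ((1 : T ⧸ IsLocalRing.maximalIdeal T) ⊗ₜ[T] D R T h) =
        Submodule.Quotient.mk (D R T h) :=
      TensorProduct.quotTensorEquivQuotSMul_mk_one_tmul _ _
    rw [← Submodule.Quotient.mk_eq_zero, ← h3]
    exact h2
  haveI : SMulCommClass (R ⧸ IsLocalRing.maximalIdeal R) T
      (T ⧸ (IsLocalRing.maximalIdeal R).map (algebraMap R T)) := ⟨fun a t z => by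
    rw [Algebra.smul_def, Algebra.smul_def, Algebra.smul_def, Algebra.smul_def]; ring⟩
  have h2 : D (R ⧸ IsLocalRing.maximalIdeal R)
      (T ⧸ (IsLocalRing.maximalIdeal R).map (algebraMap R T))
      (Ideal.Quotient.mk ((IsLocalRing.maximalIdeal R).map (algebraMap R T)) h) =
      KaehlerDifferential.map R (R ⧸ IsLocalRing.maximalIdeal R) T
        (T ⧸ (IsLocalRing.maximalIdeal R).map (algebraMap R T)) (D R T h) :=
    (KaehlerDifferential.map_D R (R ⧸ IsLocalRing.maximalIdeal R) T
      (T ⧸ (IsLocalRing.maximalIdeal R).map (algebraMap R T)) h).symm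
  rw [h2]
  refine Submodule.smul_induction_on h1 ?_ ?_
  · intro t ht ω _
    rw [map_smul, ← algebraMap_smul (T ⧸ (IsLocalRing.maximalIdeal R).map (algebraMap R T)) t
      (KaehlerDifferential.map R (R ⧸ IsLocalRing.maximalIdeal R) T
        (T ⧸ (IsLocalRing.maximalIdeal R).map (algebraMap R T)) ω), tmul_smul, smul_tmul']
    have h4 : algebraMap T (T ⧸ (IsLocalRing.maximalIdeal R).map (algebraMap R T)) t •
        (1 : IsLocalRing.ResidueField T) = 0 := by
      rw [Algebra.smul_def, mul_one]
      exact RingHom.mem_ker.mp ((hmemJ t).mpr ht)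
    rw [h4, zero_tmul]
  · intro a b ha hb
    rw [map_add, tmul_add, ha, hb, add_zero]

end Groth.Agent.H49.SliceSmooth
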