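import Mathlib

/-!
# Endomorphisms which are the identity modulo a square-zero ideal

`isIso_of_sqZero`: for `X` over `Spec R` and `J` an ideal of `R` with `J * J = ⊥`, an
endomorphism `u` of `X` over `Spec R` whose base change to `Spec (R ⧸ J)` is the identity
(expressed as `pullback.fst ≫ u = pullback.fst`) is an isomorphism.
-/

set_option autoImplicit false
open CategoryTheory CategoryTheory.Limits AlgebraicGeometry Opposite
universe u

namespace Groth.Agent.H49.SqZeroEndo

/-- Ring-level statement: an endomorphism which is `ρ`-linear and the identity modulo the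
extension of a square-zero ideal is bijective. -/
theorem bijective_of_sqZero {R' A : Type*} [CommRing R'] [CommRing A] (ρ : R' →+* A)
    (J' : Ideal R') (hJ : J' * J' = ⊥) (φ : A →+* A) (hρ : ∀ r, φ (ρ r) = ρ r)
    (hφ : ∀ a, φ a - a ∈ J'.map ρ) : Function.Bijective φ := by
  have hKK : J'.map ρ * J'.map ρ = ⊥ := by rw [← Ideal.map_mul, hJ, Ideal.map_bot]
  have hmul : ∀ x ∈ J'.map ρ, ∀ y ∈ J'.map ρ, x * y = 0 := fun x hx y hy => by
    have : x * y ∈ J'.map ρ * J'.map ρ := Ideal.mul_mem_mul hx hy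
    rwa [hKK, Ideal.mem_bot] at this
  have hfix : ∀ x ∈ J'.map ρ, φ x = x := by
    intro x hx
    have hx' : x ∈ Ideal.span (ρ '' (J' : Set R')) := hx
    refine Submodule.span_induction ?_ ?_ ?_ ?_ hx'
    · rintro _ ⟨j, _, rfl⟩
      exact hρ j
    · simp
    · intro x y _ _ hx hy
      rw [map_add, hx, hy]
    · intro a x hx'' hx
      rw [smul_eq_mul, map_mul, hx]
      have h1 : (φ a - a) * x = 0 := hmul _ (hφ a) _ hx''
      linear_combination h1
  constructor
  · rw [injective_iff_map_eq_zero]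
    intro a ha
    have h1 : a ∈ J'.map ρ := by
      have := hφ a
      rw [ha, zero_sub] at this
      simpa using (J'.map ρ).neg_mem this
    rw [← hfix a h1, ha]
  · intro b
    refine ⟨b - (φ b - b), ?_⟩
    rw [map_sub, hfix _ (hφ b)]
    ring

/-- `Spec (R ⧸ J) ⟶ Spec R` is surjective for `J` of square zero. -/
theorem surjective_SpecMap_mk {R : Type u} [CommRing R] (J : Ideal R) (hJ : J * J = ⊥) :
    Function.Surjective (Spec.map (CommRingCat.ofHom (Ideal.Quotient.mk J))).base := by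
  intro x
  have hx : x ∈ Set.range (PrimeSpectrum.comap (Ideal.Quotient.mk J)) := by
    rw [range_comap_of_surjective _ _ Ideal.Quotient.mk_surjective, Ideal.mk_ker]
    intro j hj
    have : j * j ∈ J * J := Ideal.mul_mem_mul hj hj
    rw [hJ, Ideal.mem_bot] at this
    have h0 : j * j ∈ x.asIdeal := by rw [this]; exact zero_mem _
    exact (x.isPrime.mem_or_mem h0).elim id id
  obtain ⟨y, hy⟩ := hx
  exact ⟨y, hy⟩

set_option backward.isDefEq.respectTransparency false in
/-- Kernel of restriction to the closed subscheme `X ×_{Spec R} Spec (R ⧸ J)` on an affine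
open: contained in the extension of `J`. -/
theorem mem_map_of_appLE_fst_eq_zero {R : Type u} [CommRing R] (J : Ideal R) {X : Scheme.{u}}
    (p : X ⟶ Spec (CommRingCat.of R)) (U : X.Opens) (hU : IsAffineOpen U)
    (hUtop : U ≤ p ⁻¹ᵁ ⊤) (a : Γ(X, U))
    (ha : ((pullback.fst p (Spec.map (CommRingCat.ofHom (Ideal.Quotient.mk J)))).appLE U
      ((pullback.fst p (Spec.map (CommRingCat.ofHom (Ideal.Quotient.mk J)))) ⁻¹ᵁ U)
        le_rfl).hom a = 0) :
    a ∈ (J.comap (Scheme.ΓSpecIso (CommRingCat.of R)).hom.hom).map (p.appLE ⊤ U hUtop).hom := by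
  set g := Spec.map (CommRingCat.ofHom (Ideal.Quotient.mk J)) with hg
  have H : IsPullback (pullback.fst p g) (pullback.snd p g) p g := IsPullback.of_hasPullback p g
  have hUST : (⊤ : (Spec (CommRingCat.of (R ⧸ J))).Opens) ≤ g ⁻¹ᵁ ⊤ := fun _ _ => trivial
  have hUY : (pullback.fst p g) ⁻¹ᵁ U =
      (pullback.fst p g) ⁻¹ᵁ U ⊓ (pullback.snd p g) ⁻¹ᵁ ⊤ := by simp
  have hiso := isIso_pushoutSection_of_isAffineOpen H hUST hUtop hUY (isAffineOpen_top _)
    (isAffineOpen_top _) hU
  have HP := (isIso_pushoutSection_iff H hUST hUtop hUY).mp hiso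
  set π := g.appLE ⊤ ⊤ hUST with hπdef
  let e₁ := (Scheme.ΓSpecIso (CommRingCat.of R)).hom
  let e₂ := (Scheme.ΓSpecIso (CommRingCat.of (R ⧸ J))).hom
  have hπ : π ≫ e₂ = e₁ ≫ CommRingCat.ofHom (Ideal.Quotient.mk J) := by
    have : π = g.appTop := by
      simp [π, Scheme.Hom.appLE, Scheme.Hom.appTop]
    rw [this]
    exact Scheme.ΓSpecIso_naturality _
  have hπ' : ∀ r', e₂.hom (π.hom r') = Ideal.Quotient.mk J (e₁.hom r') := fun r' =>
    congrArg (fun f => f.hom r') hπ
  have hinj₂ : Function.Injective e₂.hom := (ConcreteCategory.bijective_of_isIso e₂).1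
  have hsurj₁ : Function.Surjective e₁.hom := (ConcreteCategory.bijective_of_isIso e₁).2
  have hsurj : Function.Surjective π.hom := by
    intro t
    obtain ⟨r, hr⟩ := Ideal.Quotient.mk_surjective (e₂.hom t)
    obtain ⟨r', rfl⟩ := hsurj₁ r
    exact ⟨r', hinj₂ ((hπ' r').trans hr)⟩
  set K := (J.comap e₁.hom).map (p.appLE ⊤ U hUtop).hom with hK
  have hle : RingHom.ker π.hom ≤
      RingHom.ker ((Ideal.Quotient.mk K).comp (p.appLE ⊤ U hUtop).hom) := by
    intro r' hr'
    rw [RingHom.mem_ker] at hr' ⊢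
    have h1 : Ideal.Quotient.mk J (e₁.hom r') = 0 := by rw [← hπ', hr', map_zero]
    rw [Ideal.Quotient.eq_zero_iff_mem] at h1
    rw [RingHom.comp_apply, Ideal.Quotient.eq_zero_iff_mem]
    exact Ideal.mem_map_of_mem _ h1
  let t₀ := RingHom.liftOfSurjective π.hom hsurj ⟨_, hle⟩
  have w : p.appLE ⊤ U hUtop ≫ CommRingCat.ofHom (Ideal.Quotient.mk K) =
      π ≫ CommRingCat.ofHom t₀ := by
    ext r'
    exact (RingHom.liftOfSurjective_comp_apply π.hom hsurj ⟨_, hle⟩ r').symm
  have hd := HP.inl_desc (CommRingCat.ofHom (Ideal.Quotient.mk K)) (CommRingCat.ofHom t₀) w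
  have h1 := congrArg (fun f => f.hom a) hd
  have h2 : Ideal.Quotient.mk K a = 0 := by
    refine h1.symm.trans ?_
    show (HP.desc _ _ w).hom (((pullback.fst p g).appLE U _ _).hom a) = 0
    rw [ha, map_zero]
  exact Ideal.Quotient.eq_zero_iff_mem.mp h2

/-- An endomorphism which is the identity on points and bijective on sections of affine opens
is an isomorphism. -/
theorem isIso_of_appLE_bijective {X : Scheme.{u}} (u : X ⟶ X) (hb : ∀ x, u.base x = x)
    (H : ∀ (U : X.Opens) (_ : IsAffineOpen U) (e : U ≤ u ⁻¹ᵁ U),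
      Function.Bijective (u.appLE U U e).hom) : IsIso u := by
  have hpre : ∀ U : X.Opens, u ⁻¹ᵁ U = U := fun U => by
    ext x
    show u.base x ∈ U ↔ x ∈ U
    rw [hb x]
  rw [← MorphismProperty.isomorphisms.iff, HasAffineProperty.eq_targetAffineLocally (P := MorphismProperty.isomorphisms Scheme)]
  intro U
  have hUa : IsAffineOpen (u ⁻¹ᵁ U.1) := by rw [hpre]; exact U.2
  refine ⟨hUa, ?_⟩
  rw [morphismRestrict_appTop]
  have key : ∀ (V : X.Opens), V = U.1 → IsIso (u.app V) := by
    rintro V rfl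
    have hbij := H U.1 U.2 (hpre U.1).ge
    haveI hiso : IsIso (u.appLE U.1 U.1 (hpre U.1).ge) :=
      (ConcreteCategory.isIso_iff_bijective _).mpr hbij
    rw [Scheme.Hom.appLE] at hiso
    haveI : IsIso (X.presheaf.map (homOfLE (hpre U.1).ge).op) := by
      have : homOfLE (hpre U.1).ge = eqToHom (hpre U.1).symm := Subsingleton.elim _ _
      rw [this]; infer_instance
    exact IsIso.of_isIso_comp_right _ (X.presheaf.map (homOfLE (hpre U.1).ge).op)
  haveI h1 : IsIso (u.app (U.1.ι ''ᵁ ⊤)) := key _ (Scheme.Opens.ι_image_top U.1)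
  haveI h2 : IsIso (X.presheaf.map (eqToHom (image_morphismRestrict_preimage u U.1 ⊤)).op) :=
    inferInstance
  exact @IsIso.comp_isIso _ _ _ _ _ _ _ h1 h2

/-- Main theorem. -/
theorem isIso_of_sqZero {R : Type u} [CommRing R] (J : Ideal R) (hJ : J * J = ⊥)
    {X : Scheme.{u}} (p : X ⟶ Spec (CommRingCat.of R)) (u : X ⟶ X) (hup : u ≫ p = p)
    (h0 : pullback.fst p (Spec.map (CommRingCat.ofHom (Ideal.Quotient.mk J))) ≫ u =
      pullback.fst p (Spec.map (CommRingCat.ofHom (Ideal.Quotient.mk J)))) : IsIso u := by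
  set g := Spec.map (CommRingCat.ofHom (Ideal.Quotient.mk J)) with hg
  have hfst : Function.Surjective (pullback.fst p g).base := by
    intro x
    have : x ∈ Set.range (pullback.fst p g).base := by
      rw [Scheme.Pullback.range_fst]
      obtain ⟨y, hy⟩ := surjective_SpecMap_mk J hJ (p.base x)
      exact ⟨y, hy⟩
    exact this
  have hb : ∀ x, u.base x = x := by
    intro x
    obtain ⟨z, rfl⟩ := hfst x
    have h := congrArg (fun v : pullback p g ⟶ X => v.base z) h0
    exact h
  refine isIso_of_appLE_bijective u hb (fun U hU e => ?_)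
  let e₁ := (Scheme.ΓSpecIso (CommRingCat.of R)).hom
  have hJJ : J.comap e₁.hom * J.comap e₁.hom = ⊥ := by
    rw [eq_bot_iff]
    intro x hx
    have h1 : e₁.hom x ∈ (J.comap e₁.hom * J.comap e₁.hom).map e₁.hom :=
      Ideal.mem_map_of_mem _ hx
    rw [Ideal.map_mul] at h1
    have h2 : (J.comap e₁.hom).map e₁.hom ≤ J := Ideal.map_comap_le
    have h3 : e₁.hom x ∈ J * J := Ideal.mul_mono h2 h2 h1
    rw [hJ, Ideal.mem_bot] at h3
    have hinj : Function.Injective e₁.hom := (ConcreteCategory.bijective_of_isIso e₁).1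
    rw [Ideal.mem_bot]
    exact hinj (by rw [h3, map_zero])
  have hUtop : U ≤ p ⁻¹ᵁ ⊤ := fun _ _ => trivial
  refine bijective_of_sqZero (p.appLE ⊤ U hUtop).hom (J.comap e₁.hom) hJJ (u.appLE U U e).hom
    ?_ ?_
  · intro r
    have h1 := Scheme.Hom.appLE_comp_appLE u p ⊤ U U hUtop e
    have h2 : ∀ (v : X ⟶ Spec (CommRingCat.of R)) (_ : v = p) (e' : U ≤ v ⁻¹ᵁ ⊤),
        v.appLE ⊤ U e' = p.appLE ⊤ U hUtop := by
      rintro v rfl e'; rfl
    rw [h2 _ hup] at h1
    exact congrArg (fun f => f.hom r) h1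
  · intro a
    apply mem_map_of_appLE_fst_eq_zero J p U hU hUtop
    rw [map_sub, sub_eq_zero]
    have h1 := Scheme.Hom.appLE_comp_appLE (pullback.fst p g) u U U
      ((pullback.fst p g) ⁻¹ᵁ U) e le_rfl
    have h2 : ∀ (v : pullback p g ⟶ X) (_ : v = pullback.fst p g)
        (e' : (pullback.fst p g) ⁻¹ᵁ U ≤ v ⁻¹ᵁ U),
        v.appLE U ((pullback.fst p g) ⁻¹ᵁ U) e' =
          (pullback.fst p g).appLE U ((pullback.fst p g) ⁻¹ᵁ U) le_rfl := by
      rintro v rfl e'; rfl
    rw [h2 _ h0] at h1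
    exact congrArg (fun f => f.hom a) h1

end Groth.Agent.H49.SqZeroEndo
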